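import Mathlib

/-!
# Rings all of whose finitely generated ideals are flat: products of valuation rings,
submodules of flat modules, and an integrality lemma
-/

namespace Groth.Agent.Helper2.OL

universe u v

open TensorProduct

section Product

variable {ι : Type*} {V : ι → Type*} [∀ i, CommRing (V i)] [∀ i, IsDomain (V i)]
  [∀ i, ValuationRing (V i)]

theorem isBezout_pi : IsBezout (∀ i, V i) := by
  classical
  rw [IsBezout.iff_span_pair_isPrincipal]
  intro x y
  let g : ∀ i, V i := fun i => if x i ∣ y i then x i else y i
  have hxy : ∀ i, ¬ x i ∣ y i → y i ∣ x i := fun i h =>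
    (ValuationRing.dvd_total (x i) (y i)).resolve_left h
  refine ⟨⟨g, ?_⟩⟩
  apply le_antisymm
  · rw [Ideal.span_le]
    have hx : x ∈ Ideal.span {g} := by
      rw [Ideal.mem_span_singleton']
      have : ∀ i, ∃ a, a * g i = x i := by
        intro i
        by_cases h : x i ∣ y i
        · exact ⟨1, by simp [g, h]⟩
        · obtain ⟨c, hc⟩ := hxy i h
          exact ⟨c, by simp only [g, h, if_false]; rw [hc, mul_comm]⟩
      choose a ha using this
      exact ⟨a, funext ha⟩
    have hy : y ∈ Ideal.span {g} := by
      rw [Ideal.mem_span_singleton']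
      have : ∀ i, ∃ a, a * g i = y i := by
        intro i
        by_cases h : x i ∣ y i
        · obtain ⟨c, hc⟩ := h
          exact ⟨c, by simp only [g]; rw [if_pos ⟨c, hc⟩, hc, mul_comm]⟩
        · exact ⟨1, by simp [g, h]⟩
      choose a ha using this
      exact ⟨a, funext ha⟩
    intro z hz
    rcases hz with rfl | rfl
    · exact hx
    · exact hy
  · change Submodule.span _ {g} ≤ _
    rw [Submodule.span_le, Set.singleton_subset_iff]
    rw [SetLike.mem_coe, Ideal.mem_span_pair]
    refine ⟨fun i => if x i ∣ y i then 1 else 0, fun i => if x i ∣ y i then 0 else 1, ?_⟩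
    funext i
    by_cases h : x i ∣ y i <;> simp [g, h]

theorem projective_span_singleton (w : ∀ i, V i) :
    Module.Projective (∀ i, V i) (Ideal.span {w} : Ideal (∀ i, V i)) := by
  classical
  have hdiv : ∀ (y : (Ideal.span {w} : Ideal (∀ i, V i))), ∃ u : ∀ i, V i, u * w = y.1 := fun y =>
    Ideal.mem_span_singleton'.1 y.2
  -- componentwise quotient
  have hq : ∀ (y : (Ideal.span {w} : Ideal (∀ i, V i))) (k : ι), ∃ c : V k,
      (w k = 0 → c = 0) ∧ c * w k = y.1 k := by
    intro y k
    obtain ⟨u, hu⟩ := hdiv y
    by_cases hw : w k = 0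
    · refine ⟨0, fun _ => rfl, ?_⟩
      rw [← hu, Pi.mul_apply, hw, mul_zero, mul_zero]
    · exact ⟨u k, fun h => (hw h).elim, by rw [← hu]; rfl⟩
  choose q hq0 hq1 using hq
  have huniq : ∀ (y : (Ideal.span {w} : Ideal (∀ i, V i))) (k : ι) (c : V k),
      (w k = 0 → c = 0) → c * w k = y.1 k → c = q y k := by
    intro y k c h0 h1
    by_cases hw : w k = 0
    · rw [h0 hw, hq0 y k hw]
    · exact mul_right_cancel₀ hw (h1.trans (hq1 y k).symm)
  let i : (Ideal.span {w} : Ideal (∀ i, V i)) →ₗ[∀ i, V i] (∀ i, V i) :=
    { toFun := fun y k => q y k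
      map_add' := fun y y' => by
        funext k
        symm
        apply huniq
        · intro hw
          rw [Pi.add_apply, hq0 y k hw, hq0 y' k hw, add_zero]
        · rw [Pi.add_apply, add_mul, hq1, hq1]
          rfl
      map_smul' := fun r y => by
        funext k
        symm
        apply huniq
        · intro hw
          change r k * q y k = 0
          rw [hq0 y k hw, mul_zero]
        · change r k * q y k * w k = r k * y.1 k
          rw [mul_assoc, hq1] }
  let s : (∀ i, V i) →ₗ[∀ i, V i] (Ideal.span {w} : Ideal (∀ i, V i)) :=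
    { toFun := fun u => ⟨u * w, Ideal.mem_span_singleton'.2 ⟨u, rfl⟩⟩
      map_add' := fun u u' => by
        apply Subtype.ext
        exact add_mul u u' w
      map_smul' := fun r u => by
        apply Subtype.ext
        change r • u * w = r • (u * w)
        rw [smul_eq_mul, smul_eq_mul, mul_assoc] }
  refine Module.Projective.of_split i s ?_
  apply LinearMap.ext
  intro y
  apply Subtype.ext
  funext k
  exact hq1 y k

theorem flat_of_fg_pi (I : Ideal (∀ i, V i)) (hI : I.FG) : Module.Flat (∀ i, V i) I := by
  haveI := isBezout_pi (V := V)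
  obtain ⟨w, rfl⟩ := (IsBezout.isPrincipal_of_FG I hI).1
  haveI := projective_span_singleton w
  change Module.Flat _ (Ideal.span {w} : Ideal (∀ i, V i))
  infer_instance

end Product

section SubFlat

variable {W : Type u} [CommRing W]

theorem flat_submodule_of_flat_ideals (hW : ∀ I : Ideal W, I.FG → Module.Flat W I)
    {M : Type v} [AddCommGroup M] [Module W M] [Module.Flat W M] (N : Submodule W M) :
    Module.Flat W N := by
  rw [Module.Flat.iff_rTensor_injective]
  intro I hI
  haveI := hW I hI
  have h1 : Function.Injective (LinearMap.lTensor I N.subtype) :=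
    Module.Flat.lTensor_preserves_injective_linearMap _ N.injective_subtype
  have h2 : Function.Injective (LinearMap.rTensor M I.subtype) :=
    (Module.Flat.iff_rTensor_injective.1 inferInstance) hI
  have hcomm : (LinearMap.lTensor W N.subtype) ∘ₗ (LinearMap.rTensor N I.subtype) =
      (LinearMap.rTensor M I.subtype) ∘ₗ (LinearMap.lTensor I N.subtype) := by
    apply TensorProduct.ext'
    intro a n
    simp
  refine Function.Injective.of_comp (f := LinearMap.lTensor W N.subtype) ?_
  rw [← LinearMap.coe_comp, hcomm]
  exact h2.comp h1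

end SubFlat

end Groth.Agent.Helper2.OL
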