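import Mathlib

/-!
# An integrality lemma for rings with flat two-generated ideals
-/

namespace Groth.Agent.Helper2.OL

universe u v

section Integrality

variable {C : Type*} [CommRing C]

theorem pow_mul_eq_zero_of {s c p q : C} (hs : s ∈ nonZeroDivisors C) (hpq : p * c = q * s) :
    ∀ (k : ℕ) (t : C), c ^ k * t = 0 → q ^ k * t = 0
  | 0, t, h => by simpa using h
  | k + 1, t, h => by
    have h1 : c ^ k * (c * t) = 0 := by rw [← h]; ring
    have h2 := pow_mul_eq_zero_of hs hpq k (c * t) h1
    have h3 : (q ^ (k + 1) * t) * s = 0 := by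
      calc (q ^ (k + 1) * t) * s = q ^ k * t * (q * s) := by ring
        _ = q ^ k * t * (p * c) := by rw [hpq]
        _ = p * (q ^ k * (c * t)) := by ring
        _ = 0 := by rw [h2, mul_zero]
    exact (mul_right_mem_nonZeroDivisors_eq_zero_iff hs).1 h3

/-- if `p c = q s` and `c` satisfies a homogeneous integrality equation over `s`, then a power of `q`
multiplies `c` into `(s)` -/
theorem pow_mul_mem_span {s c p q : C} (hs : s ∈ nonZeroDivisors C) (hpq : p * c = q * s)
    (n : ℕ) (f : ℕ → C)
    (heq : c ^ n + ∑ i ∈ Finset.range n, f i * s ^ (n - i) * c ^ i = 0) :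
    q ^ (2 * n) * c ∈ Ideal.span {s} := by
  -- multiply the equation by `q ^ n`
  let r : C := ∑ i ∈ Finset.range n, f i * p ^ (n - i - 1) * q ^ i
  have h1 : c ^ n * (q ^ n + p * r) = 0 := by
    have h2 : q ^ n * (c ^ n + ∑ i ∈ Finset.range n, f i * s ^ (n - i) * c ^ i) = 0 := by
      rw [heq, mul_zero]
    rw [mul_add, Finset.mul_sum] at h2
    rw [mul_add, Finset.mul_sum, Finset.mul_sum, ← h2]
    congr 1
    · ring
    · refine Finset.sum_congr rfl fun i hi => ?_
      have hi' : i < n := Finset.mem_range.1 hi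
      have e1 : q ^ n = q ^ (n - i) * q ^ i := by rw [← pow_add]; congr 1; omega
      have e2 : p ^ (n - i) = p * p ^ (n - i - 1) := by rw [← pow_succ']; congr 1; omega
      have e3 : c ^ n = c ^ (n - i) * c ^ i := by rw [← pow_add]; congr 1; omega
      calc c ^ n * (p * (f i * p ^ (n - i - 1) * q ^ i))
          = f i * (p * p ^ (n - i - 1)) * c ^ n * q ^ i := by ring
        _ = f i * p ^ (n - i) * (c ^ (n - i) * c ^ i) * q ^ i := by rw [← e2, e3]
        _ = f i * (p * c) ^ (n - i) * c ^ i * q ^ i := by rw [mul_pow]; ring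
        _ = f i * (q * s) ^ (n - i) * c ^ i * q ^ i := by rw [hpq]
        _ = q ^ (n - i) * q ^ i * (f i * s ^ (n - i) * c ^ i) := by rw [mul_pow]; ring
        _ = q ^ n * (f i * s ^ (n - i) * c ^ i) := by rw [← e1]
  have h3 : q ^ n * (q ^ n + p * r) = 0 := pow_mul_eq_zero_of hs hpq n _ h1
  have h4 : q ^ (2 * n) * c = s * (-(q ^ n * r * q)) := by
    have : q ^ (2 * n) = q ^ n * q ^ n := by rw [two_mul, pow_add]
    calc q ^ (2 * n) * c = (q ^ n * (q ^ n + p * r)) * c - q ^ n * r * (p * c) := by rw [this]; ring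
      _ = - (q ^ n * r * (q * s)) := by rw [h3, hpq]; ring
      _ = s * (-(q ^ n * r * q)) := by ring
  rw [h4]
  exact Ideal.mul_mem_right _ _ (Ideal.subset_span rfl)

/-- in a ring where the ideal `(s, c)` is flat and `s` is a nonzerodivisor, an element `c` which is
integral over the ideal `(s)` (homogeneous integrality equation) lies in `(s)` -/
theorem mem_span_of_homogeneous_integral (s c : C) (hs : s ∈ nonZeroDivisors C)
    (hflat : Module.Flat C (Ideal.span {s, c} : Ideal C))
    (n : ℕ) (f : ℕ → C)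
    (heq : c ^ n + ∑ i ∈ Finset.range n, f i * s ^ (n - i) * c ^ i = 0) :
    c ∈ Ideal.span {s} := by
  let J : Ideal C := Ideal.span {s, c}
  let xs : J := ⟨s, Ideal.subset_span (by simp)⟩
  let xc : J := ⟨c, Ideal.subset_span (by simp)⟩
  have hrel : ∑ i : Fin 2, (![c, -s] i) • (![xs, xc] i) = 0 := by
    rw [Fin.sum_univ_two]
    apply Subtype.ext
    simp only [Matrix.cons_val_zero, Matrix.cons_val_one, Submodule.coe_add, Submodule.coe_smul,
      smul_eq_mul, xs, xc, Submodule.coe_zero]
    ring
  obtain ⟨k, a, y, hy, ha⟩ := Module.Flat.isTrivialRelation_of_sum_smul_eq_zero hrel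
  have hs_eq : s = ∑ j, a 0 j * (y j : C) := by
    have := congrArg Subtype.val (hy 0)
    simpa [xs] using this
  have hrel_j : ∀ j, c * a 0 j = s * a 1 j := by
    intro j
    have := ha j
    rw [Fin.sum_univ_two] at this
    simp only [Matrix.cons_val_zero, Matrix.cons_val_one] at this
    linear_combination this
  have hyj : ∀ j, ∃ α β, α * s + β * c = (y j : C) := fun j => Ideal.mem_span_pair.1 (y j).2
  choose α β hαβ using hyj
  have hone : (1 : C) = ∑ j, (a 0 j * α j + a 1 j * β j) := by
    have h0 : s = (∑ j, (a 0 j * α j + a 1 j * β j)) * s := by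
      conv_lhs => rw [hs_eq]
      rw [Finset.sum_mul]
      refine Finset.sum_congr rfl fun j _ => ?_
      rw [← hαβ j]
      linear_combination (β j) * hrel_j j
    have h1 : (1 - ∑ j, (a 0 j * α j + a 1 j * β j)) * s = 0 := by
      rw [sub_mul, one_mul, ← h0, sub_self]
    have h2 := (mul_right_mem_nonZeroDivisors_eq_zero_iff hs).1 h1
    exact sub_eq_zero.1 h2
  -- the colon ideal
  let T : Ideal C := (Ideal.span {s} : Submodule C C).colon {c}
  have hT0 : ∀ j, a 0 j ∈ T := by
    intro j
    rw [Submodule.mem_colon_singleton, smul_eq_mul, mul_comm, hrel_j j]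
    exact Ideal.mul_mem_right _ _ (Ideal.subset_span rfl)
  have hT1 : ∀ j, a 1 j ∈ T.radical := by
    intro j
    refine ⟨2 * n, ?_⟩
    rw [Submodule.mem_colon_singleton, smul_eq_mul]
    exact pow_mul_mem_span hs (p := a 0 j) (q := a 1 j) (by rw [mul_comm, hrel_j j, mul_comm]) n f heq
  have h1T : (1 : C) ∈ T.radical := by
    rw [hone]
    refine Ideal.sum_mem _ fun j _ => Ideal.add_mem _ ?_ ?_
    · exact Ideal.mul_mem_right _ _ (Ideal.le_radical (hT0 j))
    · exact Ideal.mul_mem_right _ _ (hT1 j)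
  have hTtop : T = ⊤ := by
    rw [← Ideal.radical_eq_top, Ideal.eq_top_iff_one]
    exact h1T
  have : (1 : C) ∈ T := by rw [hTtop]; trivial
  rw [Submodule.mem_colon_singleton, one_smul] at this
  exact this

end Integrality

end Groth.Agent.Helper2.OL
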