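import Mathlib
import Groth.Agent.Lib.Helper2.OL1
import Groth.Agent.Lib.Helper2.OL2
import Groth.Agent.Lib.Helper3.DiagFlat

/-!
# Weakly étale algebras over integrally closed domains are integrally closed in their generic fibre
-/

namespace Groth.Agent.Helper2.OL

universe u

open TensorProduct Polynomial

section ValSep

variable {A : Type u} [CommRing A] [IsDomain A] [IsIntegrallyClosed A]
  {K : Type u} [Field K] [Algebra A K] [IsFractionRing A K]

theorem isIntegrallyClosedIn_range :
    IsIntegrallyClosedIn (algebraMap A K).range K := by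
  rw [Subring.isIntegrallyClosedIn_iff]
  rintro x ⟨p, hp, hpx⟩
  have hsurj : Function.Surjective (algebraMap A K).rangeRestrict :=
    (algebraMap A K).rangeRestrict_surjective
  have hl : p ∈ Polynomial.lifts (algebraMap A K).rangeRestrict := by
    rw [Polynomial.lifts_iff_coeff_lifts]
    intro n
    exact hsurj _
  obtain ⟨q, hq, -, hqm⟩ := Polynomial.lifts_and_natDegree_eq_and_monic hl hp
  have hint : IsIntegral A x := by
    refine ⟨q, hqm, ?_⟩
    rw [← hq, Polynomial.eval₂_map] at hpx
    exact hpx
  obtain ⟨y, hy⟩ := (isIntegrallyClosed_iff K).1 inferInstance hint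
  exact ⟨y, hy⟩

theorem exists_valuationSubring_not_mem {x : K} (hx : x ∉ (algebraMap A K).range) :
    ∃ V : ValuationSubring K, (algebraMap A K).range ≤ V.toSubring ∧ x ∉ V := by
  haveI := isIntegrallyClosedIn_range (A := A) (K := K)
  exact Subring.exists_le_valuationSubring_of_isIntegrallyClosedIn hx

end ValSep


section Main

variable (A : Type u) [CommRing A] [IsDomain A] [IsIntegrallyClosed A]
  (K : Type u) [Field K] [Algebra A K] [IsFractionRing A K]

/-- valuation subrings containing `A` -/
abbrev VS : Type u := {V : ValuationSubring K // (algebraMap A K).range ≤ V.toSubring}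

/-- the product of all valuation rings containing `A` -/
abbrev PW : Type u := ∀ V : VS A K, V.1

/-- the diagonal map -/
noncomputable def toPW : A →+* PW A K :=
  RingHom.pi fun V => (algebraMap A K).codRestrict V.1 (fun a => V.2 ⟨a, rfl⟩)

theorem toPW_apply (a : A) (V : VS A K) : ((toPW A K a) V : K) = algebraMap A K a := rfl

/-- the algebra structure -/
@[reducible] noncomputable def algPW : Algebra A (PW A K) := (toPW A K).toAlgebra

attribute [local instance] algPW

theorem purity (s a : A) (hs : s ≠ 0) (w : PW A K)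
    (h : algebraMap A (PW A K) a = w * algebraMap A (PW A K) s) : ∃ a', a = a' * s := by
  have hs' : algebraMap A K s ≠ 0 := fun h0 =>
    hs ((injective_iff_map_eq_zero _).1 (IsFractionRing.injective A K) s h0)
  by_cases hx : algebraMap A K a / algebraMap A K s ∈ (algebraMap A K).range
  · obtain ⟨a', ha'⟩ := hx
    refine ⟨a', IsFractionRing.injective A K ?_⟩
    rw [map_mul, ha', div_mul_cancel₀ _ hs']
  · exfalso
    obtain ⟨V, hV, hxV⟩ := exists_valuationSubring_not_mem hx
    apply hxV
    have h1 := congrArg (fun z : PW A K => ((z ⟨V, hV⟩ : V) : K)) h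
    change algebraMap A K a = (w ⟨V, hV⟩ : K) * algebraMap A K s at h1
    rw [h1, mul_div_cancel_right₀ _ hs']
    exact (w ⟨V, hV⟩).2

theorem algebraMap_mem_nonZeroDivisors (s : A) (hs : s ≠ 0) :
    algebraMap A (PW A K) s ∈ nonZeroDivisors (PW A K) := by
  have hs' : algebraMap A K s ≠ 0 := fun h0 =>
    hs ((injective_iff_map_eq_zero _).1 (IsFractionRing.injective A K) s h0)
  rw [mem_nonZeroDivisors_iff_right]
  intro w hw
  funext V
  have h1 := congrArg (fun z : PW A K => ((z V : V.1) : K)) hw
  change (w V : K) * algebraMap A K s = 0 at h1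
  apply Subtype.ext
  rcases mul_eq_zero.1 h1 with h | h
  · exact h
  · exact (hs' h).elim

variable {A K}

theorem exists_denom (B : Type u) [CommRing B] [Algebra A B] (x : B ⊗[A] K) :
    ∃ (b : B) (s : A), s ≠ 0 ∧ s • x = b ⊗ₜ[A] (1 : K) := by
  induction x using TensorProduct.induction_on with
  | zero => exact ⟨0, 1, one_ne_zero, by simp⟩
  | tmul b k =>
    obtain ⟨⟨a, s⟩, h⟩ := IsLocalization.surj (nonZeroDivisors A) k
    refine ⟨a • b, s.1, nonZeroDivisors.ne_zero s.2, ?_⟩
    rw [TensorProduct.smul_tmul', TensorProduct.smul_tmul, TensorProduct.smul_tmul,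
      Algebra.smul_def, Algebra.smul_def, mul_one]
    congr 1
    rw [mul_comm]
    exact h
  | add x y hx hy =>
    obtain ⟨b, s, hs, hb⟩ := hx
    obtain ⟨b', s', hs', hb'⟩ := hy
    refine ⟨s' • b + s • b', s * s', mul_ne_zero hs hs', ?_⟩
    rw [smul_add, mul_smul, mul_smul, smul_comm s s' x, hb, hb', TensorProduct.add_tmul,
      TensorProduct.smul_tmul', TensorProduct.smul_tmul']

end Main


section Thm

variable {A : Type u} [CommRing A] [IsDomain A] [IsIntegrallyClosed A]
  {K : Type u} [Field K] [Algebra A K] [IsFractionRing A K]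
  (B : Type u) [CommRing B] [Algebra A B] [Algebra.WeaklyEtale A B]

attribute [local instance] algPW

/-- the homogeneous integrality equation satisfied by a numerator -/
theorem numerator_eq (x : B ⊗[A] K) (hx : IsIntegral B x) (b : B) (s : A)
    (hbs : s • x = b ⊗ₜ[A] (1 : K)) :
    ∃ (n : ℕ) (f : ℕ → B), b ^ n + ∑ i ∈ Finset.range n,
      f i * (algebraMap A B s) ^ (n - i) * b ^ i = 0 := by
  have hinj : Function.Injective (algebraMap B (B ⊗[A] K)) :=
    Algebra.TensorProduct.includeLeft_injective (S := B) (IsFractionRing.injective A K)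
  obtain ⟨P, hP, hPx⟩ := hx
  have h1 : aeval (algebraMap B (B ⊗[A] K) (algebraMap A B s) * x)
      (scaleRoots P (algebraMap A B s)) = 0 := scaleRoots_aeval_eq_zero hPx
  have h2 : algebraMap B (B ⊗[A] K) (algebraMap A B s) * x = algebraMap B (B ⊗[A] K) b := by
    rw [← IsScalarTower.algebraMap_apply, ← Algebra.smul_def, hbs]
    rfl
  rw [h2, aeval_algebraMap_apply] at h1
  have h3 : eval b (scaleRoots P (algebraMap A B s)) = 0 := by
    apply hinj
    rw [map_zero, ← h1, coe_aeval_eq_eval]
  rw [eval_eq_sum_range, natDegree_scaleRoots, Finset.sum_range_succ, coeff_scaleRoots,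
    Nat.sub_self, pow_zero, mul_one, hP.coeff_natDegree, one_mul] at h3
  refine ⟨P.natDegree, fun i => P.coeff i, ?_⟩
  rw [add_comm, ← h3]
  congr 1
  refine Finset.sum_congr rfl fun i _ => ?_
  rw [coeff_scaleRoots]

theorem main_aux (x : B ⊗[A] K) (hx : IsIntegral B x) :
    ∃ y : B, algebraMap B (B ⊗[A] K) y = x := by
  obtain ⟨b, s, hs, hbs⟩ := exists_denom B x
  obtain ⟨n, f, heq⟩ := numerator_eq B x hx b s hbs
  -- base change to the product of valuation rings
  let W := PW A K
  let C := W ⊗[A] B
  let ιB : B →ₐ[A] C := Algebra.TensorProduct.includeRight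
  have heqC : (ιB b) ^ n + ∑ i ∈ Finset.range n,
      ιB (f i) * (ιB (algebraMap A B s)) ^ (n - i) * (ιB b) ^ i = 0 := by
    have := congrArg ιB heq
    simpa only [map_add, map_sum, map_mul, map_pow, map_zero] using this
  have hsC : ιB (algebraMap A B s) = algebraMap W C (algebraMap A W s) := by
    rw [AlgHom.commutes, IsScalarTower.algebraMap_apply A W C]
  have hnzd : algebraMap W C (algebraMap A W s) ∈ nonZeroDivisors C := by
    have hreg : IsSMulRegular C (algebraMap A W s) :=
      Module.Flat.isSMulRegular_of_nonZeroDivisors (M := C)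
        (algebraMap_mem_nonZeroDivisors A K s hs)
    rw [mem_nonZeroDivisors_iff_right]
    intro z hz
    apply hreg
    change algebraMap A W s • z = algebraMap A W s • (0 : C)
    rw [smul_zero]
    have e : ∀ (w : W) (z : C), w • z = algebraMap W C w * z := by
      intro w z
      induction z using TensorProduct.induction_on with
      | zero => rw [smul_zero, mul_zero]
      | tmul a b =>
        rw [TensorProduct.smul_tmul', Algebra.TensorProduct.algebraMap_apply,
          Algebra.TensorProduct.tmul_mul_tmul, one_mul, smul_eq_mul]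
        rfl
      | add x y hx hy => rw [smul_add, mul_add, hx, hy]
    rw [e, mul_comm]
    exact hz
  -- the ideal `(s, b)` of `C` is flat
  have hWflat : ∀ I : Ideal W, I.FG → Module.Flat W I := fun I hI => flat_of_fg_pi I hI
  let J : Ideal C := Ideal.span {algebraMap W C (algebraMap A W s), ιB b}
  have hJW : Module.Flat W (J.restrictScalars W) :=
    flat_submodule_of_flat_ideals hWflat (J.restrictScalars W)
  have hJW' : Module.Flat W J := by
    refine Module.Flat.of_linearEquiv (M := (J.restrictScalars W)) (N := J)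
      { toFun := fun z => ⟨z.1, z.2⟩
        invFun := fun z => ⟨z.1, z.2⟩
        map_add' := fun _ _ => rfl
        map_smul' := fun _ _ => rfl
        left_inv := fun _ => rfl
        right_inv := fun _ => rfl }
  have hJC : Module.Flat C J :=
    Groth.Agent.Helper3.DiagFlat.flat_of_flat_lmul' W C J (Algebra.WeaklyEtale.flat_lmul' W C)
  rw [hsC] at heqC
  have hmem : ιB b ∈ Ideal.span {algebraMap W C (algebraMap A W s)} :=
    mem_span_of_homogeneous_integral _ _ hnzd hJC n (fun i => ιB (f i)) heqC
  obtain ⟨t, ht⟩ := Ideal.mem_span_singleton'.1 hmem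
  have esm : ∀ (w : W) (z : C), w • z = algebraMap W C w * z := by
    intro w z
    induction z using TensorProduct.induction_on with
    | zero => rw [smul_zero, mul_zero]
    | tmul a b =>
      rw [TensorProduct.smul_tmul', Algebra.TensorProduct.algebraMap_apply,
        Algebra.TensorProduct.tmul_mul_tmul, one_mul, smul_eq_mul]
      rfl
    | add x y hx hy => rw [smul_add, mul_add, hx, hy]
  have ht' : s • t = ιB b := by
    rw [← ht, mul_comm, ← esm, algebraMap_smul]
  -- purity
  let I : Ideal A := Ideal.span {s}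
  let Iw : Ideal W := Ideal.span {algebraMap A W s}
  have hφ : ∀ a ∈ I, (Algebra.ofId A (W ⧸ Iw)) a = 0 := by
    intro a ha
    obtain ⟨a', rfl⟩ := Ideal.mem_span_singleton'.1 ha
    change algebraMap A (W ⧸ Iw) (a' * s) = 0
    rw [IsScalarTower.algebraMap_apply A W (W ⧸ Iw), map_mul]
    exact Ideal.Quotient.eq_zero_iff_mem.2 (Ideal.mul_mem_left _ _ (Ideal.subset_span rfl))
  let φ : A ⧸ I →ₗ[A] W ⧸ Iw := (Ideal.Quotient.liftₐ I (Algebra.ofId A (W ⧸ Iw)) hφ).toLinearMap
  have hφinj : Function.Injective φ := by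
    rw [injective_iff_map_eq_zero]
    intro z hz
    obtain ⟨a, rfl⟩ := Ideal.Quotient.mk_surjective z
    have h1 : Ideal.Quotient.mk Iw (algebraMap A W a) = 0 := hz
    obtain ⟨w, hw⟩ := Ideal.mem_span_singleton'.1 (Ideal.Quotient.eq_zero_iff_mem.1 h1)
    obtain ⟨a', rfl⟩ := purity A K s a hs w hw.symm
    exact Ideal.Quotient.eq_zero_iff_mem.2 (Ideal.mul_mem_left _ _ (Ideal.subset_span rfl))
  have hψinj : Function.Injective (LinearMap.rTensor B φ) :=
    Module.Flat.rTensor_preserves_injective_linearMap φ hφinj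
  let mkW : W →ₗ[A] W ⧸ Iw := (Ideal.Quotient.mkₐ A Iw).toLinearMap
  have hskill : ∀ z : (W ⧸ Iw) ⊗[A] B, s • z = 0 := by
    intro z
    induction z using TensorProduct.induction_on with
    | zero => rw [smul_zero]
    | tmul w b =>
      obtain ⟨w, rfl⟩ := Ideal.Quotient.mk_surjective w
      rw [TensorProduct.smul_tmul']
      have : s • (Ideal.Quotient.mk Iw w) = 0 := by
        have h5 : s • (Ideal.Quotient.mk Iw w) = Ideal.Quotient.mk Iw (s • w) :=
          (map_smul (Ideal.Quotient.mkₐ A Iw) s w).symm
        rw [h5, Algebra.smul_def]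
        exact Ideal.Quotient.eq_zero_iff_mem.2 (Ideal.mul_mem_right _ _ (Ideal.subset_span rfl))
      rw [this, TensorProduct.zero_tmul]
    | add x y hx hy => rw [smul_add, hx, hy, add_zero]
  have h0 : LinearMap.rTensor B φ ((1 : A ⧸ I) ⊗ₜ[A] b) = 0 := by
    have h1 : LinearMap.rTensor B φ ((1 : A ⧸ I) ⊗ₜ[A] b) = LinearMap.rTensor B mkW (ιB b) := by
      simp only [LinearMap.rTensor_tmul, ιB]
      congr 1
      simp [φ, mkW]
    rw [h1, ← ht', map_smul, hskill]
  have h2 : (1 : A ⧸ I) ⊗ₜ[A] b = 0 := hψinj (by rw [h0, map_zero])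
  have h3 := congrArg (TensorProduct.quotTensorEquivQuotSMul B I) h2
  rw [TensorProduct.quotTensorEquivQuotSMul_mk_one_tmul, map_zero,
    Submodule.Quotient.mk_eq_zero, Submodule.ideal_span_singleton_smul,
    Submodule.mem_smul_pointwise_iff_exists] at h3
  obtain ⟨b', -, hb'⟩ := h3
  refine ⟨b', ?_⟩
  -- cancel `s`
  let u : B ⊗[A] K := (1 : B) ⊗ₜ[A] (algebraMap A K s)⁻¹
  have hs' : algebraMap A K s ≠ 0 := fun h0 =>
    hs ((injective_iff_map_eq_zero _).1 (IsFractionRing.injective A K) s h0)
  have hu : ∀ z : B ⊗[A] K, u * (s • z) = z := by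
    intro z
    have : s • z = ((1 : B) ⊗ₜ[A] (algebraMap A K s)) * z := by
      rw [Algebra.smul_def, Algebra.TensorProduct.algebraMap_apply, Algebra.algebraMap_eq_smul_one,
        TensorProduct.smul_tmul, ← Algebra.algebraMap_eq_smul_one]
    rw [this, ← mul_assoc, Algebra.TensorProduct.tmul_mul_tmul, one_mul, inv_mul_cancel₀ hs']
    exact one_mul z
  have h4 : s • (algebraMap B (B ⊗[A] K) b') = s • x := by
    rw [hbs, ← hb']
    rfl
  have := congrArg (fun z => u * z) h4
  simpa only [hu] using this

/-- **Weakly étale algebras over an integrally closed domain are integrally closed in their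
generic fibre.** -/
theorem isIntegrallyClosedIn_of_weaklyEtale : IsIntegrallyClosedIn B (B ⊗[A] K) := by
  rw [isIntegrallyClosedIn_iff]
  exact ⟨Algebra.TensorProduct.includeLeft_injective (S := B) (IsFractionRing.injective A K),
    fun {x} hx => main_aux B x hx⟩

end Thm

end Groth.Agent.Helper2.OL
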