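import Mathlib
import Groth.Agent.Lib.Helper1.HenselFinite
import Groth.Agent.Lib.Helper3.WEField

/-!
# Olivier's theorem, part 1: auxiliary lemmas
-/

namespace Groth.Agent.Helper2.Oli

universe u

open TensorProduct IsLocalRing

section Conn

/-- In a connected algebra over a field, a product of `x - aᵢ` with distinct `aᵢ` vanishes only
if `x` is one of the `aᵢ`. -/
theorem exists_eq_of_prod_eq_zero {k R : Type*} [Field k] [CommRing R] [Nontrivial R] [Algebra k R]
    (hR : ∀ e : R, IsIdempotentElem e → e = 0 ∨ e = 1) (x : R) (S : Finset k)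
    (h : ∏ a ∈ S, (x - algebraMap k R a) = 0) : ∃ a ∈ S, x = algebraMap k R a := by
  classical
  induction S using Finset.induction_on with
  | empty => simp at h
  | insert a S ha ih =>
    rw [Finset.prod_insert ha] at h
    have hc : IsCoprime (x - algebraMap k R a) (∏ a' ∈ S, (x - algebraMap k R a')) := by
      apply IsCoprime.prod_right
      intro a' ha'
      have hne : a' - a ≠ 0 := sub_ne_zero.mpr (fun h => ha (h ▸ ha'))
      refine ⟨algebraMap k R (a' - a)⁻¹, - algebraMap k R (a' - a)⁻¹, ?_⟩
      have : algebraMap k R (a' - a)⁻¹ * algebraMap k R (a' - a) = 1 := by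
        rw [← map_mul, inv_mul_cancel₀ hne, map_one]
      rw [map_sub] at this
      linear_combination this
    obtain ⟨u, v, huv⟩ := hc
    have he : IsIdempotentElem (u * (x - algebraMap k R a)) := by
      unfold IsIdempotentElem
      linear_combination (u * (x - algebraMap k R a)) * huv - (u * v) * h
    rcases hR _ he with h0 | h1
    · refine ⟨a, Finset.mem_insert_self _ _, ?_⟩
      rw [h0, zero_add] at huv
      have : x - algebraMap k R a = 0 := by
        linear_combination (-(x - algebraMap k R a)) * huv + v * h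
      exact sub_eq_zero.mp this
    · have hP : ∏ a' ∈ S, (x - algebraMap k R a') = 0 := by
        linear_combination (-(∏ a' ∈ S, (x - algebraMap k R a'))) * h1 + u * h
      obtain ⟨a', ha', hx⟩ := ih hP
      exact ⟨a', Finset.mem_insert_of_mem ha', hx⟩

/-- A root of a split separable polynomial in a connected algebra over a field lies in the
field. -/
theorem exists_eq_algebraMap_of_aeval_eq_zero {k R : Type*} [Field k] [CommRing R] [Nontrivial R]
    [Algebra k R] (hR : ∀ e : R, IsIdempotentElem e → e = 0 ∨ e = 1) (x : R)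
    (f : Polynomial k) (hsep : f.Separable) (hsplit : f.Splits)
    (hx : Polynomial.aeval x f = 0) : ∃ a, x = algebraMap k R a := by
  classical
  have hf0 : f ≠ 0 := hsep.ne_zero
  have h1 := hsplit.eq_prod_roots
  have hnd : f.roots.Nodup := Polynomial.nodup_roots hsep
  have h2 : Polynomial.aeval x f =
      algebraMap k R f.leadingCoeff * ∏ a ∈ f.roots.toFinset, (x - algebraMap k R a) := by
    conv_lhs => rw [h1]
    rw [map_mul, Polynomial.aeval_C, map_multiset_prod, Multiset.map_map,
      Finset.prod_eq_multiset_prod, Multiset.toFinset_val, hnd.dedup]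
    congr 2
    apply Multiset.map_congr rfl
    intro a _
    simp
  rw [h2] at hx
  have hu : IsUnit (algebraMap k R f.leadingCoeff) :=
    (isUnit_iff_ne_zero.mpr (Polynomial.leadingCoeff_ne_zero.mpr hf0)).map _
  have h3 := (hu.mul_right_eq_zero).mp hx
  obtain ⟨a, _, ha⟩ := exists_eq_of_prod_eq_zero hR x _ h3
  exact ⟨a, ha⟩

theorem isIdempotentElem_trivial_of_isLocalRing {R : Type*} [CommRing R] [IsLocalRing R] (e : R)
    (he : IsIdempotentElem e) : e = 0 ∨ e = 1 := by
  rcases IsLocalRing.isUnit_or_isUnit_one_sub_self e with h | h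
  · right
    have : e * e = e * 1 := by rw [mul_one]; exact he
    exact h.mul_left_cancel this
  · left
    have : (1 - e) * e = (1 - e) * 0 := by
      rw [mul_zero, sub_mul, one_mul, he.eq, sub_self]
    exact h.mul_left_cancel this

end Conn

section IntLocal

/-- An integral domain that is integral over a henselian local ring is local. -/
theorem isLocalRing_of_isIntegral_of_isDomain (A : Type u) [CommRing A] [HenselianLocalRing A]
    (C : Type u) [CommRing C] [IsDomain C] [Algebra A C] [Algebra.IsIntegral A C] :
    IsLocalRing C := by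
  apply IsLocalRing.of_unique_max_ideal
  obtain ⟨M, hM⟩ := Ideal.exists_maximal C
  refine ⟨M, hM, fun N hN => ?_⟩
  by_contra hne
  obtain ⟨x, hxN, hxM⟩ : ∃ x, x ∈ N ∧ x ∉ M := by
    by_contra h
    push Not at h
    exact hne (hN.eq_of_le hM.ne_top h)
  let C₀ : Subalgebra A C := Algebra.adjoin A {x}
  haveI : Module.Finite A C₀ :=
    Module.Finite.iff_fg.mpr (Algebra.IsIntegral.isIntegral (R := A) x).fg_adjoin_singleton
  haveI : Algebra.IsIntegral C₀ C := Algebra.IsIntegral.tower_top (R := A)
  haveI h1 : (N.comap (algebraMap C₀ C)).IsMaximal :=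
    Ideal.isMaximal_comap_of_isIntegral_of_isMaximal N
  haveI h2 : (M.comap (algebraMap C₀ C)).IsMaximal :=
    Ideal.isMaximal_comap_of_isIntegral_of_isMaximal M
  have hx0 : x ∈ C₀ := Algebra.subset_adjoin (Set.mem_singleton x)
  have hne' : N.comap (algebraMap C₀ C) ≠ M.comap (algebraMap C₀ C) := by
    intro h
    have : (⟨x, hx0⟩ : C₀) ∈ N.comap (algebraMap C₀ C) := hxN
    rw [h] at this
    exact hxM this
  obtain ⟨e, he, he1, he2⟩ := Groth.Agent.Helper1.exists_isIdempotentElem_mem_notMem (R := A)
    (N.comap (algebraMap C₀ C)) (M.comap (algebraMap C₀ C)) hne'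
  rcases IsIdempotentElem.iff_eq_zero_or_one.mp he with h | h
  · exact he2 (h ▸ Ideal.zero_mem _)
  · exact h1.ne_top ((Ideal.eq_top_iff_one _).mpr (h ▸ he1))

end IntLocal

end Groth.Agent.Helper2.Oli
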