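import Mathlib
import Groth.Agent.Lib.Helper2.Oli1

/-!
# Olivier's theorem, part 2: locality of base changes
-/

namespace Groth.Agent.Helper2.Oli

universe u

open TensorProduct IsLocalRing

section ClosedFibre

variable {A B : Type u} [CommRing A] [CommRing B] [IsLocalRing A] [IsLocalRing B]
  [IsSepClosed (IsLocalRing.ResidueField A)] [Algebra A B] [IsLocalHom (algebraMap A B)]
  [Algebra.WeaklyEtale A B]

/-- The closed fibre of a local weakly étale algebra over a local ring with separably closed
residue field is trivial. -/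
theorem exists_sub_mem_maximalIdeal (b : B) :
    ∃ a : A, b - algebraMap A B a ∈ maximalIdeal B := by
  let k := IsLocalRing.ResidueField A
  let C := k ⊗[A] B
  haveI : Algebra.IsSeparable k C := Groth.Agent.Helper3.WEField.isSeparable_of_weaklyEtale k C
  let x : C := (1 : k) ⊗ₜ[A] b
  have hsep : (minpoly k x).Separable := Algebra.IsSeparable.isSeparable k x
  have hsplit : (minpoly k x).Splits := IsSepClosed.splits_of_separable _ hsep
  obtain ⟨c, hc⟩ := exists_eq_algebraMap_of_aeval_eq_zero
    (fun e he => isIdempotentElem_trivial_of_isLocalRing e he) x (minpoly k x) hsep hsplit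
    (minpoly.aeval k x)
  obtain ⟨a, rfl⟩ := IsLocalRing.residue_surjective c
  refine ⟨a, ?_⟩
  let φ : C →ₐ[A] IsLocalRing.ResidueField B :=
    Algebra.TensorProduct.productMap (IsScalarTower.toAlgHom A k (IsLocalRing.ResidueField B))
      (IsScalarTower.toAlgHom A B (IsLocalRing.ResidueField B))
  have h1 : φ x = IsLocalRing.residue B b := by
    change Algebra.TensorProduct.productMap _ _ ((1 : k) ⊗ₜ[A] b) = _
    rw [Algebra.TensorProduct.productMap_apply_tmul, map_one, one_mul]
    rfl
  have h2 : φ (algebraMap k C (IsLocalRing.residue A a)) =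
      IsLocalRing.residue B (algebraMap A B a) := by
    rw [Algebra.TensorProduct.algebraMap_apply]
    change Algebra.TensorProduct.productMap _ _ (_ ⊗ₜ[A] (1 : B)) = _
    rw [Algebra.TensorProduct.productMap_apply_tmul, map_one, mul_one]
    change algebraMap k (IsLocalRing.ResidueField B) (algebraMap A k a) =
      algebraMap B (IsLocalRing.ResidueField B) (algebraMap A B a)
    rw [← IsScalarTower.algebraMap_apply, ← IsScalarTower.algebraMap_apply]
  rw [← IsLocalRing.residue_eq_zero_iff, map_sub, ← h1, ← h2, hc, sub_self]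

end ClosedFibre

section LocalTensor

variable {A B A' : Type u} [CommRing A] [CommRing B] [CommRing A'] [IsLocalRing B] [IsLocalRing A']
  [Algebra A B] [Algebra A A'] [Algebra.IsIntegral A A']

theorem map_maximalIdeal_le_jacobson :
    (maximalIdeal B).map (algebraMap B (B ⊗[A] A')) ≤ Ideal.jacobson ⊥ := by
  rw [Ideal.jacobson]
  refine le_sInf ?_
  rintro M ⟨-, hM⟩
  haveI := hM
  haveI h1 : (M.comap (algebraMap B (B ⊗[A] A'))).IsMaximal :=
    Ideal.isMaximal_comap_of_isIntegral_of_isMaximal M
  rw [Ideal.map_le_iff_le_comap, IsLocalRing.eq_maximalIdeal h1]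

theorem exists_eq_tmul_add (hAB : ∀ b : B, ∃ a : A, b - algebraMap A B a ∈ maximalIdeal B)
    (t : B ⊗[A] A') : ∃ (a' : A') (j : B ⊗[A] A'),
      j ∈ (maximalIdeal B).map (algebraMap B (B ⊗[A] A')) ∧ t = (1 : B) ⊗ₜ[A] a' + j := by
  induction t using TensorProduct.induction_on with
  | zero => exact ⟨0, 0, Ideal.zero_mem _, by simp⟩
  | tmul b a'' =>
    obtain ⟨a, ha⟩ := hAB b
    refine ⟨a • a'', (b - algebraMap A B a) ⊗ₜ[A] a'', ?_, ?_⟩
    · have : (b - algebraMap A B a) ⊗ₜ[A] a'' =
          algebraMap B (B ⊗[A] A') (b - algebraMap A B a) * ((1 : B) ⊗ₜ[A] a'') := by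
        rw [Algebra.TensorProduct.algebraMap_apply, Algebra.TensorProduct.tmul_mul_tmul]
        simp
      rw [this]
      exact Ideal.mul_mem_right _ _ (Ideal.mem_map_of_mem _ ha)
    · rw [TensorProduct.sub_tmul, ← TensorProduct.smul_tmul, Algebra.smul_def, mul_one]
      ring
  | add x y hx hy =>
    obtain ⟨a1, j1, hj1, h1⟩ := hx
    obtain ⟨a2, j2, hj2, h2⟩ := hy
    refine ⟨a1 + a2, j1 + j2, Ideal.add_mem _ hj1 hj2, ?_⟩
    rw [h1, h2, TensorProduct.tmul_add]
    ring

theorem isUnit_add_of_mem_jacobson {R : Type*} [CommRing R] {u j : R} (hu : IsUnit u)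
    (hj : j ∈ Ideal.jacobson (⊥ : Ideal R)) : IsUnit (u + j) := by
  obtain ⟨v, rfl⟩ := hu
  have h1 := Ideal.mem_jacobson_bot.mp hj (↑v⁻¹)
  have : (v : R) + j = v * (j * ↑v⁻¹ + 1) := by
    rw [mul_add, mul_one, mul_comm j, ← mul_assoc, Units.mul_inv, one_mul, add_comm]
  rw [this]
  exact v.isUnit.mul h1

/-- The base change of a local ring `B` with trivial residue extension along an integral
local algebra is local. -/
theorem isLocalRing_tensor_of_isIntegral [Nontrivial (B ⊗[A] A')]
    (hAB : ∀ b : B, ∃ a : A, b - algebraMap A B a ∈ maximalIdeal B) :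
    IsLocalRing (B ⊗[A] A') := by
  apply IsLocalRing.of_isUnit_or_isUnit_one_sub_self
  intro t
  obtain ⟨a', j, hj, rfl⟩ := exists_eq_tmul_add hAB t
  have hj' := map_maximalIdeal_le_jacobson hj
  rcases IsLocalRing.isUnit_or_isUnit_one_sub_self a' with h | h
  · left
    exact isUnit_add_of_mem_jacobson
      (h.map (Algebra.TensorProduct.includeRight : A' →ₐ[A] B ⊗[A] A')) hj'
  · right
    have : 1 - ((1 : B) ⊗ₜ[A] a' + j) = (1 : B) ⊗ₜ[A] (1 - a') + (-j) := by
      rw [TensorProduct.tmul_sub, ← Algebra.TensorProduct.one_def]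
      ring
    rw [this]
    exact isUnit_add_of_mem_jacobson
      (h.map (Algebra.TensorProduct.includeRight : A' →ₐ[A] B ⊗[A] A')) (Ideal.neg_mem_iff _ |>.mpr hj')

end LocalTensor

end Groth.Agent.Helper2.Oli
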