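import Mathlib
import Groth.Agent.Lib.Helper2.Oli2
import Groth.Agent.Lib.Helper2.OL3

/-!
# Olivier's theorem, part 3: fibres are trivial
-/

namespace Groth.Agent.Helper2.Oli

universe u

open TensorProduct IsLocalRing

section Conn

variable {A B : Type u} [CommRing A] [CommRing B] [HenselianLocalRing A] [IsLocalRing B]
  [IsSepClosed (IsLocalRing.ResidueField A)] [Algebra A B] [IsLocalHom (algebraMap A B)]
  [Algebra.WeaklyEtale A B]

/-- Key connectedness statement. -/
theorem isIdempotentElem_trivial_tensor (A' : Type u) [CommRing A'] [IsDomain A']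
    [IsIntegrallyClosed A'] [Algebra A A'] [Algebra.IsIntegral A A']
    (L : Type u) [Field L] [Algebra A' L] [IsFractionRing A' L] [Algebra A L]
    [IsScalarTower A A' L] (e : L ⊗[A] B) (he : IsIdempotentElem e) : e = 0 ∨ e = 1 := by
  haveI : IsLocalRing A' := isLocalRing_of_isIntegral_of_isDomain A A'
  have hAB := exists_sub_mem_maximalIdeal (A := A) (B := B)
  haveI : Module.FaithfullyFlat A B := Module.FaithfullyFlat.of_flat_of_isLocalHom
  haveI : IsLocalRing (B ⊗[A] A') := isLocalRing_tensor_of_isIntegral hAB
  let T := A' ⊗[A] B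
  haveI : IsLocalRing T := (Algebra.TensorProduct.comm A B A').toRingEquiv.isLocalRing
  have hic : IsIntegrallyClosedIn T (T ⊗[A'] L) :=
    Groth.Agent.Helper2.OL.isIntegrallyClosedIn_of_weaklyEtale (A := A') (K := L) T
  let φ : T ⊗[A'] L ≃+* L ⊗[A] B :=
    ((Algebra.TensorProduct.comm A' T L).trans
      (Algebra.TensorProduct.cancelBaseChange A A' A' L B)).toRingEquiv
  obtain ⟨e', rfl⟩ := φ.surjective e
  have he' : IsIdempotentElem e' := by
    have := he.eq
    rw [← map_mul] at this
    exact φ.injective this
  have hint : IsIntegral T e' := by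
    refine ⟨Polynomial.X ^ 2 - Polynomial.X, ?_, ?_⟩
    · exact Polynomial.monic_X_pow_sub (by simp)
    · simp [pow_two, he'.eq]
  obtain ⟨t, rfl⟩ := (isIntegrallyClosedIn_iff.mp hic).2 hint
  have hinj := (isIntegrallyClosedIn_iff.mp hic).1
  have ht : IsIdempotentElem t := by
    have := he'.eq
    rw [← map_mul] at this
    exact hinj this
  rcases isIdempotentElem_trivial_of_isLocalRing t ht with h | h
  · left; rw [h, map_zero, map_zero]
  · right; rw [h, map_one, map_one]

end Conn

end Groth.Agent.Helper2.Oli

namespace Groth.Agent.Helper2.Oli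

universe u

open TensorProduct IsLocalRing

section Fibre

variable {A B : Type u} [CommRing A] [CommRing B] [HenselianLocalRing A] [IsLocalRing B]
  [IsSepClosed (IsLocalRing.ResidueField A)] [Algebra A B] [IsLocalHom (algebraMap A B)]
  [Algebra.WeaklyEtale A B]

/-- Connectedness of `L ⊗_A B` for a finite extension `L` of a residue field of `A`. -/
theorem isIdempotentElem_trivial_tensor_of_finite (p : Ideal A) [p.IsPrime]
    (L : Type u) [Field L] [Algebra p.ResidueField L] [FiniteDimensional p.ResidueField L]
    [Algebra A L] [IsScalarTower A p.ResidueField L]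
    (e : L ⊗[A] B) (he : IsIdempotentElem e) : e = 0 ∨ e = 1 := by
  let K := p.ResidueField
  letI : Algebra (A ⧸ p) L := ((algebraMap K L).comp (algebraMap (A ⧸ p) K)).toAlgebra
  haveI : IsScalarTower (A ⧸ p) K L := IsScalarTower.of_algebraMap_eq (fun _ => rfl)
  haveI : IsScalarTower A (A ⧸ p) L := IsScalarTower.of_algebraMap_eq (fun a => by
    rw [IsScalarTower.algebraMap_apply A K L, IsScalarTower.algebraMap_apply (A ⧸ p) K L,
      ← IsScalarTower.algebraMap_apply A (A ⧸ p) K])
  let A' := integralClosure (A ⧸ p) L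
  haveI : IsIntegrallyClosed A' := integralClosure.isIntegrallyClosedOfFiniteExtension K
  haveI : IsFractionRing A' L := integralClosure.isFractionRing_of_finite_extension K L
  haveI : Algebra.IsIntegral A (A ⧸ p) :=
    ⟨(RingHom.isIntegral_of_surjective _ Ideal.Quotient.mk_surjective :
      (algebraMap A (A ⧸ p)).IsIntegral)⟩
  haveI : Algebra.IsIntegral A A' := Algebra.IsIntegral.trans (A ⧸ p)
  exact isIdempotentElem_trivial_tensor A' L e he

/-- All fibres of `A → B` are trivial. -/
theorem exists_one_tmul_eq_algebraMap (p : Ideal A) [p.IsPrime] (b : B) :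
    ∃ c : p.ResidueField, (1 : p.ResidueField) ⊗ₜ[A] b =
      algebraMap p.ResidueField (p.ResidueField ⊗[A] B) c := by
  let K := p.ResidueField
  let F := K ⊗[A] B
  haveI : Module.FaithfullyFlat A B := Module.FaithfullyFlat.of_flat_of_isLocalHom
  haveI : Nontrivial F := inferInstance
  haveI : Algebra.IsSeparable K F := Groth.Agent.Helper3.WEField.isSeparable_of_weaklyEtale K F
  let x : F := (1 : K) ⊗ₜ[A] b
  have hxint : IsIntegral K x := Algebra.IsIntegral.isIntegral x
  have hsep : (minpoly K x).Separable := Algebra.IsSeparable.isSeparable K x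
  let L := (minpoly K x).SplittingField
  let G := L ⊗[K] F
  let ψ : G ≃+* L ⊗[A] B := (Algebra.TensorProduct.cancelBaseChange A K K L B).toRingEquiv
  haveI : Nontrivial G := inferInstance
  have hG : ∀ e : G, IsIdempotentElem e → e = 0 ∨ e = 1 := by
    intro e he
    have he' : IsIdempotentElem (ψ e) := by
      unfold IsIdempotentElem
      rw [← map_mul, he.eq]
    rcases isIdempotentElem_trivial_tensor_of_finite p L (ψ e) he' with h | h
    · left; exact ψ.injective (by rw [h, map_zero])
    · right; exact ψ.injective (by rw [h, map_one])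
  let y : G := (1 : L) ⊗ₜ[K] x
  have hmin : minpoly L y = (minpoly K x).map (algebraMap K L) :=
    Groth.Agent.Helper3.WEField.minpoly_one_tmul L x hxint
  have hy0 : Polynomial.aeval y ((minpoly K x).map (algebraMap K L)) = 0 := by
    rw [← hmin]; exact minpoly.aeval L y
  obtain ⟨a, ha⟩ := exists_eq_algebraMap_of_aeval_eq_zero hG y _ hsep.map
    (Polynomial.SplittingField.splits (minpoly K x)) hy0
  have hdeg : (minpoly K x).natDegree = 1 := by
    have h1 : minpoly L y = Polynomial.X - Polynomial.C a := by
      rw [ha]; exact minpoly.eq_X_sub_C G a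
    have h2 := congrArg Polynomial.natDegree hmin
    rw [h1, Polynomial.natDegree_X_sub_C, Polynomial.natDegree_map] at h2
    exact h2.symm
  obtain ⟨c, hc⟩ := minpoly.natDegree_eq_one_iff.mp hdeg
  exact ⟨c, hc.symm⟩

end Fibre

end Groth.Agent.Helper2.Oli
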