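import Mathlib
import Groth.Prelude.Def_Hensel
import Groth.Agent.S0427
import Groth.Agent.Lib.Helper1.WE1
import Groth.Agent.Lib.Helper1.SHznUniv
import Groth.Agent.Lib.Helper29.FlatDescentComp
import Groth.Agent.Lib.Helper16.AlgSp.FlatSrc
import Groth.Agent.Lib.Helper3.DiagFlat
import Groth.Agent.Lib.Helper3.WEField

/-!
# Strict henselizations and weakly étale local homomorphisms
-/

namespace Groth.Agent.Helper2.Oli

universe u

open TensorProduct IsLocalRing

section Descent

/-- weakly étale descends along a faithfully flat second map -/
theorem weaklyEtale_of_faithfullyFlat_comp (A B C : Type u) [CommRing A] [CommRing B]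
    [CommRing C] [Algebra A B] [Algebra B C] [Algebra A C] [IsScalarTower A B C]
    [Module.FaithfullyFlat B C] [Algebra.WeaklyEtale A C] : Algebra.WeaklyEtale A B := by
  haveI : Module.Flat A B :=
    Groth.Agent.Helper29.FlatDescentComp.flat_of_faithfullyFlat_comp A B C
  refine ⟨inferInstance, ?_⟩
  apply Groth.Agent.Helper16.AS.RingHom.Flat.of_comp_faithfullyFlat
    (Algebra.TensorProduct.lmul' A (S := B)).toRingHom (algebraMap B C)
  · exact (RingHom.faithfullyFlat_algebraMap_iff).mpr inferInstance
  · have hf : (IsScalarTower.toAlgHom A B C).Flat := by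
      change (algebraMap B C).Flat
      rw [RingHom.flat_algebraMap_iff]
      infer_instance
    have e : (algebraMap B C).comp (Algebra.TensorProduct.lmul' A (S := B)).toRingHom =
        (Algebra.TensorProduct.lmul' A (S := C)).toRingHom.comp
          (Algebra.TensorProduct.map (IsScalarTower.toAlgHom A B C)
            (IsScalarTower.toAlgHom A B C)).toRingHom := by
      have : (IsScalarTower.toAlgHom A B C).comp (Algebra.TensorProduct.lmul' A (S := B)) =
          (Algebra.TensorProduct.lmul' A (S := C)).comp
            (Algebra.TensorProduct.map (IsScalarTower.toAlgHom A B C)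
              (IsScalarTower.toAlgHom A B C)) := by
        apply Algebra.TensorProduct.ext'
        intro a b
        simp
      exact congrArg AlgHom.toRingHom this
    rw [e]
    exact RingHom.Flat.comp (RingHom.Flat.tensorProductMap hf hf)
      (Algebra.WeaklyEtale.flat_lmul' A C)

end Descent

section Residue

/-- residue field extensions of local weakly étale maps are separable -/
theorem isSeparable_residueField (A B : Type u) [CommRing A] [CommRing B] [IsLocalRing A]
    [IsLocalRing B] [Algebra A B] [IsLocalHom (algebraMap A B)] [Algebra.WeaklyEtale A B] :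
    Algebra.IsSeparable (ResidueField A) (ResidueField B) := by
  let k := ResidueField A
  haveI : Algebra.IsSeparable k (k ⊗[A] B) :=
    Groth.Agent.Helper3.WEField.isSeparable_of_weaklyEtale k _
  let φ : k ⊗[A] B →ₐ[k] ResidueField B :=
    Algebra.TensorProduct.productLeftAlgHom (Algebra.ofId k (ResidueField B))
      (IsScalarTower.toAlgHom A B (ResidueField B))
  refine ⟨fun z => ?_⟩
  obtain ⟨b, rfl⟩ := residue_surjective z
  have : residue B b = φ ((1 : k) ⊗ₜ[A] b) := by
    simp [φ]
  rw [this]
  exact Groth.Agent.Helper3.WEField.isSeparable_algHom φ (Algebra.IsSeparable.isSeparable k _)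

end Residue

section SH

variable (A R : Type u) [CommRing A] [IsLocalRing A] [CommRing R] [HenselianLocalRing R]
  [IsSepClosed (ResidueField R)] [Algebra A R] [IsLocalHom (algebraMap A R)]
  [Algebra.WeaklyEtale A R]

open Groth.Agent.Helper1 in
/-- A strictly henselian local ring which is weakly étale (and local) over `A` is a strict
henselization of `A`. -/
theorem isStrictHenselization_of_weaklyEtale : Hensel.IsStrictHenselization A R := by
  let S := SHzn.S A
  haveI hS : Hensel.IsStrictHenselization A S := SHzn.isStrictHenselization A
  haveI : Algebra.WeaklyEtale A S := Groth.Agent.Helper1.WE.weaklyEtale_of_isStrictHenselization A S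
  haveI sepR : Algebra.IsSeparable (ResidueField A) (ResidueField R) := isSeparable_residueField A R
  have scS : IsSepClosure (ResidueField A) (ResidueField S) := SHzn.isSepClosure A
  haveI : Algebra.IsSeparable (ResidueField A) (ResidueField S) := scS.separable
  haveI : IsSepClosed (ResidueField S) := scS.sep_closed
  let τ₀ : ResidueField S →ₐ[ResidueField A] ResidueField R := IsSepClosed.lift
  have hτ₀ : τ₀.toRingHom.comp (ResidueField.map (algebraMap A S)) =
      ResidueField.map (algebraMap A R) := by
    ext x
    exact τ₀.commutes x
  obtain ⟨g, ⟨hg1, hg2⟩, -⟩ := SHzn.universal A R (algebraMap A R) τ₀.toRingHom hτ₀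
  have hg1' : ∀ a, g (algebraMap A S a) = algebraMap A R a := fun a => RingHom.congr_fun hg1 a
  haveI hgl : IsLocalHom g := by
    refine ⟨fun x hx => ?_⟩
    by_contra hnu
    have h1 : residue S x = 0 := (residue_eq_zero_iff _).mpr ((mem_maximalIdeal _).mpr hnu)
    have h2 := hg2 x
    rw [h1, map_zero, residue_eq_zero_iff, mem_maximalIdeal] at h2
    exact h2 hx
  letI : Algebra S R := g.toAlgebra
  haveI : IsScalarTower A S R := IsScalarTower.of_algebraMap_eq (fun a => (hg1' a).symm)
  haveI : Algebra.WeaklyEtale S R := Groth.Agent.Helper3.DiagFlat.weaklyEtale_of_comp A S R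
  haveI : IsLocalHom (algebraMap S R) := hgl
  have hbij : Function.Bijective g := Groth.Agent.S0427.result (A := S) (B := R)
  let e : S ≃+* R := RingEquiv.ofBijective g hbij
  have he : ∀ x, e x = g x := fun x => rfl
  have hmapg : ∀ x : S, ResidueField.map g (residue S x) = residue R (g x) :=
    fun x => ResidueField.map_residue g x
  refine ⟨inferInstance, ⟨inferInstance, sepR⟩, ?_⟩
  intro T _ _ f _ τ hτ
  let τ' : ResidueField S →+* ResidueField T := τ.comp (ResidueField.map g)
  have hτ' : τ'.comp (ResidueField.map (algebraMap A S)) = ResidueField.map f := by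
    rw [← hτ]
    ext x
    obtain ⟨a, rfl⟩ := residue_surjective x
    change τ (ResidueField.map g (ResidueField.map (algebraMap A S) (residue A a))) =
      τ (ResidueField.map (algebraMap A R) (residue A a))
    rw [ResidueField.map_residue, ResidueField.map_residue, ResidueField.map_residue, hg1']
  obtain ⟨h', ⟨hh1, hh2⟩, huniq⟩ := SHzn.universal A T f τ' hτ'
  refine ⟨h'.comp e.symm.toRingHom, ⟨?_, ?_⟩, ?_⟩
  · ext a
    change h' (e.symm (algebraMap A R a)) = f a
    rw [← hg1', ← he, e.symm_apply_apply]
    exact RingHom.congr_fun hh1 a
  · intro y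
    change residue T (h' (e.symm y)) = τ (residue R y)
    rw [hh2]
    change τ (ResidueField.map g (residue S (e.symm y))) = _
    rw [hmapg, ← he, e.apply_symm_apply]
  · rintro h₁ ⟨h11, h12⟩
    have : h₁.comp g = h' := by
      apply huniq
      refine ⟨?_, ?_⟩
      · ext a
        change h₁ (g (algebraMap A S a)) = f a
        rw [hg1']
        exact RingHom.congr_fun h11 a
      · intro x
        change residue T (h₁ (g x)) = τ (ResidueField.map g (residue S x))
        rw [h12, hmapg]
    ext y
    change h₁ y = h' (e.symm y)
    rw [← this]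
    change h₁ y = h₁ (g (e.symm y))
    rw [← he, e.apply_symm_apply]

end SH

end Groth.Agent.Helper2.Oli
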