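/-
Schemes of dimension zero: qc opens are closed, clopen of affine is affine, etc. (helper2)
-/
import Mathlib.AlgebraicGeometry.Morphisms.Separated
import Mathlib.AlgebraicGeometry.Morphisms.Affine
import Mathlib.AlgebraicGeometry.Morphisms.ClosedImmersion
import Mathlib.AlgebraicGeometry.Limits
import Mathlib.Topology.KrullDimension
import Mathlib.RingTheory.Spectrum.Prime.ConstructibleSet
import Mathlib.Topology.QuasiSeparated

set_option autoImplicit false
universe u

namespace Groth.Agent.Helper2.DimZero

open CategoryTheory AlgebraicGeometry TopologicalSpace Limits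

/-- In a T0 space of Krull dimension `≤ 0` specialization is trivial. -/
theorem eq_of_specializes {T : Type*} [TopologicalSpace T] [T0Space T]
    (h : topologicalKrullDim T ≤ 0) {x y : T} (hxy : x ⤳ y) : x = y := by
  unfold topologicalKrullDim at h
  rw [Order.krullDim_nonpos_iff_forall_isMax] at h
  let cx : IrreducibleCloseds T := ⟨closure {x}, isIrreducible_singleton.closure, isClosed_closure⟩
  let cy : IrreducibleCloseds T := ⟨closure {y}, isIrreducible_singleton.closure, isClosed_closure⟩
  have hle : cy ≤ cx := by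
    change closure {y} ⊆ closure {x}
    exact specializes_iff_closure_subset.mp hxy
  have hge : cx ≤ cy := h cy hle
  have hyx : y ⤳ x := specializes_iff_closure_subset.mpr hge
  exact (hxy.antisymm hyx).eq

/-- The disjoint union of two affine opens is affine. -/
theorem isAffineOpen_sup_of_disjoint {X : Scheme.{u}} {U V : X.Opens} (hU : IsAffineOpen U)
    (hV : IsAffineOpen V) (hd : Disjoint U V) : IsAffineOpen (U ⊔ V) := by
  haveI : IsAffine U.toScheme := hU
  haveI : IsAffine V.toScheme := hV
  let f : U.toScheme ⟶ (U ⊔ V).toScheme := X.homOfLE le_sup_left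
  let g : V.toScheme ⟶ (U ⊔ V).toScheme := X.homOfLE le_sup_right
  have hf : ∀ z : (U ⊔ V).toScheme, z ∈ f.opensRange ↔ z.1 ∈ U := by
    intro z
    constructor
    · rintro ⟨w, rfl⟩
      have : ((X.homOfLE le_sup_left : U.toScheme ⟶ (U ⊔ V).toScheme) w).1 = w.1 := by
        simp
      rw [show (f w).1 = w.1 from this]
      exact w.2
    · intro hz
      refine ⟨⟨z.1, hz⟩, ?_⟩
      apply Subtype.ext
      simp [f]
  have hg : ∀ z : (U ⊔ V).toScheme, z ∈ g.opensRange ↔ z.1 ∈ V := by
    intro z
    constructor
    · rintro ⟨w, rfl⟩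
      have : ((X.homOfLE le_sup_right : V.toScheme ⟶ (U ⊔ V).toScheme) w).1 = w.1 := by
        simp
      rw [show (g w).1 = w.1 from this]
      exact w.2
    · intro hz
      refine ⟨⟨z.1, hz⟩, ?_⟩
      apply Subtype.ext
      simp [g]
  have hcompl : IsCompl f.opensRange g.opensRange := by
    constructor
    · rw [disjoint_iff]
      ext z
      simp only [Opens.coe_inf, Set.mem_inter_iff, SetLike.mem_coe, Opens.coe_bot,
        Set.mem_empty_iff_false, iff_false, not_and]
      intro h1 h2
      have h1' := (hf z).mp h1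
      have h2' := (hg z).mp h2
      have : z.1 ∈ U ⊓ V := ⟨h1', h2'⟩
      rw [disjoint_iff.mp hd] at this
      exact this
    · rw [codisjoint_iff]
      ext z
      simp only [Opens.coe_sup, Set.mem_union, SetLike.mem_coe, Opens.coe_top, Set.mem_univ,
        iff_true]
      rcases z.2 with h | h
      · exact Or.inl ((hf z).mpr h)
      · exact Or.inr ((hg z).mpr h)
  obtain ⟨hc⟩ := nonempty_isColimit_binaryCofanMk_of_isCompl f g hcompl
  let e : U.toScheme ⨿ V.toScheme ≅ (U ⊔ V).toScheme :=
    (colimit.isColimit _).coconePointUniqueUpToIso hc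
  exact IsAffine.of_isIso e.inv

/-- An open subset of an affine open which is relatively closed is affine. -/
theorem isAffineOpen_of_le_of_isClosed {X : Scheme.{u}} {U U' : X.Opens} (hU : IsAffineOpen U)
    (hle : U' ≤ U) (hcl : IsClosed (Subtype.val ⁻¹' (U' : Set X) : Set ↥U)) : IsAffineOpen U' := by
  haveI : IsAffine U.toScheme := hU
  let j : U'.toScheme ⟶ U.toScheme := X.homOfLE hle
  have hr : Set.range j = (Subtype.val ⁻¹' (U' : Set X) : Set ↥U) := by
    ext z
    constructor
    · rintro ⟨w, rfl⟩
      have : ((X.homOfLE hle : U'.toScheme ⟶ U.toScheme) w).1 = w.1 := by simp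
      change (j w).1 ∈ U'
      rw [show (j w).1 = w.1 from this]
      exact w.2
    · intro hz
      refine ⟨⟨z.1, hz⟩, ?_⟩
      apply Subtype.ext
      simp [j]
  haveI : IsClosedImmersion j := IsClosedImmersion.of_isPreimmersion j (hr ▸ hcl)
  exact isAffine_of_isAffineHom j

/-- In a quasi-separated scheme with trivial specialization order, quasi-compact opens are
closed. -/
theorem isClosed_of_isCompact_isOpen {X : Scheme.{u}} [QuasiSeparatedSpace X]
    (hsp : ∀ x y : X, x ⤳ y → x = y) {A : Set X} (hAo : IsOpen A) (hAc : IsCompact A) :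
    IsClosed A := by
  rw [← closure_subset_iff_isClosed]
  intro z hz
  obtain ⟨_, ⟨N, hN, rfl⟩, hzN, -⟩ :=
    X.isBasis_affineOpens.exists_subset_of_mem_open (Set.mem_univ z) isOpen_univ
  have hN' : IsAffineOpen N := hN
  set φ := hN'.fromSpec with hφ
  have hemb : Topology.IsOpenEmbedding φ := hN'.fromSpec.isOpenEmbedding
  have hrange : Set.range φ = (N : Set X) := hN'.range_fromSpec
  -- the preimage is compact open in Spec
  have hpo : IsOpen (φ ⁻¹' A) := hAo.preimage hemb.continuous
  have hpc : IsCompact (φ ⁻¹' A) := by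
    have h1 : IsCompact (A ∩ N) :=
      QuasiSeparatedSpace.inter_isCompact A N hAo hAc N.isOpen hN'.isCompact
    have h2 : φ ⁻¹' (A ∩ N) = φ ⁻¹' A := by
      ext w
      simp only [Set.mem_preimage, Set.mem_inter_iff, and_iff_left_iff_imp]
      intro _
      rw [← hrange]
      exact ⟨w, rfl⟩
    rw [← h2]
    exact (hemb.isInducing.isCompact_preimage_iff (by rw [hrange]; exact Set.inter_subset_right)).mpr h1
  have hcl : IsClosed (φ ⁻¹' A) := by
    apply PrimeSpectrum.isClosed_of_stableUnderSpecialization_of_isConstructible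
    · intro p q hpq hp
      have : φ p ⤳ φ q := hpq.map hemb.continuous
      have := hsp _ _ this
      change φ q ∈ A
      rw [← this]
      exact hp
    · exact hpc.isConstructible hpo
  -- z = φ w
  obtain ⟨w, rfl⟩ : z ∈ Set.range φ := by rw [hrange]; exact hzN
  have : w ∈ closure (φ ⁻¹' A) := by
    rw [hemb.isInducing.closure_eq_preimage_closure_image]
    apply closure_mono _ (show φ w ∈ closure (A ∩ N) from ?_)
    · rintro y ⟨hyA, hyN⟩
      rw [← hrange] at hyN
      obtain ⟨v, rfl⟩ := hyN
      exact ⟨v, hyA, rfl⟩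
    · rw [mem_closure_iff] at hz ⊢
      intro o ho hwo
      obtain ⟨y, ⟨hyo, hyN⟩, hyA⟩ := hz (o ∩ N) (ho.inter N.isOpen) ⟨hwo, hzN⟩
      exact ⟨y, hyo, hyA, hyN⟩
  rw [hcl.closure_eq] at this
  exact this

/-- In a quasi-separated scheme with trivial specialization order, the topology is totally
separated. -/
theorem totallySeparatedSpace {X : Scheme.{u}} [QuasiSeparatedSpace X]
    (hsp : ∀ x y : X, x ⤳ y → x = y) : TotallySeparatedSpace X := by
  rw [totallySeparatedSpace_iff_exists_isClopen]
  intro x y hxy
  have hyc : IsClosed ({y} : Set X) := by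
    rw [← closure_subset_iff_isClosed]
    intro z hz
    have : y ⤳ z := specializes_iff_mem_closure.mpr hz
    exact (hsp _ _ this).symm
  have hx : x ∈ ({y} : Set X)ᶜ := fun h => hxy h
  obtain ⟨_, ⟨U, hU, rfl⟩, hxU, hUy⟩ :=
    X.isBasis_affineOpens.exists_subset_of_mem_open hx hyc.isOpen_compl
  have hU' : IsAffineOpen U := hU
  refine ⟨U, ⟨isClosed_of_isCompact_isOpen hsp U.isOpen hU'.isCompact, U.isOpen⟩, hxU, ?_⟩
  intro hy
  exact hUy hy rfl

end Groth.Agent.Helper2.DimZero
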