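import Mathlib.AlgebraicGeometry.AffineScheme
import Mathlib.AlgebraicGeometry.Morphisms.QuasiSeparated
import Mathlib.RingTheory.Ideal.MinimalPrime.Localization
import Mathlib.RingTheory.Spectrum.Prime.Topology
import Mathlib.Topology.Irreducible
import Groth.Agent.Lib.Helper2.DimZero

set_option autoImplicit false
universe u
open CategoryTheory AlgebraicGeometry TopologicalSpace

namespace Groth.Agent.Helper2.GenericPts

/-- For a minimal prime `p` and `f ∈ p` there are `s ∉ p` and `n` with `s * f ^ n = 0`. -/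
theorem exists_mul_pow_eq_zero {A : Type u} [CommRing A] (p : Ideal A) [p.IsPrime]
    (hp : p ∈ minimalPrimes A) (f : A) (hf : f ∈ p) :
    ∃ s : A, s ∉ p ∧ ∃ n : ℕ, s * f ^ n = 0 := by
  have h1 := IsLocalization.AtPrime.radical_map_of_mem_minimalPrimes
    (A := Localization.AtPrime p) p ⊥ hp
  have h2 : algebraMap A (Localization.AtPrime p) f ∈
      ((⊥ : Ideal A).map (algebraMap A (Localization.AtPrime p))).radical := by
    rw [h1]
    exact Ideal.mem_map_of_mem _ hf
  obtain ⟨n, hn⟩ := h2
  rw [Ideal.map_bot, Ideal.mem_bot, ← map_pow] at hn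
  rw [IsLocalization.map_eq_zero_iff p.primeCompl] at hn
  obtain ⟨s, hs⟩ := hn
  exact ⟨s.1, s.2, n, hs⟩

/-- A minimal prime not lying in a compact open has a basic open neighbourhood disjoint from it. -/
theorem exists_basicOpen_disjoint {A : Type u} [CommRing A] (p : PrimeSpectrum A)
    (hp : p.asIdeal ∈ minimalPrimes A) (U' : Set (PrimeSpectrum A)) (hc : IsCompact U')
    (ho : IsOpen U') (hpU : p ∉ U') :
    ∃ s : A, p ∈ PrimeSpectrum.basicOpen s ∧
      Disjoint (PrimeSpectrum.basicOpen s : Set (PrimeSpectrum A)) U' := by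
  classical
  obtain ⟨t, rfl⟩ := PrimeSpectrum.isCompact_isOpen_iff.mp ⟨hc, ho⟩
  have htp : ∀ f ∈ t, f ∈ p.asIdeal := by
    intro f hf
    by_contra hfp
    apply hpU
    intro hz
    exact hfp (hz hf)
  choose! s hs1 hs2 using fun f (hf : f ∈ t) => exists_mul_pow_eq_zero p.asIdeal hp f (htp f hf)
  refine ⟨∏ f ∈ t, s f, ?_, ?_⟩
  · change (∏ f ∈ t, s f) ∉ p.asIdeal
    rw [Ideal.IsPrime.prod_mem_iff]
    rintro ⟨f, hf, hsf⟩
    exact hs1 f hf hsf
  · rw [Set.disjoint_left]
    intro q hq hq'
    apply hq'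
    intro f hf
    by_contra hfq
    obtain ⟨n, hn⟩ := hs2 f hf
    have h1 : s f ∉ q.asIdeal := by
      intro h
      apply hq
      exact Ideal.IsPrime.prod_mem_iff.mpr ⟨f, hf, h⟩
    have h2 : s f * f ^ n ∈ q.asIdeal := by
      rw [hn]
      exact zero_mem _
    rcases q.isPrime.mem_or_mem h2 with h | h
    · exact h1 h
    · exact hfq (q.isPrime.mem_of_pow_mem n h)

/-- In a T0 space, a point whose closure is an irreducible component has no proper
generizations. -/
theorem eq_of_specializes_of_mem_irreducibleComponents {T : Type*} [TopologicalSpace T]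
    [T0Space T] {η x : T} (hη : closure ({η} : Set T) ∈ irreducibleComponents T)
    (h : x ⤳ η) : x = η := by
  have h1 : closure ({η} : Set T) ⊆ closure ({x} : Set T) :=
    (specializes_iff_closure_subset.mp h)
  have h2 : IsIrreducible (closure ({x} : Set T)) := isIrreducible_singleton.closure
  have h3 : closure ({x} : Set T) ⊆ closure ({η} : Set T) := hη.2 h2 h1
  have h4 : η ⤳ x := specializes_iff_closure_subset.mpr h3
  exact (h.antisymm h4).eq

/-- Scheme version: a generic point of an irreducible component, lying in an affine open `V`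
but not in a compact open `U'`, has an affine open neighbourhood inside `V` disjoint from `U'`. -/
theorem exists_affine_nhd_disjoint {X : Scheme.{u}} {V : X.Opens} (hV : IsAffineOpen V)
    (η : X) (hηV : η ∈ V) (hη : closure ({η} : Set X) ∈ irreducibleComponents (X : Type u))
    (U' : X.Opens) (hc : IsCompact ((U' ⊓ V : X.Opens) : Set X)) (hηU : η ∉ U') :
    ∃ W : X.Opens, IsAffineOpen W ∧ W ≤ V ∧ η ∈ W ∧ Disjoint W U' := by
  let p := hV.primeIdealOf ⟨η, hηV⟩
  have hpη : hV.fromSpec p = η := hV.fromSpec_primeIdealOf ⟨η, hηV⟩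
  have hp : p.asIdeal ∈ minimalPrimes Γ(X, V) := by
    rw [← PrimeSpectrum.stableUnderGeneralization_singleton]
    intro a b hba ha
    rw [Set.mem_singleton_iff] at ha ⊢
    have ha' : a = p := ha
    rw [ha'] at hba
    have h1 : hV.fromSpec b ⤳ hV.fromSpec p := hba.map hV.fromSpec.continuous
    rw [hpη] at h1
    have h2 := eq_of_specializes_of_mem_irreducibleComponents hη h1
    rw [← hpη] at h2
    exact hV.fromSpec.isOpenEmbedding.injective h2
  let U'' : Set (PrimeSpectrum Γ(X, V)) := hV.fromSpec ⁻¹' (U' : Set X)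
  have hU''eq : U'' = hV.fromSpec ⁻¹' ((U' ⊓ V : X.Opens) : Set X) := by
    ext q
    constructor
    · intro hq
      refine ⟨hq, ?_⟩
      have : hV.fromSpec q ∈ Set.range hV.fromSpec := ⟨q, rfl⟩
      rw [hV.range_fromSpec] at this
      exact this
    · intro hq
      exact hq.1
  have hc'' : IsCompact U'' := by
    rw [hU''eq]
    refine (hV.fromSpec.isOpenEmbedding.isInducing.isCompact_preimage_iff ?_).mpr hc
    rw [hV.range_fromSpec]
    exact fun y hy => hy.2
  have ho'' : IsOpen U'' := U'.isOpen.preimage hV.fromSpec.continuous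
  have hpU : p ∉ U'' := by
    intro h
    apply hηU
    rw [← hpη]
    exact h
  obtain ⟨s, hs1, hs2⟩ := exists_basicOpen_disjoint p hp U'' hc'' ho'' hpU
  refine ⟨X.basicOpen s, hV.basicOpen s, X.basicOpen_le s, ?_, ?_⟩
  · rw [← hpη]
    have : p ∈ hV.fromSpec ⁻¹ᵁ X.basicOpen s := by
      rw [hV.fromSpec_preimage_basicOpen]
      exact hs1
    exact this
  · rw [← hV.fromSpec_image_basicOpen]
    rw [disjoint_iff_inf_le]
    rintro _ ⟨⟨q, hq, rfl⟩, hq'⟩
    exact (Set.disjoint_left.mp hs2 hq hq').elim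

/-- In a quasi-separated scheme, a generic point of an irreducible component outside an affine open
`U` has an affine open neighbourhood `W` disjoint from `U`; then `U ⊔ W` is affine. -/
theorem exists_affine_sup {X : Scheme.{u}} [QuasiSeparatedSpace X] {U : X.Opens}
    (hU : IsAffineOpen U) (η : X)
    (hη : closure ({η} : Set X) ∈ irreducibleComponents (X : Type u)) (hηU : η ∉ U) :
    ∃ W : X.Opens, IsAffineOpen W ∧ η ∈ W ∧ Disjoint W U ∧ IsAffineOpen (U ⊔ W) := by
  obtain ⟨_, ⟨V, hV, rfl⟩, hηV, -⟩ :=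
    X.isBasis_affineOpens.exists_subset_of_mem_open (Set.mem_univ η) isOpen_univ
  have hV : IsAffineOpen V := hV
  have hc : IsCompact ((U ⊓ V : X.Opens) : Set X) :=
    QuasiSeparatedSpace.inter_isCompact (U : Set X) (V : Set X) U.isOpen hU.isCompact V.isOpen
      hV.isCompact
  obtain ⟨W, hW, -, hηW, hd⟩ := exists_affine_nhd_disjoint hV η hηV hη U hc hηU
  exact ⟨W, hW, hηW, hd,
    Groth.Agent.Helper2.DimZero.isAffineOpen_sup_of_disjoint hU hW hd.symm⟩

/-- In a quasi-separated scheme, a point and finitely many generic points of irreducible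
components lie in a common affine open. -/
theorem exists_affine_of_finset {X : Scheme.{u}} [QuasiSeparatedSpace X] (x : X) (T : Finset X)
    (hT : ∀ η ∈ T, closure ({η} : Set X) ∈ irreducibleComponents (X : Type u)) :
    ∃ U : X.Opens, IsAffineOpen U ∧ x ∈ U ∧ ∀ η ∈ T, η ∈ U := by
  classical
  induction T using Finset.induction_on with
  | empty =>
    obtain ⟨_, ⟨V, hV, rfl⟩, hxV, -⟩ :=
      X.isBasis_affineOpens.exists_subset_of_mem_open (Set.mem_univ x) isOpen_univ
    exact ⟨V, hV, hxV, by simp⟩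
  | insert η T _ ih =>
    obtain ⟨U, hU, hxU, hTU⟩ := ih (fun η' h => hT η' (Finset.mem_insert_of_mem h))
    by_cases hηU : η ∈ U
    · refine ⟨U, hU, hxU, ?_⟩
      intro η' h
      rcases Finset.mem_insert.mp h with rfl | h
      · exact hηU
      · exact hTU η' h
    · obtain ⟨W, hW, hηW, -, hUW⟩ := exists_affine_sup hU η (hT η (Finset.mem_insert_self _ _)) hηU
      refine ⟨U ⊔ W, hUW, Or.inl hxU, ?_⟩
      intro η' h
      rcases Finset.mem_insert.mp h with rfl | h
      · exact Or.inr hηW
      · exact Or.inl (hTU η' h)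

/-- Distinct minimal primes have pairwise disjoint basic open neighbourhoods. -/
theorem exists_pairwise_disjoint_basicOpen {A : Type u} [CommRing A] {ι : Type*} [Fintype ι]
    [DecidableEq ι] (p : ι → PrimeSpectrum A)
    (hp : ∀ i, (p i).asIdeal ∈ minimalPrimes A) (hinj : Function.Injective p) :
    ∃ f : ι → A, (∀ i, p i ∈ PrimeSpectrum.basicOpen (f i)) ∧
      ∀ i j, i ≠ j → Disjoint (PrimeSpectrum.basicOpen (f i) : Set (PrimeSpectrum A))
        (PrimeSpectrum.basicOpen (f j)) := by
  classical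
  have key : ∀ i j, ∃ a s : A, i ≠ j → (p i ∈ PrimeSpectrum.basicOpen a ∧
      p j ∈ PrimeSpectrum.basicOpen s ∧
      Disjoint (PrimeSpectrum.basicOpen s : Set (PrimeSpectrum A)) (PrimeSpectrum.basicOpen a)) := by
    intro i j
    by_cases hij : i = j
    · exact ⟨0, 0, fun h => (h hij).elim⟩
    have hnle : ¬ (p j).asIdeal ≤ (p i).asIdeal := by
      intro hle
      have h1 : (p i).asIdeal ≤ (p j).asIdeal := (hp i).2 ⟨(p j).isPrime, bot_le⟩ hle
      exact hij (hinj (PrimeSpectrum.ext (le_antisymm h1 hle)))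
    obtain ⟨a, haj, hai⟩ := Set.not_subset.mp hnle
    obtain ⟨s, hs1, hs2⟩ := exists_basicOpen_disjoint (p j) (hp j)
      (PrimeSpectrum.basicOpen a : Set (PrimeSpectrum A)) (PrimeSpectrum.isCompact_basicOpen a)
      (PrimeSpectrum.basicOpen a).isOpen (fun h => h haj)
    exact ⟨a, s, fun _ => ⟨hai, hs1, hs2⟩⟩
  choose a s h using key
  refine ⟨fun i => ∏ j ∈ Finset.univ.erase i, (a i j * s j i), ?_, ?_⟩
  · intro i
    change (∏ j ∈ Finset.univ.erase i, (a i j * s j i)) ∉ (p i).asIdeal
    rw [Ideal.IsPrime.prod_mem_iff]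
    rintro ⟨j, hj, hmem⟩
    have hji : j ≠ i := (Finset.mem_erase.mp hj).1
    rcases (p i).isPrime.mem_or_mem hmem with h1 | h1
    · exact (h i j hji.symm).1 h1
    · exact (h j i hji).2.1 h1
  · intro i j hij
    rw [Set.disjoint_left]
    intro q hqi hqj
    have h1 : a i j ∉ q.asIdeal := by
      intro hmem
      apply hqi
      change (∏ j ∈ Finset.univ.erase i, (a i j * s j i)) ∈ q.asIdeal
      exact Ideal.IsPrime.prod_mem_iff.mpr
        ⟨j, Finset.mem_erase.mpr ⟨hij.symm, Finset.mem_univ _⟩, Ideal.mul_mem_right _ _ hmem⟩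
    have h2 : s i j ∉ q.asIdeal := by
      intro hmem
      apply hqj
      change (∏ k ∈ Finset.univ.erase j, (a j k * s k j)) ∈ q.asIdeal
      exact Ideal.IsPrime.prod_mem_iff.mpr
        ⟨i, Finset.mem_erase.mpr ⟨hij, Finset.mem_univ _⟩, Ideal.mul_mem_left _ _ hmem⟩
    exact Set.disjoint_left.mp (h i j hij).2.2 h2 h1

/-- A finite pairwise disjoint union of affine opens is affine. -/
theorem isAffineOpen_biSup_of_pairwise_disjoint {X : Scheme.{u}} {ι : Type*} (s : Finset ι)
    (U : ι → X.Opens) (hU : ∀ i ∈ s, IsAffineOpen (U i))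
    (hd : ∀ i ∈ s, ∀ j ∈ s, i ≠ j → Disjoint (U i) (U j)) : IsAffineOpen (⨆ i ∈ s, U i) := by
  classical
  induction s using Finset.induction_on with
  | empty =>
    simp only [Finset.notMem_empty, iSup_false, iSup_bot]
    exact isAffineOpen_bot X
  | insert a s has ih =>
    rw [Finset.iSup_insert]
    apply Groth.Agent.Helper2.DimZero.isAffineOpen_sup_of_disjoint
      (hU a (Finset.mem_insert_self _ _))
      (ih (fun i hi => hU i (Finset.mem_insert_of_mem hi))
        (fun i hi j hj hij => hd i (Finset.mem_insert_of_mem hi) j (Finset.mem_insert_of_mem hj) hij))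
    simp only [disjoint_iSup_iff]
    intro i hi
    exact hd a (Finset.mem_insert_self _ _) i (Finset.mem_insert_of_mem hi)
      (fun h => has (h ▸ hi))

end Groth.Agent.Helper2.GenericPts
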