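import Mathlib

/-!
# Generic freeness: the intrinsic notion `GFree`

For a domain `R`, an element `f : R` and an `R`-module `M`, `GFree f M` says that there is a
map from a free module `F = ι →₀ R` to `M` which becomes an isomorphism after inverting `f`
(stated intrinsically, without localizations).  In particular `M[1/f]` is free over `R[1/f]`.
-/

set_option autoImplicit false
universe u

namespace Groth.Agent.Helper2.GenericFree

variable {R : Type u} [CommRing R]

/-- `M[1/f]` is a free `R[1/f]`-module, witnessed by a map from a free module which is an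
isomorphism away from `f`. -/
def GFree (f : R) (M : Type u) [AddCommGroup M] [Module R M] : Prop :=
  ∃ (ι : Type u) (φ : (ι →₀ R) →ₗ[R] M),
    (∀ (y : ι →₀ R) (k : ℕ), f ^ k • φ y = 0 → y = 0) ∧
    (∀ m : M, ∃ k : ℕ, f ^ k • m ∈ LinearMap.range φ)

section basic
variable {M : Type u} [AddCommGroup M] [Module R M]

/-- constructor from an abstract free module -/
theorem GFree.of_free {f : R} (F : Type u) [AddCommGroup F] [Module R F] [Module.Free R F]
    (φ : F →ₗ[R] M) (hinj : ∀ (y : F) (k : ℕ), f ^ k • φ y = 0 → y = 0)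
    (hsurj : ∀ m : M, ∃ k : ℕ, f ^ k • m ∈ LinearMap.range φ) : GFree f M := by
  let b := Module.Free.chooseBasis R F
  refine ⟨Module.Free.ChooseBasisIndex R F, φ ∘ₗ b.repr.symm.toLinearMap, ?_, ?_⟩
  · intro y k hy
    have := hinj (b.repr.symm y) k hy
    exact b.repr.symm.map_eq_zero_iff.mp this
  · intro m
    obtain ⟨k, y, hy⟩ := hsurj m
    exact ⟨k, b.repr y, by simpa using hy⟩

theorem GFree.of_equiv {f : R} {M' : Type u} [AddCommGroup M'] [Module R M'] (e : M ≃ₗ[R] M')
    (h : GFree f M) : GFree f M' := by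
  obtain ⟨ι, φ, hinj, hsurj⟩ := h
  refine ⟨ι, e.toLinearMap ∘ₗ φ, ?_, ?_⟩
  · intro y k hy
    apply hinj y k
    apply e.injective
    rw [map_smul, map_zero]
    exact hy
  · intro m
    obtain ⟨k, y, hy⟩ := hsurj (e.symm m)
    refine ⟨k, y, ?_⟩
    rw [LinearMap.comp_apply, hy, map_smul]
    simp

theorem GFree.of_subsingleton (f : R) [Subsingleton M] : GFree f M := by
  refine ⟨PEmpty, 0, ?_, ?_⟩
  · intro y _ _
    exact Subsingleton.elim _ _
  · intro m
    exact ⟨0, 0, Subsingleton.elim _ _⟩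

variable [IsDomain R]

/-- enlarging the denominator -/
theorem GFree.mul {f : R} (h : GFree f M) {g : R} (hg : g ≠ 0) : GFree (f * g) M := by
  obtain ⟨ι, φ, hinj, hsurj⟩ := h
  refine ⟨ι, φ, ?_, ?_⟩
  · intro y k hy
    rw [mul_pow, mul_smul, ← map_smul] at hy
    have := hinj _ k hy
    exact (smul_eq_zero.mp this).resolve_left (pow_ne_zero k hg)
  · intro m
    obtain ⟨k, y, hy⟩ := hsurj m
    refine ⟨k, g ^ k • y, ?_⟩
    rw [map_smul, hy, mul_pow, mul_comm, mul_smul]

theorem GFree.mul' {f : R} (h : GFree f M) {g : R} (hg : g ≠ 0) : GFree (g * f) M := by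
  rw [mul_comm]; exact h.mul hg

/-- a common denominator for finitely many modules -/
theorem exists_common {n : ℕ} (Q : Fin n → Type u) [∀ i, AddCommGroup (Q i)] [∀ i, Module R (Q i)]
    (h : ∀ i, ∃ f : R, f ≠ 0 ∧ GFree f (Q i)) : ∃ f : R, f ≠ 0 ∧ ∀ i, GFree f (Q i) := by
  classical
  choose f hf0 hf using h
  refine ⟨∏ i, f i, Finset.prod_ne_zero_iff.mpr fun i _ => hf0 i, fun i => ?_⟩
  rw [← Finset.mul_prod_erase Finset.univ f (Finset.mem_univ i)]
  exact (hf i).mul (Finset.prod_ne_zero_iff.mpr fun j _ => hf0 j)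

/-- quotient by a torsion submodule preserves `GFree` -/
theorem GFree.of_surjective_torsion_ker {f : R} {M' : Type u} [AddCommGroup M'] [Module R M']
    (h : GFree f M) (π : M →ₗ[R] M') (hπ : Function.Surjective π)
    (htors : ∀ x : M, π x = 0 → ∃ r : R, r ≠ 0 ∧ r • x = 0) : GFree f M' := by
  obtain ⟨ι, φ, hinj, hsurj⟩ := h
  refine ⟨ι, π ∘ₗ φ, ?_, ?_⟩
  · intro y k hy
    rw [LinearMap.comp_apply, ← map_smul] at hy
    obtain ⟨r, hr, hr0⟩ := htors _ hy
    rw [smul_comm, ← map_smul] at hr0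
    have := hinj _ k hr0
    exact (smul_eq_zero.mp this).resolve_left hr
  · intro m'
    obtain ⟨m, rfl⟩ := hπ m'
    obtain ⟨k, y, hy⟩ := hsurj m
    exact ⟨k, y, by rw [LinearMap.comp_apply, hy, map_smul]⟩

/-- torsion elements of a `GFree` module are killed by a power of `f` -/
theorem GFree.pow_smul_eq_zero_of_torsion {f : R} (h : GFree f M) (x : M) (r : R) (hr : r ≠ 0)
    (hx : r • x = 0) : ∃ k : ℕ, f ^ k • x = 0 := by
  obtain ⟨ι, φ, hinj, hsurj⟩ := h
  obtain ⟨k, y, hy⟩ := hsurj x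
  refine ⟨k, ?_⟩
  have h1 : f ^ 0 • φ (r • y) = 0 := by
    rw [pow_zero, one_smul, map_smul, hy, smul_comm, hx, smul_zero]
  have h2 := hinj _ 0 h1
  have h3 : y = 0 := (smul_eq_zero.mp h2).resolve_left hr
  rw [← hy, h3, map_zero]

end basic

end Groth.Agent.Helper2.GenericFree
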