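import Mathlib
import Groth.Agent.Lib.Helper2.GenericFree

/-!
# Generic freeness: filtrations

A module with an exhaustive `ℕ`-filtration whose graded pieces are `GFree f` is `GFree f`.
-/

set_option autoImplicit false
universe u

namespace Groth.Agent.Helper2.GenericFree

open DirectSum

variable {R : Type u} [CommRing R] {M : Type u} [AddCommGroup M] [Module R M]

section core
variable (f : R) (N : ℕ → Submodule R M) (hN0 : N 0 = ⊥) (hmono : Monotone N)
  (ι : ℕ → Type u) (Φ : ∀ i, (ι i →₀ R) →ₗ[R] M)
  (ha : ∀ i y, Φ i y ∈ N (i + 1))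
  (hb : ∀ i y (k : ℕ), f ^ k • Φ i y ∈ N i → y = 0)

include hN0 hmono ha hb in
theorem fil_key (n : ℕ) : ∀ z : ⨁ i, (ι i →₀ R), (∀ i, n ≤ i → z i = 0) →
    DirectSum.toModule R ℕ M Φ z ∈ N n ∧
      (∀ k : ℕ, f ^ k • DirectSum.toModule R ℕ M Φ z = 0 → z = 0) := by
  classical
  induction n with
  | zero =>
    intro z hz
    have : z = 0 := by
      ext i : 1
      exact hz i (Nat.zero_le i)
    subst this
    exact ⟨by rw [map_zero]; exact Submodule.zero_mem _, fun _ _ => rfl⟩
  | succ n ih =>
    intro z hz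
    set z' : ⨁ i, (ι i →₀ R) := DFinsupp.erase n z with hz'
    have hdec : z = z' + DirectSum.lof R ℕ (fun i => ι i →₀ R) n (z n) := by
      rw [hz']
      exact (DFinsupp.erase_add_single n z).symm
    have hz'supp : ∀ i, n ≤ i → z' i = 0 := by
      intro i hi
      rw [hz', DFinsupp.erase_apply]
      split_ifs with h
      · rfl
      · exact hz i (by omega)
    obtain ⟨h1, h2⟩ := ih z' hz'supp
    have hΦ : DirectSum.toModule R ℕ M Φ z =
        DirectSum.toModule R ℕ M Φ z' + Φ n (z n) := by
      conv_lhs => rw [hdec]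
      rw [map_add, DirectSum.toModule_lof]
    constructor
    · rw [hΦ]
      exact Submodule.add_mem _ (hmono (Nat.le_succ n) h1) (ha n _)
    · intro k hk
      rw [hΦ, smul_add] at hk
      have h3 : f ^ k • Φ n (z n) ∈ N n := by
        have : f ^ k • Φ n (z n) = - (f ^ k • DirectSum.toModule R ℕ M Φ z') := by
          rw [eq_neg_iff_add_eq_zero, add_comm]; exact hk
        rw [this]
        exact Submodule.neg_mem _ (Submodule.smul_mem _ _ h1)
      have h4 : z n = 0 := hb n _ k h3
      have h5 : z = z' := by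
        rw [hdec, h4, map_zero, add_zero]
      rw [h5]
      apply h2 k
      rw [h4, map_zero, smul_zero, add_zero] at hk
      exact hk

include hN0 hmono ha hb in
theorem fil_core (hexh : ∀ m : M, ∃ i, m ∈ N i)
    (hc : ∀ i, ∀ m ∈ N (i + 1), ∃ (k : ℕ) (y : ι i →₀ R), f ^ k • m - Φ i y ∈ N i) :
    GFree f M := by
  classical
  refine GFree.of_free (⨁ i, (ι i →₀ R)) (DirectSum.toModule R ℕ M Φ) ?_ ?_
  · intro z k hk
    -- z has bounded support
    obtain ⟨n, hn⟩ : ∃ n, ∀ i, n ≤ i → z i = 0 := by
      refine ⟨(DFinsupp.support z).sup id + 1, fun i hi => ?_⟩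
      by_contra hne
      have : i ∈ DFinsupp.support z := DFinsupp.mem_support_iff.mpr hne
      have := Finset.le_sup (f := id) this
      simp only [id] at this
      omega
    exact (fil_key f N hN0 hmono ι Φ ha hb n z hn).2 k hk
  · intro m
    obtain ⟨i, hi⟩ := hexh m
    induction i generalizing m with
    | zero =>
      rw [hN0, Submodule.mem_bot] at hi
      exact ⟨0, 0, by rw [hi, map_zero, smul_zero]⟩
    | succ i ih =>
      obtain ⟨k, y, hy⟩ := hc i m hi
      obtain ⟨k', w, hw⟩ := ih _ hy
      refine ⟨k' + k, w + DirectSum.lof R ℕ (fun i => ι i →₀ R) i (f ^ k' • y), ?_⟩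
      rw [map_add, hw, DirectSum.toModule_lof, map_smul, smul_sub, pow_add, mul_smul]
      abel

end core

/-- **Filtration lemma.** If `M` has an exhaustive increasing filtration `N i` with `N 0` and all
`N (i+1) / N i` being `GFree f`, then `M` is `GFree f`. -/
theorem GFree.of_filtration (f : R) (N : ℕ → Submodule R M) (hmono : Monotone N)
    (hexh : ∀ m : M, ∃ i, m ∈ N i) (h0 : GFree f (N 0))
    (hsucc : ∀ i, GFree f (↥(N (i + 1)) ⧸ (N i).comap (N (i + 1)).subtype)) : GFree f M := by
  classical
  obtain ⟨ι₀, φ₀, hinj₀, hsurj₀⟩ := h0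
  choose ι' ψ hinj hsurj using hsucc
  -- lifts of `ψ i` to `N (i+1)`
  have hlift : ∀ i, ∃ φ : (ι' i →₀ R) →ₗ[R] ↥(N (i + 1)),
      ((N i).comap (N (i + 1)).subtype).mkQ ∘ₗ φ = ψ i := by
    intro i
    choose g hg using fun j : ι' i =>
      Submodule.mkQ_surjective ((N i).comap (N (i + 1)).subtype) (ψ i (Finsupp.single j 1))
    refine ⟨Finsupp.linearCombination R g, ?_⟩
    ext j
    simp only [LinearMap.comp_apply, Finsupp.lsingle_apply, Finsupp.linearCombination_single,
      one_smul, hg]
  choose φ hφ using hlift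
  -- shifted filtration
  let N' : ℕ → Submodule R M := fun i => match i with
    | 0 => ⊥
    | j + 1 => N j
  have hN'0 : N' 0 = ⊥ := rfl
  have hN'succ : ∀ i, N' (i + 1) = N i := fun i => rfl
  have hmono' : Monotone N' := by
    apply monotone_nat_of_le_succ
    intro i
    cases i with
    | zero => exact bot_le
    | succ j => exact hmono (Nat.le_succ j)
  let ιt : ℕ → Type u := fun i => match i with
    | 0 => ι₀
    | j + 1 => ι' j
  let Φ : ∀ i, (ιt i →₀ R) →ₗ[R] M := fun i => match i with
    | 0 => (N 0).subtype ∘ₗ φ₀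
    | j + 1 => (N (j + 1)).subtype ∘ₗ φ j
  refine fil_core f N' hN'0 hmono' ιt Φ ?_ ?_ ?_ ?_
  · intro i y
    cases i with
    | zero => exact (φ₀ y).2
    | succ j => exact (φ j y).2
  · intro i y k hy
    cases i with
    | zero =>
      apply hinj₀ y k
      apply Subtype.ext
      have : f ^ k • ((N 0).subtype (φ₀ y)) ∈ (⊥ : Submodule R M) := hy
      rw [Submodule.mem_bot] at this
      simpa using this
    | succ j =>
      apply hinj j y k
      rw [← hφ j, LinearMap.comp_apply, ← map_smul, Submodule.mkQ_apply,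
        Submodule.Quotient.mk_eq_zero, Submodule.mem_comap]
      exact hy
  · intro m
    obtain ⟨i, hi⟩ := hexh m
    exact ⟨i + 1, hi⟩
  · intro i m hm
    cases i with
    | zero =>
      obtain ⟨k, y, hy⟩ := hsurj₀ ⟨m, hm⟩
      refine ⟨k, y, ?_⟩
      have h1 : ((N 0).subtype (φ₀ y)) = f ^ k • m := by
        rw [hy]; rfl
      change f ^ k • m - (N 0).subtype (φ₀ y) ∈ (⊥ : Submodule R M)
      rw [h1, sub_self]
      exact Submodule.zero_mem _
    | succ j =>
      have hm' : m ∈ N (j + 1) := hm
      obtain ⟨k, y, hy⟩ := hsurj j (((N j).comap (N (j + 1)).subtype).mkQ ⟨m, hm'⟩)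
      refine ⟨k, y, ?_⟩
      rw [← hφ j, LinearMap.comp_apply, ← map_smul, ← sub_eq_zero, ← map_sub,
        Submodule.mkQ_apply, Submodule.Quotient.mk_eq_zero, Submodule.mem_comap] at hy
      have h2 : f ^ k • m - (N (j + 1)).subtype (φ j y) ∈ N j := by
        have := Submodule.neg_mem _ hy
        simpa using this
      exact h2

end Groth.Agent.Helper2.GenericFree
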