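import Mathlib
import Groth.Agent.Lib.Helper2.GenericFree

/-!
# Generic freeness: the base case and passage to localizations

* `exists_gfree_of_finite`: a finite module over a domain is `GFree f` for some `f ≠ 0`.
* `GFree.free_localizedModule`: `GFree f M` implies that `M[1/f]` is free over `R[1/f]`.
-/

set_option autoImplicit false
universe u

namespace Groth.Agent.Helper2.GenericFree

/-- an isogeny from a free module to a finite module with free generic fibre -/
theorem exists_isogeny {A : Type u} [CommRing A] 
    (M : Type u) [AddCommGroup M] [Module A M] [Module.Finite A M] (n : ℕ)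
    (e : LocalizedModule (nonZeroDivisors A) M ≃ₗ[Localization (nonZeroDivisors A)]
      (Fin n → Localization (nonZeroDivisors A))) :
    ∃ f : (Fin n → A) →ₗ[A] M, Function.Injective f ∧
      ∀ y : M ⧸ LinearMap.range f, ∃ r ∈ nonZeroDivisors A, r • y = 0 := by
  classical
  set S := nonZeroDivisors A with hS
  set K := Localization S with hK
  let mk : M →ₗ[A] LocalizedModule S M := LocalizedModule.mkLinearMap S M
  let v : Fin n → LocalizedModule S M := fun i => e.symm (Pi.single i 1)
  obtain ⟨s, hs⟩ := IsLocalizedModule.exist_integer_multiples_of_finite S mk v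
  choose m hm using hs
  -- `mk (m i) = s • v i`
  let f : (Fin n → A) →ₗ[A] M := Fintype.linearCombination A m
  have hf : ∀ a : Fin n → A, mk (f a) = ∑ i, a i • (s : A) • v i := by
    intro a
    simp only [f, Fintype.linearCombination_apply, map_sum, map_smul, hm]
  have hinjK : Function.Injective (algebraMap A K) := IsLocalization.injective K (le_refl S)
  have he : ∀ a : Fin n → A, e (mk (f a)) = fun j => algebraMap A K (a j * (s : A)) := by
    intro a
    rw [hf, map_sum]
    funext j
    rw [Finset.sum_apply]
    have : ∀ i, (e (a i • (s : A) • v i)) j = if i = j then algebraMap A K (a i * (s : A)) else 0 := by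
      intro i
      have h1 : a i • (s : A) • v i = (algebraMap A K (a i * (s : A))) • v i := by
        rw [algebraMap_smul, mul_smul]
      rw [h1, map_smul]
      simp only [v, LinearEquiv.apply_symm_apply, Pi.smul_apply, Pi.single_apply, smul_eq_mul]
      split_ifs with h1 h2 h2
      · rw [mul_one]
      · exact absurd h1.symm h2
      · exact absurd h2.symm h1
      · rw [mul_zero]
    simp only [this, Finset.sum_ite_eq', Finset.mem_univ, if_true]
  refine ⟨f, ?_, ?_⟩
  · rw [injective_iff_map_eq_zero]
    intro a ha
    have h1 := he a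
    rw [ha, map_zero, map_zero] at h1
    funext j
    have h2 := (congrFun h1 j).symm
    rw [Pi.zero_apply, ← map_zero (algebraMap A K)] at h2
    have h3 := hinjK h2
    exact (mul_right_mem_nonZeroDivisors_eq_zero_iff s.2).mp h3
  · intro y
    obtain ⟨x, rfl⟩ := Submodule.mkQ_surjective _ y
    -- clear denominators of `e (mk x)`
    obtain ⟨b, hb⟩ := IsLocalization.exist_integer_multiples S (Finset.univ : Finset (Fin n))
      (e (mk x))
    choose a ha using fun i => hb i (Finset.mem_univ i)
    -- e (mk (f a)) = s • b • e (mk x)
    have h1 : e (mk (f a)) = e (mk (((s : A) * (b : A)) • x)) := by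
      rw [he a]
      funext j
      rw [map_smul, ← algebraMap_smul K ((s : A) * (b : A)) (mk x), map_smul, Pi.smul_apply,
        smul_eq_mul, map_mul, map_mul, ha j, Algebra.smul_def]
      ring
    have h2 : mk (f a) = mk (((s : A) * (b : A)) • x) := e.injective h1
    have h3 : mk (((s : A) * (b : A)) • x - f a) = 0 := by
      rw [map_sub, h2, sub_self]
    obtain ⟨u, hu⟩ := (IsLocalizedModule.eq_zero_iff S mk).mp h3
    refine ⟨(u : A) * ((s : A) * (b : A)), mul_mem u.2 (mul_mem s.2 b.2), ?_⟩
    rw [← map_smul, Submodule.mkQ_apply, Submodule.Quotient.mk_eq_zero]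
    refine ⟨(u : A) • a, ?_⟩
    rw [map_smul, mul_smul]
    have : (u : A) • (((s : A) * (b : A)) • x - f a) = 0 := hu
    rw [smul_sub, sub_eq_zero] at this
    exact this.symm


variable {R : Type u} [CommRing R]

/-- **Base case of generic freeness.** -/
theorem exists_gfree_of_finite [IsDomain R] (M : Type u) [AddCommGroup M] [Module R M]
    [Module.Finite R M] : ∃ f : R, f ≠ 0 ∧ GFree f M := by
  classical
  set S := nonZeroDivisors R with hS
  set K := Localization S with hK
  letI : Field K := inferInstanceAs (Field (FractionRing R))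
  haveI : Module.Finite K (LocalizedModule S M) :=
    Module.Finite.of_isLocalizedModule S (LocalizedModule.mkLinearMap S M)
  let n := Module.finrank K (LocalizedModule S M)
  let e : LocalizedModule S M ≃ₗ[K] (Fin n → K) :=
    (Module.finBasis K (LocalizedModule S M)).equivFun
  obtain ⟨φ, hφinj, hφtors⟩ := exists_isogeny M n e
  obtain ⟨s, hs⟩ := (inferInstance : Module.Finite R M).fg_top
  choose c hc0 hc using hφtors
  set f : R := ∏ x ∈ s, c (Submodule.Quotient.mk x) with hf
  have hf0 : f ≠ 0 := Finset.prod_ne_zero_iff.mpr fun x _ => nonZeroDivisors.ne_zero (hc0 _)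
  refine ⟨f, hf0, GFree.of_free (Fin n → R) φ ?_ ?_⟩
  · intro y k hy
    rw [← map_smul] at hy
    have := hφinj (hy.trans (map_zero φ).symm)
    exact (smul_eq_zero.mp this).resolve_left (pow_ne_zero k hf0)
  · intro m
    refine ⟨1, ?_⟩
    rw [pow_one]
    have hm : m ∈ Submodule.span R (s : Set M) := hs ▸ Submodule.mem_top
    refine Submodule.span_induction (p := fun m _ => f • m ∈ LinearMap.range φ) ?_ ?_ ?_ ?_ hm
    · intro x hx
      obtain ⟨d, hd⟩ := Finset.dvd_prod_of_mem (fun x => c (Submodule.Quotient.mk x)) hx
      have h1 : c (Submodule.Quotient.mk x) • x ∈ LinearMap.range φ := by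
        have := hc (Submodule.Quotient.mk x)
        rw [← Submodule.Quotient.mk_smul, Submodule.Quotient.mk_eq_zero] at this
        exact this
      rw [hf, hd, mul_comm, mul_smul]
      exact Submodule.smul_mem _ _ h1
    · rw [smul_zero]; exact Submodule.zero_mem _
    · intro a b _ _ ha hb; rw [smul_add]; exact Submodule.add_mem _ ha hb
    · intro a x _ hx; rw [smul_comm]; exact Submodule.smul_mem _ _ hx

/-- `GFree f M` implies that `M[1/f]` is free over `R[1/f]`. -/
theorem GFree.free_localizedModule {f : R} {M : Type u} [AddCommGroup M] [Module R M]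
    (h : GFree f M) :
    Module.Free (Localization.Away f) (LocalizedModule.Away f M) := by
  obtain ⟨ι, φ, hinj, hsurj⟩ := h
  let ψ : LocalizedModule.Away f (ι →₀ R) →ₗ[Localization.Away f] LocalizedModule.Away f M :=
    LocalizedModule.map (Submonoid.powers f) φ
  have hψ : ∀ (y : ι →₀ R) (s : Submonoid.powers f),
      ψ (LocalizedModule.mk y s) = LocalizedModule.mk (φ y) s :=
    fun y s => LocalizedModule.map_mk (Submonoid.powers f) φ y s
  have hbij : Function.Bijective ψ := by
    constructor
    · rw [injective_iff_map_eq_zero]
      intro z hz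
      induction z using LocalizedModule.induction_on with
      | h y s =>
        rw [hψ, ← LocalizedModule.zero_mk s, LocalizedModule.mk_eq] at hz
        obtain ⟨⟨_, k, rfl⟩, hk⟩ := hz
        rw [smul_zero, smul_zero, Submonoid.smul_def, Submonoid.smul_def, ← mul_smul] at hk
        obtain ⟨_, l, rfl⟩ := s
        simp only at hk
        rw [← pow_add] at hk
        have : y = 0 := hinj y _ hk
        rw [this, LocalizedModule.zero_mk]
    · intro z
      induction z using LocalizedModule.induction_on with
      | h m s =>
        obtain ⟨k, y, hy⟩ := hsurj m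
        refine ⟨LocalizedModule.mk y (⟨f ^ k, k, rfl⟩ * s), ?_⟩
        rw [hψ, hy, LocalizedModule.mk_eq]
        refine ⟨1, ?_⟩
        simp only [one_smul, Submonoid.smul_def, Submonoid.coe_mul, mul_smul]
        rw [smul_comm]
  haveI : Module.Free (Localization.Away f) (LocalizedModule.Away f (ι →₀ R)) :=
    Module.Free.of_equiv (IsLocalizedModule.isBaseChange (Submonoid.powers f)
      (Localization.Away f) (LocalizedModule.mkLinearMap (Submonoid.powers f) (ι →₀ R))).equiv
  exact Module.Free.of_equiv (LinearEquiv.ofBijective ψ hbij)

end Groth.Agent.Helper2.GenericFree
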