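import Mathlib
import Groth.Agent.Lib.Helper2.GenericFreeBase

/-!
# Generic freeness: saturation-finiteness

For a finite type algebra `S` over a domain `R`, every submodule `N` of a finite `S`-module is
"finitely generated up to `R`-torsion".
-/

set_option autoImplicit false
universe u

namespace Groth.Agent.Helper2.GenericFree

open TensorProduct

section
variable {R S M : Type u} [CommRing R] [IsDomain R] [CommRing S] [Algebra R S]
  [Algebra.FiniteType R S] [AddCommGroup M] [Module S M] [Module.Finite S M]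

/-- the localization of `S` at the nonzero elements of `R` is noetherian. -/
theorem isNoetherianRing_localization_base :
    IsNoetherianRing (Localization (Algebra.algebraMapSubmonoid S (nonZeroDivisors R))) := by
  set K := FractionRing R
  letI : Algebra S (K ⊗[R] S) := Algebra.TensorProduct.rightAlgebra
  haveI : IsLocalization (Algebra.algebraMapSubmonoid S (nonZeroDivisors R)) (K ⊗[R] S) :=
    IsLocalization.tensorRight K (nonZeroDivisors R)
  haveI : IsNoetherianRing (K ⊗[R] S) := Algebra.FiniteType.isNoetherianRing K _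
  exact isNoetherianRing_of_ringEquiv (K ⊗[R] S)
    (IsLocalization.algEquiv (Algebra.algebraMapSubmonoid S (nonZeroDivisors R)) (K ⊗[R] S)
      (Localization (Algebra.algebraMapSubmonoid S (nonZeroDivisors R)))).toRingEquiv

/-- **Saturation finiteness.** -/
theorem sat_fg (N : Submodule S M) :
    ∃ t : Finset M, (↑t : Set M) ⊆ N ∧
      ∀ x ∈ N, ∃ r : R, r ≠ 0 ∧ (algebraMap R S r) • x ∈ Submodule.span S (t : Set M) := by
  classical
  set S₀ := Algebra.algebraMapSubmonoid S (nonZeroDivisors R) with hS₀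
  set L := Localization S₀ with hL
  haveI : IsNoetherianRing L := isNoetherianRing_localization_base
  let mk : M →ₗ[S] LocalizedModule S₀ M := LocalizedModule.mkLinearMap S₀ M
  haveI : Module.Finite L (LocalizedModule S₀ M) := Module.Finite.of_isLocalizedModule S₀ mk
  haveI : IsNoetherian L (LocalizedModule S₀ M) := isNoetherian_of_isNoetherianRing_of_finite _ _
  -- the set of localizations of f.g. submodules of `N`
  let 𝒮 : Set (Submodule L (LocalizedModule S₀ M)) :=
    {Q | ∃ N' : Submodule S M, N' ≤ N ∧ N'.FG ∧ Q = N'.localized S₀}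
  have hne : 𝒮.Nonempty := ⟨_, ⊥, bot_le, Submodule.fg_bot, rfl⟩
  obtain ⟨Q, ⟨N', hN'N, hN'fg, rfl⟩, hmax⟩ :=
    (set_has_maximal_iff_noetherian (R := L) (M := LocalizedModule S₀ M)).mpr inferInstance 𝒮 hne
  obtain ⟨t, ht⟩ := hN'fg
  refine ⟨t, ?_, ?_⟩
  · intro x hx
    exact hN'N (ht ▸ Submodule.subset_span hx)
  · intro x hx
    rw [ht]
    -- enlarge `N'` by `x`
    set N'' := N' ⊔ Submodule.span S {x} with hN''
    have h1 : N'' ≤ N := sup_le hN'N ((Submodule.span_singleton_le_iff_mem x N).mpr hx)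
    have h2 : N''.FG := Submodule.FG.sup ⟨t, ht⟩ (Submodule.fg_span_singleton x)
    have hmono : N'.localized S₀ ≤ N''.localized S₀ :=
      (Submodule.localized'gi L S₀ mk).gc.monotone_l le_sup_left
    have h3 : ¬ (N'.localized S₀ < N''.localized S₀) := hmax _ ⟨N'', h1, h2, rfl⟩
    have h4 : N''.localized S₀ ≤ N'.localized S₀ := by
      by_contra hcon
      exact h3 (lt_of_le_not_ge hmono hcon)
    have h5 : mk x ∈ N'.localized S₀ := by
      apply h4
      refine ⟨x, ?_, 1, ?_⟩
      · exact (le_sup_right : Submodule.span S {x} ≤ N'') (Submodule.mem_span_singleton_self x)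
      · exact IsLocalizedModule.mk'_one S₀ mk x
    obtain ⟨m, hm, s, hms⟩ := h5
    rw [IsLocalizedModule.mk'_eq_iff] at hms
    -- `mk m = s • mk x`
    have h6 : mk (m - (s : S) • x) = 0 := by
      rw [map_sub, hms, map_smul, Submonoid.smul_def, sub_self]
    obtain ⟨u, hu⟩ := (IsLocalizedModule.eq_zero_iff S₀ mk).mp h6
    obtain ⟨_, ⟨a, ha, rfl⟩⟩ := s
    obtain ⟨_, ⟨b, hb, rfl⟩⟩ := u
    refine ⟨b * a, mul_ne_zero (nonZeroDivisors.ne_zero hb) (nonZeroDivisors.ne_zero ha), ?_⟩
    have h7 : algebraMap R S b • (m - algebraMap R S a • x) = 0 := hu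
    rw [smul_sub, sub_eq_zero] at h7
    rw [map_mul, mul_smul, ← h7]
    exact Submodule.smul_mem _ _ hm

/-- ACC up to `R`-torsion. -/
theorem satACC (N : ℕ →o Submodule S M) :
    ∃ i₀ : ℕ, ∀ i, i₀ ≤ i → ∀ x ∈ N i, ∃ r : R, r ≠ 0 ∧ (algebraMap R S r) • x ∈ N i₀ := by
  classical
  obtain ⟨t, htN, ht⟩ := sat_fg (R := R) (⨆ i, N i)
  -- `t` lies in some `N i₀`
  have h1 : ∀ y ∈ t, ∃ i, y ∈ N i := by
    intro y hy
    have := htN hy
    rwa [SetLike.mem_coe, Submodule.mem_iSup_of_directed _ N.monotone.directed_le] at this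
  choose! idx hidx using h1
  refine ⟨t.sup idx, fun i _ x hx => ?_⟩
  obtain ⟨r, hr, hrx⟩ := ht x (Submodule.mem_iSup_of_mem i hx)
  refine ⟨r, hr, ?_⟩
  refine (Submodule.span_le.mpr ?_) hrx
  intro y hy
  exact N.monotone (Finset.le_sup hy) (hidx y hy)

end

end Groth.Agent.Helper2.GenericFree
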