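import Mathlib
import Groth.Agent.Lib.Helper2.GenericFreeFil
import Groth.Agent.Lib.Helper2.GenericFreeSat

/-!
# Generic freeness: the inductive step
-/

set_option autoImplicit false
universe u

namespace Groth.Agent.Helper2.GenericFree

section fil'
variable {R : Type u} [CommRing R] {M : Type u} [AddCommGroup M] [Module R M]

/-- A more flexible form of the filtration lemma. -/
theorem GFree.of_filtration' (f : R) (N : ℕ → Submodule R M) (hmono : Monotone N)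
    (hexh : ∀ m : M, ∃ i, m ∈ N i) (h0 : GFree f (N 0))
    (Q : ℕ → Type u) [∀ i, AddCommGroup (Q i)] [∀ i, Module R (Q i)]
    (σ : ∀ i, ↥(N (i + 1)) →ₗ[R] Q i) (hσ : ∀ i, Function.Surjective (σ i))
    (hker : ∀ i (x : ↥(N (i + 1))), σ i x = 0 ↔ (x : M) ∈ N i)
    (hQ : ∀ i, GFree f (Q i)) : GFree f M := by
  refine GFree.of_filtration f N hmono hexh h0 fun i => ?_
  have hk : (N i).comap (N (i + 1)).subtype = LinearMap.ker (σ i) := by
    ext x
    rw [Submodule.mem_comap, LinearMap.mem_ker, hker]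
    rfl
  exact (hQ i).of_equiv
    ((Submodule.quotEquivOfEq _ _ hk).trans
      (LinearMap.quotKerEquivOfSurjective (σ i) (hσ i))).symm

/-- common denominators for an initial segment of a family -/
theorem exists_common_le (Q : ℕ → Type u) [∀ i, AddCommGroup (Q i)] [∀ i, Module R (Q i)]
    [IsDomain R] (n : ℕ) (h : ∀ i, i ≤ n → ∃ f : R, f ≠ 0 ∧ GFree f (Q i)) :
    ∃ f : R, f ≠ 0 ∧ ∀ i, i ≤ n → GFree f (Q i) := by
  induction n with
  | zero =>
    obtain ⟨f, hf0, hf⟩ := h 0 le_rfl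
    refine ⟨f, hf0, fun i hi => ?_⟩
    obtain rfl : i = 0 := by omega
    exact hf
  | succ n ih =>
    obtain ⟨f, hf0, hf⟩ := ih fun i hi => h i (by omega)
    obtain ⟨g, hg0, hg⟩ := h (n + 1) le_rfl
    refine ⟨f * g, mul_ne_zero hf0 hg0, fun i hi => ?_⟩
    rcases Nat.lt_or_ge i (n + 1) with h1 | h1
    · exact (hf i (by omega)).mul hg0
    · obtain rfl : i = n + 1 := by omega
      exact hg.mul' hf0

end fil'

section step
variable {R A M : Type u} [CommRing R] [CommRing A] [Algebra R A]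
  [AddCommGroup M] [Module A M] [Module R M] [IsScalarTower R A M]

/-- the filtration `F i = M₀ + T M₀ + ⋯ + T^i M₀` -/
def Fil (T : M →ₗ[A] M) (M₀ : Submodule A M) : ℕ → Submodule A M
  | 0 => M₀
  | i + 1 => Fil T M₀ i ⊔ M₀.map (T ^ (i + 1))

theorem Fil_mono (T : M →ₗ[A] M) (M₀ : Submodule A M) : Monotone (Fil T M₀) :=
  monotone_nat_of_le_succ fun _ => le_sup_left

theorem map_pow_le_Fil (T : M →ₗ[A] M) (M₀ : Submodule A M) (i : ℕ) :
    M₀.map (T ^ i) ≤ Fil T M₀ i := by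
  cases i with
  | zero =>
    rw [pow_zero, Module.End.one_eq_id, Submodule.map_id]
    exact le_refl M₀
  | succ j => exact le_sup_right

theorem Fil_map_le (T : M →ₗ[A] M) (M₀ : Submodule A M) (i : ℕ) :
    (Fil T M₀ i).map T ≤ Fil T M₀ (i + 1) := by
  induction i with
  | zero =>
    have : M₀.map T = M₀.map (T ^ (0 + 1)) := by rw [zero_add, pow_one]
    show M₀.map T ≤ Fil T M₀ 0 ⊔ M₀.map (T ^ (0 + 1))
    rw [this]
    exact le_sup_right
  | succ j ih =>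
    show (Fil T M₀ j ⊔ M₀.map (T ^ (j + 1))).map T ≤
      Fil T M₀ (j + 1) ⊔ M₀.map (T ^ (j + 1 + 1))
    rw [Submodule.map_sup, ← Submodule.map_comp]
    have : T ∘ₗ T ^ (j + 1) = T ^ (j + 1 + 1) := by
      rw [pow_succ' T (j + 1)]; rfl
    rw [this]
    exact sup_le_sup ih (le_refl _)

variable [IsDomain R]

/-- **The inductive step of generic freeness.** -/
theorem step
    (hGF : ∀ (Q : Type u) [AddCommGroup Q] [Module A Q] [Module R Q] [IsScalarTower R A Q]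
      [Module.Finite A Q], ∃ f : R, f ≠ 0 ∧ GFree f Q)
    (hACC : ∀ (M₀ : Type u) [AddCommGroup M₀] [Module A M₀] [Module.Finite A M₀]
      (N : ℕ →o Submodule A M₀), ∃ i₀ : ℕ, ∀ i, i₀ ≤ i → ∀ x ∈ N i,
        ∃ r : R, r ≠ 0 ∧ (algebraMap R A r) • x ∈ N i₀)
    (T : M →ₗ[A] M) (M₀ : Submodule A M) (hfg : M₀.FG)
    (htop : ⨆ i, M₀.map (T ^ i) = ⊤) : ∃ f : R, f ≠ 0 ∧ GFree f M := by
  classical
  haveI : Module.Finite A ↥M₀ := Module.Finite.iff_fg.mpr hfg
  let τ : ∀ i, ↥M₀ →ₗ[A] ↥(Fil T M₀ (i + 1)) := fun i =>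
    LinearMap.codRestrict (Fil T M₀ (i + 1)) ((T ^ (i + 1)) ∘ₗ M₀.subtype)
      (fun x => map_pow_le_Fil T M₀ (i + 1) (Submodule.mem_map_of_mem x.2))
  let Qt : ℕ → Type u := fun i =>
    ↥(Fil T M₀ (i + 1)) ⧸ (Fil T M₀ i).comap (Fil T M₀ (i + 1)).subtype
  let σ : ∀ i, ↥M₀ →ₗ[A] Qt i := fun i =>
    ((Fil T M₀ i).comap (Fil T M₀ (i + 1)).subtype).mkQ ∘ₗ τ i
  have hσsurj : ∀ i, Function.Surjective (σ i) := by
    intro i y
    obtain ⟨⟨z, hz⟩, rfl⟩ := Submodule.mkQ_surjective _ y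
    have hz' : z ∈ Fil T M₀ i ⊔ M₀.map (T ^ (i + 1)) := hz
    obtain ⟨a, ha, b, hb, hab⟩ := Submodule.mem_sup.mp hz'
    obtain ⟨x, hx, rfl⟩ := hb
    refine ⟨⟨x, hx⟩, ?_⟩
    show Submodule.Quotient.mk (τ i ⟨x, hx⟩) = Submodule.Quotient.mk ⟨z, hz⟩
    rw [Submodule.Quotient.eq, Submodule.mem_comap]
    have : (Fil T M₀ (i + 1)).subtype (τ i ⟨x, hx⟩ - ⟨z, hz⟩) = -a := by
      show (T ^ (i + 1)) x - z = -a
      rw [← hab]; abel
    rw [this]
    exact Submodule.neg_mem _ ha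
  let K : ℕ → Submodule A ↥M₀ := fun i => LinearMap.ker (σ i)
  have hK : ∀ i (x : ↥M₀), x ∈ K i ↔ (T ^ (i + 1)) (x : M) ∈ Fil T M₀ i := by
    intro i x
    show σ i x = 0 ↔ _
    show Submodule.Quotient.mk (τ i x) = 0 ↔ _
    rw [Submodule.Quotient.mk_eq_zero, Submodule.mem_comap]
    rfl
  have hKmono : Monotone K := by
    apply monotone_nat_of_le_succ
    intro i x hx
    rw [hK] at hx ⊢
    rw [pow_succ' T (i + 1), Module.End.mul_apply]
    exact Fil_map_le T M₀ i (Submodule.mem_map_of_mem hx)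
  obtain ⟨i₀, hi₀⟩ := hACC ↥M₀ ⟨K, hKmono⟩
  obtain ⟨f₀, hf₀0, hf₀⟩ := hGF ↥M₀
  obtain ⟨f₁, hf₁0, hf₁⟩ := exists_common_le (fun i => ↥M₀ ⧸ K i) i₀
    (fun i _ => hGF (↥M₀ ⧸ K i))
  refine ⟨f₀ * f₁, mul_ne_zero hf₀0 hf₁0, ?_⟩
  have hQ' : ∀ i, GFree (f₀ * f₁) (↥M₀ ⧸ K i) := by
    intro i
    rcases le_or_gt i i₀ with h | h
    · exact (hf₁ i h).mul' hf₀0
    · have hle : K i₀ ≤ K i := hKmono h.le
      refine ((hf₁ i₀ le_rfl).mul' hf₀0).of_surjective_torsion_ker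
        ((Submodule.mapQ (K i₀) (K i) LinearMap.id hle).restrictScalars R) ?_ ?_
      · intro y
        obtain ⟨x, rfl⟩ := Submodule.mkQ_surjective _ y
        exact ⟨Submodule.Quotient.mk x, rfl⟩
      · intro y hy
        obtain ⟨x, rfl⟩ := Submodule.mkQ_surjective _ y
        have hx : x ∈ K i := by
          have : (Submodule.Quotient.mk x : ↥M₀ ⧸ K i) = 0 := hy
          rwa [Submodule.Quotient.mk_eq_zero] at this
        obtain ⟨r, hr, hrx⟩ := hi₀ i h.le x hx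
        refine ⟨r, hr, ?_⟩
        rw [Submodule.mkQ_apply, ← Submodule.Quotient.mk_smul, Submodule.Quotient.mk_eq_zero,
          ← algebraMap_smul A r x]
        exact hrx
  -- the `R`-linear filtration
  let σR : ∀ i, ↥((Fil T M₀ (i + 1)).restrictScalars R) →ₗ[R] Qt i := fun i =>
    { toFun := fun x => Submodule.Quotient.mk ⟨x.1, x.2⟩
      map_add' := fun _ _ => rfl
      map_smul' := fun _ _ => rfl }
  refine GFree.of_filtration' (f₀ * f₁) (fun i => (Fil T M₀ i).restrictScalars R) ?_ ?_ ?_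
    Qt σR ?_ ?_ ?_
  · intro i j hij
    exact (Submodule.restrictScalars_le R).mpr (Fil_mono T M₀ hij)
  · intro m
    have hm : m ∈ ⨆ i, M₀.map (T ^ i) := htop ▸ Submodule.mem_top
    have hle : ⨆ i, M₀.map (T ^ i) ≤ ⨆ i, Fil T M₀ i :=
      iSup_mono fun i => map_pow_le_Fil T M₀ i
    have := hle hm
    rwa [Submodule.mem_iSup_of_directed _ (Fil_mono T M₀).directed_le] at this
  · let e : ↥M₀ ≃ₗ[R] ↥((Fil T M₀ 0).restrictScalars R) :=
      { toFun := fun x => ⟨x.1, x.2⟩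
        invFun := fun x => ⟨x.1, x.2⟩
        map_add' := fun _ _ => rfl
        map_smul' := fun _ _ => rfl
        left_inv := fun _ => rfl
        right_inv := fun _ => rfl }
    exact (hf₀.mul hf₁0).of_equiv e
  · intro i y
    obtain ⟨⟨z, hz⟩, rfl⟩ := Submodule.mkQ_surjective _ y
    exact ⟨⟨z, hz⟩, rfl⟩
  · intro i x
    show Submodule.Quotient.mk (⟨x.1, x.2⟩ : ↥(Fil T M₀ (i + 1))) = 0 ↔ _
    rw [Submodule.Quotient.mk_eq_zero, Submodule.mem_comap]
    rfl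
  · intro i
    exact (hQ' i).of_equiv
      ((LinearMap.quotKerEquivOfSurjective (σ i) (hσsurj i)).restrictScalars R)

end step

end Groth.Agent.Helper2.GenericFree
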