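import Mathlib
import Groth.Agent.Lib.Helper2.GenericFreeStep

/-!
# Generic freeness (Grothendieck), general (non-noetherian) domain base

`exists_gfree`: for a domain `R`, a finite type `R`-algebra `S` and a finite `S`-module `M` there is
`f ≠ 0` in `R` with `GFree f M`, i.e. `M[1/f]` is free over `R[1/f]`.
-/

set_option autoImplicit false
universe u

namespace Groth.Agent.Helper2.GenericFree

variable {R : Type u} [CommRing R] [IsDomain R]

theorem exists_gfree_aux (n : ℕ) :
    ∀ (S : Type u) [CommRing S] [Algebra R S] (s : Finset S), s.card ≤ n →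
      Algebra.adjoin R (s : Set S) = ⊤ →
      ∀ (M : Type u) [AddCommGroup M] [Module S M] [Module R M] [IsScalarTower R S M]
        [Module.Finite S M], ∃ f : R, f ≠ 0 ∧ GFree f M := by
  classical
  induction n with
  | zero =>
    intro S _ _ s hs hadj M _ _ _ _ _
    have hs0 : s = ∅ := Finset.card_eq_zero.mp (Nat.le_zero.mp hs)
    rw [hs0, Finset.coe_empty, Algebra.adjoin_empty] at hadj
    have hsurj : Function.Surjective (algebraMap R S) :=
      Algebra.surjective_algebraMap_iff.mpr hadj.symm
    haveI : Module.Finite R S := Module.Finite.of_surjective (Algebra.linearMap R S) hsurj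
    haveI : Module.Finite R M := Module.Finite.trans S M
    exact exists_gfree_of_finite M
  | succ n ih =>
    intro S _ _ s hs hadj M _ _ _ _ _
    rcases Nat.lt_or_ge s.card (n + 1) with h | h
    · exact ih S s (by omega) hadj M
    have hcard : s.card = n + 1 := le_antisymm hs h
    obtain ⟨a, t, hat, rfl, htc⟩ := Finset.card_eq_succ.mp hcard
    set B : Subalgebra R S := Algebra.adjoin R (t : Set S) with hB
    -- generators of `B`
    let t' : Finset ↥B := t.subtype (· ∈ B)
    have ht'coe : (t' : Set ↥B) = ((↑) : ↥B → S) ⁻¹' (t : Set S) := by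
      ext x
      simp [t', Finset.mem_subtype]
    have ht'card : t'.card ≤ n := by
      rw [Finset.card_subtype, ← htc]
      exact Finset.card_filter_le _ _
    have ht'adj : Algebra.adjoin R (t' : Set ↥B) = ⊤ := by
      rw [ht'coe]
      exact Algebra.adjoin_adjoin_coe_preimage
    haveI : Algebra.FiniteType R ↥B := ⟨⟨t', ht'adj⟩⟩
    -- the endomorphism `a • ·`
    let T : M →ₗ[↥B] M :=
      { toFun := fun m => a • m
        map_add' := smul_add a
        map_smul' := fun b m => by
          show a • (b • m) = b • (a • m)
          rw [Subalgebra.smul_def, Subalgebra.smul_def]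
          exact smul_comm a (b : S) m }
    have hT : ∀ m, T m = a • m := fun _ => rfl
    obtain ⟨G, hG⟩ := (inferInstance : Module.Finite S M).fg_top
    set M₀ : Submodule ↥B M := Submodule.span ↥B (G : Set M) with hM₀
    refine step (A := ↥B) (fun Q _ _ _ _ _ => ih ↥B t' ht'card ht'adj Q)
      (fun M₁ _ _ _ N => satACC N) T M₀ ⟨G, rfl⟩ ?_
    -- exhaustiveness
    set W : Submodule ↥B M := ⨆ i, M₀.map (T ^ i) with hW
    have hWT : ∀ w ∈ W, a • w ∈ W := by
      intro w hw
      have h1 : W.map T ≤ W := by
        rw [hW, Submodule.map_iSup]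
        refine iSup_le fun i => ?_
        rw [← Submodule.map_comp]
        have : T ∘ₗ T ^ i = T ^ (i + 1) := by rw [pow_succ' T i]; rfl
        rw [this]
        exact le_iSup (fun i => M₀.map (T ^ i)) (i + 1)
      exact h1 (Submodule.mem_map_of_mem hw)
    have hWS : ∀ c : S, ∀ w ∈ W, c • w ∈ W := by
      intro c
      have hc : c ∈ Algebra.adjoin R ((insert a t : Finset S) : Set S) := hadj ▸ Algebra.mem_top
      induction hc using Algebra.adjoin_induction with
      | mem c hc =>
        intro w hw
        rw [Finset.coe_insert, Set.mem_insert_iff] at hc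
        rcases hc with rfl | hc
        · exact hWT w hw
        · have : c • w = (⟨c, Algebra.subset_adjoin hc⟩ : ↥B) • w := rfl
          rw [this]
          exact W.smul_mem _ hw
      | algebraMap r =>
        intro w hw
        have : algebraMap R S r • w = (algebraMap R ↥B r) • w := rfl
        rw [this]
        exact W.smul_mem _ hw
      | add c d _ _ hc hd =>
        intro w hw
        rw [add_smul]
        exact W.add_mem (hc w hw) (hd w hw)
      | mul c d _ _ hc hd =>
        intro w hw
        rw [mul_smul]
        exact hc _ (hd w hw)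
    let W' : Submodule S M :=
      { carrier := W
        add_mem' := W.add_mem
        zero_mem' := W.zero_mem
        smul_mem' := fun c w hw => hWS c w hw }
    have hGW : (G : Set M) ⊆ W' := by
      intro g hg
      have h1 : g ∈ M₀ := Submodule.subset_span hg
      have h2 : M₀ ≤ W := by
        have := le_iSup (fun i => M₀.map (T ^ i)) 0
        simpa [pow_zero, Module.End.one_eq_id, Submodule.map_id] using this
      exact h2 h1
    have hW'top : W' = ⊤ := by
      rw [eq_top_iff, ← hG]
      exact Submodule.span_le.mpr hGW
    rw [eq_top_iff]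
    intro m _
    have : m ∈ W' := hW'top ▸ Submodule.mem_top
    exact this

/-- **Generic freeness.** -/
theorem exists_gfree (S : Type u) [CommRing S] [Algebra R S] [Algebra.FiniteType R S]
    (M : Type u) [AddCommGroup M] [Module S M] [Module R M] [IsScalarTower R S M]
    [Module.Finite S M] : ∃ f : R, f ≠ 0 ∧ GFree f M := by
  obtain ⟨s, hs⟩ := (inferInstance : Algebra.FiniteType R S).out
  exact exists_gfree_aux s.card S s le_rfl hs M

end Groth.Agent.Helper2.GenericFree
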