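import Mathlib
import Groth.Agent.Lib.Helper2.GenericFreeMain

/-!
# Generic finite presentation
-/

set_option autoImplicit false
universe u

namespace Groth.Agent.Helper2.GenericFree

open TensorProduct

variable {R : Type u} [CommRing R] [IsDomain R]

/-- generic finite presentation of a finite type algebra over a domain -/
theorem exists_fp_alg (S : Type u) [CommRing S] [Algebra R S] [Algebra.FiniteType R S] :
    ∃ f : R, f ≠ 0 ∧ ∀ g : R, g ≠ 0 → ∀ (T : Type u) [CommRing T] [Algebra S T] [Algebra R T]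
      [IsScalarTower R S T] [IsLocalization.Away (algebraMap R S (f * g)) T],
      Algebra.FinitePresentation R T := by
  classical
  obtain ⟨n, π, hπ⟩ := Algebra.FiniteType.iff_quotient_mvPolynomial''.mp
    (inferInstance : Algebra.FiniteType R S)
  set P := MvPolynomial (Fin n) R with hP
  set I : Ideal P := RingHom.ker π.toRingHom with hI
  obtain ⟨t, htI, ht⟩ := sat_fg (R := R) (S := P) (M := P) I
  set J : Ideal P := Ideal.span (t : Set P) with hJ
  have hJI : J ≤ I := Ideal.span_le.mpr htI
  obtain ⟨f, hf0, hf⟩ := exists_gfree (R := R) P (P ⧸ J)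
  refine ⟨f, hf0, fun g hg0 T _ _ _ _ _ => ?_⟩
  have hfg : GFree (f * g) (P ⧸ J) := hf.mul hg0
  set h := f * g with hh
  let ρ : (P ⧸ J) →ₐ[R] S := Ideal.Quotient.liftₐ J π (fun x hx => hJI hx)
  have hρmk : ∀ p : P, ρ (Ideal.Quotient.mk J p) = π p := fun p => rfl
  have hρsurj : Function.Surjective ρ := by
    intro y
    obtain ⟨p, rfl⟩ := hπ y
    exact ⟨Ideal.Quotient.mk J p, rfl⟩
  have htors : ∀ z : P ⧸ J, ρ z = 0 → ∃ k : ℕ, h ^ k • z = 0 := by
    intro z hz
    obtain ⟨p, rfl⟩ := Ideal.Quotient.mk_surjective z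
    have hp : p ∈ I := hz
    obtain ⟨r, hr, hrp⟩ := ht p hp
    refine hfg.pow_smul_eq_zero_of_torsion _ r hr ?_
    have : r • (Ideal.Quotient.mk J p) = Ideal.Quotient.mk J (algebraMap R P r • p) := by
      rw [algebraMap_smul]
      exact (map_smul (Ideal.Quotient.mkₐ R J) r p).symm
    rw [this]
    exact Ideal.Quotient.eq_zero_iff_mem.mpr hrp
  letI : Algebra (P ⧸ J) T := ((algebraMap S T).comp ρ.toRingHom).toAlgebra
  have halg : ∀ z : P ⧸ J, algebraMap (P ⧸ J) T z = algebraMap S T (ρ z) := fun z => rfl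
  haveI : IsScalarTower R (P ⧸ J) T := by
    refine IsScalarTower.of_algebraMap_eq (R := R) (S := P ⧸ J) (A := T) fun r => ?_
    rw [halg, ρ.commutes, ← IsScalarTower.algebraMap_apply]
  haveI : IsLocalization.Away (algebraMap R (P ⧸ J) h) T := by
    refine (isLocalization_iff _ _).mpr ⟨?_, ?_, ?_⟩
    · rintro ⟨_, k, rfl⟩
      rw [halg, map_pow, ρ.commutes]
      exact IsLocalization.map_units T
        (⟨algebraMap R S h ^ k, k, rfl⟩ : Submonoid.powers (algebraMap R S h))
    · intro z
      obtain ⟨⟨x, ⟨_, k, rfl⟩⟩, hx⟩ := IsLocalization.surj (Submonoid.powers (algebraMap R S h)) z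
      obtain ⟨x', rfl⟩ := hρsurj x
      refine ⟨(x', ⟨algebraMap R (P ⧸ J) h ^ k, k, rfl⟩), ?_⟩
      simp only at hx ⊢
      rw [halg, halg, map_pow, ρ.commutes]
      exact hx
    · intro x y hxy
      rw [halg, halg] at hxy
      obtain ⟨⟨_, k, rfl⟩, hc⟩ :=
        IsLocalization.exists_of_eq (M := Submonoid.powers (algebraMap R S h)) hxy
      simp only at hc
      have h1 : ρ (algebraMap R (P ⧸ J) h ^ k * (x - y)) = 0 := by
        rw [map_mul, map_pow, ρ.commutes, map_sub, mul_sub, hc, sub_self]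
      obtain ⟨j, hj⟩ := htors _ h1
      refine ⟨⟨algebraMap R (P ⧸ J) h ^ (j + k), j + k, rfl⟩, ?_⟩
      simp only
      rw [← sub_eq_zero, ← mul_sub, pow_add, mul_assoc, ← map_pow, ← Algebra.smul_def]
      exact hj
  haveI : Algebra.FinitePresentation R (P ⧸ J) :=
    Algebra.FinitePresentation.quotient ⟨t, rfl⟩
  exact Algebra.FinitePresentation.of_isLocalizationAway (algebraMap R (P ⧸ J) h)

/-- generic finite presentation of a finite module over a finite type algebra over a domain -/
theorem exists_fp_mod (S : Type u) [CommRing S] [Algebra R S] [Algebra.FiniteType R S]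
    (M : Type u) [AddCommGroup M] [Module S M] [Module R M] [IsScalarTower R S M]
    [Module.Finite S M] :
    ∃ f : R, f ≠ 0 ∧ ∀ g : R, g ≠ 0 →
      Module.FinitePresentation (Localization.Away (algebraMap R S (f * g)))
        (LocalizedModule (Submonoid.powers (algebraMap R S (f * g))) M) := by
  classical
  obtain ⟨k, q, hq⟩ := Module.Finite.exists_fin' S M
  obtain ⟨t, htN, ht⟩ := sat_fg (R := R) (LinearMap.ker q)
  set J : Submodule S (Fin k → S) := Submodule.span S (t : Set (Fin k → S)) with hJ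
  have hJN : J ≤ LinearMap.ker q := Submodule.span_le.mpr htN
  obtain ⟨f, hf0, hf⟩ := exists_gfree (R := R) S ((Fin k → S) ⧸ J)
  refine ⟨f, hf0, fun g hg0 => ?_⟩
  have hfg : GFree (f * g) ((Fin k → S) ⧸ J) := hf.mul hg0
  set h := f * g with hh
  set s := algebraMap R S h with hs
  let ρ : ((Fin k → S) ⧸ J) →ₗ[S] M := J.liftQ q hJN
  have hρmk : ∀ p, ρ (Submodule.Quotient.mk p) = q p := fun p => rfl
  have hρsurj : Function.Surjective ρ := by
    intro y
    obtain ⟨p, rfl⟩ := hq y
    exact ⟨Submodule.Quotient.mk p, rfl⟩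
  have htors : ∀ z : (Fin k → S) ⧸ J, ρ z = 0 → ∃ j : ℕ, s ^ j • z = 0 := by
    intro z hz
    obtain ⟨p, rfl⟩ := Submodule.mkQ_surjective J z
    have hp : p ∈ LinearMap.ker q := hz
    obtain ⟨r, hr, hrp⟩ := ht p hp
    have h1 : r • (J.mkQ p) = 0 := by
      rw [← algebraMap_smul S r (J.mkQ p), ← map_smul, Submodule.mkQ_apply,
        Submodule.Quotient.mk_eq_zero]
      exact hrp
    obtain ⟨j, hj⟩ := hfg.pow_smul_eq_zero_of_torsion _ r hr h1
    refine ⟨j, ?_⟩
    rw [hs, ← map_pow, algebraMap_smul]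
    exact hj
  haveI : Module.FinitePresentation S ((Fin k → S) ⧸ J) :=
    Module.finitePresentation_of_surjective J.mkQ (Submodule.mkQ_surjective J)
      (by rw [Submodule.ker_mkQ]; exact ⟨t, rfl⟩)
  let l : LocalizedModule (Submonoid.powers s) ((Fin k → S) ⧸ J) →ₗ[Localization.Away s]
      LocalizedModule (Submonoid.powers s) M := LocalizedModule.map (Submonoid.powers s) ρ
  have hl : ∀ (y : (Fin k → S) ⧸ J) (c : Submonoid.powers s),
      l (LocalizedModule.mk y c) = LocalizedModule.mk (ρ y) c :=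
    fun y c => LocalizedModule.map_mk (Submonoid.powers s) ρ y c
  have hlsurj : Function.Surjective l := by
    intro z
    induction z using LocalizedModule.induction_on with
    | h m c =>
      obtain ⟨y, rfl⟩ := hρsurj m
      exact ⟨LocalizedModule.mk y c, hl y c⟩
  have hlinj : Function.Injective l := by
    rw [injective_iff_map_eq_zero]
    intro z hz
    induction z using LocalizedModule.induction_on with
    | h y c =>
      rw [hl, ← LocalizedModule.zero_mk c, LocalizedModule.mk_eq] at hz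
      obtain ⟨⟨_, i, rfl⟩, hi⟩ := hz
      rw [smul_zero, smul_zero, Submonoid.smul_def, Submonoid.smul_def, ← mul_smul,
        ← map_smul] at hi
      obtain ⟨j, hj⟩ := htors _ hi
      rw [← LocalizedModule.zero_mk c, LocalizedModule.mk_eq]
      refine ⟨⟨s ^ j * s ^ i, j + i, (pow_add s j i)⟩, ?_⟩
      rw [smul_zero, smul_zero, Submonoid.smul_def, Submonoid.smul_def]
      simp only
      rw [mul_smul, ← mul_smul (s ^ i)]
      exact hj
  refine Module.finitePresentation_of_surjective l hlsurj ?_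
  rw [LinearMap.ker_eq_bot.mpr hlinj]
  exact Submodule.fg_bot

end Groth.Agent.Helper2.GenericFree
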