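import Mathlib
import Groth.Prelude.Def_LCI2
import Groth.Prelude.Def_ega3
import Groth.Agent.Lib.Helper21.KL5

/-!
# Koszul complexes with module coefficients: peeling off a regular element, restriction of
scalars (both directions), flat base change, transport along ring isomorphisms
-/

set_option autoImplicit false
universe u
open CategoryTheory CategoryTheory.Limits CochainComplex HomComplex TensorProduct Pointwise

namespace Groth.Agent.Helper2.KosReg

open Groth.Agent.Helper21.KL Groth.Agent.Helper21.KF

section Transfer

variable {R : Type u} [CommRing R]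

theorem transfer {K K' : CochainComplex (ModuleCat.{u} R) ℤ} (h : K = K') (i : ℤ) :
    IsZero (K.homology i) ↔ IsZero (K'.homology i) := by
  subst h
  rfl

theorem cone_iff (S : ShortComplex (CochainComplex (ModuleCat.{u} R) ℤ)) (hS : S.ShortExact)
    (i : ℤ) : IsZero ((mappingCone S.f).homology i) ↔ IsZero (S.X₃.homology i) := by
  haveI := mappingCone.quasiIso_descShortComplex hS
  have e := isoOfQuasiIsoAt (mappingCone.descShortComplex S) i
  exact ⟨fun h => h.of_iso e.symm, fun h => h.of_iso e⟩

end Transfer

section LemmaR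

variable {R : Type u} [CommRing R] {M N : Type u} [AddCommGroup M] [Module R M]
  [AddCommGroup N] [Module R N]

/-- Peeling off an `M`-regular element from a Koszul complex. -/
theorem acycAt_cons_iff (a : R) (l : List R) (q : M →ₗ[R] N) (hq : Function.Surjective q)
    (ha : Function.Injective (a • (LinearMap.id : M →ₗ[R] M)))
    (hex : Function.Exact (a • (LinearMap.id : M →ₗ[R] M)) q) (i : ℤ) :
    AcycAt (a :: l) M i ↔ AcycAt l N i := by
  have hS := shortExact l (a • (LinearMap.id : M →ₗ[R] M)) q ha hq hex
  have hf : kMap (ModuleCat.ofHom (a • (LinearMap.id : M →ₗ[R] M))) l =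
      a • 𝟙 (CohIII.koszulCx (ModuleCat.of R M) l) := by
    have h1 : ModuleCat.ofHom (a • (LinearMap.id : M →ₗ[R] M)) = a • 𝟙 (ModuleCat.of R M) := rfl
    rw [h1, kMap_smul_id]
  have h2 := cone_iff _ hS i
  have h3 : mappingCone (kMap (ModuleCat.ofHom (a • (LinearMap.id : M →ₗ[R] M))) l) =
      mappingCone (a • 𝟙 (CohIII.koszulCx (ModuleCat.of R M) l)) := by rw [hf]
  have h4 := transfer h3 i
  exact h4.symm.trans h2

end LemmaR

section Restrict

variable {B C : Type u} [CommRing B] [CommRing C] (π : B →+* C)

theorem isZero_homology_map_iff (K : CochainComplex (ModuleCat.{u} C) ℤ) (i : ℤ) :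
    IsZero ((((ModuleCat.restrictScalars π).mapHomologicalComplex (ComplexShape.up ℤ)).obj
      K).homology i) ↔ IsZero (K.homology i) := by
  constructor
  · intro h
    have h1 : ((((ModuleCat.restrictScalars π).mapHomologicalComplex
        (ComplexShape.up ℤ)).obj K).sc i).Exact :=
      (HomologicalComplex.exactAt_iff_isZero_homology _ i).mpr h
    rw [ShortComplex.moduleCat_exact_iff] at h1
    apply (HomologicalComplex.exactAt_iff_isZero_homology _ i).mp
    show (K.sc i).Exact
    rw [ShortComplex.moduleCat_exact_iff]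
    intro y hy
    exact h1 y hy
  · exact isZero_homology_mapHomologicalComplex π K i

theorem isZero_homology_restrict_iff (M : ModuleCat.{u} C) (xs : List B) (i : ℤ) :
    IsZero ((CohIII.koszulCx ((ModuleCat.restrictScalars π).obj M) xs).homology i) ↔
      IsZero ((CohIII.koszulCx M (xs.map π)).homology i) := by
  obtain ⟨e⟩ := nonempty_restrict_iso π M xs
  have e' := (HomologicalComplex.homologyFunctor (ModuleCat.{u} B) (ComplexShape.up ℤ) i).mapIso e
  rw [← isZero_homology_map_iff π]
  exact ⟨fun h => h.of_iso e', fun h => h.of_iso e'.symm⟩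

/-- Acyclicity of a Koszul complex over `C` can be tested after restriction of scalars. -/
theorem acycAt_restrict_iff (M : Type u) [AddCommGroup M] [Module C M] [Module B M]
    (hc : ∀ (b : B) (m : M), b • m = π b • m) (xs : List B) (i : ℤ) :
    AcycAt (xs.map π) M i ↔ AcycAt xs M i := by
  have e' : ((ModuleCat.restrictScalars π).obj (ModuleCat.of C M)) ≃ₗ[B] M :=
    { toFun := fun m => m
      invFun := fun m => m
      map_add' := fun _ _ => rfl
      map_smul' := fun b m => (hc b m).symm
      left_inv := fun _ => rfl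
      right_inv := fun _ => rfl }
  have e : ((ModuleCat.restrictScalars π).obj (ModuleCat.of C M)) ≅ ModuleCat.of B M :=
    LinearEquiv.toModuleIso e'
  unfold AcycAt
  rw [← isZero_homology_restrict_iff π]
  exact ⟨fun h => isZero_homology_of_iso e xs i h, fun h => isZero_homology_of_iso e.symm xs i h⟩

end Restrict

section Functor

variable {R : Type u} [CommRing R] (F : ModuleCat.{u} R ⥤ ModuleCat.{u} R) [F.Additive]
  (hlin : ∀ {M N : ModuleCat.{u} R} (x : R) (f : M ⟶ N), F.map (x • f) = x • F.map f)
  (hex : ∀ S : ShortComplex (ModuleCat.{u} R), S.Exact → (S.map F).Exact)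

include hlin in
theorem map_smul_id (x : R) (K : CochainComplex (ModuleCat.{u} R) ℤ) :
    (F.mapHomologicalComplex (ComplexShape.up ℤ)).map (x • 𝟙 K) =
      x • 𝟙 ((F.mapHomologicalComplex (ComplexShape.up ℤ)).obj K) := by
  ext n : 1
  show F.map (x • 𝟙 (K.X n)) = x • 𝟙 (F.obj (K.X n))
  rw [hlin, CategoryTheory.Functor.map_id]

include hlin in
theorem nonempty_functor_iso (M : ModuleCat.{u} R) : ∀ xs : List R,
    Nonempty ((F.mapHomologicalComplex (ComplexShape.up ℤ)).obj
      (CohIII.koszulCx M xs) ≅ CohIII.koszulCx (F.obj M) xs)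
  | [] => ⟨(HomologicalComplex.singleMapHomologicalComplex F (ComplexShape.up ℤ) 0).app M⟩
  | x :: xs => by
    obtain ⟨e⟩ := nonempty_functor_iso M xs
    let e1 := mappingCone.mapHomologicalComplexIso (x • 𝟙 (CohIII.koszulCx M xs)) F
    have key : ∀ ψ : (F.mapHomologicalComplex (ComplexShape.up ℤ)).obj
        (CohIII.koszulCx M xs) ⟶ _, ψ = x • 𝟙 _ →
        Nonempty (mappingCone ψ ≅
          mappingCone (x • 𝟙 (CohIII.koszulCx (F.obj M) xs))) := by
      rintro ψ rfl
      exact ⟨coneIso e x⟩
    obtain ⟨e2⟩ := key _ (map_smul_id F hlin x _)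
    exact ⟨e1 ≪≫ e2⟩

include hex in
theorem isZero_homology_functor (K : CochainComplex (ModuleCat.{u} R) ℤ) (i : ℤ)
    (h : IsZero (K.homology i)) :
    IsZero (((F.mapHomologicalComplex (ComplexShape.up ℤ)).obj K).homology i) := by
  have h1 : (K.sc i).Exact := (K.exactAt_iff_isZero_homology i).mpr h
  apply (HomologicalComplex.exactAt_iff_isZero_homology _ i).mp
  exact hex _ h1

include hlin hex in
theorem isZero_koszul_functor (M : ModuleCat.{u} R) (xs : List R) (i : ℤ)
    (h : IsZero ((CohIII.koszulCx M xs).homology i)) :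
    IsZero ((CohIII.koszulCx (F.obj M) xs).homology i) := by
  obtain ⟨e⟩ := nonempty_functor_iso F hlin M xs
  exact (isZero_homology_functor F hex _ i h).of_iso
    ((HomologicalComplex.homologyFunctor (ModuleCat.{u} R) (ComplexShape.up ℤ) i).mapIso e).symm

end Functor

section Flat

open MonoidalCategory

variable {R : Type u} [CommRing R]

/-- Acyclicity of a Koszul complex is preserved by tensoring with a flat module. -/
theorem AcycAt.tensor_flat (xs : List R) {M : Type u} [AddCommGroup M] [Module R M] {i : ℤ}
    (hM : AcycAt xs M i) (N : Type u) [AddCommGroup N] [Module R N] [Module.Flat R N] :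
    AcycAt xs (N ⊗[R] M) i := by
  have h := isZero_koszul_functor (tensorLeft (ModuleCat.of R N))
    (fun x f => Functor.map_smul _ _ _)
    (fun S hS => Module.Flat.lTensor_shortComplex_exact (ModuleCat.of R N) S hS)
    (ModuleCat.of R M) xs i hM
  exact h

/-- Flat base change of Koszul acyclicity for the ring itself. -/
theorem acycAt_baseChange (S' : Type u) [CommRing S'] [Algebra R S'] [Module.Flat R S']
    (xs : List R) (i : ℤ) (h : AcycAt xs R i) :
    AcycAt (xs.map (algebraMap R S')) S' i := by
  have h1 : AcycAt xs (S' ⊗[R] R) i := AcycAt.tensor_flat xs h S'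
  have h2 : AcycAt xs S' i := AcycAt.of_linearEquiv (TensorProduct.rid R S') h1
  exact (acycAt_restrict_iff (algebraMap R S') S' (fun b m => Algebra.smul_def b m) xs i).mpr h2

theorem isKoszulRegularSeq_baseChange (S' : Type u) [CommRing S'] [Algebra R S']
    [Module.Flat R S'] (xs : List R) (h : LCI.IsKoszulRegularSeq R xs) :
    LCI.IsKoszulRegularSeq S' (xs.map (algebraMap R S')) := by
  rw [isKoszulRegularSeq_iff] at h ⊢
  intro i hi
  exact acycAt_baseChange S' xs i (h i hi)

/-- Transport of Koszul-regular sequences along ring isomorphisms. -/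
theorem isKoszulRegularSeq_ringEquiv {S' : Type u} [CommRing S'] (e : R ≃+* S')
    (xs : List R) (h : LCI.IsKoszulRegularSeq R xs) :
    LCI.IsKoszulRegularSeq S' (xs.map e) := by
  letI : Algebra R S' := e.toRingHom.toAlgebra
  haveI : Module.Flat R S' := by
    have e' : R ≃ₗ[R] S' :=
      { e with
        map_smul' := fun b m => by
          show e (b * m) = e.toRingHom b * e m
          exact map_mul e b m }
    exact Module.Flat.of_linearEquiv e'.symm
  exact isKoszulRegularSeq_baseChange S' xs h

end Flat

end Groth.Agent.Helper2.KosReg
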