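import Mathlib
import Groth.Prelude.Def_LCI2
import Groth.Prelude.Def_ega3
import Groth.Agent.Lib.Helper2.KosReg
import Groth.Agent.S18935

/-!
# Koszul-regular ideals: passing to and from the quotient by a nonzerodivisor
-/

set_option autoImplicit false
universe u
open CategoryTheory CategoryTheory.Limits TensorProduct Pointwise

namespace Groth.Agent.Helper2.KosIdeal

open Groth.Agent.Helper21.KL Groth.Agent.Helper2.KosReg

section Basic

theorem eq_of_map_eq {A B : Type u} [CommRing A] [CommRing B] (f : A →+* B)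
    (hf : Function.Surjective f) {I₁ I₂ : Ideal A} (h₁ : RingHom.ker f ≤ I₁)
    (h₂ : RingHom.ker f ≤ I₂) (h : I₁.map f = I₂.map f) : I₁ = I₂ := by
  have e₁ := Ideal.comap_map_of_surjective f hf I₁
  have e₂ := Ideal.comap_map_of_surjective f hf I₂
  rw [← RingHom.ker_eq_comap_bot] at e₁ e₂
  rw [sup_of_le_left h₁] at e₁
  rw [sup_of_le_left h₂] at e₂
  rw [← e₁, ← e₂, h]

/-- Any model of the localization may be used to witness Koszul-regularity of an ideal. -/
theorem exists_list_of_isLocalization {R : Type u} [CommRing R] (I : Ideal R) (t : R)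
    (S' : Type u) [CommRing S'] [Algebra R S'] [IsLocalization.Away t S'] (l' : List S')
    (hl' : LCI.IsKoszulRegularSeq S' l')
    (hI : I.map (algebraMap R S') = Ideal.span {x | x ∈ l'}) :
    ∃ l : List (Localization.Away t), LCI.IsKoszulRegularSeq (Localization.Away t) l ∧
      I.map (algebraMap R (Localization.Away t)) = Ideal.span {x | x ∈ l} := by
  let e : S' ≃ₐ[R] Localization.Away t :=
    IsLocalization.algEquiv (Submonoid.powers t) S' (Localization.Away t)
  refine ⟨l'.map e, isKoszulRegularSeq_ringEquiv e.toRingEquiv l' hl', ?_⟩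
  have h1 : (algebraMap R (Localization.Away t)) =
      (e : S' →+* Localization.Away t).comp (algebraMap R S') := by
    ext r
    exact (e.commutes r).symm
  rw [h1, ← Ideal.map_map, hI, Ideal.map_span]
  congr 1
  ext y
  simp only [Set.mem_image, Set.mem_ofPred_eq, List.mem_map]
  rfl

end Basic

section Loc

variable {P R : Type u} [CommRing P] [CommRing R] (φ : P →+* R) (hφ : Function.Surjective φ)
  (z : P) (hz : RingHom.ker φ = Ideal.span {z}) (h₀ : P)
  (Ph Rt : Type u) [CommRing Ph] [CommRing Rt] [Algebra P Ph] [Algebra R Rt]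
  [IsLocalization.Away h₀ Ph] [IsLocalization.Away (φ h₀) Rt]

theorem awayMap_comp : (IsLocalization.Away.map Ph Rt φ h₀).comp (algebraMap P Ph) =
    (algebraMap R Rt).comp φ :=
  IsLocalization.map_comp _

include hφ in
theorem awayMap_surjective : Function.Surjective (IsLocalization.Away.map Ph Rt φ h₀) := by
  rw [IsLocalization.Away.map_surjective_iff]
  intro a
  obtain ⟨b, rfl⟩ := hφ a
  exact ⟨b, 0, by simp⟩

include hz in
theorem awayMap_ker : RingHom.ker (IsLocalization.Away.map Ph Rt φ h₀) =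
    Ideal.span {algebraMap P Ph z} := by
  have h := IsLocalization.ker_map (S := Ph) Rt φ (Submonoid.map_powers φ h₀)
  rw [hz, Ideal.map_span, Set.image_singleton] at h
  exact h

end Loc

section OfMap

variable {P R : Type u} [CommRing P] [CommRing R] (φ : P →+* R) (hφ : Function.Surjective φ)
  (z : P) (hz : RingHom.ker φ = Ideal.span {z}) (hreg : z ∈ nonZeroDivisors P) (h₀ : P)
  (Ph Rt : Type u) [CommRing Ph] [CommRing Rt] [Algebra P Ph] [Algebra R Rt]
  [IsLocalization.Away h₀ Ph] [IsLocalization.Away (φ h₀) Rt]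

include hφ hz hreg in
/-- the Koszul complex comparison between `Ph` and its quotient `Rt` by the nonzerodivisor `z` -/
theorem acycAt_cons_away_iff (l₀ : List Ph) (i : ℤ) :
    AcycAt (algebraMap P Ph z :: l₀) Ph i ↔
      AcycAt (l₀.map (IsLocalization.Away.map Ph Rt φ h₀)) Rt i := by
  have hsurj := awayMap_surjective φ hφ h₀ Ph Rt
  have hker := awayMap_ker φ z hz h₀ Ph Rt
  letI : Module Ph Rt := Module.compHom Rt (IsLocalization.Away.map Ph Rt φ h₀)
  let q : Ph →ₗ[Ph] Rt :=
    { toFun := fun x => IsLocalization.Away.map Ph Rt φ h₀ x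
      map_add' := fun x y => map_add _ x y
      map_smul' := fun b x => map_mul (IsLocalization.Away.map Ph Rt φ h₀) b x }
  have hq : Function.Surjective q := hsurj
  have hnzd : algebraMap P Ph z ∈ nonZeroDivisors Ph :=
    IsLocalization.map_nonZeroDivisors_le (Submonoid.powers h₀) Ph
      (Submonoid.mem_map_of_mem _ hreg)
  have ha : Function.Injective ((algebraMap P Ph z) • (LinearMap.id : Ph →ₗ[Ph] Ph)) := by
    rw [injective_iff_map_eq_zero]
    intro x hx
    have hx' : algebraMap P Ph z * x = 0 := hx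
    exact (mul_left_mem_nonZeroDivisors_eq_zero_iff hnzd).mp hx'
  have hex : Function.Exact ((algebraMap P Ph z) • (LinearMap.id : Ph →ₗ[Ph] Ph)) q := by
    intro x
    have h1 : q x = 0 ↔ x ∈ RingHom.ker (IsLocalization.Away.map Ph Rt φ h₀) := Iff.rfl
    rw [h1, hker, Ideal.mem_span_singleton']
    constructor
    · rintro ⟨a, rfl⟩
      exact ⟨a, mul_comm _ _⟩
    · rintro ⟨a, rfl⟩
      exact ⟨a, mul_comm _ _⟩
  rw [acycAt_cons_iff (algebraMap P Ph z) l₀ q hq ha hex i]
  exact (acycAt_restrict_iff (IsLocalization.Away.map Ph Rt φ h₀) Rt (fun _ _ => rfl) l₀ i).symm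

include hφ hz hreg h₀ in
theorem core_of_map (K : Ideal P) (hzK : z ∈ K) (l : List Rt)
    (hl : LCI.IsKoszulRegularSeq Rt l)
    (hJ : (K.map φ).map (algebraMap R Rt) = Ideal.span {x | x ∈ l}) :
    ∃ l' : List Ph, LCI.IsKoszulRegularSeq Ph l' ∧
      K.map (algebraMap P Ph) = Ideal.span {x | x ∈ l'} := by
  have hsurj := awayMap_surjective φ hφ h₀ Ph Rt
  have hker := awayMap_ker φ z hz h₀ Ph Rt
  obtain ⟨l₀, hl₀⟩ := (List.map_surjective_iff.mpr hsurj) l
  refine ⟨algebraMap P Ph z :: l₀, ?_, ?_⟩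
  · rw [isKoszulRegularSeq_iff] at hl ⊢
    intro i hi
    rw [acycAt_cons_away_iff φ hφ z hz hreg h₀ Ph Rt l₀ i, hl₀]
    exact hl i hi
  · apply eq_of_map_eq (IsLocalization.Away.map Ph Rt φ h₀) hsurj
    · rw [hker, Ideal.span_singleton_le_iff_mem]
      exact Ideal.mem_map_of_mem _ hzK
    · rw [hker, Ideal.span_singleton_le_iff_mem]
      exact Ideal.subset_span List.mem_cons_self
    · rw [Ideal.map_map, awayMap_comp, ← Ideal.map_map, hJ, Ideal.map_span]
      apply le_antisymm
      · rw [Ideal.span_le]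
        intro y hy
        have hy' : y ∈ l₀.map (IsLocalization.Away.map Ph Rt φ h₀) := hl₀ ▸ hy
        obtain ⟨x, hx, rfl⟩ := List.mem_map.mp hy'
        exact Ideal.subset_span ⟨x, List.mem_cons_of_mem _ hx, rfl⟩
      · rw [Ideal.span_le]
        rintro y ⟨x, hx, rfl⟩
        rcases List.mem_cons.mp hx with rfl | hx
        · have : IsLocalization.Away.map Ph Rt φ h₀ (algebraMap P Ph z) = 0 := by
            have hmem : algebraMap P Ph z ∈ RingHom.ker (IsLocalization.Away.map Ph Rt φ h₀) := by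
              rw [hker]
              exact Ideal.subset_span rfl
            exact hmem
          rw [SetLike.mem_coe, this]
          exact zero_mem _
        · apply Ideal.subset_span
          show _ ∈ l
          rw [← hl₀]
          exact List.mem_map_of_mem hx

include hφ hz hreg in
/-- If `K ⊇ (z)` with `z` a nonzerodivisor and `K/(z)` is a Koszul-regular ideal of `P/(z)`,
then `K` is Koszul-regular. -/
theorem kr_of_map (K : Ideal P) (hzK : z ∈ K) (h : LCI.IsKoszulRegularIdeal (K.map φ)) :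
    LCI.IsKoszulRegularIdeal K := by
  intro 𝔓 hK𝔓
  have hkerle : RingHom.ker φ ≤ 𝔓.asIdeal := by
    rw [hz, Ideal.span_singleton_le_iff_mem]
    exact hK𝔓 hzK
  haveI : (𝔓.asIdeal.map φ).IsPrime := Ideal.map_isPrime_of_surjective hφ hkerle
  obtain ⟨t, ht, l, hl, hJ⟩ := h ⟨𝔓.asIdeal.map φ, inferInstance⟩ (Ideal.map_mono hK𝔓)
  obtain ⟨h₁, rfl⟩ := hφ t
  have hh : h₁ ∉ 𝔓.asIdeal := fun hmem => ht (Ideal.mem_map_of_mem φ hmem)
  exact ⟨h₁, hh, core_of_map φ hφ z hz hreg h₁ (Localization.Away h₁)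
    (Localization.Away (φ h₁)) K hzK l hl hJ⟩

end OfMap

section Swap

theorem image_list {S T : Type u} (f : S → T) (l : List S) :
    f '' {x | x ∈ l} = {x | x ∈ l.map f} := by
  ext y
  simp only [Set.mem_image, Set.mem_ofPred_eq, List.mem_map]

theorem span_image_cons {S T : Type u} [CommRing S] [CommRing T] (f : S →+* T) (z : S)
    (hz : f z = 0) (l₀ : List S) :
    Ideal.span (f '' {x | x ∈ z :: l₀}) = Ideal.span {x | x ∈ l₀.map f} := by
  apply le_antisymm
  · rw [Ideal.span_le]
    rintro y ⟨x, hx, rfl⟩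
    rcases List.mem_cons.mp hx with rfl | hx
    · rw [SetLike.mem_coe, hz]
      exact zero_mem _
    · exact Ideal.subset_span (List.mem_map_of_mem hx)
  · rw [Ideal.span_le]
    intro y hy
    obtain ⟨x, hx, rfl⟩ := List.mem_map.mp hy
    exact Ideal.subset_span ⟨x, List.mem_cons_of_mem _ hx, rfl⟩

/-- Exchanging one member of a Koszul-regular generating list for another generator. -/
theorem swap {S : Type u} [CommRing S] (l : List S) (j : ℕ) (hj : j < l.length) (u : S)
    (hu : IsUnit u) (w : S) (hw : w ∈ Ideal.span {x | x ∈ l.eraseIdx j}) (z' : S)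
    (hz' : z' = u * l[j] + w) (hl : ∀ i : ℤ, i ≠ 0 → AcycAt l S i) :
    (∀ i : ℤ, i ≠ 0 → AcycAt (z' :: l.eraseIdx j) S i) ∧
      Ideal.span {x | x ∈ z' :: l.eraseIdx j} = Ideal.span {x | x ∈ l} := by
  have hlen : l.length = (z' :: l.eraseIdx j).length := by
    rw [List.length_cons, List.length_eraseIdx, if_pos hj]
    omega
  have hsub : Ideal.span {x | x ∈ l.eraseIdx j} ≤ Ideal.span {x | x ∈ l} :=
    Ideal.span_mono (fun x hx => List.mem_of_mem_eraseIdx hx)
  have hsub' : Ideal.span {x | x ∈ l.eraseIdx j} ≤ Ideal.span {x | x ∈ z' :: l.eraseIdx j} :=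
    Ideal.span_mono (fun x hx => List.mem_cons_of_mem _ hx)
  have hyx : ∀ y ∈ z' :: l.eraseIdx j, y ∈ Ideal.span {a | a ∈ l} := by
    intro y hy
    rcases List.mem_cons.mp hy with rfl | hy
    · rw [hz']
      exact Ideal.add_mem _ (Ideal.mul_mem_left _ _ (Ideal.subset_span (List.getElem_mem hj)))
        (hsub hw)
    · exact Ideal.subset_span (List.mem_of_mem_eraseIdx hy)
  have hxy : ∀ x ∈ l, x ∈ Ideal.span {a | a ∈ z' :: l.eraseIdx j} := by
    intro x hx
    obtain ⟨i, hi, rfl⟩ := List.getElem_of_mem hx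
    by_cases hij : i = j
    · subst hij
      have h1 : l[i] = ↑hu.unit⁻¹ * (z' - w) := by
        rw [hz', add_sub_cancel_right, ← mul_assoc, IsUnit.val_inv_mul, one_mul]
      rw [h1]
      exact Ideal.mul_mem_left _ _ (Ideal.sub_mem _ (Ideal.subset_span List.mem_cons_self)
        (hsub' hw))
    · exact Ideal.subset_span (List.mem_cons_of_mem _
        (List.mem_eraseIdx_iff_getElem.mpr ⟨i, hi, hij, rfl⟩))
  refine ⟨Groth.Agent.S18935.lemmaK l (z' :: l.eraseIdx j) hlen hxy hyx hl, ?_⟩
  apply le_antisymm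
  · rw [Ideal.span_le]
    exact fun y hy => hyx y hy
  · rw [Ideal.span_le]
    exact fun x hx => hxy x hx

end Swap

section Map

variable {P R : Type u} [CommRing P] [CommRing R] (φ : P →+* R) (hφ : Function.Surjective φ)
  (z : P) (hz : RingHom.ker φ = Ideal.span {z}) (hreg : z ∈ nonZeroDivisors P)

include hφ hz hreg in
theorem core_map_aux (h₂ : P) (Ph P₂ Rt : Type u) [CommRing Ph] [CommRing P₂] [CommRing Rt]
    [Algebra P Ph] [Algebra Ph P₂] [Algebra P P₂] [IsScalarTower P Ph P₂] [Module.Flat Ph P₂]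
    [Algebra R Rt] [IsLocalization.Away h₂ P₂] [IsLocalization.Away (φ h₂) Rt]
    (K : Ideal P) (l : List Ph) (hl : LCI.IsKoszulRegularSeq Ph l)
    (hK : K.map (algebraMap P Ph) = Ideal.span {x | x ∈ l}) (j : ℕ) (hjl : j < l.length)
    (u w : Ph) (hu : IsUnit (algebraMap Ph P₂ u))
    (hw : w ∈ Ideal.span {x | x ∈ l.eraseIdx j})
    (hzw : algebraMap P Ph z = u * l[j] + w) :
    ∃ l' : List Rt, LCI.IsKoszulRegularSeq Rt l' ∧
      (K.map φ).map (algebraMap R Rt) = Ideal.span {x | x ∈ l'} := by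
  have hl₂ : ∀ i : ℤ, i ≠ 0 → AcycAt (l.map (algebraMap Ph P₂)) P₂ i := fun i hi =>
    acycAt_baseChange P₂ l i ((isKoszulRegularSeq_iff l).mp hl i hi)
  have hj₂ : j < (l.map (algebraMap Ph P₂)).length := by
    rw [List.length_map]
    exact hjl
  have hw₂ : algebraMap Ph P₂ w ∈
      Ideal.span {x | x ∈ (l.map (algebraMap Ph P₂)).eraseIdx j} := by
    rw [List.eraseIdx_map, ← image_list, ← Ideal.map_span]
    exact Ideal.mem_map_of_mem _ hw
  have hz₂ : algebraMap P P₂ z = algebraMap Ph P₂ u * (l.map (algebraMap Ph P₂))[j] +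
      algebraMap Ph P₂ w := by
    rw [IsScalarTower.algebraMap_apply P Ph P₂, hzw, map_add, map_mul, List.getElem_map]
  obtain ⟨hys, hspan⟩ := swap (l.map (algebraMap Ph P₂)) j hj₂ _ hu _ hw₂ _ hz₂ hl₂
  have hker := awayMap_ker φ z hz h₂ P₂ Rt
  refine ⟨((l.map (algebraMap Ph P₂)).eraseIdx j).map (IsLocalization.Away.map P₂ Rt φ h₂),
    ?_, ?_⟩
  · rw [isKoszulRegularSeq_iff]
    intro i hi
    rw [← acycAt_cons_away_iff φ hφ z hz hreg h₂ P₂ Rt _ i]
    exact hys i hi
  · have h0 : IsLocalization.Away.map P₂ Rt φ h₂ (algebraMap P P₂ z) = 0 := by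
      have hmem : algebraMap P P₂ z ∈ RingHom.ker (IsLocalization.Away.map P₂ Rt φ h₂) := by
        rw [hker]
        exact Ideal.subset_span rfl
      exact hmem
    rw [Ideal.map_map, ← awayMap_comp φ h₂ P₂ Rt, ← Ideal.map_map,
      IsScalarTower.algebraMap_eq P Ph P₂, ← Ideal.map_map, hK, Ideal.map_span, image_list,
      ← hspan, Ideal.map_span, span_image_cons _ _ h0]

include hφ hz hreg in
theorem core_map (𝔮 : Ideal R) [h𝔮 : 𝔮.IsPrime] (K : Ideal P) (hzK : z ∈ K)
    (H : ∀ s : P, φ s ∉ 𝔮 → s * z ∉ (𝔮.comap φ) * K)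
    (h₀ : P) (hh₀ : φ h₀ ∉ 𝔮) (l : List (Localization.Away h₀))
    (hl : LCI.IsKoszulRegularSeq (Localization.Away h₀) l)
    (hK : K.map (algebraMap P (Localization.Away h₀)) = Ideal.span {x | x ∈ l}) :
    ∃ t : R, t ∉ 𝔮 ∧ ∃ l' : List (Localization.Away t),
      LCI.IsKoszulRegularSeq (Localization.Away t) l' ∧
      (K.map φ).map (algebraMap R (Localization.Away t)) = Ideal.span {x | x ∈ l'} := by
  classical
  have hpow : ∀ x ∈ Submonoid.powers h₀, φ x ∉ 𝔮 := by
    rintro x ⟨n, rfl⟩ hx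
    rw [map_pow] at hx
    exact hh₀ (h𝔮.mem_of_pow_mem n hx)
  have hz'mem : algebraMap P (Localization.Away h₀) z ∈ Ideal.span (Set.range l.get) := by
    rw [Set.range_list_get, ← hK]
    exact Ideal.mem_map_of_mem _ hzK
  obtain ⟨c, hc⟩ := Ideal.mem_span_range_iff_exists_fun.mp hz'mem
  have hex : ∃ j, c j ∉ (𝔮.comap φ).map (algebraMap P (Localization.Away h₀)) := by
    by_contra hcon
    push Not at hcon
    have h1 : algebraMap P (Localization.Away h₀) z ∈
        ((𝔮.comap φ) * K).map (algebraMap P (Localization.Away h₀)) := by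
      rw [Ideal.map_mul, hK, ← hc]
      exact Ideal.sum_mem _ (fun i _ => Ideal.mul_mem_mul (hcon i)
        (Ideal.subset_span (List.get_mem _ _)))
    rw [IsLocalization.mem_map_algebraMap_iff (Submonoid.powers h₀)] at h1
    obtain ⟨⟨a, s⟩, has⟩ := h1
    rw [← map_mul] at has
    obtain ⟨c', hc'⟩ := (IsLocalization.eq_iff_exists (Submonoid.powers h₀) _).mp has
    refine H ((c' : P) * (s : P)) ?_ ?_
    · rw [map_mul]
      intro hmem
      rcases h𝔮.mem_or_mem hmem with h | h
      · exact hpow _ c'.2 h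
      · exact hpow _ s.2 h
    · have h2 : (c' : P) * (s : P) * z = (c' : P) * (a : P) := by
        rw [← hc']
        ring
      rw [h2]
      exact Ideal.mul_mem_left _ _ a.2
  obtain ⟨j, hj⟩ := hex
  obtain ⟨n, a, ha⟩ := IsLocalization.Away.surj h₀ (c j)
  have haq : φ a ∉ 𝔮 := by
    intro hmem
    apply hj
    have hu : IsUnit (algebraMap P (Localization.Away h₀) h₀ ^ n) :=
      IsLocalization.Away.algebraMap_pow_isUnit h₀ n
    have h1 : c j = algebraMap P (Localization.Away h₀) a * ↑hu.unit⁻¹ := by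
      rw [← ha, mul_assoc, IsUnit.mul_val_inv, mul_one]
    rw [h1]
    exact Ideal.mul_mem_right _ _ (Ideal.mem_map_of_mem _ hmem)
  refine ⟨φ (h₀ * a), ?_, ?_⟩
  · rw [map_mul]
    intro hmem
    rcases h𝔮.mem_or_mem hmem with h | h
    · exact hh₀ h
    · exact haq h
  · have hsplit := Finset.add_sum_erase Finset.univ (fun i => c i * l.get i) (Finset.mem_univ j)
    refine core_map_aux φ hφ z hz hreg (h₀ * a) (Localization.Away h₀)
      (Localization.Away (algebraMap P (Localization.Away h₀) a))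
      (Localization.Away (φ (h₀ * a)))
      K l hl hK j.1 j.2 (c j) (∑ i ∈ Finset.univ.erase j, c i * l.get i) ?_ ?_ ?_
    · have hu1 : IsUnit (algebraMap (Localization.Away h₀)
          (Localization.Away (algebraMap P (Localization.Away h₀) a))
          (algebraMap P (Localization.Away h₀) a)) :=
        IsLocalization.Away.algebraMap_isUnit _
      have h3 : algebraMap (Localization.Away h₀)
          (Localization.Away (algebraMap P (Localization.Away h₀) a))
          (algebraMap P (Localization.Away h₀) a) =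
          algebraMap (Localization.Away h₀)
            (Localization.Away (algebraMap P (Localization.Away h₀) a)) (c j) *
          algebraMap (Localization.Away h₀)
            (Localization.Away (algebraMap P (Localization.Away h₀) a))
            (algebraMap P (Localization.Away h₀) h₀ ^ n) := by
        rw [← map_mul, ha]
      rw [h3] at hu1
      exact isUnit_of_mul_isUnit_left hu1
    · refine Ideal.sum_mem _ (fun i hi => Ideal.mul_mem_left _ _ (Ideal.subset_span ?_))
      have hne : i ≠ j := Finset.ne_of_mem_erase hi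
      exact List.mem_eraseIdx_iff_getElem.mpr ⟨i.1, i.2, Fin.val_ne_of_ne hne, rfl⟩
    · rw [← hc, ← hsplit]
      rfl

include hφ hz hreg in
/-- If `K ⊇ (z)` is a Koszul-regular ideal, `z` is a nonzerodivisor, and `z` is part of a
minimal system of generators of `K` at every prime, then `K/(z)` is Koszul-regular. -/
theorem kr_map (K : Ideal P) (hzK : z ∈ K)
    (H : ∀ 𝔮 : Ideal R, 𝔮.IsPrime → K.map φ ≤ 𝔮 →
      ∀ s : P, φ s ∉ 𝔮 → s * z ∉ (𝔮.comap φ) * K)
    (h : LCI.IsKoszulRegularIdeal K) : LCI.IsKoszulRegularIdeal (K.map φ) := by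
  intro 𝔮 hJ𝔮
  have hle : K ≤ 𝔮.asIdeal.comap φ := Ideal.map_le_iff_le_comap.mp hJ𝔮
  obtain ⟨h₀, hh₀, l, hl, hK⟩ := h ⟨𝔮.asIdeal.comap φ, inferInstance⟩ hle
  exact core_map φ hφ z hz hreg 𝔮.asIdeal K hzK (H 𝔮.asIdeal 𝔮.2 hJ𝔮) h₀ hh₀ l hl hK

end Map

section Poly

open Polynomial

variable {C R : Type u} [CommRing C] [CommRing R] (φ : C[X] →+* R)
  (hφ : Function.Surjective φ) (z : C[X]) (hz : RingHom.ker φ = Ideal.span {z})
  (hreg : z ∈ nonZeroDivisors C[X]) (hder : IsUnit (φ (derivative z)))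

include hz hder in
theorem H_of_derivative (K : Ideal C[X]) :
    ∀ 𝔮 : Ideal R, 𝔮.IsPrime → K.map φ ≤ 𝔮 →
      ∀ s : C[X], φ s ∉ 𝔮 → s * z ∉ (𝔮.comap φ) * K := by
  intro 𝔮 h𝔮 hJ s hs hmem
  have hE : ∀ x ∈ (𝔮.comap φ) * K, φ (derivative x) ∈ 𝔮 := by
    intro x hx
    refine Submodule.smul_induction_on hx ?_ ?_
    · intro p hp k hk
      rw [smul_eq_mul, derivative_mul, map_add, map_mul, map_mul]
      exact 𝔮.add_mem (𝔮.mul_mem_left _ (hJ (Ideal.mem_map_of_mem φ hk)))
        (𝔮.mul_mem_right _ hp)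
    · intro x y hx hy
      rw [derivative_add, map_add]
      exact 𝔮.add_mem hx hy
  have h1 := hE _ hmem
  rw [derivative_mul, map_add, map_mul, map_mul] at h1
  have hz0 : φ z = 0 := by
    have h2 : z ∈ RingHom.ker φ := by
      rw [hz]
      exact Ideal.subset_span rfl
    exact h2
  rw [hz0, mul_zero, zero_add] at h1
  rcases h𝔮.mem_or_mem h1 with h | h
  · exact hs h
  · exact h𝔮.ne_top (Ideal.eq_top_of_isUnit_mem _ h hder)

include hφ hz hreg hder in
/-- One-variable comparison: for `K ⊇ (z)` in `C[X]`, with `C[X]/(z) = R` and the derivative of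
`z` invertible in `R`, `K` is Koszul-regular iff its image in `R` is. -/
theorem kr_poly_iff (K : Ideal C[X]) (hzK : z ∈ K) :
    LCI.IsKoszulRegularIdeal K ↔ LCI.IsKoszulRegularIdeal (K.map φ) :=
  ⟨kr_map φ hφ z hz hreg K hzK (H_of_derivative φ z hz hder K),
    kr_of_map φ hφ z hz hreg K hzK⟩

/-- The special case of evaluation at a point. -/
theorem kr_eval_iff (g : C) (K : Ideal C[X]) (hzK : X - Polynomial.C g ∈ K) :
    LCI.IsKoszulRegularIdeal K ↔ LCI.IsKoszulRegularIdeal (K.map (evalRingHom g)) := by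
  refine kr_poly_iff (evalRingHom g) ?_ (X - Polynomial.C g) (ker_evalRingHom g)
    (monic_X_sub_C g).mem_nonZeroDivisors ?_ K hzK
  · intro r
    exact ⟨Polynomial.C r, by simp⟩
  · simp

end Poly

section Transport

/-- Transport of Koszul-regular ideals along ring isomorphisms. -/
theorem kr_ringEquiv {D D' : Type u} [CommRing D] [CommRing D'] (e : D ≃+* D') (I : Ideal D)
    (h : LCI.IsKoszulRegularIdeal I) : LCI.IsKoszulRegularIdeal (I.map (e : D →+* D')) := by
  intro 𝔭' hI
  have hle : I ≤ 𝔭'.asIdeal.comap (e : D →+* D') := Ideal.map_le_iff_le_comap.mp hI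
  obtain ⟨g, hg, l, hl, hIl⟩ := h ⟨𝔭'.asIdeal.comap (e : D →+* D'), inferInstance⟩ hle
  refine ⟨e g, hg, ?_⟩
  have H : (Submonoid.powers g).map e.toMonoidHom = Submonoid.powers (e g) :=
    Submonoid.map_powers _ g
  let eg : Localization.Away g ≃+* Localization.Away (e g) :=
    IsLocalization.ringEquivOfRingEquiv (Localization.Away g) (Localization.Away (e g)) e H
  refine ⟨l.map eg, isKoszulRegularSeq_ringEquiv eg l hl, ?_⟩
  have h1 : (algebraMap D' (Localization.Away (e g))).comp (e : D →+* D') =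
      (eg : Localization.Away g →+* Localization.Away (e g)).comp
        (algebraMap D (Localization.Away g)) := by
    ext x
    exact (IsLocalization.ringEquivOfRingEquiv_eq H x).symm
  rw [Ideal.map_map, h1, ← Ideal.map_map, hIl, Ideal.map_span]
  congr 1
  exact image_list _ l

theorem kr_ringEquiv_iff {D D' : Type u} [CommRing D] [CommRing D'] (e : D ≃+* D')
    (I : Ideal D) :
    LCI.IsKoszulRegularIdeal (I.map (e : D →+* D')) ↔ LCI.IsKoszulRegularIdeal I := by
  refine ⟨fun h => ?_, kr_ringEquiv e I⟩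
  have h1 := kr_ringEquiv e.symm _ h
  rw [Ideal.map_map] at h1
  have h2 : ((e.symm : D' →+* D).comp (e : D →+* D')) = RingHom.id D := by
    ext x
    exact e.symm_apply_apply x
  rw [h2, Ideal.map_id] at h1
  exact h1

end Transport

end Groth.Agent.Helper2.KosIdeal
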