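import Mathlib
import Groth.Prelude.Def_LCI2
import Groth.Prelude.Def_ega3
import Groth.Agent.Lib.Helper2.KosIdeal

/-!
# Koszul-regular ideals: localisation away from an element
-/

set_option autoImplicit false
universe u
open CategoryTheory CategoryTheory.Limits TensorProduct Pointwise

namespace Groth.Agent.Helper2.KosIdeal

open Groth.Agent.Helper21.KL Groth.Agent.Helper2.KosReg

section Away

/-- Koszul-regularity data of `I` at a prime may be found on a basic open. -/
theorem kr_at_of_away {C : Type u} [CommRing C] (I : Ideal C) (G : C)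
    (h : LCI.IsKoszulRegularIdeal (I.map (algebraMap C (Localization.Away G))))
    (𝔭 : PrimeSpectrum C) (hI : I ≤ 𝔭.asIdeal) (hG : G ∉ 𝔭.asIdeal) :
    ∃ g : C, g ∉ 𝔭.asIdeal ∧ ∃ l : List (Localization.Away g),
      LCI.IsKoszulRegularSeq (Localization.Away g) l ∧
      I.map (algebraMap C (Localization.Away g)) = Ideal.span {x | x ∈ l} := by
  have hdisj : Disjoint (Submonoid.powers G : Set C) (𝔭.asIdeal : Set C) := by
    rw [Set.disjoint_left]
    rintro x ⟨n, rfl⟩ hx
    exact hG (𝔭.2.mem_of_pow_mem n hx)
  haveI hprime : (𝔭.asIdeal.map (algebraMap C (Localization.Away G))).IsPrime :=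
    IsLocalization.isPrime_of_isPrime_disjoint (Submonoid.powers G) _ _ 𝔭.2 hdisj
  have hcomap : (𝔭.asIdeal.map (algebraMap C (Localization.Away G))).comap
      (algebraMap C (Localization.Away G)) = 𝔭.asIdeal :=
    IsLocalization.under_map_of_isPrime_disjoint (Submonoid.powers G) _ 𝔭.2 hdisj
  obtain ⟨t, ht, l, hl, hIl⟩ := h ⟨_, hprime⟩ (Ideal.map_mono hI)
  obtain ⟨k, t', ht'⟩ := IsLocalization.Away.surj G t
  have hu : IsUnit (algebraMap C (Localization.Away G) G ^ k) :=
    IsLocalization.Away.algebraMap_pow_isUnit G k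
  have ht'p : t' ∉ 𝔭.asIdeal := by
    intro hmem
    apply ht
    have h1 : t = algebraMap C (Localization.Away G) t' * ↑hu.unit⁻¹ := by
      rw [← ht', mul_assoc, IsUnit.mul_val_inv, mul_one]
    show t ∈ 𝔭.asIdeal.map (algebraMap C (Localization.Away G))
    rw [h1]
    exact Ideal.mul_mem_right _ _ (Ideal.mem_map_of_mem _ hmem)
  have hassoc : Associated t (algebraMap C (Localization.Away G) t') :=
    ⟨hu.unit, by rw [← ht']; rfl⟩
  haveI : IsLocalization.Away (algebraMap C (Localization.Away G) t') (Localization.Away t) :=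
    IsLocalization.Away.of_associated hassoc
  haveI : IsLocalization.Away (G * t') (Localization.Away t) :=
    IsLocalization.Away.mul' (Localization.Away G) (Localization.Away t) G t'
  refine ⟨G * t', ?_, ?_⟩
  · intro hmem
    rcases 𝔭.2.mem_or_mem hmem with h | h
    · exact hG h
    · exact ht'p h
  · refine exists_list_of_isLocalization I (G * t') (Localization.Away t) l hl ?_
    rw [IsScalarTower.algebraMap_eq C (Localization.Away G) (Localization.Away t),
      ← Ideal.map_map, hIl]

end Away

section AwayPoly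

open Polynomial

variable {D : Type u} [CommRing D] (G : D)

/-- the presentation `D[X] → C[1/G]`, `X ↦ 1/G` -/
noncomputable def awayPoly : D[X] →+* Localization.Away G :=
  ((Localization.awayEquivAdjoin G).symm.toRingEquiv : AdjoinRoot (C G * X - 1) →+* _).comp
    (AdjoinRoot.mk (C G * X - 1))

theorem awayPoly_surjective : Function.Surjective (awayPoly G) := by
  show Function.Surjective ((Localization.awayEquivAdjoin G).symm ∘
    (AdjoinRoot.mk (C G * X - 1)))
  exact (Localization.awayEquivAdjoin G).symm.surjective.comp AdjoinRoot.mk_surjective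

theorem awayPoly_C (c : D) : awayPoly G (C c) = algebraMap D (Localization.Away G) c := by
  show (Localization.awayEquivAdjoin G).symm (AdjoinRoot.mk (C G * X - 1) (C c)) = _
  have h1 : AdjoinRoot.mk (C G * X - 1) (C c) = algebraMap D (AdjoinRoot (C G * X - 1)) c := rfl
  rw [h1]
  exact (Localization.awayEquivAdjoin G).symm.commutes c

theorem awayPoly_ker : RingHom.ker (awayPoly G) = Ideal.span {C G * X - 1} := by
  ext p
  rw [RingHom.mem_ker]
  show (Localization.awayEquivAdjoin G).symm (AdjoinRoot.mk (C G * X - 1) p) = 0 ↔ _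
  rw [EmbeddingLike.map_eq_zero_iff, AdjoinRoot.mk_eq_zero, Ideal.mem_span_singleton]

theorem awayPoly_nzd : (C G * X - 1 : D[X]) ∈ nonZeroDivisors D[X] := by
  rw [Polynomial.mem_nonZeroDivisors_iff]
  intro a ha
  have h1 := congrArg (fun p => coeff p 0) ha
  simp at h1
  exact h1

theorem awayPoly_der : IsUnit (awayPoly G (derivative (C G * X - 1 : D[X]))) := by
  have h1 : derivative (C G * X - 1 : D[X]) = C G := by
    simp
  rw [h1, awayPoly_C]
  exact IsLocalization.Away.algebraMap_isUnit G

theorem kr_away_iff (K : Ideal D[X]) (hK : (C G * X - 1 : D[X]) ∈ K) :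
    LCI.IsKoszulRegularIdeal K ↔ LCI.IsKoszulRegularIdeal (K.map (awayPoly G)) :=
  kr_poly_iff (awayPoly G) (awayPoly_surjective G) _ (awayPoly_ker G) (awayPoly_nzd G)
    (awayPoly_der G) K hK

end AwayPoly

end Groth.Agent.Helper2.KosIdeal
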