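import Mathlib
import Groth.Prelude.Def_LCI2
import Groth.Prelude.Def_ega3
import Groth.Agent.Lib.Helper2.KosIdeal2
import Groth.Agent.Lib.Helper5.KosReg1

/-!
# Koszul-regular ideals: tools for faithfully flat descent
-/

set_option autoImplicit false
universe u
open CategoryTheory CategoryTheory.Limits TensorProduct Pointwise

namespace Groth.Agent.Helper2.KosDescent

open Groth.Agent.Helper21.KL Groth.Agent.Helper2.KosReg Groth.Agent.Helper2.KosIdeal

section TensorIff

open MonoidalCategory

variable {R : Type u} [CommRing R]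

/-- Koszul homology commutes with tensoring by a flat module (vanishing form). -/
theorem acycAt_tensor_iff (xs : List R) (M : Type u) [AddCommGroup M] [Module R M]
    (N : Type u) [AddCommGroup N] [Module R N] [Module.Flat R N] (i : ℤ) :
    AcycAt xs (N ⊗[R] M) i ↔
      Subsingleton (N ⊗[R] ((CohIII.koszulCx (ModuleCat.of R M) xs).homology i)) := by
  obtain ⟨e⟩ := nonempty_functor_iso (tensorLeft (ModuleCat.of R N))
    (fun x f => Functor.map_smul _ _ _) (ModuleCat.of R M) xs
  haveI : PreservesFiniteLimits (tensorLeft (ModuleCat.of R N)) :=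
    (Module.Flat.iff_preservesFiniteLimits_tensorLeft (ModuleCat.of R N)).mp inferInstance
  haveI : (tensorLeft (ModuleCat.of R N)).PreservesHomology := inferInstance
  have e1 : ((((tensorLeft (ModuleCat.of R N)).mapHomologicalComplex (ComplexShape.up ℤ)).obj
      (CohIII.koszulCx (ModuleCat.of R M) xs)).homology i) ≅
      (tensorLeft (ModuleCat.of R N)).obj
        ((CohIII.koszulCx (ModuleCat.of R M) xs).homology i) :=
    ((CohIII.koszulCx (ModuleCat.of R M) xs).sc i).mapHomologyIso
      (tensorLeft (ModuleCat.of R N))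
  have e2 := (HomologicalComplex.homologyFunctor (ModuleCat.{u} R) (ComplexShape.up ℤ) i).mapIso e
  have e3 := e2.symm ≪≫ e1
  constructor
  · intro h
    exact ModuleCat.subsingleton_of_isZero (h.of_iso e3.symm)
  · intro h
    have hz : IsZero ((tensorLeft (ModuleCat.of R N)).obj
        ((CohIII.koszulCx (ModuleCat.of R M) xs).homology i)) :=
      @ModuleCat.isZero_of_subsingleton _ _ _ h
    exact hz.of_iso e3

end TensorIff

section Rel

variable {R : Type u} [CommRing R] {r : ℕ}

/-- The ideal of `j`-th coefficients of linear relations among the `f i`. -/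
def RelAt (f : Fin r → R) (j : Fin r) : Ideal R where
  carrier := {a | ∃ c : Fin r → R, ∑ i, c i * f i = 0 ∧ c j = a}
  add_mem' := by
    rintro a b ⟨c, hc, rfl⟩ ⟨d, hd, rfl⟩
    refine ⟨c + d, ?_, rfl⟩
    simp only [Pi.add_apply, add_mul, Finset.sum_add_distrib, hc, hd, add_zero]
  zero_mem' := ⟨0, by simp, rfl⟩
  smul_mem' := by
    rintro x a ⟨c, hc, rfl⟩
    refine ⟨x • c, ?_, rfl⟩
    simp only [Pi.smul_apply, smul_eq_mul, mul_assoc, ← Finset.mul_sum, hc, mul_zero]

/-- The ideal generated by all coefficients of all linear relations among the `f i`. -/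
def Rel (f : Fin r → R) : Ideal R := ⨆ j, RelAt f j

theorem mem_relAt (f : Fin r → R) (c : Fin r → R) (hc : ∑ i, c i * f i = 0) (j : Fin r) :
    c j ∈ RelAt f j := ⟨c, hc, rfl⟩

theorem mem_rel (f : Fin r → R) (c : Fin r → R) (hc : ∑ i, c i * f i = 0) (j : Fin r) :
    c j ∈ Rel f := (le_iSup (RelAt f) j) (mem_relAt f c hc j)

theorem rel_le_iff (f : Fin r → R) (𝔞 : Ideal R) :
    Rel f ≤ 𝔞 ↔ ∀ c : Fin r → R, ∑ i, c i * f i = 0 → ∀ j, c j ∈ 𝔞 := by
  constructor
  · intro h c hc j
    exact h (mem_rel f c hc j)
  · intro h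
    refine iSup_le fun j => ?_
    rintro a ⟨c, hc, rfl⟩
    exact h c hc j

/-- Flat base change of the relation ideals. -/
theorem relAt_baseChange (R' : Type u) [CommRing R'] [Algebra R R'] [Module.Flat R R']
    (f : Fin r → R) (j : Fin r) :
    RelAt (fun i => algebraMap R R' (f i)) j = (RelAt f j).map (algebraMap R R') := by
  apply le_antisymm
  · rintro b ⟨c, hc, rfl⟩
    have hc' : ∑ i, f i • c i = 0 := by
      rw [← hc]
      refine Finset.sum_congr rfl fun i _ => ?_
      rw [Algebra.smul_def, mul_comm]
    obtain ⟨k, a, y, hy, ha⟩ := Module.Flat.isTrivialRelation_of_sum_smul_eq_zero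
      (R := R) (M := R') (f := f) (x := c) (by exact hc')
    rw [hy j]
    refine Ideal.sum_mem _ fun t _ => ?_
    rw [Algebra.smul_def]
    refine Ideal.mul_mem_right _ _ (Ideal.mem_map_of_mem _ ?_)
    refine ⟨fun i => a i t, ?_, rfl⟩
    rw [← ha t]
    exact Finset.sum_congr rfl fun i _ => mul_comm _ _
  · rw [Ideal.map_le_iff_le_comap]
    rintro a ⟨c, hc, rfl⟩
    refine ⟨fun i => algebraMap R R' (c i), ?_, rfl⟩
    simp only [← map_mul, ← map_sum, hc, map_zero]

theorem rel_baseChange (R' : Type u) [CommRing R'] [Algebra R R'] [Module.Flat R R']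
    (f : Fin r → R) :
    Rel (fun i => algebraMap R R' (f i)) = (Rel f).map (algebraMap R R') := by
  unfold Rel
  rw [Ideal.map_iSup]
  exact iSup_congr fun j => relAt_baseChange R' f j

end Rel

section L0L1

variable {S : Type u} [CommRing S]

/-- Relations among a Koszul-regular sequence have coefficients in the ideal it generates. -/
theorem rel_le_of_koszulRegular (l : List S) (h : LCI.IsKoszulRegularSeq S l) :
    Rel l.get ≤ Ideal.span {x | x ∈ l} := by
  rw [rel_le_iff]
  intro c hc j
  have h1 : CategoryTheory.Limits.IsZero ((Koszul.koszul S (List.ofFn l.get)).homology (-1)) := by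
    rw [List.ofFn_get]
    exact h (-1) (by decide)
  have h2 := Groth.Agent.Helper5.KR.coeff_mem_of_relation_ofFn l.get h1 c hc j
  rw [Set.range_list_get] at h2
  exact h2

/-- A generating family strictly longer than another generating family of the same ideal has
relations with coefficients generating the unit ideal. -/
theorem rel_eq_top {r r' : ℕ} (f : Fin r → S) (l' : Fin r' → S)
    (hspan : Ideal.span (Set.range f) = Ideal.span (Set.range l')) (hlt : r' < r) :
    Rel f = ⊤ := by
  classical
  by_contra hne
  obtain ⟨𝔪, h𝔪, hle⟩ := Ideal.exists_le_maximal _ hne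
  have hf : ∀ i, ∃ c : Fin r' → S, ∑ j, c j * l' j = f i := fun i =>
    Ideal.mem_span_range_iff_exists_fun.mp (hspan ▸ Ideal.subset_span (Set.mem_range_self i))
  have hl : ∀ j, ∃ d : Fin r → S, ∑ i, d i * f i = l' j := fun j =>
    Ideal.mem_span_range_iff_exists_fun.mp (hspan.symm ▸ Ideal.subset_span (Set.mem_range_self j))
  choose C hC using hf
  choose D hD using hl
  have hrel : ∀ i₀ i : Fin r,
      (∑ j, C i₀ j * D j i) - (if i = i₀ then 1 else 0) ∈ 𝔪 := by
    intro i₀ i
    apply hle
    refine mem_rel f (fun i => (∑ j, C i₀ j * D j i) - (if i = i₀ then 1 else 0)) ?_ i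
    simp only [sub_mul, Finset.sum_sub_distrib, ite_mul, one_mul, zero_mul,
      Finset.sum_ite_eq', Finset.mem_univ, if_true]
    rw [sub_eq_zero, ← hC i₀]
    simp only [Finset.sum_mul]
    rw [Finset.sum_comm]
    refine Finset.sum_congr rfl fun j _ => ?_
    rw [← hD j, Finset.mul_sum]
    refine Finset.sum_congr rfl fun i _ => ?_
    ring
  letI : Field (S ⧸ 𝔪) := Ideal.Quotient.field 𝔪
  let Cm : Matrix (Fin r) (Fin r') (S ⧸ 𝔪) := fun i j => Ideal.Quotient.mk 𝔪 (C i j)
  let Dm : Matrix (Fin r') (Fin r) (S ⧸ 𝔪) := fun j i => Ideal.Quotient.mk 𝔪 (D j i)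
  have hone : Cm * Dm = 1 := by
    ext i₀ i
    rw [Matrix.mul_apply, Matrix.one_apply]
    have h1 := hrel i₀ i
    rw [← Ideal.Quotient.eq_zero_iff_mem, map_sub, sub_eq_zero, map_sum] at h1
    simp only [map_mul] at h1
    rw [show (∑ j, Cm i₀ j * Dm j i) = ∑ j, Ideal.Quotient.mk 𝔪 (C i₀ j) *
      Ideal.Quotient.mk 𝔪 (D j i) from rfl, h1]
    by_cases hi : i = i₀
    · rw [if_pos hi, if_pos hi.symm, map_one]
    · rw [if_neg hi, if_neg (Ne.symm hi), map_zero]
  have h2 : (1 : Matrix (Fin r) (Fin r) (S ⧸ 𝔪)).rank = r := by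
    rw [Matrix.rank_one, Fintype.card_fin]
  have h3 : (Cm * Dm).rank ≤ r' := (Matrix.rank_mul_le_left Cm Dm).trans (Matrix.rank_le_width Cm)
  rw [hone, h2] at h3
  omega

end L0L1

section Transfer

/-- Koszul-regular ideals extend to Koszul-regular ideals along flat ring maps. -/
theorem kr_map_of_flat {B B'' : Type u} [CommRing B] [CommRing B''] [Algebra B B'']
    [Module.Flat B B''] (K : Ideal B) (h : LCI.IsKoszulRegularIdeal K) :
    LCI.IsKoszulRegularIdeal (K.map (algebraMap B B'')) := by
  intro 𝔮 hK
  have hle : K ≤ 𝔮.asIdeal.comap (algebraMap B B'') := Ideal.map_le_iff_le_comap.mp hK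
  obtain ⟨g, hg, l, hl, hKl⟩ := h ⟨𝔮.asIdeal.comap (algebraMap B B''), inferInstance⟩ hle
  refine ⟨algebraMap B B'' g, hg, ?_⟩
  letI : Algebra (Localization.Away g) (Localization.Away (algebraMap B B'' g)) :=
    (IsLocalization.Away.map (Localization.Away g) (Localization.Away (algebraMap B B'' g))
      (algebraMap B B'') g).toAlgebra
  have hcomp := awayMap_comp (algebraMap B B'') g (Localization.Away g)
    (Localization.Away (algebraMap B B'' g))
  haveI : IsScalarTower B (Localization.Away g) (Localization.Away (algebraMap B B'' g)) :=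
    IsScalarTower.of_algebraMap_eq' (by
      rw [IsScalarTower.algebraMap_eq B B'' (Localization.Away (algebraMap B B'' g))]
      exact hcomp.symm)
  haveI : Module.Flat B (Localization.Away (algebraMap B B'' g)) :=
    Module.Flat.trans B B'' _
  haveI : Module.Flat (Localization.Away g) (Localization.Away (algebraMap B B'' g)) :=
    (Module.flat_iff_of_isLocalization (Localization.Away g) (Submonoid.powers g) _).mpr
      inferInstance
  refine ⟨l.map (algebraMap (Localization.Away g) (Localization.Away (algebraMap B B'' g))),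
    isKoszulRegularSeq_baseChange _ l hl, ?_⟩
  have h1 : algebraMap B (Localization.Away (algebraMap B B'' g)) =
      (algebraMap (Localization.Away g) (Localization.Away (algebraMap B B'' g))).comp
        (algebraMap B (Localization.Away g)) :=
    IsScalarTower.algebraMap_eq B (Localization.Away g) (Localization.Away (algebraMap B B'' g))
  rw [Ideal.map_map, ← IsScalarTower.algebraMap_eq, h1, ← Ideal.map_map, hKl, Ideal.map_span,
    image_list]

end Transfer

section FG

/-- An ideal that is finitely generated on a neighbourhood of every prime is finitely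
generated. -/
theorem fg_of_local {S : Type u} [CommRing S] (𝔞 : Ideal S)
    (h : ∀ P : Ideal S, P.IsPrime → ∃ g, g ∉ P ∧
      (𝔞.map (algebraMap S (Localization.Away g))).FG) : 𝔞.FG := by
  let t : Set S := {g | (𝔞.map (algebraMap S (Localization.Away g))).FG}
  have ht : Ideal.span t = ⊤ := by
    by_contra hne
    obtain ⟨𝔪, h𝔪, hle⟩ := Ideal.exists_le_maximal _ hne
    obtain ⟨g, hg, hfg⟩ := h 𝔪 h𝔪.isPrime
    exact hg (hle (Ideal.subset_span hfg))
  refine Submodule.of_localizationSpan' t ht
    (Mₚ := fun g => Localization.Away g.1) (Rₚ := fun g => Localization.Away g.1)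
    (fun g => Algebra.linearMap S (Localization.Away g.1)) ?_
  intro g
  rw [Ideal.localized'_eq_map]
  exact g.2

end FG

section Family

variable {S : Type u} [CommRing S]

theorem rel_le_of_koszulRegular' {r : ℕ} (f : Fin r → S)
    (h : LCI.IsKoszulRegularSeq S (List.ofFn f)) : Rel f ≤ Ideal.span (Set.range f) := by
  rw [rel_le_iff]
  intro c hc j
  exact Groth.Agent.Helper5.KR.coeff_mem_of_relation_ofFn f (h (-1) (by decide)) c hc j

theorem span_range_get (l : List S) : Ideal.span (Set.range l.get) = Ideal.span {x | x ∈ l} := by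
  rw [Set.range_list_get]

theorem ofFn_comp_get {T : Type u} (φ : S → T) (l : List S) :
    List.ofFn (φ ∘ l.get) = l.map φ := by
  rw [← List.map_ofFn, List.ofFn_get]

end Family

section Chart

variable {A B : Type u} [CommRing A] [CommRing B] [Algebra A B] [Module.Flat A B]
  (I : Ideal A) (𝔮 : Ideal B) [h𝔮 : 𝔮.IsPrime] (g : B) (hg : g ∉ 𝔮)
  (l : List (Localization.Away g))
  (hIl : (I.map (algebraMap A B)).map (algebraMap B (Localization.Away g)) =
    Ideal.span {x | x ∈ l})

/-- the chart ring `B[1/g][1/a]` -/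
abbrev ChartRing (a : A) : Type u :=
  Localization.Away (algebraMap B (Localization.Away g) (algebraMap A B a))

include hg in
theorem chart_ne_top (a : A) (ha : algebraMap A B a ∉ 𝔮) :
    𝔮.map (algebraMap B (ChartRing g a)) ≠ ⊤ := by
  rw [IsLocalization.map_algebraMap_ne_top_iff_disjoint (Submonoid.powers (g * algebraMap A B a))]
  rw [Set.disjoint_left]
  rintro x ⟨n, rfl⟩ hx
  rcases h𝔮.mem_or_mem (h𝔮.mem_of_pow_mem n hx) with h | h
  · exact hg h
  · exact ha h

include hIl in
theorem chart_span {s : ℕ} (F : Fin s → A) (hF : ∀ i, F i ∈ I) (a : A)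
    (haI : ∀ x ∈ I, a * x ∈ Ideal.span (Set.range F)) :
    Ideal.span (Set.range (fun i => algebraMap A (ChartRing g a) (F i))) =
      Ideal.span (Set.range (fun i : Fin l.length =>
        algebraMap (Localization.Away g) (ChartRing g a) (l.get i))) ∧
    I.map (algebraMap A (ChartRing g a)) =
      Ideal.span (Set.range (fun i => algebraMap A (ChartRing g a) (F i))) := by
  have hu : IsUnit (algebraMap A (ChartRing g a) a) := by
    rw [IsScalarTower.algebraMap_apply A B (ChartRing g a),
      IsScalarTower.algebraMap_apply B (Localization.Away g) (ChartRing g a)]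
    exact IsLocalization.Away.algebraMap_isUnit _
  have h1 : Ideal.span (Set.range (fun i => algebraMap A (ChartRing g a) (F i))) =
      (Ideal.span (Set.range F)).map (algebraMap A (ChartRing g a)) := by
    rw [Ideal.map_span, ← Set.range_comp]
    rfl
  have h2 : (Ideal.span (Set.range F)).map (algebraMap A (ChartRing g a)) =
      I.map (algebraMap A (ChartRing g a)) := by
    apply le_antisymm
    · apply Ideal.map_mono
      rw [Ideal.span_le]
      rintro x ⟨i, rfl⟩
      exact hF i
    · rw [Ideal.map_le_iff_le_comap]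
      intro x hx
      rw [Ideal.mem_comap]
      have h3 : algebraMap A (ChartRing g a) x =
          ↑hu.unit⁻¹ * algebraMap A (ChartRing g a) (a * x) := by
        rw [map_mul, ← mul_assoc, IsUnit.val_inv_mul, one_mul]
      rw [h3]
      exact Ideal.mul_mem_left _ _ (Ideal.mem_map_of_mem _ (haI x hx))
  have h4 : I.map (algebraMap A (ChartRing g a)) =
      Ideal.span (Set.range (fun i : Fin l.length =>
        algebraMap (Localization.Away g) (ChartRing g a) (l.get i))) := by
    rw [IsScalarTower.algebraMap_eq A B (ChartRing g a), ← Ideal.map_map,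
      IsScalarTower.algebraMap_eq B (Localization.Away g) (ChartRing g a), ← Ideal.map_map, hIl,
      Ideal.map_span, ← Set.range_list_get, ← Set.range_comp]
    rfl
  exact ⟨by rw [h1, h2, h4], by rw [h1, h2]⟩

include hg hIl in
/-- Stage 1: near the prime under `𝔮`, the ideal `I` is generated by as many elements as the
Koszul-regular chart at `𝔮` has. -/
theorem exists_drop (hl : LCI.IsKoszulRegularSeq (Localization.Away g) l)
    (hI𝔮 : I.map (algebraMap A B) ≤ 𝔮) :
    ∀ (s : ℕ) (F : Fin s → A), (∀ i, F i ∈ I) → ∀ a : A, algebraMap A B a ∉ 𝔮 →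
      (∀ x ∈ I, a * x ∈ Ideal.span (Set.range F)) →
      ∃ F' : Fin l.length → A, (∀ i, F' i ∈ I) ∧ ∃ a' : A, algebraMap A B a' ∉ 𝔮 ∧
        ∀ x ∈ I, a' * x ∈ Ideal.span (Set.range F') := by
  intro s
  induction s using Nat.strong_induction_on with
  | _ s ih =>
    intro F hF a ha haI
    obtain ⟨hsp, hImap⟩ := chart_span I g l hIl F hF a haI
    have hne := chart_ne_top 𝔮 g hg a ha
    have hIS : I.map (algebraMap A (ChartRing g a)) ≤ 𝔮.map (algebraMap B (ChartRing g a)) := by
      rw [IsScalarTower.algebraMap_eq A B (ChartRing g a), ← Ideal.map_map]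
      exact Ideal.map_mono hI𝔮
    rcases lt_trichotomy s l.length with hlt | heq | hgt
    · exfalso
      have h1 := rel_eq_top _ _ hsp.symm hlt
      have h2 : LCI.IsKoszulRegularSeq (ChartRing g a)
          (List.ofFn (fun i : Fin l.length =>
            algebraMap (Localization.Away g) (ChartRing g a) (l.get i))) := by
        have h0 := ofFn_comp_get (algebraMap (Localization.Away g) (ChartRing g a)) l
        rw [show (fun i : Fin l.length => algebraMap _ (ChartRing g a) (l.get i)) =
          (algebraMap _ (ChartRing g a)) ∘ l.get from rfl, h0]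
        exact isKoszulRegularSeq_baseChange _ l hl
      have h3 := rel_le_of_koszulRegular' _ h2
      rw [h1, ← hsp, ← hImap] at h3
      exact hne (top_le_iff.mp (h3.trans hIS))
    · subst heq
      exact ⟨F, hF, a, ha, haI⟩
    · obtain ⟨s', rfl⟩ : ∃ s', s = s' + 1 := ⟨s - 1, by omega⟩
      have h1 := rel_eq_top _ _ hsp hgt
      rw [rel_baseChange (ChartRing g a) F] at h1
      have h2 : ¬ Rel F ≤ 𝔮.comap (algebraMap A B) := by
        intro hle
        apply hne
        rw [← top_le_iff, ← h1, IsScalarTower.algebraMap_eq A B (ChartRing g a), ← Ideal.map_map]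
        exact Ideal.map_mono (Ideal.map_le_iff_le_comap.mpr hle)
      have h3 : ∃ j, ¬ RelAt F j ≤ 𝔮.comap (algebraMap A B) := by
        by_contra hcon
        push Not at hcon
        exact h2 (iSup_le hcon)
      obtain ⟨j, hj⟩ := h3
      obtain ⟨_, ⟨c, hc, rfl⟩, hcj⟩ := Set.not_subset.mp hj
      refine ih s' (by omega) (F ∘ j.succAbove) (fun i => hF _) (a * c j) ?_ ?_
      · rw [map_mul]
        intro hmem
        rcases h𝔮.mem_or_mem hmem with h | h
        · exact ha h
        · exact hcj h
      · intro x hx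
        obtain ⟨d, hd⟩ := Ideal.mem_span_range_iff_exists_fun.mp (haI x hx)
        rw [Fin.sum_univ_succAbove _ j] at hd hc
        have h4 : a * c j * x = c j * (a * x) := by ring
        rw [h4, ← hd, mul_add]
        refine Ideal.add_mem _ ?_ ?_
        · have h5 : c j * (d j * F j) = d j * (c j * F j) := by ring
          have h6 : c j * F j = - ∑ k, c (j.succAbove k) * F (j.succAbove k) :=
            eq_neg_of_add_eq_zero_left hc
          rw [h5, h6]
          refine Ideal.mul_mem_left _ _ ((Ideal.neg_mem_iff _).mpr ?_)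
          exact Ideal.sum_mem _ fun k _ => Ideal.mul_mem_left _ _ (Ideal.subset_span ⟨k, rfl⟩)
        · exact Ideal.mul_mem_left _ _ (Ideal.sum_mem _ fun k _ =>
            Ideal.mul_mem_left _ _ (Ideal.subset_span ⟨k, rfl⟩))

end Chart

end Groth.Agent.Helper2.KosDescent
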