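import Mathlib
import Groth.Prelude.Def_LCI2
import Groth.Prelude.Def_ega3
import Groth.Agent.Lib.Helper2.KosDescent
import Groth.Agent.S15822

/-!
# Koszul-regular ideals: faithfully flat descent, the uniform-rank step
-/

set_option autoImplicit false
universe u
open CategoryTheory CategoryTheory.Limits TensorProduct Pointwise

namespace Groth.Agent.Helper2.KosDescent

open Groth.Agent.Helper21.KL Groth.Agent.Helper2.KosReg Groth.Agent.Helper2.KosIdeal

section Unit

variable {R : Type u} [CommRing R]

/-- The Koszul complex of a sequence generating the unit ideal is acyclic. -/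
theorem acycAt_of_span_eq_top (xs : List R) (h : Ideal.span {x | x ∈ xs} = ⊤)
    (M : Type u) [AddCommGroup M] [Module R M] (i : ℤ) : AcycAt xs M i := by
  unfold AcycAt
  apply (transfer (Groth.Agent.S15822.koszulCx_eq_Kz (ModuleCat.of R M) xs) i).mpr
  obtain ⟨H⟩ := Groth.Agent.S15822.Kz_homotopy
    ((HomologicalComplex.single (ModuleCat.{u} R) (ComplexShape.up ℤ) 0).obj (ModuleCat.of R M))
    xs 1 (by rw [h]; trivial)
  have h1 := H.homologyMap_eq i
  rw [one_smul, HomologicalComplex.homologyMap_id, HomologicalComplex.homologyMap_zero] at h1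
  exact (IsZero.iff_id_eq_zero _).mpr h1

theorem span_ofFn {r : ℕ} (F : Fin r → R) :
    Ideal.span {x | x ∈ List.ofFn F} = Ideal.span (Set.range F) := by
  congr 1
  ext x
  simp [List.mem_ofFn]

end Unit

section ChartType

variable {A B : Type u} [CommRing A] [CommRing B] [Algebra A B] [Module.Flat A B]
  {r : ℕ} (f : Fin r → A)

/-- the local dichotomy for a Koszul-regular chart of `IB`, where `I = (f)` -/
theorem chart_type (𝔮' : Ideal B) [h𝔮' : 𝔮'.IsPrime]
    (hI𝔮' : (Ideal.span (Set.range f)).map (algebraMap A B) ≤ 𝔮')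
    (g' : B) (hg' : g' ∉ 𝔮') (l' : List (Localization.Away g'))
    (hl' : LCI.IsKoszulRegularSeq (Localization.Away g') l')
    (hIl' : ((Ideal.span (Set.range f)).map (algebraMap A B)).map
      (algebraMap B (Localization.Away g')) = Ideal.span {x | x ∈ l'}) :
    (l'.length = r ∧
      (∀ i : ℤ, i ≠ 0 → AcycAt (List.ofFn (fun k => algebraMap A (Localization.Away g') (f k)))
        (Localization.Away g') i) ∧
      (Rel f).map (algebraMap A (Localization.Away g')) ≤
        (Ideal.span (Set.range f)).map (algebraMap A (Localization.Away g'))) ∨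
    (l'.length < r ∧ (Rel f).map (algebraMap A (Localization.Away g')) = ⊤) := by
  have hspanF : Ideal.span (Set.range (fun k => algebraMap A (Localization.Away g') (f k))) =
      (Ideal.span (Set.range f)).map (algebraMap A (Localization.Away g')) := by
    rw [Ideal.map_span, ← Set.range_comp]
    rfl
  have hIS : (Ideal.span (Set.range f)).map (algebraMap A (Localization.Away g')) =
      Ideal.span {x | x ∈ l'} := by
    rw [IsScalarTower.algebraMap_eq A B (Localization.Away g'), ← Ideal.map_map, hIl']
  have hsp : Ideal.span (Set.range (fun k => algebraMap A (Localization.Away g') (f k))) =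
      Ideal.span (Set.range l'.get) := by
    rw [hspanF, hIS, Set.range_list_get]
  have hne : 𝔮'.map (algebraMap B (Localization.Away g')) ≠ ⊤ := by
    rw [IsLocalization.map_algebraMap_ne_top_iff_disjoint (Submonoid.powers g'), Set.disjoint_left]
    rintro x ⟨n, rfl⟩ hx
    exact hg' (h𝔮'.mem_of_pow_mem n hx)
  have hle𝔮 : Ideal.span {x | x ∈ l'} ≤ 𝔮'.map (algebraMap B (Localization.Away g')) := by
    rw [← hIl']
    exact Ideal.map_mono hI𝔮'
  rcases lt_trichotomy l'.length r with hlt | heq | hgt
  · right
    refine ⟨hlt, ?_⟩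
    rw [← rel_baseChange (Localization.Away g') f]
    exact rel_eq_top _ _ hsp hlt
  · left
    refine ⟨heq, ?_⟩
    have hacyc : ∀ i : ℤ, i ≠ 0 →
        AcycAt (List.ofFn (fun k => algebraMap A (Localization.Away g') (f k)))
          (Localization.Away g') i := by
      refine Groth.Agent.S18935.lemmaK l' _ ?_ ?_ ?_ ((isKoszulRegularSeq_iff l').mp hl')
      · rw [List.length_ofFn, heq]
      · intro x hx
        rw [span_ofFn, hsp, Set.range_list_get]
        exact Ideal.subset_span hx
      · intro y hy
        rw [← Set.range_list_get, ← hsp]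
        obtain ⟨k, rfl⟩ := (List.mem_ofFn' _ _).mp hy
        exact Ideal.subset_span ⟨k, rfl⟩
    refine ⟨hacyc, ?_⟩
    rw [← rel_baseChange (Localization.Away g') f, ← hspanF]
    exact rel_le_of_koszulRegular' _ ((isKoszulRegularSeq_iff _).mpr hacyc)
  · exfalso
    have h1 := rel_eq_top _ _ hsp.symm hgt
    have h2 := rel_le_of_koszulRegular l' hl'
    rw [h1] at h2
    exact hne (top_le_iff.mp (h2.trans hle𝔮))

end ChartType

section Stage2

variable {A B : Type u} [CommRing A] [CommRing B] [Algebra A B] [Module.Flat A B]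
  {r : ℕ} (f : Fin r → A)
  (hKR : LCI.IsKoszulRegularIdeal ((Ideal.span (Set.range f)).map (algebraMap A B)))

include hKR in
theorem local_desc (𝔮' : Ideal B) [h𝔮' : 𝔮'.IsPrime] :
    ∃ g' : B, g' ∉ 𝔮' ∧
      ((Ideal.span (Set.range f)).map (algebraMap A (Localization.Away g'))).FG ∧
      (((∀ i : ℤ, i ≠ 0 →
          AcycAt (List.ofFn (fun k => algebraMap A (Localization.Away g') (f k)))
            (Localization.Away g') i) ∧
        (Rel f).map (algebraMap A (Localization.Away g')) ≤
          (Ideal.span (Set.range f)).map (algebraMap A (Localization.Away g'))) ∨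
       ((Rel f).map (algebraMap A (Localization.Away g')) = ⊤ ∧
        (Ideal.span (Set.range f)).map (algebraMap A B) ≤ 𝔮')) := by
  by_cases hle : (Ideal.span (Set.range f)).map (algebraMap A B) ≤ 𝔮'
  · obtain ⟨g', hg', l', hl', hIl'⟩ := hKR ⟨𝔮', h𝔮'⟩ hle
    refine ⟨g', hg', ?_, ?_⟩
    · rw [IsScalarTower.algebraMap_eq A B (Localization.Away g'), ← Ideal.map_map, hIl']
      exact Submodule.fg_span (List.finite_toSet l')
    · rcases chart_type f 𝔮' hle g' hg' l' hl' hIl' with ⟨_, h1, h2⟩ | ⟨_, h⟩
      · exact Or.inl ⟨h1, h2⟩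
      · exact Or.inr ⟨h, hle⟩
  · obtain ⟨x, hx, hx𝔮⟩ := Set.not_subset.mp hle
    have htop : (Ideal.span (Set.range f)).map (algebraMap A (Localization.Away x)) = ⊤ := by
      rw [IsScalarTower.algebraMap_eq A B (Localization.Away x), ← Ideal.map_map]
      exact Ideal.eq_top_of_isUnit_mem _ (Ideal.mem_map_of_mem _ hx)
        (IsLocalization.Away.algebraMap_isUnit x)
    refine ⟨x, hx𝔮, ?_, Or.inl ⟨?_, ?_⟩⟩
    · rw [htop]
      exact ⟨{1}, by simp⟩
    · intro i _
      refine acycAt_of_span_eq_top _ ?_ _ i
      rw [span_ofFn, ← htop, Ideal.map_span, ← Set.range_comp]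
      rfl
    · rw [htop]
      exact le_top

end Stage2

section Stage2FF

variable {A B : Type u} [CommRing A] [CommRing B] [Algebra A B] [Module.FaithfullyFlat A B]
  {r : ℕ} (f : Fin r → A)
  (hKR : LCI.IsKoszulRegularIdeal ((Ideal.span (Set.range f)).map (algebraMap A B)))

/-- the ideal generated by `f` and by the coefficients of its relations -/
abbrev EId : Ideal A := Rel f ⊔ Ideal.span (Set.range f)

theorem E_map_away (g' : B) :
    ((EId f).map (algebraMap A B)).map (algebraMap B (Localization.Away g')) =
      (Rel f).map (algebraMap A (Localization.Away g')) ⊔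
        (Ideal.span (Set.range f)).map (algebraMap A (Localization.Away g')) := by
  rw [Ideal.map_map, ← IsScalarTower.algebraMap_eq, Ideal.map_sup]

include hKR in
theorem E_fg : (EId f).FG := by
  apply Ideal.FG.of_FG_map_of_faithfullyFlat (S := B)
  apply fg_of_local
  intro P hP
  obtain ⟨g', hg', hfg, h | h⟩ := local_desc f hKR P
  · refine ⟨g', hg', ?_⟩
    rw [E_map_away, sup_of_le_right h.2]
    exact hfg
  · refine ⟨g', hg', ?_⟩
    rw [E_map_away, h.1, top_sup_eq]
    exact ⟨{1}, by simp⟩

include hKR in
theorem E_le : EId f ≤ EId f * EId f ⊔ Ideal.span (Set.range f) := by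
  have hB : (EId f).map (algebraMap A B) ≤
      (EId f * EId f ⊔ Ideal.span (Set.range f)).map (algebraMap A B) := by
    intro x hx
    by_contra hx'
    have hcol : ((EId f * EId f ⊔ Ideal.span (Set.range f)).map (algebraMap A B)).colon
        ({x} : Set B) ≠ ⊤ := by
      intro htop
      apply hx'
      have h1 : (1 : B) ∈ ((EId f * EId f ⊔ Ideal.span (Set.range f)).map
          (algebraMap A B)).colon ({x} : Set B) := by
        rw [htop]
        trivial
      rw [Submodule.mem_colon_singleton, one_smul] at h1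
      exact h1
    obtain ⟨𝔪, h𝔪, hle⟩ := Ideal.exists_le_maximal _ hcol
    haveI := h𝔪.isPrime
    obtain ⟨g', hg', -, h | h⟩ := local_desc f hKR 𝔪
    · -- the image of `x` lies in `I S`
      have h1 : algebraMap B (Localization.Away g') x ∈
          ((Ideal.span (Set.range f)).map (algebraMap A B)).map
            (algebraMap B (Localization.Away g')) := by
        have h2 := Ideal.mem_map_of_mem (algebraMap B (Localization.Away g')) hx
        rw [E_map_away, sup_of_le_right h.2] at h2
        rw [Ideal.map_map, ← IsScalarTower.algebraMap_eq]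
        exact h2
      rw [IsLocalization.algebraMap_mem_map_algebraMap_iff (Submonoid.powers g')] at h1
      obtain ⟨m, ⟨n, rfl⟩, hm⟩ := h1
      have h3 : g' ^ n ∈ ((EId f * EId f ⊔ Ideal.span (Set.range f)).map
          (algebraMap A B)).colon ({x} : Set B) := by
        rw [Submodule.mem_colon_singleton, smul_eq_mul]
        exact Ideal.map_mono le_sup_right hm
      exact hg' (h𝔪.isPrime.mem_of_pow_mem n (hle h3))
    · have h1 : (1 : Localization.Away g') ∈
          ((EId f).map (algebraMap A B)).map (algebraMap B (Localization.Away g')) := by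
        rw [E_map_away, h.1, top_sup_eq]
        trivial
      rw [← map_one (algebraMap B (Localization.Away g')),
        IsLocalization.algebraMap_mem_map_algebraMap_iff (Submonoid.powers g')] at h1
      obtain ⟨m, ⟨n, rfl⟩, hm⟩ := h1
      rw [mul_one] at hm
      have h3 : g' ^ n ∈ ((EId f * EId f ⊔ Ideal.span (Set.range f)).map
          (algebraMap A B)).colon ({x} : Set B) := by
        rw [Submodule.mem_colon_singleton, smul_eq_mul, Ideal.map_sup, Ideal.map_mul]
        exact Ideal.mem_sup_left (Ideal.mul_mem_mul hm hx)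
      exact hg' (h𝔪.isPrime.mem_of_pow_mem n (hle h3))
  have h1 := Ideal.comap_mono (f := algebraMap A B) hB
  rw [Ideal.comap_map_eq_self_of_faithfullyFlat, Ideal.comap_map_eq_self_of_faithfullyFlat] at h1
  exact h1

include hKR in
/-- the Nakayama step -/
theorem exists_nak : ∃ s : A, s - 1 ∈ EId f ∧ ∀ x ∈ EId f, s * x ∈ Ideal.span (Set.range f) := by
  have hN : (Submodule.map (Submodule.mkQ (Ideal.span (Set.range f))) (EId f)).FG :=
    Submodule.FG.map _ (E_fg f hKR)
  have hle : Submodule.map (Submodule.mkQ (Ideal.span (Set.range f))) (EId f) ≤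
      (EId f) • Submodule.map (Submodule.mkQ (Ideal.span (Set.range f))) (EId f) := by
    rintro _ ⟨x, hx, rfl⟩
    have hx' := E_le f hKR hx
    obtain ⟨y, hy, z, hz, rfl⟩ := Submodule.mem_sup.mp hx'
    have h1 : Submodule.mkQ (Ideal.span (Set.range f)) (y + z) =
        Submodule.mkQ (Ideal.span (Set.range f)) y := by
      rw [map_add]
      have : Submodule.mkQ (Ideal.span (Set.range f)) z = 0 :=
        (Submodule.Quotient.mk_eq_zero _).mpr hz
      rw [this, add_zero]
    rw [h1, ← Submodule.map_smul'']
    exact Submodule.mem_map_of_mem hy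
  obtain ⟨s, hs1, hs2⟩ := Submodule.exists_sub_one_mem_and_smul_eq_zero_of_fg_of_le_smul
    (EId f) _ hN hle
  refine ⟨s, hs1, fun x hx => ?_⟩
  have h1 := hs2 _ (Submodule.mem_map_of_mem (f := Submodule.mkQ (Ideal.span (Set.range f))) hx)
  rw [← map_smul, smul_eq_mul] at h1
  exact (Submodule.Quotient.mk_eq_zero _).mp h1

end Stage2FF

section Stage2Final

variable {A B : Type u} [CommRing A] [CommRing B] [Algebra A B] [Module.FaithfullyFlat A B]
  {r : ℕ} (f : Fin r → A)
  (hKR : LCI.IsKoszulRegularIdeal ((Ideal.span (Set.range f)).map (algebraMap A B)))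

theorem comap_map_away (𝔮 : Ideal B) [h𝔮 : 𝔮.IsPrime] (g : B) (hg : g ∉ 𝔮) (b : B)
    (hb : algebraMap B (Localization.Away g) b ∈ 𝔮.map (algebraMap B (Localization.Away g))) :
    b ∈ 𝔮 := by
  have hdisj : Disjoint (Submonoid.powers g : Set B) (𝔮 : Set B) := by
    rw [Set.disjoint_left]
    rintro x ⟨n, rfl⟩ hx
    exact hg (h𝔮.mem_of_pow_mem n hx)
  have h1 := IsLocalization.under_map_of_isPrime_disjoint (Submonoid.powers g)
    (Localization.Away g) h𝔮 hdisj
  rw [← h1]
  exact hb

/-- at a prime whose chart has exactly `r` elements, `E` is contained in the contraction -/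
theorem E_le_comap (𝔮 : Ideal B) [h𝔮 : 𝔮.IsPrime]
    (hI𝔮 : (Ideal.span (Set.range f)).map (algebraMap A B) ≤ 𝔮)
    (g : B) (hg : g ∉ 𝔮) (l : List (Localization.Away g))
    (hl : LCI.IsKoszulRegularSeq (Localization.Away g) l)
    (hIl : ((Ideal.span (Set.range f)).map (algebraMap A B)).map
      (algebraMap B (Localization.Away g)) = Ideal.span {x | x ∈ l})
    (hlen : l.length = r) : EId f ≤ 𝔮.comap (algebraMap A B) := by
  rcases chart_type f 𝔮 hI𝔮 g hg l hl hIl with ⟨_, _, h2⟩ | ⟨hlt, _⟩
  · intro x hx
    rw [Ideal.mem_comap]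
    apply comap_map_away 𝔮 g hg
    have h3 := Ideal.mem_map_of_mem (algebraMap A (Localization.Away g)) hx
    rw [Ideal.map_sup, sup_of_le_right h2, IsScalarTower.algebraMap_eq A B (Localization.Away g),
      ← Ideal.map_map] at h3
    rw [← IsScalarTower.algebraMap_apply] 
    exact Ideal.map_mono hI𝔮 h3
  · omega

include hKR in
theorem acyc_charts (s : A) (hs : ∀ x ∈ Rel f, s * x ∈ Ideal.span (Set.range f))
    (𝔮' : Ideal B) [h𝔮' : 𝔮'.IsPrime] (hs𝔮' : algebraMap A B s ∉ 𝔮') :
    ∃ g' : B, g' ∉ 𝔮' ∧ ∀ i : ℤ, i ≠ 0 →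
      AcycAt (List.ofFn (fun k => algebraMap A (Localization.Away g') (f k)))
        (Localization.Away g') i := by
  obtain ⟨g', hg', -, h | ⟨h, hle⟩⟩ := local_desc f hKR 𝔮'
  · exact ⟨g', hg', h.1⟩
  · exfalso
    apply hs𝔮'
    apply comap_map_away 𝔮' g' hg'
    have h1 : Ideal.span {s} * Rel f ≤ Ideal.span (Set.range f) := by
      rw [Ideal.span_singleton_mul_le_iff]
      exact hs
    have h2 := Ideal.map_mono (f := algebraMap A (Localization.Away g')) h1
    rw [Ideal.map_mul, h, Ideal.mul_top, Ideal.map_span, Set.image_singleton,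
      Ideal.span_singleton_le_iff_mem, IsScalarTower.algebraMap_eq A B (Localization.Away g'),
      ← Ideal.map_map] at h2
    exact Ideal.map_mono hle h2

end Stage2Final

section FinalDescent

variable {A B : Type u} [CommRing A] [CommRing B] [Algebra A B] [Module.FaithfullyFlat A B]

/-- torsion descent: if the base change of `Y` to `B` dies on charts covering `D(φ s)`, every
element of `Y` is killed by a power of `s` -/
theorem pow_smul_eq_zero_of_charts (Y : Type u) [AddCommGroup Y] [Module A Y] (s : A)
    (h : ∀ 𝔮' : Ideal B, 𝔮'.IsPrime → algebraMap A B s ∉ 𝔮' → ∃ g' : B, g' ∉ 𝔮' ∧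
      Subsingleton (Localization.Away g' ⊗[A] Y))
    (y : Y) : ∃ N : ℕ, s ^ N • y = 0 := by
  have hrad : algebraMap A B s ∈ Ideal.radical
      (LinearMap.ker (LinearMap.toSpanSingleton B (B ⊗[A] Y) (1 ⊗ₜ y)) : Ideal B) := by
    rw [Ideal.radical_eq_sInf, Ideal.mem_sInf]
    rintro 𝔮' ⟨hle, hprime⟩
    by_contra hs
    obtain ⟨g', hg', hsub⟩ := h 𝔮' hprime hs
    have e := TensorProduct.AlgebraTensorModule.cancelBaseChange A B (Localization.Away g')
      (Localization.Away g') Y
    haveI : Subsingleton (Localization.Away g' ⊗[B] (B ⊗[A] Y)) := e.toEquiv.subsingleton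
    have h0 : TensorProduct.mk B (Localization.Away g') (B ⊗[A] Y) 1 (1 ⊗ₜ y) = 0 :=
      Subsingleton.elim _ _
    obtain ⟨c, hc⟩ := (IsLocalizedModule.eq_zero_iff (Submonoid.powers g')
      (TensorProduct.mk B (Localization.Away g') (B ⊗[A] Y) 1)).mp h0
    obtain ⟨n, hn⟩ := c.2
    apply hg'
    apply hprime.mem_of_pow_mem n
    apply hle
    rw [LinearMap.mem_ker, LinearMap.toSpanSingleton_apply]
    have hn' : g' ^ n = (c : B) := hn
    rw [hn']
    exact hc
  obtain ⟨N, hN⟩ := hrad
  refine ⟨N, ?_⟩
  apply Module.FaithfullyFlat.tensorProduct_mk_injective (A := A) (B := B) Y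
  rw [map_zero, TensorProduct.mk_apply, ← TensorProduct.smul_tmul]
  rw [LinearMap.mem_ker, LinearMap.toSpanSingleton_apply, ← map_pow, TensorProduct.smul_tmul',
    smul_eq_mul, mul_one] at hN
  rw [Algebra.smul_def, mul_one]
  exact hN

theorem subsingleton_away_tensor (Y : Type u) [AddCommGroup Y] [Module A Y] (s : A)
    (h : ∀ y : Y, ∃ N : ℕ, s ^ N • y = 0) : Subsingleton (Localization.Away s ⊗[A] Y) := by
  refine ⟨fun a b => ?_⟩
  suffices hz : ∀ z : Localization.Away s ⊗[A] Y, z = 0 by rw [hz a, hz b]
  intro z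
  induction z using TensorProduct.induction_on with
  | zero => rfl
  | add x y hx hy => rw [hx, hy, add_zero]
  | tmul a y =>
    obtain ⟨N, hN⟩ := h y
    have hu : IsUnit (algebraMap A (Localization.Away s) (s ^ N)) := by
      rw [map_pow]
      exact (IsLocalization.Away.algebraMap_isUnit s).pow N
    have h1 : a = s ^ N • (↑hu.unit⁻¹ * a) := by
      rw [Algebra.smul_def, ← mul_assoc, IsUnit.mul_val_inv, one_mul]
    rw [h1, TensorProduct.smul_tmul, hN, TensorProduct.tmul_zero]

theorem final_descent {r : ℕ} (f : Fin r → A) (s : A) (i : ℤ)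
    (h : ∀ 𝔮' : Ideal B, 𝔮'.IsPrime → algebraMap A B s ∉ 𝔮' → ∃ g' : B, g' ∉ 𝔮' ∧
      AcycAt (List.ofFn (fun k => algebraMap A (Localization.Away g') (f k)))
        (Localization.Away g') i) :
    AcycAt (List.ofFn (fun k => algebraMap A (Localization.Away s) (f k)))
      (Localization.Away s) i := by
  have hmap : ∀ (T : Type u) [CommRing T] [Algebra A T],
      List.ofFn (fun k => algebraMap A T (f k)) = (List.ofFn f).map (algebraMap A T) := by
    intro T _ _
    rw [List.map_ofFn]
    rfl
  rw [hmap, acycAt_restrict_iff (algebraMap A (Localization.Away s)) (Localization.Away s)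
    (fun b m => Algebra.smul_def b m)]
  apply AcycAt.of_linearEquiv (TensorProduct.rid A (Localization.Away s))
  rw [acycAt_tensor_iff]
  apply subsingleton_away_tensor
  apply pow_smul_eq_zero_of_charts (B := B)
  intro 𝔮' h𝔮' hs
  obtain ⟨g', hg', hac⟩ := h 𝔮' h𝔮' hs
  refine ⟨g', hg', ?_⟩
  rw [hmap, acycAt_restrict_iff (algebraMap A (Localization.Away g')) (Localization.Away g')
    (fun b m => Algebra.smul_def b m)] at hac
  have hac' := AcycAt.of_linearEquiv (TensorProduct.rid A (Localization.Away g')).symm hac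
  rw [acycAt_tensor_iff] at hac'
  exact hac'

end FinalDescent

section Stage2Thm

variable {A B : Type u} [CommRing A] [CommRing B] [Algebra A B] [Module.FaithfullyFlat A B]
  {r : ℕ} (f : Fin r → A)
  (hKR : LCI.IsKoszulRegularIdeal ((Ideal.span (Set.range f)).map (algebraMap A B)))

include hKR in
/-- Stage 2: if `I = (f_1, …, f_r)` and `IB` has, at a prime `𝔮`, a Koszul-regular chart with
exactly `r` elements, then `f` is Koszul-regular on a basic open `D(s)` of `Spec A` whose
preimage contains `𝔮`. -/
theorem stage2 (𝔮 : Ideal B) [h𝔮 : 𝔮.IsPrime]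
    (hI𝔮 : (Ideal.span (Set.range f)).map (algebraMap A B) ≤ 𝔮)
    (g : B) (hg : g ∉ 𝔮) (l : List (Localization.Away g))
    (hl : LCI.IsKoszulRegularSeq (Localization.Away g) l)
    (hIl : ((Ideal.span (Set.range f)).map (algebraMap A B)).map
      (algebraMap B (Localization.Away g)) = Ideal.span {x | x ∈ l})
    (hlen : l.length = r) :
    ∃ s : A, algebraMap A B s ∉ 𝔮 ∧ LCI.IsKoszulRegularSeq (Localization.Away s)
      (List.ofFn (fun k => algebraMap A (Localization.Away s) (f k))) := by
  obtain ⟨s, hs1, hs2⟩ := exists_nak f hKR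
  have hE := E_le_comap f 𝔮 hI𝔮 g hg l hl hIl hlen
  refine ⟨s, ?_, ?_⟩
  · intro hmem
    have h1 : algebraMap A B (s - 1) ∈ 𝔮 := hE hs1
    rw [map_sub, map_one] at h1
    have h2 : (1 : B) ∈ 𝔮 := by
      have := 𝔮.sub_mem hmem h1
      rwa [sub_sub_cancel] at this
    exact h𝔮.ne_top ((Ideal.eq_top_iff_one _).mpr h2)
  · rw [isKoszulRegularSeq_iff]
    intro i hi
    apply final_descent (B := B) f s i
    intro 𝔮' h𝔮' hs𝔮'
    obtain ⟨g', hg', hac⟩ := acyc_charts f hKR s
      (fun x hx => hs2 x (le_sup_left (a := Rel f) hx)) 𝔮' hs𝔮'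
    exact ⟨g', hg', hac i hi⟩

end Stage2Thm

section ChartMap

/-- a Koszul-regular chart of `K` gives one of `K B''` of the same length, for `B → B''` flat -/
theorem chart_map_of_flat {B B'' : Type u} [CommRing B] [CommRing B''] [Algebra B B'']
    [Module.Flat B B''] (K : Ideal B) (g : B) (l : List (Localization.Away g))
    (hl : LCI.IsKoszulRegularSeq (Localization.Away g) l)
    (hKl : K.map (algebraMap B (Localization.Away g)) = Ideal.span {x | x ∈ l}) :
    ∃ l'' : List (Localization.Away (algebraMap B B'' g)), l''.length = l.length ∧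
      LCI.IsKoszulRegularSeq (Localization.Away (algebraMap B B'' g)) l'' ∧
      (K.map (algebraMap B B'')).map
        (algebraMap B'' (Localization.Away (algebraMap B B'' g))) = Ideal.span {x | x ∈ l''} := by
  letI : Algebra (Localization.Away g) (Localization.Away (algebraMap B B'' g)) :=
    (IsLocalization.Away.map (Localization.Away g) (Localization.Away (algebraMap B B'' g))
      (algebraMap B B'') g).toAlgebra
  have hcomp := awayMap_comp (algebraMap B B'') g (Localization.Away g)
    (Localization.Away (algebraMap B B'' g))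
  haveI : IsScalarTower B (Localization.Away g) (Localization.Away (algebraMap B B'' g)) :=
    IsScalarTower.of_algebraMap_eq' (by
      rw [IsScalarTower.algebraMap_eq B B'' (Localization.Away (algebraMap B B'' g))]
      exact hcomp.symm)
  haveI : Module.Flat B (Localization.Away (algebraMap B B'' g)) :=
    Module.Flat.trans B B'' _
  haveI : Module.Flat (Localization.Away g) (Localization.Away (algebraMap B B'' g)) :=
    (Module.flat_iff_of_isLocalization (Localization.Away g) (Submonoid.powers g) _).mpr
      inferInstance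
  refine ⟨l.map (algebraMap (Localization.Away g) (Localization.Away (algebraMap B B'' g))),
    List.length_map _, isKoszulRegularSeq_baseChange _ l hl, ?_⟩
  have h1 : algebraMap B (Localization.Away (algebraMap B B'' g)) =
      (algebraMap (Localization.Away g) (Localization.Away (algebraMap B B'' g))).comp
        (algebraMap B (Localization.Away g)) :=
    IsScalarTower.algebraMap_eq B (Localization.Away g) (Localization.Away (algebraMap B B'' g))
  rw [Ideal.map_map, ← IsScalarTower.algebraMap_eq, h1, ← Ideal.map_map, hKl, Ideal.map_span,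
    image_list]

end ChartMap

section AwayPt

/-- pointwise form of `kr_at_of_away` -/
theorem kr_at_of_away' {C : Type u} [CommRing C] (I : Ideal C) (G : C)
    (𝔭 : PrimeSpectrum C) (hG : G ∉ 𝔭.asIdeal)
    (t : Localization.Away G) (ht : t ∉ 𝔭.asIdeal.map (algebraMap C (Localization.Away G)))
    (l : List (Localization.Away t)) (hl : LCI.IsKoszulRegularSeq (Localization.Away t) l)
    (hIl : (I.map (algebraMap C (Localization.Away G))).map
      (algebraMap (Localization.Away G) (Localization.Away t)) = Ideal.span {x | x ∈ l}) :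
    ∃ g : C, g ∉ 𝔭.asIdeal ∧ ∃ l : List (Localization.Away g),
      LCI.IsKoszulRegularSeq (Localization.Away g) l ∧
      I.map (algebraMap C (Localization.Away g)) = Ideal.span {x | x ∈ l} := by
  obtain ⟨k, t', ht'⟩ := IsLocalization.Away.surj G t
  have hu : IsUnit (algebraMap C (Localization.Away G) G ^ k) :=
    IsLocalization.Away.algebraMap_pow_isUnit G k
  have ht'p : t' ∉ 𝔭.asIdeal := by
    intro hmem
    apply ht
    have h1 : t = algebraMap C (Localization.Away G) t' * ↑hu.unit⁻¹ := by
      rw [← ht', mul_assoc, IsUnit.mul_val_inv, mul_one]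
    rw [h1]
    exact Ideal.mul_mem_right _ _ (Ideal.mem_map_of_mem _ hmem)
  have hassoc : Associated t (algebraMap C (Localization.Away G) t') :=
    ⟨hu.unit, by rw [← ht']; rfl⟩
  haveI : IsLocalization.Away (algebraMap C (Localization.Away G) t') (Localization.Away t) :=
    IsLocalization.Away.of_associated hassoc
  haveI : IsLocalization.Away (G * t') (Localization.Away t) :=
    IsLocalization.Away.mul' (Localization.Away G) (Localization.Away t) G t'
  refine ⟨G * t', ?_, ?_⟩
  · intro hmem
    rcases 𝔭.2.mem_or_mem hmem with h | h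
    · exact hG h
    · exact ht'p h
  · refine exists_list_of_isLocalization I (G * t') (Localization.Away t) l hl ?_
    rw [IsScalarTower.algebraMap_eq C (Localization.Away G) (Localization.Away t),
      ← Ideal.map_map, hIl]

end AwayPt

end Groth.Agent.Helper2.KosDescent
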