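import Mathlib
import Groth.Prelude.Def_CAlgX
import Groth.Agent.Lib.Helper2.KosDescent2
import Groth.Agent.Lib.Helper28.KosH1

/-!
# `H_1`-regular sequences: native lemmas (trivial relations, change of generators)
-/

set_option autoImplicit false
universe u

namespace Groth.Agent.Helper2.H1Desc

open Groth.Agent.Helper2.KosDescent

section Native

variable {S : Type u} [CommRing S] {r : ℕ}

/-- the trivial relations -/
def Triv (f : Fin r → S) : Set (Fin r → S) :=
  {v | ∃ i j : Fin r, v = Pi.single i (f j) - Pi.single j (f i)}

/-- the linear combination map -/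
def comb (f : Fin r → S) (v : Fin r → S) : S := ∑ i, v i * f i

theorem comb_single (f : Fin r → S) (i : Fin r) (a : S) : comb f (Pi.single i a) = a * f i := by
  classical
  unfold comb
  rw [Finset.sum_eq_single i]
  · rw [Pi.single_eq_same]
  · intro j _ hj
    rw [Pi.single_eq_of_ne hj, zero_mul]
  · intro h
    exact absurd (Finset.mem_univ i) h

theorem isH1Regular_iff (f : Fin r → S) :
    CAlgX.IsH1Regular f ↔ ∀ a : Fin r → S, comb f a = 0 → a ∈ Submodule.span S (Triv f) :=
  Iff.rfl

/-- basis-free form of the trivial relations -/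
theorem basisfree (f : Fin r → S) (v w : Fin r → S) :
    comb f v • w - comb f w • v ∈ Submodule.span S (Triv f) := by
  classical
  have key : comb f v • w - comb f w • v =
      ∑ i, ∑ j, (v i * w j) • ((Pi.single j (f i) - Pi.single i (f j) : Fin r → S)) := by
    ext k
    simp only [Pi.sub_apply, Pi.smul_apply, smul_eq_mul, Finset.sum_apply, Pi.single_apply,
      mul_sub, mul_ite, mul_zero, Finset.sum_sub_distrib]
    unfold comb
    congr 1
    · rw [Finset.sum_mul]
      refine Finset.sum_congr rfl fun i _ => ?_
      rw [Finset.sum_ite_eq Finset.univ k, if_pos (Finset.mem_univ k)]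
      ring
    · rw [Finset.sum_comm, Finset.sum_mul]
      refine Finset.sum_congr rfl fun i _ => ?_
      rw [Finset.sum_ite_eq Finset.univ k, if_pos (Finset.mem_univ k)]
      ring
  rw [key]
  refine Submodule.sum_mem _ fun i _ => Submodule.sum_mem _ fun j _ =>
    Submodule.smul_mem _ _ (Submodule.subset_span ⟨j, i, rfl⟩)

/-- the ideal kills the relations modulo the trivial ones -/
theorem smul_mem_of_comb_eq_zero (f : Fin r → S) (z : Fin r → S) (hz : comb f z = 0)
    (x : S) (hx : x ∈ Ideal.span (Set.range f)) : x • z ∈ Submodule.span S (Triv f) := by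
  classical
  induction hx using Submodule.span_induction with
  | mem y hy =>
    obtain ⟨i, rfl⟩ := hy
    have h1 := basisfree f (Pi.single i 1) z
    rwa [comb_single, one_mul, hz, zero_smul, sub_zero] at h1
  | zero => rw [zero_smul]; exact Submodule.zero_mem _
  | add a b _ _ ha hb => rw [add_smul]; exact Submodule.add_mem _ ha hb
  | smul c a _ ha => rw [smul_eq_mul, mul_smul]; exact Submodule.smul_mem _ _ ha

theorem coord_mem_of_mem_span_triv (f : Fin r → S) (c : Fin r → S)
    (hc : c ∈ Submodule.span S (Triv f)) (k : Fin r) : c k ∈ Ideal.span (Set.range f) := by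
  classical
  induction hc using Submodule.span_induction with
  | mem y hy =>
    obtain ⟨i, j, rfl⟩ := hy
    rw [Pi.sub_apply, Pi.single_apply, Pi.single_apply]
    refine Ideal.sub_mem _ ?_ ?_
    · split_ifs
      · exact Ideal.subset_span ⟨j, rfl⟩
      · exact Ideal.zero_mem _
    · split_ifs
      · exact Ideal.subset_span ⟨i, rfl⟩
      · exact Ideal.zero_mem _
  | zero => exact Ideal.zero_mem _
  | add a b _ _ ha hb => exact Ideal.add_mem _ ha hb
  | smul x a _ ha => exact Ideal.mul_mem_left _ _ ha

theorem rel_le_of_h1 (f : Fin r → S) (h : CAlgX.IsH1Regular f) :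
    Rel f ≤ Ideal.span (Set.range f) := by
  rw [rel_le_iff]
  intro c hc j
  exact coord_mem_of_mem_span_triv f c (h c hc) j

theorem h1_of_span_top (f : Fin r → S) (h : Ideal.span (Set.range f) = ⊤) :
    CAlgX.IsH1Regular f := by
  intro a ha
  have h1 := smul_mem_of_comb_eq_zero f a ha 1 (by rw [h]; trivial)
  rwa [one_smul] at h1

end Native

section SpanEq

variable {S : Type u} [CommRing S] {r : ℕ}

theorem comb_add (f : Fin r → S) (v w : Fin r → S) : comb f (v + w) = comb f v + comb f w := by
  unfold comb
  simp only [Pi.add_apply, add_mul, Finset.sum_add_distrib]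

theorem comb_smul (f : Fin r → S) (c : S) (v : Fin r → S) : comb f (c • v) = c * comb f v := by
  unfold comb
  simp only [Pi.smul_apply, smul_eq_mul, mul_assoc, Finset.mul_sum]

theorem comb_sum {ι : Type*} (s : Finset ι) (f : Fin r → S) (v : ι → Fin r → S) :
    comb f (∑ k ∈ s, v k) = ∑ k ∈ s, comb f (v k) := by
  classical
  induction s using Finset.induction_on with
  | empty =>
    simp only [Finset.sum_empty]
    unfold comb
    simp
  | insert a s ha ih => rw [Finset.sum_insert ha, Finset.sum_insert ha, comb_add, ih]

theorem comb_sub_one (f : Fin r → S) (x : Fin r → S) (k : Fin r) :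
    comb f (fun j => x j - (1 : Matrix (Fin r) (Fin r) S) k j) = comb f x - f k := by
  classical
  unfold comb
  simp only [sub_mul, Finset.sum_sub_distrib, Matrix.one_apply, ite_mul, one_mul, zero_mul,
    Finset.sum_ite_eq, Finset.mem_univ, if_true]

/-- an `H_1`-regular generating sequence can be replaced by any generating sequence of the same
length -/
theorem h1_span_eq (g f : Fin r → S) (hg : CAlgX.IsH1Regular g)
    (hsp : Ideal.span (Set.range g) = Ideal.span (Set.range f)) : CAlgX.IsH1Regular f := by
  classical
  have hC : ∀ i, ∃ c : Fin r → S, ∑ j, c j * g j = f i := fun i => by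
    have h1 : f i ∈ Ideal.span (Set.range g) := by
      rw [hsp]
      exact Ideal.subset_span ⟨i, rfl⟩
    exact Ideal.mem_span_range_iff_exists_fun.mp h1
  have hD : ∀ i, ∃ d : Fin r → S, ∑ j, d j * f j = g i := fun i => by
    have h1 : g i ∈ Ideal.span (Set.range f) := by
      rw [← hsp]
      exact Ideal.subset_span ⟨i, rfl⟩
    exact Ideal.mem_span_range_iff_exists_fun.mp h1
  choose C hC using hC
  choose D hD using hD
  have hCf : ∀ i, comb g (C i) = f i := fun i => hC i
  have hDg : ∀ i, comb f (D i) = g i := fun i => hD i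
  set M : Matrix (Fin r) (Fin r) S := Matrix.of C * Matrix.of D with hM
  set M' : Matrix (Fin r) (Fin r) S := Matrix.of D * Matrix.of C with hM'
  -- `M f = f`
  have hMf : ∀ i, comb f (fun j => M i j) = f i := by
    intro i
    have h1 : (fun j => M i j) = ∑ k, C i k • D k := by
      ext j
      simp only [hM, Matrix.mul_apply, Matrix.of_apply, Finset.sum_apply, Pi.smul_apply,
        smul_eq_mul]
    rw [h1, comb_sum]
    simp only [comb_smul, hDg]
    exact hCf i
  -- `(D C) g = g`
  have hNg : ∀ i, comb g (fun j => M' i j) = g i := by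
    intro i
    have h1 : (fun j => M' i j) = ∑ k, D i k • C k := by
      ext j
      simp only [hM', Matrix.mul_apply, Matrix.of_apply, Finset.sum_apply, Pi.smul_apply,
        smul_eq_mul]
    rw [h1, comb_sum]
    simp only [comb_smul, hCf]
    exact hDg i
  have hN : ∀ i j, M' i j - (1 : Matrix (Fin r) (Fin r) S) i j ∈
      Ideal.span (Set.range g) := by
    intro i j
    apply rel_le_of_h1 g hg
    refine mem_rel g (fun j => M' i j - (1 : Matrix (Fin r) (Fin r) S) i j) ?_ j
    have h2 := comb_sub_one g (fun j => M' i j) i
    rw [hNg, sub_self] at h2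
    exact h2
  have hdet : M'.det - 1 ∈ Ideal.span (Set.range g) := by
    rw [← Ideal.Quotient.eq_zero_iff_mem, map_sub, map_one, RingHom.map_det]
    have h1 : (Ideal.Quotient.mk (Ideal.span (Set.range g))).mapMatrix M' = 1 := by
      ext i j
      have h2 := hN i j
      rw [← Ideal.Quotient.eq_zero_iff_mem, map_sub, sub_eq_zero] at h2
      rw [RingHom.mapMatrix_apply, Matrix.map_apply, h2, Matrix.one_apply, Matrix.one_apply]
      split_ifs
      · exact map_one _
      · exact map_zero _
    rw [h1, Matrix.det_one, sub_self]
  have hdetM : M.det - 1 ∈ Ideal.span (Set.range f) := by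
    rw [hM, Matrix.det_mul_comm, ← hsp]
    exact hdet
  -- Claim 1
  have claim1 : ∀ a : Fin r → S, comb f a = 0 →
      Matrix.vecMul a M ∈ Submodule.span S (Triv f) := by
    intro a ha
    have hb : comb g (Matrix.vecMul a (Matrix.of C)) = 0 := by
      have h1 : Matrix.vecMul a (Matrix.of C) = ∑ i, a i • C i := by
        ext j
        simp only [Matrix.vecMul, dotProduct, Matrix.of_apply, Finset.sum_apply, Pi.smul_apply,
          smul_eq_mul]
      rw [h1, comb_sum]
      simp only [comb_smul, hCf]
      exact ha
    have hbT := hg _ hb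
    have hmap : ∀ b : Fin r → S, b ∈ Submodule.span S (Triv g) →
        Matrix.vecMul b (Matrix.of D) ∈ Submodule.span S (Triv f) := by
      intro b hb
      induction hb using Submodule.span_induction with
      | mem y hy =>
        obtain ⟨i, j, rfl⟩ := hy
        rw [Matrix.sub_vecMul, Matrix.single_vecMul, Matrix.single_vecMul]
        have h2 := basisfree f (D j) (D i)
        rw [hDg, hDg] at h2
        exact h2
      | zero => rw [Matrix.zero_vecMul]; exact Submodule.zero_mem _
      | add x y _ _ hx hy => rw [Matrix.add_vecMul]; exact Submodule.add_mem _ hx hy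
      | smul c x _ hx => rw [Matrix.smul_vecMul]; exact Submodule.smul_mem _ _ hx
    have h3 := hmap _ hbT
    rwa [Matrix.vecMul_vecMul] at h3
  -- the rows of `M - 1`
  set n : Fin r → Fin r → S := fun k j => M k j - (1 : Matrix (Fin r) (Fin r) S) k j with hndef
  have hn : ∀ k, comb f (n k) = 0 := by
    intro k
    have h2 := comb_sub_one f (fun j => M k j) k
    rw [hMf, sub_self] at h2
    exact h2
  have hvec : ∀ a : Fin r → S, Matrix.vecMul a M = a + ∑ i, a i • n i := by
    intro a
    ext j
    simp only [hndef, Matrix.vecMul, dotProduct, Pi.add_apply, Finset.sum_apply, Pi.smul_apply,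
      smul_eq_mul, Matrix.one_apply, mul_sub, Finset.sum_sub_distrib, mul_ite,
      mul_one, mul_zero, Finset.sum_ite_eq', Finset.mem_univ, if_true]
    ring
  -- Claim 2
  have claim2 : ∀ l, n l ∈ Submodule.span S (Triv f) := by
    intro l
    have ht : ∀ k, ∑ i, M k i • n i ∈ Submodule.span S (Triv f) := by
      intro k
      have h1 := claim1 _ (hn k)
      rw [hvec] at h1
      have h2 : n k + ∑ i, n k i • n i = ∑ i, M k i • n i := by
        have h3 : ∀ i, M k i = (1 : Matrix (Fin r) (Fin r) S) k i + n k i := by
          intro i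
          simp only [hndef]
          ring
        simp only [h3, add_smul, Finset.sum_add_distrib, Matrix.one_apply, ite_smul, one_smul,
          zero_smul, Finset.sum_ite_eq, Finset.mem_univ, if_true]
      rwa [h2] at h1
    have h4 : ∑ k, M.adjugate l k • ∑ i, M k i • n i = M.det • n l := by
      simp only [Finset.smul_sum, smul_smul]
      rw [Finset.sum_comm]
      have h5 : ∀ i, ∑ k, (M.adjugate l k * M k i) • n i =
          (M.det • (1 : Matrix (Fin r) (Fin r) S)) l i • n i := by
        intro i
        rw [← Finset.sum_smul, ← Matrix.adjugate_mul, Matrix.mul_apply]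
      simp only [h5, Matrix.smul_apply, Matrix.one_apply, smul_eq_mul, mul_ite, mul_one, mul_zero,
        ite_smul, zero_smul, Finset.sum_ite_eq, Finset.mem_univ, if_true]
    have h6 : M.det • n l ∈ Submodule.span S (Triv f) := by
      rw [← h4]
      exact Submodule.sum_mem _ fun k _ => Submodule.smul_mem _ _ (ht k)
    have h7 := smul_mem_of_comb_eq_zero f _ (hn l) _ hdetM
    have h8 : n l = M.det • n l - (M.det - 1) • n l := by
      rw [sub_smul, one_smul]
      abel
    rw [h8]
    exact Submodule.sub_mem _ h6 h7
  intro a ha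
  have h1 := claim1 a ha
  rw [hvec] at h1
  have h2 : a = (a + ∑ i, a i • n i) - ∑ i, a i • n i := by abel
  rw [h2]
  exact Submodule.sub_mem _ h1
    (Submodule.sum_mem _ fun i _ => Submodule.smul_mem _ _ (claim2 i))

end SpanEq

end Groth.Agent.Helper2.H1Desc
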