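import Mathlib
import Groth.Prelude.Def_CAlgX
import Groth.Agent.Lib.Helper2.H1Desc1
import Groth.Agent.Lib.Helper21.KL5

/-!
# `H_1`-regular sequences and the Koszul complex in degree `-1`
-/

set_option autoImplicit false
universe u
open CategoryTheory CochainComplex HomComplex

namespace Groth.Agent.Helper2.H1Desc

open Groth.Agent.Helper5.KR Groth.Agent.Helper28.KosH1 Koszul

variable {A : Type u} [CommRing A]

/-- low-degree presentation, with the trivial relations being boundaries -/
structure PresC3 (K : CochainComplex (ModuleCat.{u} A) ℤ) (l : List A) extends PresC2 K l where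
  t2 : ∀ i j : Fin l.length, ∃ w : K.X (-2),
    e1 (K.d (-2) (-1) w) = Pi.single i (l.get j) - Pi.single j (l.get i)

theorem e1_cone (K : CochainComplex (ModuleCat.{u} A) ℤ) (l : List A) (f : A)
    (P : PresC K l) (hz1 : Limits.IsZero (K.X 1)) (x : K.X (-1)) (y : K.X (-2)) :
    (presCone K l f P hz1).e1 ((mappingCone (f • 𝟙 K)).d (-2) (-1)
      (cinl (f • 𝟙 K) (-2) (-1) (by lia) x + cinr (f • 𝟙 K) (-2) y)) =
      (Fin.cons (-(∑ i, P.e1 x i * l.get i)) (f • P.e1 x + P.e1 (K.d (-2) (-1) y)) :
        Fin (f :: l).length → A) := by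
  have hφ : ∀ (n : ℤ) (x : K.X n), (f • 𝟙 K : K ⟶ K).f n x = f • x := by
    intro n x
    simp
  have hval : ∀ z, (presCone K l f P hz1).e1 z =
      Fin.cons (P.e0 (cfst (f • 𝟙 K) (-1) 0 (by lia) z)) (P.e1 (csnd (f • 𝟙 K) (-1) z)) :=
    fun z => rfl
  rw [hval, cfst_d (f • 𝟙 K) (-2) (-1) 0 (by lia) (by lia), map_neg, P.d0,
    csnd_d (f • 𝟙 K) (-2) (-1) (by lia), hφ]
  simp only [map_add, cfst_cinl, cfst_cinr, csnd_cinl, csnd_cinr, add_zero, zero_add, map_smul]

/-- the induction step -/
noncomputable def presCone3 (K : CochainComplex (ModuleCat.{u} A) ℤ) (l : List A) (f : A)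
    (P : PresC3 K l) (hz1 : Limits.IsZero (K.X 1)) :
    PresC3 (mappingCone (f • 𝟙 K)) (f :: l) where
  toPresC2 := presCone2 K l f P.toPresC2 hz1
  t2 := by
    classical
    intro i j
    have hE := e1_cone K l f P.toPresC hz1
    refine Fin.cases ?_ (fun i' => ?_) i
    · refine Fin.cases ?_ (fun j' => ?_) j
      · refine ⟨0, ?_⟩
        rw [map_zero, map_zero, sub_self]
      · refine ⟨cinl (f • 𝟙 K) (-2) (-1) (by lia) (P.e1.symm (-(Pi.single j' 1))) +
          cinr (f • 𝟙 K) (-2) 0, ?_⟩
        refine (hE _ _).trans ?_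
        rw [LinearEquiv.apply_symm_apply, map_zero, map_zero, add_zero]
        ext k
        refine Fin.cases ?_ (fun k' => ?_) k
        · show (Fin.cons _ _ : Fin (l.length + 1) → A) 0 = _
          rw [Fin.cons_zero]
          show _ = (Pi.single (0 : Fin (l.length + 1)) (l.get j') -
            Pi.single (Fin.succ j' : Fin (l.length + 1)) f : Fin (l.length + 1) → A) 0
          rw [Pi.sub_apply, Pi.single_eq_same, Pi.single_eq_of_ne (Fin.succ_ne_zero j').symm,
            sub_zero]
          simp only [Pi.neg_apply, Pi.single_apply, neg_mul, ite_mul, one_mul, zero_mul,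
            Finset.sum_neg_distrib, neg_neg, Finset.sum_ite_eq', Finset.mem_univ, if_true]
        · show (Fin.cons _ _ : Fin (l.length + 1) → A) k'.succ = _
          rw [Fin.cons_succ]
          show _ = (Pi.single (0 : Fin (l.length + 1)) (l.get j') -
            Pi.single (Fin.succ j' : Fin (l.length + 1)) f : Fin (l.length + 1) → A) k'.succ
          rw [Pi.sub_apply, Pi.single_eq_of_ne (Fin.succ_ne_zero k'), zero_sub]
          simp only [Pi.smul_apply, Pi.neg_apply, Pi.single_apply, smul_eq_mul, Fin.succ_inj]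
          split_ifs <;> ring
    · refine Fin.cases ?_ (fun j' => ?_) j
      · refine ⟨cinl (f • 𝟙 K) (-2) (-1) (by lia) (P.e1.symm (Pi.single i' 1)) +
          cinr (f • 𝟙 K) (-2) 0, ?_⟩
        refine (hE _ _).trans ?_
        rw [LinearEquiv.apply_symm_apply, map_zero, map_zero, add_zero]
        ext k
        refine Fin.cases ?_ (fun k' => ?_) k
        · show (Fin.cons _ _ : Fin (l.length + 1) → A) 0 = _
          rw [Fin.cons_zero]
          show _ = (Pi.single (Fin.succ i' : Fin (l.length + 1)) f -
            Pi.single (0 : Fin (l.length + 1)) (l.get i') : Fin (l.length + 1) → A) 0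
          rw [Pi.sub_apply, Pi.single_eq_same, Pi.single_eq_of_ne (Fin.succ_ne_zero i').symm,
            zero_sub]
          simp only [Pi.single_apply, ite_mul, one_mul, zero_mul,
            Finset.sum_ite_eq', Finset.mem_univ, if_true]
        · show (Fin.cons _ _ : Fin (l.length + 1) → A) k'.succ = _
          rw [Fin.cons_succ]
          show _ = (Pi.single (Fin.succ i' : Fin (l.length + 1)) f -
            Pi.single (0 : Fin (l.length + 1)) (l.get i') : Fin (l.length + 1) → A) k'.succ
          rw [Pi.sub_apply, Pi.single_eq_of_ne (Fin.succ_ne_zero k'), sub_zero]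
          simp only [Pi.smul_apply, Pi.single_apply, smul_eq_mul, Fin.succ_inj]
          split_ifs <;> ring
      · obtain ⟨w0, hw0⟩ := P.t2 i' j'
        refine ⟨cinl (f • 𝟙 K) (-2) (-1) (by lia) 0 + cinr (f • 𝟙 K) (-2) w0, ?_⟩
        refine (hE _ _).trans ?_
        rw [map_zero, smul_zero, zero_add, hw0]
        ext k
        refine Fin.cases ?_ (fun k' => ?_) k
        · show (Fin.cons _ _ : Fin (l.length + 1) → A) 0 = _
          rw [Fin.cons_zero]
          show _ = (Pi.single (Fin.succ i' : Fin (l.length + 1)) (l.get j') -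
            Pi.single (Fin.succ j' : Fin (l.length + 1)) (l.get i') : Fin (l.length + 1) → A) 0
          rw [Pi.sub_apply, Pi.single_eq_of_ne (Fin.succ_ne_zero i').symm,
            Pi.single_eq_of_ne (Fin.succ_ne_zero j').symm, sub_zero]
          simp only [Pi.zero_apply, zero_mul, Finset.sum_const_zero, neg_zero]
        · show (Fin.cons _ _ : Fin (l.length + 1) → A) k'.succ = _
          rw [Fin.cons_succ]
          show _ = (Pi.single (Fin.succ i' : Fin (l.length + 1)) (l.get j') -
            Pi.single (Fin.succ j' : Fin (l.length + 1)) (l.get i') : Fin (l.length + 1) → A)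
              k'.succ
          simp only [Pi.sub_apply, Pi.single_apply, Fin.succ_inj]

theorem nonempty_pres3 : ∀ l : List A, Nonempty (PresC3 (koszul A l) l)
  | [] => by
    obtain ⟨P⟩ := nonempty_pres2 ([] : List A)
    refine ⟨{ toPresC2 := P, t2 := ?_ }⟩
    intro i
    exact i.elim0
  | f :: l => by
    obtain ⟨P⟩ := nonempty_pres3 l
    exact ⟨presCone3 (koszul A l) l f P (isZero_koszul_X_pos A l 1 (by lia))⟩

/-- If the sequence is `H_1`-regular, `H^{-1}` of the Koszul complex vanishes. -/
theorem isZero_homology_of_h1 (l : List A) (h : CAlgX.IsH1Regular l.get) :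
    Limits.IsZero ((koszul A l).homology (-1)) := by
  obtain ⟨P⟩ := nonempty_pres3 l
  rw [← HomologicalComplex.exactAt_iff_isZero_homology,
    HomologicalComplex.exactAt_iff' _ (-2) (-1) 0 (by simp) (by simp),
    ShortComplex.moduleCat_exact_iff]
  intro z hz
  have hz' : (koszul A l).d (-1) 0 z = 0 := hz
  have hrel : ∑ i, P.e1 z i * l.get i = 0 := by
    rw [← P.d0, hz', map_zero]
  have hmem := h _ hrel
  -- the submodule of boundaries, in coordinates
  let N : Submodule A (Fin l.length → A) :=
    LinearMap.range (P.e1.toLinearMap ∘ₗ ((koszul A l).d (-2) (-1)).hom)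
  have hle : Submodule.span A {v : Fin l.length → A | ∃ i j : Fin l.length,
      v = Pi.single i (l.get j) - Pi.single j (l.get i)} ≤ N := by
    rw [Submodule.span_le]
    rintro _ ⟨i, j, rfl⟩
    obtain ⟨w, hw⟩ := P.t2 i j
    exact ⟨w, hw⟩
  obtain ⟨w, hw⟩ := hle hmem
  refine ⟨w, ?_⟩
  apply P.e1.injective
  exact hw

theorem h1_iff_isZero_homology (l : List A) :
    CAlgX.IsH1Regular l.get ↔ Limits.IsZero ((koszul A l).homology (-1)) :=
  ⟨isZero_homology_of_h1 l, h1_of_isZero_homology l⟩

theorem h1_iff_acycAt (l : List A) :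
    CAlgX.IsH1Regular l.get ↔ Groth.Agent.Helper21.KL.AcycAt l A (-1) := by
  rw [h1_iff_isZero_homology]
  unfold Groth.Agent.Helper21.KL.AcycAt
  exact Groth.Agent.Helper2.KosReg.transfer (Groth.Agent.Helper21.KL.koszul_eq l) (-1)

end Groth.Agent.Helper2.H1Desc
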