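import Mathlib
import Groth.Prelude.Def_LCI2
import Groth.Prelude.Def_ega3
import Groth.Agent.Lib.Helper2.KosDescent2

/-!
# Faithfully flat descent of "regular ideal" properties: the generic uniform-rank step
-/

set_option autoImplicit false
universe u
open TensorProduct Pointwise

namespace Groth.Agent.Helper2.QRDescent

open Groth.Agent.Helper2.KosDescent

section Generic

variable {A B : Type u} [CommRing A] [CommRing B] [Algebra A B] [Module.FaithfullyFlat A B]
  {r : ℕ} (f : Fin r → A) (Good : B → Prop)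

/-- the local description of the charts of `IB`, `I = (f)` -/
def LocDesc : Prop :=
  ∀ (𝔮' : Ideal B), 𝔮'.IsPrime → ∃ g' : B, g' ∉ 𝔮' ∧
    ((Ideal.span (Set.range f)).map (algebraMap A (Localization.Away g'))).FG ∧
    ((Good g' ∧ (Rel f).map (algebraMap A (Localization.Away g')) ≤
        (Ideal.span (Set.range f)).map (algebraMap A (Localization.Away g'))) ∨
     ((Rel f).map (algebraMap A (Localization.Away g')) = ⊤ ∧
        (Ideal.span (Set.range f)).map (algebraMap A B) ≤ 𝔮'))

variable (hloc : LocDesc f Good)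

include hloc in
theorem E_fg' : (EId f).FG := by
  apply Ideal.FG.of_FG_map_of_faithfullyFlat (S := B)
  apply fg_of_local
  intro P hP
  obtain ⟨g', hg', hfg, h | h⟩ := hloc P hP
  · refine ⟨g', hg', ?_⟩
    rw [E_map_away, sup_of_le_right h.2]
    exact hfg
  · refine ⟨g', hg', ?_⟩
    rw [E_map_away, h.1, top_sup_eq]
    exact ⟨{1}, by simp⟩

include hloc in
theorem E_le' : EId f ≤ EId f * EId f ⊔ Ideal.span (Set.range f) := by
  have hB : (EId f).map (algebraMap A B) ≤
      (EId f * EId f ⊔ Ideal.span (Set.range f)).map (algebraMap A B) := by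
    intro x hx
    by_contra hx'
    have hcol : ((EId f * EId f ⊔ Ideal.span (Set.range f)).map (algebraMap A B)).colon
        ({x} : Set B) ≠ ⊤ := by
      intro htop
      apply hx'
      have h1 : (1 : B) ∈ ((EId f * EId f ⊔ Ideal.span (Set.range f)).map
          (algebraMap A B)).colon ({x} : Set B) := by
        rw [htop]
        trivial
      rw [Submodule.mem_colon_singleton, one_smul] at h1
      exact h1
    obtain ⟨𝔪, h𝔪, hle⟩ := Ideal.exists_le_maximal _ hcol
    obtain ⟨g', hg', -, h | h⟩ := hloc 𝔪 h𝔪.isPrime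
    · have h1 : algebraMap B (Localization.Away g') x ∈
          ((Ideal.span (Set.range f)).map (algebraMap A B)).map
            (algebraMap B (Localization.Away g')) := by
        have h2 := Ideal.mem_map_of_mem (algebraMap B (Localization.Away g')) hx
        rw [E_map_away, sup_of_le_right h.2] at h2
        rw [Ideal.map_map, ← IsScalarTower.algebraMap_eq]
        exact h2
      rw [IsLocalization.algebraMap_mem_map_algebraMap_iff (Submonoid.powers g')] at h1
      obtain ⟨m, ⟨n, rfl⟩, hm⟩ := h1
      have h3 : g' ^ n ∈ ((EId f * EId f ⊔ Ideal.span (Set.range f)).map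
          (algebraMap A B)).colon ({x} : Set B) := by
        rw [Submodule.mem_colon_singleton, smul_eq_mul]
        exact Ideal.map_mono le_sup_right hm
      exact hg' (h𝔪.isPrime.mem_of_pow_mem n (hle h3))
    · have h1 : (1 : Localization.Away g') ∈
          ((EId f).map (algebraMap A B)).map (algebraMap B (Localization.Away g')) := by
        rw [E_map_away, h.1, top_sup_eq]
        trivial
      rw [← map_one (algebraMap B (Localization.Away g')),
        IsLocalization.algebraMap_mem_map_algebraMap_iff (Submonoid.powers g')] at h1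
      obtain ⟨m, ⟨n, rfl⟩, hm⟩ := h1
      rw [mul_one] at hm
      have h3 : g' ^ n ∈ ((EId f * EId f ⊔ Ideal.span (Set.range f)).map
          (algebraMap A B)).colon ({x} : Set B) := by
        rw [Submodule.mem_colon_singleton, smul_eq_mul, Ideal.map_sup, Ideal.map_mul]
        exact Ideal.mem_sup_left (Ideal.mul_mem_mul hm hx)
      exact hg' (h𝔪.isPrime.mem_of_pow_mem n (hle h3))
  have h1 := Ideal.comap_mono (f := algebraMap A B) hB
  rw [Ideal.comap_map_eq_self_of_faithfullyFlat, Ideal.comap_map_eq_self_of_faithfullyFlat] at h1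
  exact h1

include hloc in
/-- the Nakayama step -/
theorem exists_nak' :
    ∃ s : A, s - 1 ∈ EId f ∧ ∀ x ∈ EId f, s * x ∈ Ideal.span (Set.range f) := by
  have hN : (Submodule.map (Submodule.mkQ (Ideal.span (Set.range f))) (EId f)).FG :=
    Submodule.FG.map _ (E_fg' f Good hloc)
  have hle : Submodule.map (Submodule.mkQ (Ideal.span (Set.range f))) (EId f) ≤
      (EId f) • Submodule.map (Submodule.mkQ (Ideal.span (Set.range f))) (EId f) := by
    rintro _ ⟨x, hx, rfl⟩
    have hx' := E_le' f Good hloc hx
    obtain ⟨y, hy, z, hz, rfl⟩ := Submodule.mem_sup.mp hx'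
    have h1 : Submodule.mkQ (Ideal.span (Set.range f)) (y + z) =
        Submodule.mkQ (Ideal.span (Set.range f)) y := by
      rw [map_add]
      have : Submodule.mkQ (Ideal.span (Set.range f)) z = 0 :=
        (Submodule.Quotient.mk_eq_zero _).mpr hz
      rw [this, add_zero]
    rw [h1, ← Submodule.map_smul'']
    exact Submodule.mem_map_of_mem hy
  obtain ⟨s, hs1, hs2⟩ := Submodule.exists_sub_one_mem_and_smul_eq_zero_of_fg_of_le_smul
    (EId f) _ hN hle
  refine ⟨s, hs1, fun x hx => ?_⟩
  have h1 := hs2 _ (Submodule.mem_map_of_mem (f := Submodule.mkQ (Ideal.span (Set.range f))) hx)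
  rw [← map_smul, smul_eq_mul] at h1
  exact (Submodule.Quotient.mk_eq_zero _).mp h1

omit [Module.FaithfullyFlat A B] in
/-- at a prime having a chart of type A, `E` is contained in the contraction -/
theorem E_le_comap' (𝔮 : Ideal B) [h𝔮 : 𝔮.IsPrime]
    (hI𝔮 : (Ideal.span (Set.range f)).map (algebraMap A B) ≤ 𝔮)
    (g : B) (hg : g ∉ 𝔮)
    (h2 : (Rel f).map (algebraMap A (Localization.Away g)) ≤
      (Ideal.span (Set.range f)).map (algebraMap A (Localization.Away g))) :
    EId f ≤ 𝔮.comap (algebraMap A B) := by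
  intro x hx
  rw [Ideal.mem_comap]
  apply comap_map_away 𝔮 g hg
  have h3 := Ideal.mem_map_of_mem (algebraMap A (Localization.Away g)) hx
  rw [Ideal.map_sup, sup_of_le_right h2, IsScalarTower.algebraMap_eq A B (Localization.Away g),
    ← Ideal.map_map] at h3
  rw [← IsScalarTower.algebraMap_apply]
  exact Ideal.map_mono hI𝔮 h3

include hloc in
omit [Module.FaithfullyFlat A B] in
theorem good_charts (s : A) (hs : ∀ x ∈ Rel f, s * x ∈ Ideal.span (Set.range f))
    (𝔮' : Ideal B) (h𝔮' : 𝔮'.IsPrime) (hs𝔮' : algebraMap A B s ∉ 𝔮') :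
    ∃ g' : B, g' ∉ 𝔮' ∧ Good g' := by
  obtain ⟨g', hg', -, h | ⟨h, hle⟩⟩ := hloc 𝔮' h𝔮'
  · exact ⟨g', hg', h.1⟩
  · exfalso
    apply hs𝔮'
    apply comap_map_away 𝔮' g' hg'
    have h1 : Ideal.span {s} * Rel f ≤ Ideal.span (Set.range f) := by
      rw [Ideal.span_singleton_mul_le_iff]
      exact hs
    have h2 := Ideal.map_mono (f := algebraMap A (Localization.Away g')) h1
    rw [Ideal.map_mul, h, Ideal.mul_top, Ideal.map_span, Set.image_singleton,
      Ideal.span_singleton_le_iff_mem, IsScalarTower.algebraMap_eq A B (Localization.Away g'),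
      ← Ideal.map_map] at h2
    exact Ideal.map_mono hle h2

include hloc in
/-- generic Stage 2 -/
theorem stage2' (𝔮 : Ideal B) [h𝔮 : 𝔮.IsPrime]
    (hI𝔮 : (Ideal.span (Set.range f)).map (algebraMap A B) ≤ 𝔮)
    (g : B) (hg : g ∉ 𝔮)
    (h2 : (Rel f).map (algebraMap A (Localization.Away g)) ≤
      (Ideal.span (Set.range f)).map (algebraMap A (Localization.Away g))) :
    ∃ s : A, algebraMap A B s ∉ 𝔮 ∧
      ∀ 𝔮' : Ideal B, 𝔮'.IsPrime → algebraMap A B s ∉ 𝔮' → ∃ g' : B, g' ∉ 𝔮' ∧ Good g' := by
  obtain ⟨s, hs1, hs2⟩ := exists_nak' f Good hloc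
  have hE := E_le_comap' f 𝔮 hI𝔮 g hg h2
  refine ⟨s, ?_, ?_⟩
  · intro hmem
    have h1 : algebraMap A B (s - 1) ∈ 𝔮 := hE hs1
    rw [map_sub, map_one] at h1
    have h2 : (1 : B) ∈ 𝔮 := by
      have := 𝔮.sub_mem hmem h1
      rwa [sub_sub_cancel] at this
    exact h𝔮.ne_top ((Ideal.eq_top_iff_one _).mpr h2)
  · intro 𝔮' h𝔮' hs𝔮'
    exact good_charts f Good hloc s (fun x hx => hs2 x (le_sup_left (a := Rel f) hx)) 𝔮' h𝔮' hs𝔮'

end Generic

section Drop

variable {A B : Type u} [CommRing A] [CommRing B] [Algebra A B] [Module.Flat A B]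
  (I : Ideal A) (𝔮 : Ideal B) [h𝔮 : 𝔮.IsPrime] (g : B) (hg : g ∉ 𝔮)
  {r : ℕ} (fc : Fin r → Localization.Away g)
  (hIl : (I.map (algebraMap A B)).map (algebraMap B (Localization.Away g)) =
    Ideal.span (Set.range fc))

include hIl in
theorem chart_span' {s : ℕ} (F : Fin s → A) (hF : ∀ i, F i ∈ I) (a : A)
    (haI : ∀ x ∈ I, a * x ∈ Ideal.span (Set.range F)) :
    Ideal.span (Set.range (fun i => algebraMap A (ChartRing g a) (F i))) =
      Ideal.span (Set.range (fun i : Fin r =>
        algebraMap (Localization.Away g) (ChartRing g a) (fc i))) ∧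
    I.map (algebraMap A (ChartRing g a)) =
      Ideal.span (Set.range (fun i => algebraMap A (ChartRing g a) (F i))) := by
  have hu : IsUnit (algebraMap A (ChartRing g a) a) := by
    rw [IsScalarTower.algebraMap_apply A B (ChartRing g a),
      IsScalarTower.algebraMap_apply B (Localization.Away g) (ChartRing g a)]
    exact IsLocalization.Away.algebraMap_isUnit _
  have h1 : Ideal.span (Set.range (fun i => algebraMap A (ChartRing g a) (F i))) =
      (Ideal.span (Set.range F)).map (algebraMap A (ChartRing g a)) := by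
    rw [Ideal.map_span, ← Set.range_comp]
    rfl
  have h2 : (Ideal.span (Set.range F)).map (algebraMap A (ChartRing g a)) =
      I.map (algebraMap A (ChartRing g a)) := by
    apply le_antisymm
    · apply Ideal.map_mono
      rw [Ideal.span_le]
      rintro x ⟨i, rfl⟩
      exact hF i
    · rw [Ideal.map_le_iff_le_comap]
      intro x hx
      rw [Ideal.mem_comap]
      have h3 : algebraMap A (ChartRing g a) x =
          ↑hu.unit⁻¹ * algebraMap A (ChartRing g a) (a * x) := by
        rw [map_mul, ← mul_assoc, IsUnit.val_inv_mul, one_mul]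
      rw [h3]
      exact Ideal.mul_mem_left _ _ (Ideal.mem_map_of_mem _ (haI x hx))
  have h4 : I.map (algebraMap A (ChartRing g a)) =
      Ideal.span (Set.range (fun i : Fin r =>
        algebraMap (Localization.Away g) (ChartRing g a) (fc i))) := by
    rw [IsScalarTower.algebraMap_eq A B (ChartRing g a), ← Ideal.map_map,
      IsScalarTower.algebraMap_eq B (Localization.Away g) (ChartRing g a), ← Ideal.map_map, hIl,
      Ideal.map_span, ← Set.range_comp]
    rfl
  exact ⟨by rw [h1, h2, h4], by rw [h1, h2]⟩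

include hg hIl in
/-- Stage 1, generic form: only `Rel fc ≤ (fc)` is needed of the chart. -/
theorem exists_drop' (hrel : Rel fc ≤ Ideal.span (Set.range fc))
    (hI𝔮 : I.map (algebraMap A B) ≤ 𝔮) :
    ∀ (s : ℕ) (F : Fin s → A), (∀ i, F i ∈ I) → ∀ a : A, algebraMap A B a ∉ 𝔮 →
      (∀ x ∈ I, a * x ∈ Ideal.span (Set.range F)) →
      ∃ F' : Fin r → A, (∀ i, F' i ∈ I) ∧ ∃ a' : A, algebraMap A B a' ∉ 𝔮 ∧
        ∀ x ∈ I, a' * x ∈ Ideal.span (Set.range F') := by
  intro s
  induction s using Nat.strong_induction_on with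
  | _ s ih =>
    intro F hF a ha haI
    obtain ⟨hsp, hImap⟩ := chart_span' I g fc hIl F hF a haI
    have hne := chart_ne_top 𝔮 g hg a ha
    have hIS : I.map (algebraMap A (ChartRing g a)) ≤ 𝔮.map (algebraMap B (ChartRing g a)) := by
      rw [IsScalarTower.algebraMap_eq A B (ChartRing g a), ← Ideal.map_map]
      exact Ideal.map_mono hI𝔮
    rcases lt_trichotomy s r with hlt | heq | hgt
    · exfalso
      have h1 := rel_eq_top _ _ hsp.symm hlt
      have h3 : Rel (fun i : Fin r => algebraMap (Localization.Away g) (ChartRing g a) (fc i)) ≤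
          Ideal.span (Set.range (fun i : Fin r =>
            algebraMap (Localization.Away g) (ChartRing g a) (fc i))) := by
        rw [rel_baseChange (ChartRing g a) fc]
        have h4 := Ideal.map_mono (f := algebraMap (Localization.Away g) (ChartRing g a)) hrel
        rw [Ideal.map_span, ← Set.range_comp] at h4
        exact h4
      rw [h1, ← hsp, ← hImap] at h3
      exact hne (top_le_iff.mp (h3.trans hIS))
    · subst heq
      exact ⟨F, hF, a, ha, haI⟩
    · obtain ⟨s', rfl⟩ : ∃ s', s = s' + 1 := ⟨s - 1, by omega⟩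
      have h1 := rel_eq_top _ _ hsp hgt
      rw [rel_baseChange (ChartRing g a) F] at h1
      have h2 : ¬ Rel F ≤ 𝔮.comap (algebraMap A B) := by
        intro hle
        apply hne
        rw [← top_le_iff, ← h1, IsScalarTower.algebraMap_eq A B (ChartRing g a), ← Ideal.map_map]
        exact Ideal.map_mono (Ideal.map_le_iff_le_comap.mpr hle)
      have h3 : ∃ j, ¬ RelAt F j ≤ 𝔮.comap (algebraMap A B) := by
        by_contra hcon
        push Not at hcon
        exact h2 (iSup_le hcon)
      obtain ⟨j, hj⟩ := h3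
      obtain ⟨_, ⟨c, hc, rfl⟩, hcj⟩ := Set.not_subset.mp hj
      refine ih s' (by omega) (F ∘ j.succAbove) (fun i => hF _) (a * c j) ?_ ?_
      · rw [map_mul]
        intro hmem
        rcases h𝔮.mem_or_mem hmem with h | h
        · exact ha h
        · exact hcj h
      · intro x hx
        obtain ⟨d, hd⟩ := Ideal.mem_span_range_iff_exists_fun.mp (haI x hx)
        rw [Fin.sum_univ_succAbove _ j] at hd hc
        have h4 : a * c j * x = c j * (a * x) := by ring
        rw [h4, ← hd, mul_add]
        refine Ideal.add_mem _ ?_ ?_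
        · have h5 : c j * (d j * F j) = d j * (c j * F j) := by ring
          have h6 : c j * F j = - ∑ k, c (j.succAbove k) * F (j.succAbove k) :=
            eq_neg_of_add_eq_zero_left hc
          rw [h5, h6]
          refine Ideal.mul_mem_left _ _ ((Ideal.neg_mem_iff _).mpr ?_)
          exact Ideal.sum_mem _ fun k _ => Ideal.mul_mem_left _ _ (Ideal.subset_span ⟨k, rfl⟩)
        · exact Ideal.mul_mem_left _ _ (Ideal.sum_mem _ fun k _ =>
            Ideal.mul_mem_left _ _ (Ideal.subset_span ⟨k, rfl⟩))

end Drop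

end Groth.Agent.Helper2.QRDescent
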