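import Mathlib
import Groth.Prelude.Def_LCI2
import Groth.Prelude.Def_PP16
import Groth.Prelude.Def_ega3
import Groth.Agent.Lib.Helper2.QRDescent1
import Groth.Agent.Lib.Helper6.QRegGen

/-!
# Quasi-regular sequences: localization, and faithfully flat descent
-/

set_option autoImplicit false
universe u
open TensorProduct Pointwise

namespace Groth.Agent.Helper2.QRDescent

open Groth.Agent.Helper2.KosDescent Groth.Agent.Helper2.KosIdeal

section Loc

variable {R R' : Type u} [CommRing R] [CommRing R'] [Algebra R R']

/-- Quasi-regular sequences stay quasi-regular in a localization. -/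
theorem qr_of_isLocalization (M : Submonoid R) [IsLocalization M R'] {c : ℕ} (f : Fin c → R)
    (hq : CAlgX.IsQuasiRegular f) :
    CAlgX.IsQuasiRegular (fun k => algebraMap R R' (f k)) := by
  classical
  intro n P hP hev d
  have hJ' : Ideal.span (Set.range (fun k => algebraMap R R' (f k))) =
      (Ideal.span (Set.range f)).map (algebraMap R R') := by
    rw [Ideal.map_span, ← Set.range_comp]
    rfl
  obtain ⟨b, hb⟩ := IsLocalization.exist_integer_multiples M P.support (fun d => P.coeff d)
  choose! c₀ hc₀ using hb
  have hP₀hom : (∑ e ∈ P.support, MvPolynomial.monomial e (c₀ e)).IsHomogeneous n := by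
    apply MvPolynomial.IsHomogeneous.sum
    intro e he
    apply MvPolynomial.isHomogeneous_monomial
    rw [Finsupp.degree_eq_weight_one]
    exact hP (MvPolynomial.mem_support_iff.mp he)
  have hmap : MvPolynomial.map (algebraMap R R')
      (∑ e ∈ P.support, MvPolynomial.monomial e (c₀ e)) =
      MvPolynomial.C (algebraMap R R' b) * P := by
    ext e
    rw [MvPolynomial.coeff_map, MvPolynomial.coeff_C_mul, MvPolynomial.coeff_sum]
    simp only [MvPolynomial.coeff_monomial]
    rw [Finset.sum_ite_eq' P.support e]
    split_ifs with he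
    · rw [hc₀ e he, Algebra.smul_def]
    · rw [map_zero, MvPolynomial.notMem_support_iff.mp he, mul_zero]
  have hev₀ : algebraMap R R' (MvPolynomial.eval f
      (∑ e ∈ P.support, MvPolynomial.monomial e (c₀ e))) =
      algebraMap R R' b * MvPolynomial.eval (fun k => algebraMap R R' (f k)) P := by
    have h1 := MvPolynomial.eval₂_comp_left (algebraMap R R') (RingHom.id R) f
      (∑ e ∈ P.support, MvPolynomial.monomial e (c₀ e))
    rw [MvPolynomial.eval₂_id, RingHom.comp_id, MvPolynomial.eval₂_eq_eval_map, hmap, map_mul,
      MvPolynomial.eval_C] at h1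
    exact h1
  have hmem : algebraMap R R' (MvPolynomial.eval f
      (∑ e ∈ P.support, MvPolynomial.monomial e (c₀ e))) ∈
      (Ideal.span (Set.range f) ^ (n + 1)).map (algebraMap R R') := by
    rw [hev₀, Ideal.map_pow, ← hJ']
    exact Ideal.mul_mem_left _ _ hev
  rw [IsLocalization.algebraMap_mem_map_algebraMap_iff M] at hmem
  obtain ⟨m, hm, hmem⟩ := hmem
  have hQhom : (MvPolynomial.C m * ∑ e ∈ P.support, MvPolynomial.monomial e (c₀ e)).IsHomogeneous
      n := hP₀hom.C_mul m
  have hQ := hq n _ hQhom (by rw [map_mul, MvPolynomial.eval_C]; exact hmem) d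
  rw [MvPolynomial.coeff_C_mul] at hQ
  have h2 := Ideal.mem_map_of_mem (algebraMap R R') hQ
  rw [map_mul, ← MvPolynomial.coeff_map, hmap, MvPolynomial.coeff_C_mul, ← hJ'] at h2
  have hu1 : IsUnit (algebraMap R R' m) := IsLocalization.map_units R' (⟨m, hm⟩ : M)
  have hu2 : IsUnit (algebraMap R R' b) := IsLocalization.map_units R' b
  exact (Ideal.unit_mul_mem_iff_mem _ hu2).mp ((Ideal.unit_mul_mem_iff_mem _ hu1).mp h2)

/-- Quasi-regular sequences are transported by ring isomorphisms. -/
theorem qr_ringEquiv {R R' : Type u} [CommRing R] [CommRing R'] (e : R ≃+* R') {c : ℕ}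
    (f : Fin c → R) (hq : CAlgX.IsQuasiRegular f) :
    CAlgX.IsQuasiRegular (fun k => e (f k)) := by
  letI : Algebra R R' := e.toRingHom.toAlgebra
  haveI : IsLocalization (⊥ : Submonoid R) R := IsLocalization.self bot_le
  have h : R ≃ₐ[R] R' := AlgEquiv.ofRingEquiv (f := e) (fun x => rfl)
  haveI : IsLocalization (⊥ : Submonoid R) R' := IsLocalization.isLocalization_of_algEquiv ⊥ h
  exact qr_of_isLocalization ⊥ f hq

theorem rel_le_of_qr {c : ℕ} (f : Fin c → R) (hq : CAlgX.IsQuasiRegular f) :
    Rel f ≤ Ideal.span (Set.range f) := by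
  rw [rel_le_iff]
  intro a ha j
  refine Groth.Agent.Helper6.QRegGen.lin_indep_mod f hq a ?_ j
  rw [ha]
  exact Ideal.zero_mem _

end Loc

section AwayMap

variable {B B'' : Type u} [CommRing B] [CommRing B''] [Algebra B B'']

/-- a quasi-regular sequence on `B_g` stays quasi-regular on `B''_g` when `B''` is a basic
localization of `B` -/
theorem qr_awayMap (y : B) [IsLocalization.Away y B''] (g : B) {c : ℕ}
    (fc : Fin c → Localization.Away g) (hq : CAlgX.IsQuasiRegular fc) :
    CAlgX.IsQuasiRegular (fun k => IsLocalization.Away.map (Localization.Away g)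
      (Localization.Away (algebraMap B B'' g)) (algebraMap B B'') g (fc k)) := by
  letI : Algebra (Localization.Away g) (Localization.Away (algebraMap B B'' g)) :=
    (IsLocalization.Away.map (Localization.Away g) (Localization.Away (algebraMap B B'' g))
      (algebraMap B B'') g).toAlgebra
  have hcomp := awayMap_comp (algebraMap B B'') g (Localization.Away g)
    (Localization.Away (algebraMap B B'' g))
  haveI : IsScalarTower B (Localization.Away g) (Localization.Away (algebraMap B B'' g)) :=
    IsScalarTower.of_algebraMap_eq' (by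
      rw [IsScalarTower.algebraMap_eq B B'' (Localization.Away (algebraMap B B'' g))]
      exact hcomp.symm)
  haveI : IsLocalization.Away (algebraMap B (Localization.Away g) y)
      (Localization.Away (algebraMap B B'' g)) :=
    IsLocalization.Away.commutes (Localization.Away g) B''
      (Localization.Away (algebraMap B B'' g)) g y
  exact qr_of_isLocalization (Submonoid.powers (algebraMap B (Localization.Away g) y)) fc hq

end AwayMap

section ChartTypeQR

variable {A B : Type u} [CommRing A] [CommRing B] [Algebra A B] [Module.Flat A B]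
  {r : ℕ} (f : Fin r → A)

theorem chart_type_qr (𝔮' : Ideal B) [h𝔮' : 𝔮'.IsPrime]
    (hI𝔮' : (Ideal.span (Set.range f)).map (algebraMap A B) ≤ 𝔮')
    (g' : B) (hg' : g' ∉ 𝔮') {r' : ℕ} (fc : Fin r' → Localization.Away g')
    (hq : CAlgX.IsQuasiRegular fc)
    (hIl' : Ideal.span (Set.range fc) = ((Ideal.span (Set.range f)).map (algebraMap A B)).map
      (algebraMap B (Localization.Away g'))) :
    (r' = r ∧ CAlgX.IsQuasiRegular (fun k => algebraMap A (Localization.Away g') (f k)) ∧
      (Rel f).map (algebraMap A (Localization.Away g')) ≤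
        (Ideal.span (Set.range f)).map (algebraMap A (Localization.Away g'))) ∨
    (r' < r ∧ (Rel f).map (algebraMap A (Localization.Away g')) = ⊤) := by
  have hspanF : Ideal.span (Set.range (fun k => algebraMap A (Localization.Away g') (f k))) =
      (Ideal.span (Set.range f)).map (algebraMap A (Localization.Away g')) := by
    rw [Ideal.map_span, ← Set.range_comp]
    rfl
  have hIS : (Ideal.span (Set.range f)).map (algebraMap A (Localization.Away g')) =
      Ideal.span (Set.range fc) := by
    rw [IsScalarTower.algebraMap_eq A B (Localization.Away g'), ← Ideal.map_map, hIl']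
  have hsp : Ideal.span (Set.range (fun k => algebraMap A (Localization.Away g') (f k))) =
      Ideal.span (Set.range fc) := by
    rw [hspanF, hIS]
  have hne : 𝔮'.map (algebraMap B (Localization.Away g')) ≠ ⊤ := by
    rw [IsLocalization.map_algebraMap_ne_top_iff_disjoint (Submonoid.powers g'), Set.disjoint_left]
    rintro x ⟨n, rfl⟩ hx
    exact hg' (h𝔮'.mem_of_pow_mem n hx)
  have hle𝔮 : Ideal.span (Set.range fc) ≤ 𝔮'.map (algebraMap B (Localization.Away g')) := by
    rw [hIl']
    exact Ideal.map_mono hI𝔮'
  rcases lt_trichotomy r' r with hlt | heq | hgt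
  · right
    refine ⟨hlt, ?_⟩
    rw [← rel_baseChange (Localization.Away g') f]
    exact rel_eq_top _ _ hsp hlt
  · left
    subst heq
    have hq' : CAlgX.IsQuasiRegular (fun k => algebraMap A (Localization.Away g') (f k)) :=
      Groth.Agent.Helper6.QRegGen.isQuasiRegular_of_span_eq fc _ hq hsp
    refine ⟨rfl, hq', ?_⟩
    rw [← rel_baseChange (Localization.Away g') f, ← hspanF]
    exact rel_le_of_qr _ hq'
  · exfalso
    have h1 := rel_eq_top _ _ hsp.symm hgt
    have h2 := rel_le_of_qr fc hq
    rw [h1] at h2
    exact hne (top_le_iff.mp (h2.trans hle𝔮))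

theorem local_desc_qr
    (hLQR : PP16.IsLocallyQuasiRegular B ((Ideal.span (Set.range f)).map (algebraMap A B))) :
    LocDesc (B := B) f (fun g' : B => CAlgX.IsQuasiRegular
      (fun k => algebraMap A (Localization.Away g') (f k))) := by
  intro 𝔮' h𝔮'
  by_cases hle : (Ideal.span (Set.range f)).map (algebraMap A B) ≤ 𝔮'
  · obtain ⟨g', hg', r', fc, hq, hsp⟩ := @hLQR 𝔮' h𝔮' hle
    refine ⟨g', hg', ?_, ?_⟩
    · rw [IsScalarTower.algebraMap_eq A B (Localization.Away g'), ← Ideal.map_map, ← hsp]
      exact Submodule.fg_span (Set.finite_range fc)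
    · rcases chart_type_qr f 𝔮' hle g' hg' fc hq hsp with ⟨_, h1, h2⟩ | ⟨_, h⟩
      · exact Or.inl ⟨h1, h2⟩
      · exact Or.inr ⟨h, hle⟩
  · obtain ⟨x, hx, hx𝔮⟩ := Set.not_subset.mp hle
    have htop : (Ideal.span (Set.range f)).map (algebraMap A (Localization.Away x)) = ⊤ := by
      rw [IsScalarTower.algebraMap_eq A B (Localization.Away x), ← Ideal.map_map]
      exact Ideal.eq_top_of_isUnit_mem _ (Ideal.mem_map_of_mem _ hx)
        (IsLocalization.Away.algebraMap_isUnit x)
    refine ⟨x, hx𝔮, ?_, Or.inl ⟨?_, ?_⟩⟩
    · rw [htop]
      exact ⟨{1}, by simp⟩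
    · intro n P _ _ d
      have h1 : Ideal.span (Set.range (fun k => algebraMap A (Localization.Away x) (f k))) =
          ⊤ := by
        rw [← htop, Ideal.map_span, ← Set.range_comp]
        rfl
      rw [h1]
      trivial
    · rw [htop]
      exact le_top

end ChartTypeQR

section LQRMap

variable {B B'' : Type u} [CommRing B] [CommRing B''] [Algebra B B'']

/-- locally quasi-regular ideals extend to basic localizations -/
theorem lqr_map_away (y : B) [IsLocalization.Away y B''] (K : Ideal B)
    (h : PP16.IsLocallyQuasiRegular B K) :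
    PP16.IsLocallyQuasiRegular B'' (K.map (algebraMap B B'')) := by
  intro 𝔮 h𝔮 hK
  have hle : K ≤ 𝔮.comap (algebraMap B B'') := Ideal.map_le_iff_le_comap.mp hK
  obtain ⟨g, hg, r, fc, hq, hsp⟩ := h (𝔮.comap (algebraMap B B'')) hle
  refine ⟨algebraMap B B'' g, hg, r, _, qr_awayMap y g fc hq, ?_⟩
  have hcomp := awayMap_comp (algebraMap B B'') g (Localization.Away g)
    (Localization.Away (algebraMap B B'' g))
  have h1 : Ideal.span (Set.range (fun k => IsLocalization.Away.map (Localization.Away g)
      (Localization.Away (algebraMap B B'' g)) (algebraMap B B'') g (fc k))) =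
      (Ideal.span (Set.range fc)).map (IsLocalization.Away.map (Localization.Away g)
        (Localization.Away (algebraMap B B'' g)) (algebraMap B B'') g) := by
    rw [Ideal.map_span, ← Set.range_comp]
    rfl
  rw [h1, hsp, Ideal.map_map, hcomp, ← Ideal.map_map]

end LQRMap

section ChartMapQR

variable {B B'' : Type u} [CommRing B] [CommRing B''] [Algebra B B'']

/-- transfer of a quasi-regular chart to a basic localization, keeping its length -/
theorem chart_map_qr (y : B) [IsLocalization.Away y B''] (K : Ideal B) (g : B) {r : ℕ}
    (fc : Fin r → Localization.Away g) (hq : CAlgX.IsQuasiRegular fc)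
    (hsp : Ideal.span (Set.range fc) = K.map (algebraMap B (Localization.Away g))) :
    ∃ fc'' : Fin r → Localization.Away (algebraMap B B'' g), CAlgX.IsQuasiRegular fc'' ∧
      Ideal.span (Set.range fc'') = (K.map (algebraMap B B'')).map
        (algebraMap B'' (Localization.Away (algebraMap B B'' g))) := by
  refine ⟨_, qr_awayMap y g fc hq, ?_⟩
  have hcomp := awayMap_comp (algebraMap B B'') g (Localization.Away g)
    (Localization.Away (algebraMap B B'' g))
  have h1 : Ideal.span (Set.range (fun k => IsLocalization.Away.map (Localization.Away g)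
      (Localization.Away (algebraMap B B'' g)) (algebraMap B B'') g (fc k))) =
      (Ideal.span (Set.range fc)).map (IsLocalization.Away.map (Localization.Away g)
        (Localization.Away (algebraMap B B'' g)) (algebraMap B B'') g) := by
    rw [Ideal.map_span, ← Set.range_comp]
    rfl
  rw [h1, hsp, Ideal.map_map, hcomp, ← Ideal.map_map]

end ChartMapQR

section AwayPt

/-- pointwise form: quasi-regular data on a basic open of a basic open -/
theorem lqr_at_of_away' {C : Type u} [CommRing C] (I : Ideal C) (G : C)
    (𝔭 : Ideal C) [h𝔭 : 𝔭.IsPrime] (hG : G ∉ 𝔭)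
    (t : Localization.Away G) (ht : t ∉ 𝔭.map (algebraMap C (Localization.Away G)))
    {r : ℕ} (fc : Fin r → Localization.Away t) (hq : CAlgX.IsQuasiRegular fc)
    (hIl : Ideal.span (Set.range fc) = (I.map (algebraMap C (Localization.Away G))).map
      (algebraMap (Localization.Away G) (Localization.Away t))) :
    ∃ g : C, g ∉ 𝔭 ∧ ∃ (r : ℕ) (f : Fin r → Localization.Away g),
      CAlgX.IsQuasiRegular f ∧
      Ideal.span (Set.range f) = I.map (algebraMap C (Localization.Away g)) := by
  obtain ⟨k, t', ht'⟩ := IsLocalization.Away.surj G t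
  have hu : IsUnit (algebraMap C (Localization.Away G) G ^ k) :=
    IsLocalization.Away.algebraMap_pow_isUnit G k
  have ht'p : t' ∉ 𝔭 := by
    intro hmem
    apply ht
    have h1 : t = algebraMap C (Localization.Away G) t' * ↑hu.unit⁻¹ := by
      rw [← ht', mul_assoc, IsUnit.mul_val_inv, mul_one]
    rw [h1]
    exact Ideal.mul_mem_right _ _ (Ideal.mem_map_of_mem _ hmem)
  have hassoc : Associated t (algebraMap C (Localization.Away G) t') :=
    ⟨hu.unit, by rw [← ht']; rfl⟩
  haveI : IsLocalization.Away (algebraMap C (Localization.Away G) t') (Localization.Away t) :=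
    IsLocalization.Away.of_associated hassoc
  haveI : IsLocalization.Away (G * t') (Localization.Away t) :=
    IsLocalization.Away.mul' (Localization.Away G) (Localization.Away t) G t'
  refine ⟨G * t', ?_, ?_⟩
  · intro hmem
    rcases h𝔭.mem_or_mem hmem with h | h
    · exact hG h
    · exact ht'p h
  · let e : Localization.Away t ≃ₐ[C] Localization.Away (G * t') :=
      IsLocalization.algEquiv (Submonoid.powers (G * t')) (Localization.Away t)
        (Localization.Away (G * t'))
    refine ⟨r, fun k => e (fc k), qr_ringEquiv e.toRingEquiv fc hq, ?_⟩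
    have h1 : (algebraMap C (Localization.Away (G * t'))) =
        (e : Localization.Away t →+* Localization.Away (G * t')).comp
          (algebraMap C (Localization.Away t)) := by
      ext x
      exact (e.commutes x).symm
    have h2 : Ideal.span (Set.range (fun k => e (fc k))) =
        (Ideal.span (Set.range fc)).map (e : Localization.Away t →+* Localization.Away (G * t')) := by
      rw [Ideal.map_span, ← Set.range_comp]
      rfl
    rw [h2, hIl, h1, ← Ideal.map_map, Ideal.map_map (algebraMap C (Localization.Away G)),
      ← IsScalarTower.algebraMap_eq]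

end AwayPt

section FinalQR

attribute [local instance] Algebra.TensorProduct.rightAlgebra

variable {A B : Type u} [CommRing A] [CommRing B] [Algebra A B] [Module.FaithfullyFlat A B]

/-- the base change `A_s ⊗ B` -/
abbrev Bs (B : Type u) [CommRing B] [Algebra A B] (s : A) : Type u :=
  Localization.Away s ⊗[A] B

theorem isLocalization_Bs (s : A) : IsLocalization.Away (algebraMap A B s) (Bs B s) := by
  have h1 := IsLocalization.tensorRight (S := B) (A := Localization.Away s) (Submonoid.powers s)
  rw [Algebra.algebraMapSubmonoid_powers] at h1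
  exact h1

theorem final_descent_qr {r : ℕ} (f : Fin r → A) (s : A)
    (h : ∀ 𝔮' : Ideal B, 𝔮'.IsPrime → algebraMap A B s ∉ 𝔮' → ∃ g' : B, g' ∉ 𝔮' ∧
      CAlgX.IsQuasiRegular (fun k => algebraMap A (Localization.Away g') (f k))) :
    CAlgX.IsQuasiRegular (fun k => algebraMap A (Localization.Away s) (f k)) := by
  intro n P hP hev d
  haveI hlocBs : IsLocalization.Away (algebraMap A B s) (Bs B s) := isLocalization_Bs s
  rw [← Ideal.comap_map_eq_self_of_faithfullyFlat (B := Bs B s)
    (Ideal.span (Set.range (fun k => algebraMap A (Localization.Away s) (f k)))), Ideal.mem_comap]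
  by_contra hx'
  have hcol : ((Ideal.span (Set.range (fun k => algebraMap A (Localization.Away s) (f k)))).map
      (algebraMap (Localization.Away s) (Bs B s))).colon
        ({algebraMap (Localization.Away s) (Bs B s) (MvPolynomial.coeff d P)} : Set (Bs B s)) ≠
      ⊤ := by
    intro htop
    apply hx'
    have h1 : (1 : Bs B s) ∈ ((Ideal.span (Set.range (fun k => algebraMap A (Localization.Away s)
        (f k)))).map (algebraMap (Localization.Away s) (Bs B s))).colon
        ({algebraMap (Localization.Away s) (Bs B s) (MvPolynomial.coeff d P)} : Set (Bs B s)) := by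
      rw [htop]
      trivial
    rw [Submodule.mem_colon_singleton, one_smul] at h1
    exact h1
  obtain ⟨𝔪, h𝔪, hle⟩ := Ideal.exists_le_maximal _ hcol
  haveI := h𝔪.isPrime
  have hs𝔮 : algebraMap A B s ∉ 𝔪.comap (algebraMap B (Bs B s)) := by
    intro hmem
    rw [Ideal.mem_comap] at hmem
    exact h𝔪.ne_top (Ideal.eq_top_of_isUnit_mem _ hmem
      (IsLocalization.Away.algebraMap_isUnit (algebraMap A B s)))
  obtain ⟨g', hg', hq'⟩ := h (𝔪.comap (algebraMap B (Bs B s))) inferInstance hs𝔮
  have hqT := qr_awayMap (B'' := Bs B s) (algebraMap A B s) g' _ hq'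
  have hfun : (fun k => IsLocalization.Away.map (Localization.Away g')
      (Localization.Away (algebraMap B (Bs B s) g')) (algebraMap B (Bs B s)) g'
        (algebraMap A (Localization.Away g') (f k))) =
      fun k => algebraMap (Localization.Away s) (Localization.Away (algebraMap B (Bs B s) g'))
        (algebraMap A (Localization.Away s) (f k)) := by
    funext k
    rw [IsScalarTower.algebraMap_apply A B (Localization.Away g'), IsLocalization.Away.map,
      IsLocalization.map_eq, ← IsScalarTower.algebraMap_apply A B (Bs B s),
      IsScalarTower.algebraMap_apply A (Localization.Away s) (Bs B s),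
      ← IsScalarTower.algebraMap_apply (Localization.Away s) (Bs B s)]
  rw [hfun] at hqT
  have hspan : Ideal.span (Set.range (fun k => algebraMap (Localization.Away s)
      (Localization.Away (algebraMap B (Bs B s) g')) (algebraMap A (Localization.Away s) (f k)))) =
      (Ideal.span (Set.range (fun k => algebraMap A (Localization.Away s) (f k)))).map
        (algebraMap (Localization.Away s) (Localization.Away (algebraMap B (Bs B s) g'))) := by
    rw [Ideal.map_span, ← Set.range_comp]
    rfl
  have hP' : (MvPolynomial.map (algebraMap (Localization.Away s)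
      (Localization.Away (algebraMap B (Bs B s) g'))) P).IsHomogeneous n := hP.map _
  have hev' : MvPolynomial.eval (fun k => algebraMap (Localization.Away s)
      (Localization.Away (algebraMap B (Bs B s) g')) (algebraMap A (Localization.Away s) (f k)))
      (MvPolynomial.map (algebraMap (Localization.Away s)
        (Localization.Away (algebraMap B (Bs B s) g'))) P) ∈
      Ideal.span (Set.range (fun k => algebraMap (Localization.Away s)
        (Localization.Away (algebraMap B (Bs B s) g'))
          (algebraMap A (Localization.Away s) (f k)))) ^ (n + 1) := by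
    rw [hspan, ← Ideal.map_pow, MvPolynomial.eval_map]
    have h1 := MvPolynomial.eval₂_comp_left (algebraMap (Localization.Away s)
      (Localization.Away (algebraMap B (Bs B s) g'))) (RingHom.id _)
      (fun k => algebraMap A (Localization.Away s) (f k)) P
    rw [MvPolynomial.eval₂_id, RingHom.comp_id] at h1
    have h2 : (algebraMap (Localization.Away s) (Localization.Away (algebraMap B (Bs B s) g'))) ∘
        (fun k => algebraMap A (Localization.Away s) (f k)) =
        fun k => algebraMap (Localization.Away s) (Localization.Away (algebraMap B (Bs B s) g'))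
          (algebraMap A (Localization.Away s) (f k)) := rfl
    rw [h2] at h1
    rw [← h1]
    exact Ideal.mem_map_of_mem _ hev
  have hc := hqT n _ hP' hev' d
  rw [MvPolynomial.coeff_map, hspan,
    IsScalarTower.algebraMap_eq (Localization.Away s) (Bs B s)
      (Localization.Away (algebraMap B (Bs B s) g')), ← Ideal.map_map, RingHom.comp_apply,
    IsLocalization.algebraMap_mem_map_algebraMap_iff
      (Submonoid.powers (algebraMap B (Bs B s) g'))] at hc
  obtain ⟨m, ⟨N, rfl⟩, hm⟩ := hc
  have h3 : (algebraMap B (Bs B s) g') ^ N ∈ ((Ideal.span (Set.range (fun k =>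
      algebraMap A (Localization.Away s) (f k)))).map
      (algebraMap (Localization.Away s) (Bs B s))).colon
        ({algebraMap (Localization.Away s) (Bs B s) (MvPolynomial.coeff d P)} : Set (Bs B s)) := by
    rw [Submodule.mem_colon_singleton, smul_eq_mul]
    exact hm
  exact hg' (h𝔪.isPrime.mem_of_pow_mem N (hle h3))

end FinalQR

end Groth.Agent.Helper2.QRDescent
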