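import Mathlib
import Groth.Prelude.Def_CAlgX
import Groth.Agent.Lib.Helper2.H1Desc2
import Groth.Agent.Lib.Helper2.QRDescent2
import Groth.Agent.Lib.Helper28.RegBC6

/-!
# Faithfully flat descent of locally `H_1`-regular ideals: charts
-/

set_option autoImplicit false
universe u
open TensorProduct Pointwise

namespace Groth.Agent.Helper2.H1Desc

open Groth.Agent.Helper2.KosDescent Groth.Agent.Helper2.KosIdeal Groth.Agent.Helper2.QRDescent
  Groth.Agent.Helper21.KL

section Defs

/-- An ideal `J` of a ring `R` is locally `H_1`-regular: every prime containing `J` has a basic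
open neighbourhood `D(g)` on which `J` is generated by an `H_1`-regular sequence. -/
def LocH1 (R : Type u) [CommRing R] (J : Ideal R) : Prop :=
  ∀ (P : Ideal R) [P.IsPrime], J ≤ P → ∃ g : R, g ∉ P ∧ ∃ (r : ℕ) (f : Fin r → Localization.Away g),
    CAlgX.IsH1Regular f ∧ Ideal.span (Set.range f) = J.map (algebraMap R (Localization.Away g))

theorem h1_cast {S : Type u} [CommRing S] {r : ℕ} (F : Fin r → S) :
    ∀ (c : ℕ) (hc : c = r) (F' : Fin c → S), (∀ i, F' i = F (Fin.cast hc i)) →
      (CAlgX.IsH1Regular F' ↔ CAlgX.IsH1Regular F) := by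
  intro c hc
  subst hc
  intro F' hF'
  have : F' = F := funext hF'
  rw [this]

theorem h1_ofFn {S : Type u} [CommRing S] {r : ℕ} (F : Fin r → S) :
    CAlgX.IsH1Regular (List.ofFn F).get ↔ CAlgX.IsH1Regular F :=
  h1_cast F _ (List.length_ofFn) _ (fun i => by simp only [List.get_eq_getElem, List.getElem_ofFn]; rfl)

theorem h1_iff_acycAt_ofFn {S : Type u} [CommRing S] {r : ℕ} (F : Fin r → S) :
    CAlgX.IsH1Regular F ↔ AcycAt (List.ofFn F) S (-1) := by
  rw [← h1_ofFn, h1_iff_acycAt]

end Defs

section AwayMap

variable {B B'' : Type u} [CommRing B] [CommRing B''] [Algebra B B'']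

/-- a quasi-regular sequence on `B_g` stays quasi-regular on `B''_g` when `B''` is a basic
localization of `B` -/
theorem h1_awayMap (y : B) [IsLocalization.Away y B''] (g : B) {c : ℕ}
    (fc : Fin c → Localization.Away g) (hq : CAlgX.IsH1Regular fc) :
    CAlgX.IsH1Regular (fun k => IsLocalization.Away.map (Localization.Away g)
      (Localization.Away (algebraMap B B'' g)) (algebraMap B B'') g (fc k)) := by
  letI : Algebra (Localization.Away g) (Localization.Away (algebraMap B B'' g)) :=
    (IsLocalization.Away.map (Localization.Away g) (Localization.Away (algebraMap B B'' g))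
      (algebraMap B B'') g).toAlgebra
  have hcomp := awayMap_comp (algebraMap B B'') g (Localization.Away g)
    (Localization.Away (algebraMap B B'' g))
  haveI : IsScalarTower B (Localization.Away g) (Localization.Away (algebraMap B B'' g)) :=
    IsScalarTower.of_algebraMap_eq' (by
      rw [IsScalarTower.algebraMap_eq B B'' (Localization.Away (algebraMap B B'' g))]
      exact hcomp.symm)
  haveI : IsLocalization.Away (algebraMap B (Localization.Away g) y)
      (Localization.Away (algebraMap B B'' g)) :=
    IsLocalization.Away.commutes (Localization.Away g) B''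
      (Localization.Away (algebraMap B B'' g)) g y
  haveI : Module.Flat (Localization.Away g) (Localization.Away (algebraMap B B'' g)) :=
    IsLocalization.flat _ (Submonoid.powers (algebraMap B (Localization.Away g) y))
  exact Groth.Agent.Helper28.RegBC.h1_of_flat fc hq

end AwayMap

section ChartTypeH1

variable {A B : Type u} [CommRing A] [CommRing B] [Algebra A B] [Module.Flat A B]
  {r : ℕ} (f : Fin r → A)

theorem chart_type_h1 (𝔮' : Ideal B) [h𝔮' : 𝔮'.IsPrime]
    (hI𝔮' : (Ideal.span (Set.range f)).map (algebraMap A B) ≤ 𝔮')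
    (g' : B) (hg' : g' ∉ 𝔮') {r' : ℕ} (fc : Fin r' → Localization.Away g')
    (hq : CAlgX.IsH1Regular fc)
    (hIl' : Ideal.span (Set.range fc) = ((Ideal.span (Set.range f)).map (algebraMap A B)).map
      (algebraMap B (Localization.Away g'))) :
    (r' = r ∧ CAlgX.IsH1Regular (fun k => algebraMap A (Localization.Away g') (f k)) ∧
      (Rel f).map (algebraMap A (Localization.Away g')) ≤
        (Ideal.span (Set.range f)).map (algebraMap A (Localization.Away g'))) ∨
    (r' < r ∧ (Rel f).map (algebraMap A (Localization.Away g')) = ⊤) := by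
  have hspanF : Ideal.span (Set.range (fun k => algebraMap A (Localization.Away g') (f k))) =
      (Ideal.span (Set.range f)).map (algebraMap A (Localization.Away g')) := by
    rw [Ideal.map_span, ← Set.range_comp]
    rfl
  have hIS : (Ideal.span (Set.range f)).map (algebraMap A (Localization.Away g')) =
      Ideal.span (Set.range fc) := by
    rw [IsScalarTower.algebraMap_eq A B (Localization.Away g'), ← Ideal.map_map, hIl']
  have hsp : Ideal.span (Set.range (fun k => algebraMap A (Localization.Away g') (f k))) =
      Ideal.span (Set.range fc) := by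
    rw [hspanF, hIS]
  have hne : 𝔮'.map (algebraMap B (Localization.Away g')) ≠ ⊤ := by
    rw [IsLocalization.map_algebraMap_ne_top_iff_disjoint (Submonoid.powers g'), Set.disjoint_left]
    rintro x ⟨n, rfl⟩ hx
    exact hg' (h𝔮'.mem_of_pow_mem n hx)
  have hle𝔮 : Ideal.span (Set.range fc) ≤ 𝔮'.map (algebraMap B (Localization.Away g')) := by
    rw [hIl']
    exact Ideal.map_mono hI𝔮'
  rcases lt_trichotomy r' r with hlt | heq | hgt
  · right
    refine ⟨hlt, ?_⟩
    rw [← rel_baseChange (Localization.Away g') f]
    exact rel_eq_top _ _ hsp hlt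
  · left
    subst heq
    have hq' : CAlgX.IsH1Regular (fun k => algebraMap A (Localization.Away g') (f k)) :=
      h1_span_eq fc _ hq hsp.symm
    refine ⟨rfl, hq', ?_⟩
    rw [← rel_baseChange (Localization.Away g') f, ← hspanF]
    exact rel_le_of_h1 _ hq'
  · exfalso
    have h1 := rel_eq_top _ _ hsp.symm hgt
    have h2 := rel_le_of_h1 fc hq
    rw [h1] at h2
    exact hne (top_le_iff.mp (h2.trans hle𝔮))

theorem local_desc_h1
    (hLH1 : LocH1 B ((Ideal.span (Set.range f)).map (algebraMap A B))) :
    LocDesc (B := B) f (fun g' : B => CAlgX.IsH1Regular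
      (fun k => algebraMap A (Localization.Away g') (f k))) := by
  intro 𝔮' h𝔮'
  by_cases hle : (Ideal.span (Set.range f)).map (algebraMap A B) ≤ 𝔮'
  · obtain ⟨g', hg', r', fc, hq, hsp⟩ := @hLH1 𝔮' h𝔮' hle
    refine ⟨g', hg', ?_, ?_⟩
    · rw [IsScalarTower.algebraMap_eq A B (Localization.Away g'), ← Ideal.map_map, ← hsp]
      exact Submodule.fg_span (Set.finite_range fc)
    · rcases chart_type_h1 f 𝔮' hle g' hg' fc hq hsp with ⟨_, h1, h2⟩ | ⟨_, h⟩
      · exact Or.inl ⟨h1, h2⟩
      · exact Or.inr ⟨h, hle⟩
  · obtain ⟨x, hx, hx𝔮⟩ := Set.not_subset.mp hle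
    have htop : (Ideal.span (Set.range f)).map (algebraMap A (Localization.Away x)) = ⊤ := by
      rw [IsScalarTower.algebraMap_eq A B (Localization.Away x), ← Ideal.map_map]
      exact Ideal.eq_top_of_isUnit_mem _ (Ideal.mem_map_of_mem _ hx)
        (IsLocalization.Away.algebraMap_isUnit x)
    refine ⟨x, hx𝔮, ?_, Or.inl ⟨?_, ?_⟩⟩
    · rw [htop]
      exact ⟨{1}, by simp⟩
    · apply h1_of_span_top
      rw [← htop, Ideal.map_span, ← Set.range_comp]
      rfl
    · rw [htop]
      exact le_top

end ChartTypeH1

section LH1Map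

variable {B B'' : Type u} [CommRing B] [CommRing B''] [Algebra B B'']

/-- locally quasi-regular ideals extend to basic localizations -/
theorem lh1_map_away (y : B) [IsLocalization.Away y B''] (K : Ideal B)
    (h : LocH1 B K) :
    LocH1 B'' (K.map (algebraMap B B'')) := by
  intro 𝔮 h𝔮 hK
  have hle : K ≤ 𝔮.comap (algebraMap B B'') := Ideal.map_le_iff_le_comap.mp hK
  obtain ⟨g, hg, r, fc, hq, hsp⟩ := h (𝔮.comap (algebraMap B B'')) hle
  refine ⟨algebraMap B B'' g, hg, r, _, h1_awayMap y g fc hq, ?_⟩
  have hcomp := awayMap_comp (algebraMap B B'') g (Localization.Away g)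
    (Localization.Away (algebraMap B B'' g))
  have h1 : Ideal.span (Set.range (fun k => IsLocalization.Away.map (Localization.Away g)
      (Localization.Away (algebraMap B B'' g)) (algebraMap B B'') g (fc k))) =
      (Ideal.span (Set.range fc)).map (IsLocalization.Away.map (Localization.Away g)
        (Localization.Away (algebraMap B B'' g)) (algebraMap B B'') g) := by
    rw [Ideal.map_span, ← Set.range_comp]
    rfl
  rw [h1, hsp, Ideal.map_map, hcomp, ← Ideal.map_map]

end LH1Map

section ChartMapH1

variable {B B'' : Type u} [CommRing B] [CommRing B''] [Algebra B B'']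

/-- transfer of a quasi-regular chart to a basic localization, keeping its length -/
theorem chart_map_h1 (y : B) [IsLocalization.Away y B''] (K : Ideal B) (g : B) {r : ℕ}
    (fc : Fin r → Localization.Away g) (hq : CAlgX.IsH1Regular fc)
    (hsp : Ideal.span (Set.range fc) = K.map (algebraMap B (Localization.Away g))) :
    ∃ fc'' : Fin r → Localization.Away (algebraMap B B'' g), CAlgX.IsH1Regular fc'' ∧
      Ideal.span (Set.range fc'') = (K.map (algebraMap B B'')).map
        (algebraMap B'' (Localization.Away (algebraMap B B'' g))) := by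
  refine ⟨_, h1_awayMap y g fc hq, ?_⟩
  have hcomp := awayMap_comp (algebraMap B B'') g (Localization.Away g)
    (Localization.Away (algebraMap B B'' g))
  have h1 : Ideal.span (Set.range (fun k => IsLocalization.Away.map (Localization.Away g)
      (Localization.Away (algebraMap B B'' g)) (algebraMap B B'') g (fc k))) =
      (Ideal.span (Set.range fc)).map (IsLocalization.Away.map (Localization.Away g)
        (Localization.Away (algebraMap B B'' g)) (algebraMap B B'') g) := by
    rw [Ideal.map_span, ← Set.range_comp]
    rfl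
  rw [h1, hsp, Ideal.map_map, hcomp, ← Ideal.map_map]

end ChartMapH1

section AwayPt

/-- pointwise form: quasi-regular data on a basic open of a basic open -/
theorem lh1_at_of_away' {C : Type u} [CommRing C] (I : Ideal C) (G : C)
    (𝔭 : Ideal C) [h𝔭 : 𝔭.IsPrime] (hG : G ∉ 𝔭)
    (t : Localization.Away G) (ht : t ∉ 𝔭.map (algebraMap C (Localization.Away G)))
    {r : ℕ} (fc : Fin r → Localization.Away t) (hq : CAlgX.IsH1Regular fc)
    (hIl : Ideal.span (Set.range fc) = (I.map (algebraMap C (Localization.Away G))).map
      (algebraMap (Localization.Away G) (Localization.Away t))) :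
    ∃ g : C, g ∉ 𝔭 ∧ ∃ (r : ℕ) (f : Fin r → Localization.Away g),
      CAlgX.IsH1Regular f ∧
      Ideal.span (Set.range f) = I.map (algebraMap C (Localization.Away g)) := by
  obtain ⟨k, t', ht'⟩ := IsLocalization.Away.surj G t
  have hu : IsUnit (algebraMap C (Localization.Away G) G ^ k) :=
    IsLocalization.Away.algebraMap_pow_isUnit G k
  have ht'p : t' ∉ 𝔭 := by
    intro hmem
    apply ht
    have h1 : t = algebraMap C (Localization.Away G) t' * ↑hu.unit⁻¹ := by
      rw [← ht', mul_assoc, IsUnit.mul_val_inv, mul_one]
    rw [h1]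
    exact Ideal.mul_mem_right _ _ (Ideal.mem_map_of_mem _ hmem)
  have hassoc : Associated t (algebraMap C (Localization.Away G) t') :=
    ⟨hu.unit, by rw [← ht']; rfl⟩
  haveI : IsLocalization.Away (algebraMap C (Localization.Away G) t') (Localization.Away t) :=
    IsLocalization.Away.of_associated hassoc
  haveI : IsLocalization.Away (G * t') (Localization.Away t) :=
    IsLocalization.Away.mul' (Localization.Away G) (Localization.Away t) G t'
  refine ⟨G * t', ?_, ?_⟩
  · intro hmem
    rcases h𝔭.mem_or_mem hmem with h | h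
    · exact hG h
    · exact ht'p h
  · let e : Localization.Away t ≃ₐ[C] Localization.Away (G * t') :=
      IsLocalization.algEquiv (Submonoid.powers (G * t')) (Localization.Away t)
        (Localization.Away (G * t'))
    refine ⟨r, fun k => e (fc k), Groth.Agent.Helper28.RegBC.h1_of_ringEquiv e.toRingEquiv fc hq, ?_⟩
    have h1 : (algebraMap C (Localization.Away (G * t'))) =
        (e : Localization.Away t →+* Localization.Away (G * t')).comp
          (algebraMap C (Localization.Away t)) := by
      ext x
      exact (e.commutes x).symm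
    have h2 : Ideal.span (Set.range (fun k => e (fc k))) =
        (Ideal.span (Set.range fc)).map (e : Localization.Away t →+* Localization.Away (G * t')) := by
      rw [Ideal.map_span, ← Set.range_comp]
      rfl
    rw [h2, hIl, h1, ← Ideal.map_map, Ideal.map_map (algebraMap C (Localization.Away G)),
      ← IsScalarTower.algebraMap_eq]

end AwayPt

section FinalH1

variable {A B : Type u} [CommRing A] [CommRing B] [Algebra A B] [Module.FaithfullyFlat A B]

theorem final_descent_h1 {r : ℕ} (f : Fin r → A) (s : A)
    (h : ∀ 𝔮' : Ideal B, 𝔮'.IsPrime → algebraMap A B s ∉ 𝔮' → ∃ g' : B, g' ∉ 𝔮' ∧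
      CAlgX.IsH1Regular (fun k => algebraMap A (Localization.Away g') (f k))) :
    CAlgX.IsH1Regular (fun k => algebraMap A (Localization.Away s) (f k)) := by
  rw [h1_iff_acycAt_ofFn]
  refine final_descent (B := B) f s (-1) ?_
  intro 𝔮' h𝔮' hs
  obtain ⟨g', hg', hq⟩ := h 𝔮' h𝔮' hs
  refine ⟨g', hg', ?_⟩
  rwa [← h1_iff_acycAt_ofFn]

end FinalH1

end Groth.Agent.Helper2.H1Desc
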