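import Mathlib
import Groth.Prelude.Def_LCI2
import Groth.Agent.S9251

/-!
# Koszul-regular ideals: descent along a finite jointly surjective family of flat algebras
-/

set_option autoImplicit false
universe u

namespace Groth.Agent.Helper2.KRProd

open Groth.Agent.Helper2.KosIdeal

section Single

variable {ι : Type u} [DecidableEq ι] (B : ι → Type u) [∀ j, CommRing (B j)]

/-- the localization of a factor is a localization of the product -/
theorem isLocalization_away_single (j : ι) (g : B j)
    (S : Type u) [CommRing S] [Algebra (B j) S] [IsLocalization.Away g S]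
    [Algebra (∀ k, B k) S]
    (halg : ∀ b : (∀ k, B k), algebraMap (∀ k, B k) S b = algebraMap (B j) S (b j)) :
    IsLocalization.Away (Pi.single j g : ∀ k, B k) S := by
  refine IsLocalization.Away.mk _ ?_ ?_ ?_
  · rw [halg, Pi.single_eq_same]
    exact IsLocalization.Away.algebraMap_isUnit g
  · intro z
    obtain ⟨n, b, hb⟩ := IsLocalization.Away.surj g z
    refine ⟨n, Pi.single j b, ?_⟩
    rw [halg, halg, Pi.single_eq_same, Pi.single_eq_same]
    exact hb
  · intro a b hab
    rw [halg, halg] at hab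
    obtain ⟨n, hn⟩ := IsLocalization.Away.exists_of_eq g hab
    refine ⟨n + 1, ?_⟩
    funext k
    by_cases hk : k = j
    · subst hk
      simp only [Pi.mul_apply, Pi.pow_apply, Pi.single_eq_same]
      have h1 : g ^ (n + 1) * a k = g * (g ^ n * a k) := by ring
      have h2 : g ^ (n + 1) * b k = g * (g ^ n * b k) := by ring
      rw [h1, h2, hn]
    · simp only [Pi.mul_apply, Pi.pow_apply, Pi.single_eq_of_ne hk]
      rw [zero_pow (Nat.succ_ne_zero n), zero_mul, zero_mul]

end Single

section PiKR

variable {A : Type u} [CommRing A] {ι : Type u} [Fintype ι] [DecidableEq ι]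
  (B : ι → Type u) [∀ j, CommRing (B j)] [∀ j, Algebra A (B j)]

/-- an ideal of `A` whose extension to each factor is Koszul-regular has Koszul-regular extension
to the finite product -/
theorem kr_pi (I : Ideal A) (h : ∀ j, LCI.IsKoszulRegularIdeal (I.map (algebraMap A (B j)))) :
    LCI.IsKoszulRegularIdeal (I.map (algebraMap A (∀ j, B j))) := by
  intro 𝔮 hK
  have hex : ∃ j, (Pi.single j 1 : ∀ k, B k) ∉ 𝔮.asIdeal := by
    by_contra hcon
    push Not at hcon
    have h1 : (1 : ∀ k, B k) ∈ 𝔮.asIdeal := by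
      rw [← Finset.univ_sum_single (1 : ∀ k, B k)]
      exact Ideal.sum_mem _ fun j _ => hcon j
    exact 𝔮.2.ne_top ((Ideal.eq_top_iff_one _).mpr h1)
  obtain ⟨j, hj⟩ := hex
  have hπ : Function.Surjective (Pi.evalRingHom B j) :=
    fun b => ⟨Pi.single j b, Pi.single_eq_same j b⟩
  have hker : RingHom.ker (Pi.evalRingHom B j) ≤ 𝔮.asIdeal := by
    intro x hx
    have hxj : x j = 0 := hx
    have h0 : x * Pi.single j 1 = 0 := by
      funext k
      by_cases hk : k = j
      · subst hk
        simp [hxj]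
      · simp [Pi.single_eq_of_ne hk]
    have h1 : x * Pi.single j 1 ∈ 𝔮.asIdeal := by
      rw [h0]
      exact Ideal.zero_mem _
    exact (𝔮.2.mem_or_mem h1).resolve_right hj
  haveI hprime : (𝔮.asIdeal.map (Pi.evalRingHom B j)).IsPrime :=
    Ideal.map_isPrime_of_surjective hπ hker
  have hcompat : (Pi.evalRingHom B j).comp (algebraMap A (∀ k, B k)) = algebraMap A (B j) := by
    ext a
    rfl
  have hKj : I.map (algebraMap A (B j)) ≤ 𝔮.asIdeal.map (Pi.evalRingHom B j) := by
    rw [← hcompat, ← Ideal.map_map]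
    exact Ideal.map_mono hK
  obtain ⟨g, hg, l, hl, hIl⟩ := h j ⟨_, hprime⟩ hKj
  refine ⟨Pi.single j g, ?_, ?_⟩
  · intro hmem
    apply hg
    have h1 := Ideal.mem_map_of_mem (Pi.evalRingHom B j) hmem
    rwa [show Pi.evalRingHom B j (Pi.single j g) = g from Pi.single_eq_same j g] at h1
  · letI : Algebra (∀ k, B k) (Localization.Away g) :=
      ((algebraMap (B j) (Localization.Away g)).comp (Pi.evalRingHom B j)).toAlgebra
    haveI := isLocalization_away_single B j g (Localization.Away g) (fun b => rfl)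
    refine exists_list_of_isLocalization _ (Pi.single j g) (Localization.Away g) l hl ?_
    have h1 : algebraMap (∀ k, B k) (Localization.Away g) =
        (algebraMap (B j) (Localization.Away g)).comp (Pi.evalRingHom B j) := rfl
    rw [h1, ← Ideal.map_map, Ideal.map_map (algebraMap A _) (Pi.evalRingHom B j), hcompat, hIl]

/-- a finite family of flat algebras which is jointly surjective on spectra has faithfully flat
product -/
theorem faithfullyFlat_pi [∀ j, Module.Flat A (B j)]
    (hsurj : ∀ 𝔭 : Ideal A, 𝔭.IsPrime → ∃ j, ∃ 𝔮 : Ideal (B j), 𝔮.IsPrime ∧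
      𝔮.comap (algebraMap A (B j)) = 𝔭) :
    Module.FaithfullyFlat A (∀ j, B j) := by
  haveI : Module.Flat A (∀ j, B j) :=
    Module.Flat.of_linearEquiv (DirectSum.linearEquivFunOnFintype A ι B).symm
  apply Module.FaithfullyFlat.of_comap_surjective
  intro 𝔭
  obtain ⟨j, 𝔮, h𝔮, hcomap⟩ := hsurj 𝔭.asIdeal 𝔭.2
  refine ⟨⟨𝔮.comap (Pi.evalRingHom B j), inferInstance⟩, ?_⟩
  ext1
  show (𝔮.comap (Pi.evalRingHom B j)).comap (algebraMap A (∀ j, B j)) = 𝔭.asIdeal
  rw [Ideal.comap_comap]
  exact hcomap

/-- descent of Koszul-regularity of an ideal along a finite jointly surjective family of flat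
algebras -/
theorem kr_of_family [∀ j, Module.Flat A (B j)]
    (hsurj : ∀ 𝔭 : Ideal A, 𝔭.IsPrime → ∃ j, ∃ 𝔮 : Ideal (B j), 𝔮.IsPrime ∧
      𝔮.comap (algebraMap A (B j)) = 𝔭)
    (I : Ideal A) (h : ∀ j, LCI.IsKoszulRegularIdeal (I.map (algebraMap A (B j)))) :
    LCI.IsKoszulRegularIdeal I := by
  haveI := faithfullyFlat_pi B hsurj
  exact Groth.Agent.S9251.main A (∀ j, B j) I (kr_pi B I h)

end PiKR

end Groth.Agent.Helper2.KRProd
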