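import Mathlib
import Groth.Prelude.Def_RegImm
import Groth.Agent.Lib.Helper2.H1Desc4
import Groth.Agent.Lib.Helper2.KRProd
import Groth.Agent.S9252
import Groth.Agent.Lib.Helper28.RegBC7

/-!
# Ideals locally generated by a sequence of kind `k` (Koszul, `H_1`, quasi): faithfully flat descent
-/

set_option autoImplicit false
universe u

namespace Groth.Agent.Helper2.KindDesc

open Groth.Agent.Helper2.KosIdeal Groth.Agent.Helper2.KosReg Groth.Agent.Helper2.H1Desc
  Groth.Agent.Helper28.RegBC

/-- the ideal `I` is locally (on basic opens around the primes containing it) generated by a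
sequence of kind `k` -/
def LocK (k : RegImm.Kind) {R : Type u} [CommRing R] (I : Ideal R) : Prop :=
  ∀ (𝔭 : Ideal R) [𝔭.IsPrime], I ≤ 𝔭 → ∃ g : R, g ∉ 𝔭 ∧ ∃ l : List (Localization.Away g),
    k.Seq (Localization.Away g) l ∧ I.map (algebraMap R (Localization.Away g)) = Ideal.ofList l

section Seq

variable {R R' : Type u} [CommRing R] [CommRing R']

/-- flat base change of sequences of kind Koszul, `H_1`, quasi -/
theorem kind_flat [Algebra R R'] [Module.Flat R R'] (k : RegImm.Kind)
    (hk : k ≠ RegImm.Kind.regular) (rs : List R) (h : k.Seq R rs) :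
    k.Seq R' (rs.map (algebraMap R R')) := by
  cases k with
  | regular => exact absurd rfl hk
  | koszul => exact koszul_of_flat rs h
  | h1 =>
    have h' : CAlgX.IsH1Regular rs.get := h
    show CAlgX.IsH1Regular (rs.map (algebraMap R R')).get
    exact transport_get (algebraMap R R') rs (fun c f => CAlgX.IsH1Regular f) (h1_of_flat _ h')
  | quasi =>
    have h' : CAlgX.IsQuasiRegular rs.get := h
    show CAlgX.IsQuasiRegular (rs.map (algebraMap R R')).get
    exact transport_get (algebraMap R R') rs (fun c f => CAlgX.IsQuasiRegular f) (qr_of_flat _ h')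

theorem kind_ringEquiv (k : RegImm.Kind) (hk : k ≠ RegImm.Kind.regular) (e : R ≃+* R')
    (rs : List R) (h : k.Seq R rs) : k.Seq R' (rs.map e) := by
  letI : Algebra R R' := e.toRingHom.toAlgebra
  haveI : Module.Flat R R' := RingHom.Flat.of_bijective (f := e.toRingHom) e.bijective
  exact kind_flat k hk rs h

end Seq

section Conv

variable {S : Type u} [CommRing S]

theorem cast_iff (Pf : ∀ c : ℕ, (Fin c → S) → Prop) {r : ℕ} (f : Fin r → S) :
    ∀ (c : ℕ) (hc : c = r) (F' : Fin c → S), (∀ i, F' i = f (Fin.cast hc i)) →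
      (Pf c F' ↔ Pf r f) := by
  intro c hc
  subst hc
  intro F' hF'
  have : F' = f := funext hF'
  rw [this]

theorem ofFn_iff (Pf : ∀ c : ℕ, (Fin c → S) → Prop) {r : ℕ} (f : Fin r → S) :
    Pf (List.ofFn f).length (List.ofFn f).get ↔ Pf r f :=
  cast_iff Pf f _ (List.length_ofFn) _
    (fun i => by simp only [List.get_eq_getElem, List.getElem_ofFn]; rfl)

theorem exists_list_iff (Pf : ∀ c : ℕ, (Fin c → S) → Prop) (J : Ideal S) :
    (∃ l : List S, Pf l.length l.get ∧ J = Ideal.ofList l) ↔
      (∃ (r : ℕ) (f : Fin r → S), Pf r f ∧ Ideal.span (Set.range f) = J) := by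
  constructor
  · rintro ⟨l, hl, hJ⟩
    refine ⟨l.length, l.get, hl, ?_⟩
    rw [hJ, Set.range_list_get]
  · rintro ⟨r, f, hf, hJ⟩
    refine ⟨List.ofFn f, (ofFn_iff Pf f).mpr hf, ?_⟩
    rw [← hJ, Groth.Agent.Helper21.KL.ofList_ofFn]

end Conv

section Iff

variable {R : Type u} [CommRing R] (I : Ideal R)

theorem lock_koszul_iff : LocK RegImm.Kind.koszul I ↔ LCI.IsKoszulRegularIdeal I := by
  constructor
  · intro h 𝔭 hI
    haveI := 𝔭.2
    exact h 𝔭.asIdeal hI
  · intro h 𝔭 h𝔭 hI
    exact h ⟨𝔭, h𝔭⟩ hI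

theorem lock_quasi_iff : LocK RegImm.Kind.quasi I ↔ PP16.IsLocallyQuasiRegular R I := by
  constructor
  · intro h 𝔭 h𝔭 hI
    obtain ⟨g, hg, hex⟩ := h 𝔭 hI
    exact ⟨g, hg, (exists_list_iff (fun c f => CAlgX.IsQuasiRegular f) _).mp hex⟩
  · intro h 𝔭 h𝔭 hI
    obtain ⟨g, hg, hex⟩ := @h 𝔭 h𝔭 hI
    exact ⟨g, hg, (exists_list_iff (fun c f => CAlgX.IsQuasiRegular f) _).mpr hex⟩

theorem lock_h1_iff : LocK RegImm.Kind.h1 I ↔ LocH1 R I := by
  constructor
  · intro h 𝔭 h𝔭 hI
    obtain ⟨g, hg, hex⟩ := h 𝔭 hI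
    exact ⟨g, hg, (exists_list_iff (fun c f => CAlgX.IsH1Regular f) _).mp hex⟩
  · intro h 𝔭 h𝔭 hI
    obtain ⟨g, hg, hex⟩ := @h 𝔭 h𝔭 hI
    exact ⟨g, hg, (exists_list_iff (fun c f => CAlgX.IsH1Regular f) _).mpr hex⟩

end Iff

section Desc

/-- faithfully flat descent -/
theorem lock_desc (k : RegImm.Kind) (hk : k ≠ RegImm.Kind.regular) (A B : Type u) [CommRing A]
    [CommRing B] [Algebra A B] [Module.FaithfullyFlat A B] (I : Ideal A)
    (h : LocK k (I.map (algebraMap A B))) : LocK k I := by
  cases k with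
  | regular => exact absurd rfl hk
  | koszul =>
    rw [lock_koszul_iff] at h ⊢
    exact Groth.Agent.S9251.main A B I h
  | h1 =>
    rw [lock_h1_iff] at h ⊢
    exact lh1_desc A B I h
  | quasi =>
    rw [lock_quasi_iff] at h ⊢
    exact Groth.Agent.S9252.main A B I h

/-- Any model of the localization may be used. -/
theorem lock_of_isLocalization (k : RegImm.Kind) (hk : k ≠ RegImm.Kind.regular)
    {R : Type u} [CommRing R] (I : Ideal R) (t : R)
    (S' : Type u) [CommRing S'] [Algebra R S'] [IsLocalization.Away t S'] (l' : List S')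
    (hl' : k.Seq S' l') (hI : I.map (algebraMap R S') = Ideal.ofList l') :
    ∃ l : List (Localization.Away t), k.Seq (Localization.Away t) l ∧
      I.map (algebraMap R (Localization.Away t)) = Ideal.ofList l := by
  let e : S' ≃ₐ[R] Localization.Away t :=
    IsLocalization.algEquiv (Submonoid.powers t) S' (Localization.Away t)
  refine ⟨l'.map e, kind_ringEquiv k hk e.toRingEquiv l' hl', ?_⟩
  have h1 : (algebraMap R (Localization.Away t)) =
      (e : S' →+* Localization.Away t).comp (algebraMap R S') := by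
    ext r
    exact (e.commutes r).symm
  rw [h1, ← Ideal.map_map, hI, Ideal.map_ofList]
  rfl

end Desc

section PiK

open Groth.Agent.Helper2.KRProd

variable {A : Type u} [CommRing A] {ι : Type u} [Fintype ι] [DecidableEq ι]
  (B : ι → Type u) [∀ j, CommRing (B j)] [∀ j, Algebra A (B j)]

theorem lock_pi (k : RegImm.Kind) (hk : k ≠ RegImm.Kind.regular) (I : Ideal A)
    (h : ∀ j, LocK k (I.map (algebraMap A (B j)))) :
    LocK k (I.map (algebraMap A (∀ j, B j))) := by
  intro 𝔮 h𝔮 hK
  have hex : ∃ j, (Pi.single j 1 : ∀ k, B k) ∉ 𝔮 := by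
    by_contra hcon
    push Not at hcon
    have h1 : (1 : ∀ k, B k) ∈ 𝔮 := by
      rw [← Finset.univ_sum_single (1 : ∀ k, B k)]
      exact Ideal.sum_mem _ fun j _ => hcon j
    exact h𝔮.ne_top ((Ideal.eq_top_iff_one _).mpr h1)
  obtain ⟨j, hj⟩ := hex
  have hπ : Function.Surjective (Pi.evalRingHom B j) :=
    fun b => ⟨Pi.single j b, Pi.single_eq_same j b⟩
  have hker : RingHom.ker (Pi.evalRingHom B j) ≤ 𝔮 := by
    intro x hx
    have hxj : x j = 0 := hx
    have h0 : x * Pi.single j 1 = 0 := by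
      funext k
      by_cases hk : k = j
      · subst hk
        simp [hxj]
      · simp [Pi.single_eq_of_ne hk]
    have h1 : x * Pi.single j 1 ∈ 𝔮 := by
      rw [h0]
      exact Ideal.zero_mem _
    exact (h𝔮.mem_or_mem h1).resolve_right hj
  haveI hprime : (𝔮.map (Pi.evalRingHom B j)).IsPrime :=
    Ideal.map_isPrime_of_surjective hπ hker
  have hcompat : (Pi.evalRingHom B j).comp (algebraMap A (∀ k, B k)) = algebraMap A (B j) := by
    ext a
    rfl
  have hKj : I.map (algebraMap A (B j)) ≤ 𝔮.map (Pi.evalRingHom B j) := by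
    rw [← hcompat, ← Ideal.map_map]
    exact Ideal.map_mono hK
  obtain ⟨g, hg, l, hl, hIl⟩ := h j (𝔮.map (Pi.evalRingHom B j)) hKj
  refine ⟨Pi.single j g, ?_, ?_⟩
  · intro hmem
    apply hg
    have h1 := Ideal.mem_map_of_mem (Pi.evalRingHom B j) hmem
    rwa [show Pi.evalRingHom B j (Pi.single j g) = g from Pi.single_eq_same j g] at h1
  · letI : Algebra (∀ k, B k) (Localization.Away g) :=
      ((algebraMap (B j) (Localization.Away g)).comp (Pi.evalRingHom B j)).toAlgebra
    haveI := isLocalization_away_single B j g (Localization.Away g) (fun b => rfl)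
    refine lock_of_isLocalization k hk _ (Pi.single j g) (Localization.Away g) l hl ?_
    have h1 : algebraMap (∀ k, B k) (Localization.Away g) =
        (algebraMap (B j) (Localization.Away g)).comp (Pi.evalRingHom B j) := rfl
    rw [h1, ← Ideal.map_map, Ideal.map_map (algebraMap A _) (Pi.evalRingHom B j), hcompat, hIl]

/-- descent along a finite jointly surjective family of flat algebras -/
theorem lock_of_family (k : RegImm.Kind) (hk : k ≠ RegImm.Kind.regular)
    [∀ j, Module.Flat A (B j)]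
    (hsurj : ∀ 𝔭 : Ideal A, 𝔭.IsPrime → ∃ j, ∃ 𝔮 : Ideal (B j), 𝔮.IsPrime ∧
      𝔮.comap (algebraMap A (B j)) = 𝔭)
    (I : Ideal A) (h : ∀ j, LocK k (I.map (algebraMap A (B j)))) :
    LocK k I := by
  haveI := faithfullyFlat_pi B hsurj
  exact lock_desc k hk A (∀ j, B j) I (lock_pi B k hk I h)

end PiK

end Groth.Agent.Helper2.KindDesc
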