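import Mathlib
import Groth.Prelude.Def_LCI2
import Groth.Agent.Lib.Helper2.KosIdeal
import Groth.Agent.Lib.Helper2.KosIdeal2
import Groth.Agent.Lib.Helper2.KosDescent
import Groth.Agent.S9251

/-!
# Koszul-regular ideals and étale ring maps

`C → C'` étale (unramified for the first part), with compatible surjections `γ : C → B`,
`γ' : C' → B`.  Then `ker γ'` and the extension of `ker γ` agree on a basic open containing
`V(ker γ')`.
-/

set_option autoImplicit false
universe u

namespace Groth.Agent.Helper2.SmKR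

open Groth.Agent.Helper2.KosIdeal Groth.Agent.Helper2.KosDescent

section Idem

variable {C C' B : Type u} [CommRing C] [CommRing C'] [CommRing B] [Algebra C C']
  (γ : C →+* B) (hγ : Function.Surjective γ) (γ' : C' →+* B)
  (hcomp : γ'.comp (algebraMap C C') = γ)

include hcomp in
theorem map_ker_le : (RingHom.ker γ).map (algebraMap C C') ≤ RingHom.ker γ' := by
  rw [Ideal.map_le_iff_le_comap]
  intro c hc
  rw [Ideal.mem_comap, RingHom.mem_ker]
  have := RingHom.congr_fun hcomp c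
  rw [RingHom.comp_apply] at this
  rw [this]
  exact (RingHom.mem_ker).mp hc

include hγ hcomp in
/-- unramifiedness forces `ker γ' = (ker γ')² + (ker γ) C'` -/
theorem ker_le_sq_sup [Algebra.FormallyUnramified C C'] :
    RingHom.ker γ' ≤ RingHom.ker γ' * RingHom.ker γ' ⊔ (RingHom.ker γ).map (algebraMap C C') := by
  set N := RingHom.ker γ' with hN
  set M := (RingHom.ker γ).map (algebraMap C C') with hM
  set K := N * N ⊔ M with hK
  let π : C' →ₐ[C] C' ⧸ K := Ideal.Quotient.mkₐ C K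
  have hkerle : RingHom.ker γ ≤ RingHom.ker ((π : C' →+* C' ⧸ K).comp (algebraMap C C')) := by
    intro c hc
    rw [RingHom.mem_ker, RingHom.comp_apply]
    show Ideal.Quotient.mk K (algebraMap C C' c) = 0
    rw [Ideal.Quotient.eq_zero_iff_mem]
    exact Ideal.mem_sup_right (Ideal.mem_map_of_mem _ hc)
  let σ : B →+* C' ⧸ K := γ.liftOfSurjective hγ ⟨_, hkerle⟩
  have hσ : ∀ c : C, σ (γ c) = π (algebraMap C C' c) := fun c =>
    RingHom.liftOfSurjective_comp_apply γ hγ ⟨_, hkerle⟩ c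
  have hγ'alg : ∀ c : C, γ' (algebraMap C C' c) = γ c := fun c => RingHom.congr_fun hcomp c
  let ψ : C' →ₐ[C] C' ⧸ K :=
    { toRingHom := σ.comp γ'
      commutes' := fun c => by
        show σ (γ' (algebraMap C C' c)) = _
        rw [hγ'alg, hσ]
        rfl }
  let J : Ideal (C' ⧸ K) := N.map (Ideal.Quotient.mk K)
  have hJ : IsNilpotent (RingHom.ker (Ideal.Quotient.mk J)) := by
    rw [Ideal.mk_ker]
    refine ⟨2, ?_⟩
    rw [pow_two, Ideal.zero_eq_bot, ← Ideal.map_mul, ← le_bot_iff]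
    rw [Ideal.map_le_iff_le_comap]
    intro x hx
    rw [Ideal.mem_comap, Ideal.mem_bot, Ideal.Quotient.eq_zero_iff_mem]
    exact Ideal.mem_sup_left hx
  have heq : π = ψ := by
    apply Algebra.FormallyUnramified.ext' (Ideal.Quotient.mk J) hJ π ψ
    intro x
    obtain ⟨c, hc⟩ := hγ (γ' x)
    have h1 : ψ x = π (algebraMap C C' c) := by
      show σ (γ' x) = _
      rw [← hc, hσ]
    rw [h1, ← sub_eq_zero, ← map_sub, ← map_sub, Ideal.Quotient.eq_zero_iff_mem]
    apply Ideal.mem_map_of_mem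
    show x - algebraMap C C' c ∈ RingHom.ker γ'
    rw [RingHom.mem_ker, map_sub, hγ'alg, hc, sub_self]
  intro n hn
  have h2 : π n = ψ n := by rw [heq]
  have h3 : ψ n = 0 := by
    show σ (γ' n) = 0
    rw [(RingHom.mem_ker).mp hn, map_zero]
  rw [h3] at h2
  exact (Ideal.Quotient.eq_zero_iff_mem).mp h2

include hγ hcomp in
/-- `ker γ'` is finitely generated modulo `(ker γ) C'` -/
theorem exists_finset_ker_le [Algebra.FiniteType C C'] :
    ∃ t : Finset C', (↑t : Set C') ⊆ RingHom.ker γ' ∧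
      RingHom.ker γ' ≤ (RingHom.ker γ).map (algebraMap C C') ⊔ Ideal.span (↑t : Set C') := by
  classical
  obtain ⟨s, hs⟩ := (Algebra.FiniteType.out : (⊤ : Subalgebra C C').FG)
  have hγ'alg : ∀ c : C, γ' (algebraMap C C' c) = γ c := fun c => RingHom.congr_fun hcomp c
  choose cf hcf using fun x : C' => hγ (γ' x)
  let t : Finset C' := s.image (fun x => x - algebraMap C C' (cf x))
  have htN : (↑t : Set C') ⊆ RingHom.ker γ' := by
    intro y hy
    obtain ⟨x, -, rfl⟩ := Finset.mem_image.mp hy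
    show x - algebraMap C C' (cf x) ∈ RingHom.ker γ'
    rw [RingHom.mem_ker, map_sub, hγ'alg, hcf, sub_self]
  refine ⟨t, htN, ?_⟩
  have key : ∀ y : C', ∃ c : C, y - algebraMap C C' c ∈ Ideal.span (↑t : Set C') := by
    intro y
    have hy : y ∈ Algebra.adjoin C (↑s : Set C') := by rw [hs]; trivial
    induction hy using Algebra.adjoin_induction with
    | mem x hx =>
      exact ⟨cf x, Ideal.subset_span (Finset.mem_image.mpr ⟨x, hx, rfl⟩)⟩
    | algebraMap c => exact ⟨c, by rw [sub_self]; exact Ideal.zero_mem _⟩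
    | add y₁ y₂ _ _ h₁ h₂ =>
      obtain ⟨c₁, h₁⟩ := h₁
      obtain ⟨c₂, h₂⟩ := h₂
      refine ⟨c₁ + c₂, ?_⟩
      have : y₁ + y₂ - algebraMap C C' (c₁ + c₂) =
          (y₁ - algebraMap C C' c₁) + (y₂ - algebraMap C C' c₂) := by
        rw [map_add]; ring
      rw [this]
      exact Ideal.add_mem _ h₁ h₂
    | mul y₁ y₂ _ _ h₁ h₂ =>
      obtain ⟨c₁, h₁⟩ := h₁
      obtain ⟨c₂, h₂⟩ := h₂
      refine ⟨c₁ * c₂, ?_⟩
      have : y₁ * y₂ - algebraMap C C' (c₁ * c₂) =
          y₁ * (y₂ - algebraMap C C' c₂) + algebraMap C C' c₂ * (y₁ - algebraMap C C' c₁) := by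
        rw [map_mul]; ring
      rw [this]
      exact Ideal.add_mem _ (Ideal.mul_mem_left _ _ h₂) (Ideal.mul_mem_left _ _ h₁)
  intro y hy
  obtain ⟨c, hc⟩ := key y
  have hcN : algebraMap C C' c ∈ RingHom.ker γ' := by
    have h1 : y - algebraMap C C' c ∈ RingHom.ker γ' := (Ideal.span_le.mpr htN) hc
    have h2 : algebraMap C C' c = y - (y - algebraMap C C' c) := by ring
    rw [h2]
    exact Ideal.sub_mem _ hy h1
  have hcI : c ∈ RingHom.ker γ := by
    rw [RingHom.mem_ker, ← hγ'alg]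
    exact (RingHom.mem_ker).mp hcN
  have h3 : y = algebraMap C C' c + (y - algebraMap C C' c) := by ring
  rw [h3]
  exact Ideal.add_mem _ (Ideal.mem_sup_left (Ideal.mem_map_of_mem _ hcI)) (Ideal.mem_sup_right hc)

include hγ hcomp in
/-- the idempotent-type element: `(1 - n) • ker γ' ⊆ (ker γ) C'` for some `n ∈ ker γ'` -/
theorem exists_idem [Algebra.FormallyUnramified C C'] [Algebra.FiniteType C C'] :
    ∃ n ∈ RingHom.ker γ', ∀ x ∈ RingHom.ker γ',
      (1 - n) * x ∈ (RingHom.ker γ).map (algebraMap C C') := by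
  set N := RingHom.ker γ' with hN
  set M := (RingHom.ker γ).map (algebraMap C C') with hM
  have hMN : M ≤ N := map_ker_le γ γ' hcomp
  obtain ⟨t, htN, hle⟩ := exists_finset_ker_le γ hγ γ' hcomp
  have hsq := ker_le_sq_sup γ hγ γ' hcomp
  let mk := Ideal.Quotient.mk M
  have hmk : Function.Surjective mk := Ideal.Quotient.mk_surjective
  let Nb : Ideal (C' ⧸ M) := N.map mk
  have hMbot : M.map mk = ⊥ := by
    rw [← le_bot_iff, Ideal.map_le_iff_le_comap]
    intro x hx
    rw [Ideal.mem_comap, Ideal.mem_bot]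
    exact (Ideal.Quotient.eq_zero_iff_mem).mpr hx
  have hNbfg : Nb.FG := by
    have h1 : Nb = (Ideal.span (↑t : Set C')).map mk := by
      apply le_antisymm
      · calc Nb ≤ (M ⊔ Ideal.span (↑t : Set C')).map mk := Ideal.map_mono hle
          _ = (Ideal.span (↑t : Set C')).map mk := by rw [Ideal.map_sup, hMbot, bot_sup_eq]
      · exact Ideal.map_mono (Ideal.span_le.mpr htN)
    rw [h1]
    exact Ideal.FG.map ⟨t, rfl⟩ mk
  have hNbsq : Nb ≤ Nb • Nb := by
    calc Nb ≤ (N * N ⊔ M).map mk := Ideal.map_mono hsq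
      _ = Nb * Nb := by rw [Ideal.map_sup, hMbot, sup_bot_eq, Ideal.map_mul]
      _ = Nb • Nb := rfl
  obtain ⟨r, hr, hrn⟩ := Submodule.exists_mem_and_smul_eq_self_of_fg_of_le_smul Nb Nb hNbfg hNbsq
  obtain ⟨n, hn, rfl⟩ := (Ideal.mem_map_iff_of_surjective mk hmk).mp hr
  refine ⟨n, hn, fun x hx => ?_⟩
  have h1 : mk n • mk x = mk x := hrn (mk x) (Ideal.mem_map_of_mem mk hx)
  rw [← Ideal.Quotient.eq_zero_iff_mem]
  show mk ((1 - n) * x) = 0
  rw [map_mul, map_sub, map_one, sub_mul, one_mul, ← smul_eq_mul, h1, sub_self]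

end Idem

end Groth.Agent.Helper2.SmKR
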