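import Mathlib
import Groth.Prelude.Def_LCI2
import Groth.Agent.Lib.Helper2.SmKR1

/-!
# Koszul-regular ideals and étale ring maps: the comparison
-/

set_option autoImplicit false
universe u

namespace Groth.Agent.Helper2.SmKR

open Groth.Agent.Helper2.KosIdeal Groth.Agent.Helper2.KosDescent TensorProduct

section G2

attribute [local instance] Algebra.TensorProduct.rightAlgebra

/-- the localized base -/
abbrev Aa {C : Type u} [CommRing C] (a : C) : Type u := Localization.Away a

/-- the base-changed cover -/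
abbrev Ta {C C' : Type u} [CommRing C] [CommRing C'] [Algebra C C'] (a : C) (g : C') : Type u :=
  Localization.Away a ⊗[C] Localization.Away g

variable {C C' B : Type u} [CommRing C] [CommRing C'] [CommRing B] [Algebra C C']
  [Algebra.Etale C C']
  (γ : C →+* B) (hγ : Function.Surjective γ) (γ' : C' →+* B)
  (hcomp : γ'.comp (algebraMap C C') = γ)

include hγ hcomp in
/-- on the basic open `D(1 - n)` the two ideals agree -/
theorem exists_away_eq :
    ∃ g : C', (∀ 𝔮 : Ideal C', 𝔮.IsPrime → RingHom.ker γ' ≤ 𝔮 → g ∉ 𝔮) ∧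
      (RingHom.ker γ').map (algebraMap C' (Localization.Away g)) =
        ((RingHom.ker γ).map (algebraMap C C')).map (algebraMap C' (Localization.Away g)) := by
  obtain ⟨n, hn, hidem⟩ := exists_idem γ hγ γ' hcomp
  refine ⟨1 - n, fun 𝔮 h𝔮 hle hmem => ?_, ?_⟩
  · apply h𝔮.ne_top
    rw [Ideal.eq_top_iff_one]
    have : (1 : C') = (1 - n) + n := by ring
    rw [this]
    exact Ideal.add_mem _ hmem (hle hn)
  · apply le_antisymm
    · rw [Ideal.map_le_iff_le_comap]
      intro x hx
      rw [Ideal.mem_comap]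
      have hu : IsUnit (algebraMap C' (Localization.Away (1 - n)) (1 - n)) :=
        IsLocalization.Away.algebraMap_isUnit (1 - n)
      have h3 : algebraMap C' (Localization.Away (1 - n)) x =
          ↑hu.unit⁻¹ * algebraMap C' (Localization.Away (1 - n)) ((1 - n) * x) := by
        rw [map_mul, ← mul_assoc, IsUnit.val_inv_mul, one_mul]
      rw [h3]
      exact Ideal.mul_mem_left _ _ (Ideal.mem_map_of_mem _ (hidem x hx))
    · exact Ideal.map_mono (map_ker_le γ γ' hcomp)

include hγ hcomp in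
/-- going up along an étale map -/
theorem kr_up (h : LCI.IsKoszulRegularIdeal (RingHom.ker γ)) :
    LCI.IsKoszulRegularIdeal (RingHom.ker γ') := by
  obtain ⟨g, hg, heq⟩ := exists_away_eq γ hγ γ' hcomp
  intro 𝔮 h𝔮
  have h1 : LCI.IsKoszulRegularIdeal ((RingHom.ker γ).map (algebraMap C C')) :=
    kr_map_of_flat _ h
  have h2 := kr_map_of_flat (B'' := Localization.Away g) _ h1
  rw [← heq] at h2
  exact kr_at_of_away (RingHom.ker γ') g h2 𝔮 h𝔮 (hg 𝔮.asIdeal 𝔮.2 h𝔮)

include hγ hcomp in
/-- going down along an étale map -/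
theorem kr_down (h : LCI.IsKoszulRegularIdeal (RingHom.ker γ')) :
    LCI.IsKoszulRegularIdeal (RingHom.ker γ) := by
  obtain ⟨g, hg, heq⟩ := exists_away_eq γ hγ γ' hcomp
  have hγ'alg : ∀ c : C, γ' (algebraMap C C' c) = γ c := fun c => RingHom.congr_fun hcomp c
  -- Koszul-regularity of the extension to `C'[1/g]`
  have hKRg : LCI.IsKoszulRegularIdeal
      ((RingHom.ker γ).map (algebraMap C (Localization.Away g))) := by
    have h2 := kr_map_of_flat (B'' := Localization.Away g) _ h
    rw [heq, Ideal.map_map, ← IsScalarTower.algebraMap_eq] at h2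
    exact h2
  haveI : Module.Flat C (Localization.Away g) := Module.Flat.trans C C' (Localization.Away g)
  haveI : Algebra.FinitePresentation C' (Localization.Away g) :=
    IsLocalization.Away.finitePresentation g
  haveI : Algebra.FinitePresentation C (Localization.Away g) :=
    Algebra.FinitePresentation.trans C C' (Localization.Away g)
  have hopen : IsOpenMap (PrimeSpectrum.comap (algebraMap C (Localization.Away g))) :=
    PrimeSpectrum.isOpenMap_comap_of_hasGoingDown_of_finitePresentation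
  intro 𝔭 h𝔭
  -- the prime of `C'[1/g]` over `𝔭`
  haveI hprimeB : (𝔭.asIdeal.map γ).IsPrime := Ideal.map_isPrime_of_surjective hγ h𝔭
  have hcomapB : (𝔭.asIdeal.map γ).comap γ = 𝔭.asIdeal := by
    rw [Ideal.comap_map_of_surjective γ hγ, sup_eq_left, ← RingHom.ker_eq_comap_bot]
    exact h𝔭
  let 𝔮 : Ideal C' := (𝔭.asIdeal.map γ).comap γ'
  haveI h𝔮 : 𝔮.IsPrime := Ideal.comap_isPrime γ' _
  have hN𝔮 : RingHom.ker γ' ≤ 𝔮 := by
    intro x hx
    show γ' x ∈ 𝔭.asIdeal.map γ
    rw [(RingHom.mem_ker).mp hx]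
    exact Ideal.zero_mem _
  have h𝔮comap : 𝔮.comap (algebraMap C C') = 𝔭.asIdeal := by
    rw [Ideal.comap_comap, hcomp, hcomapB]
  have hg𝔮 : g ∉ 𝔮 := hg 𝔮 h𝔮 hN𝔮
  have hdisj : Disjoint (Submonoid.powers g : Set C') (𝔮 : Set C') := by
    rw [Set.disjoint_left]
    rintro x ⟨k, rfl⟩ hx
    exact hg𝔮 (h𝔮.mem_of_pow_mem k hx)
  haveI hprime' : (𝔮.map (algebraMap C' (Localization.Away g))).IsPrime :=
    IsLocalization.isPrime_of_isPrime_disjoint (Submonoid.powers g) _ _ h𝔮 hdisj
  have hcomap' : (𝔮.map (algebraMap C' (Localization.Away g))).comap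
      (algebraMap C' (Localization.Away g)) = 𝔮 :=
    IsLocalization.under_map_of_isPrime_disjoint (Submonoid.powers g) _ h𝔮 hdisj
  have h𝔭range : 𝔭 ∈ Set.range (PrimeSpectrum.comap (algebraMap C (Localization.Away g))) := by
    refine ⟨⟨_, hprime'⟩, ?_⟩
    ext1
    show (𝔮.map (algebraMap C' (Localization.Away g))).comap
      (algebraMap C (Localization.Away g)) = 𝔭.asIdeal
    rw [IsScalarTower.algebraMap_eq C C' (Localization.Away g), ← Ideal.comap_comap, hcomap',
      h𝔮comap]
  obtain ⟨_, ⟨_, ⟨a, rfl⟩, rfl⟩, h𝔭a, haU⟩ :=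
    PrimeSpectrum.isBasis_basic_opens.exists_subset_of_mem_open h𝔭range hopen.isOpen_range
  have ha𝔭 : a ∉ 𝔭.asIdeal := h𝔭a
  -- faithfully flat cover of `C[1/a]`
  haveI hloc : IsLocalization.Away (algebraMap C (Localization.Away g) a) (Ta a g) := by
    have h1 := IsLocalization.tensorRight (S := Localization.Away g) (A := Aa a)
      (Submonoid.powers a)
    rw [Algebra.algebraMapSubmonoid_powers] at h1
    exact h1
  haveI : Module.FaithfullyFlat (Aa a) (Ta a g) := by
    apply Module.FaithfullyFlat.of_comap_surjective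
    intro 𝔭₁
    have ha₁ : a ∉ 𝔭₁.asIdeal.comap (algebraMap C (Aa a)) := by
      intro hmem
      exact 𝔭₁.2.ne_top (Ideal.eq_top_of_isUnit_mem _ hmem
        (IsLocalization.Away.algebraMap_isUnit a))
    have hp₀ : (𝔭₁.asIdeal.comap (algebraMap C (Aa a))).IsPrime := Ideal.comap_isPrime _ _
    obtain ⟨𝔮₁, h𝔮₁⟩ := haU (show (⟨𝔭₁.asIdeal.comap (algebraMap C (Aa a)), hp₀⟩ :
      PrimeSpectrum C) ∈ (PrimeSpectrum.basicOpen a : Set (PrimeSpectrum C)) from ha₁)
    have h𝔮₁' : 𝔮₁.asIdeal.comap (algebraMap C (Localization.Away g)) =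
        𝔭₁.asIdeal.comap (algebraMap C (Aa a)) := congrArg PrimeSpectrum.asIdeal h𝔮₁
    have ha𝔮₁ : algebraMap C (Localization.Away g) a ∉ 𝔮₁.asIdeal := by
      intro hmem
      apply ha₁
      rw [← h𝔮₁']
      exact hmem
    have hdisj₁ : Disjoint (Submonoid.powers (algebraMap C (Localization.Away g) a) :
        Set (Localization.Away g)) (𝔮₁.asIdeal : Set (Localization.Away g)) := by
      rw [Set.disjoint_left]
      rintro x ⟨k, rfl⟩ hx
      exact ha𝔮₁ (𝔮₁.2.mem_of_pow_mem k hx)
    haveI hprime₂ : (𝔮₁.asIdeal.map (algebraMap (Localization.Away g) (Ta a g))).IsPrime :=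
      IsLocalization.isPrime_of_isPrime_disjoint
        (Submonoid.powers (algebraMap C (Localization.Away g) a)) _ _ 𝔮₁.2 hdisj₁
    have hcomap₂ : (𝔮₁.asIdeal.map (algebraMap (Localization.Away g) (Ta a g))).comap
        (algebraMap (Localization.Away g) (Ta a g)) = 𝔮₁.asIdeal :=
      IsLocalization.under_map_of_isPrime_disjoint
        (Submonoid.powers (algebraMap C (Localization.Away g) a)) _ 𝔮₁.2 hdisj₁
    refine ⟨⟨_, hprime₂⟩, ?_⟩
    apply PrimeSpectrum.localization_comap_injective (Aa a) (Submonoid.powers a)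
    ext1
    show ((𝔮₁.asIdeal.map (algebraMap (Localization.Away g) (Ta a g))).comap (algebraMap (Aa a) (Ta a g))).comap
      (algebraMap C (Aa a)) = 𝔭₁.asIdeal.comap (algebraMap C (Aa a))
    rw [Ideal.comap_comap, ← IsScalarTower.algebraMap_eq,
      IsScalarTower.algebraMap_eq C (Localization.Away g) (Ta a g), ← Ideal.comap_comap, hcomap₂, h𝔮₁']
  haveI : Module.Flat (Localization.Away g) (Ta a g) :=
    IsLocalization.flat (Ta a g) (Submonoid.powers (algebraMap C (Localization.Away g) a))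
  have hKRT : LCI.IsKoszulRegularIdeal
      (((RingHom.ker γ).map (algebraMap C (Aa a))).map (algebraMap (Aa a) (Ta a g))) := by
    have h3 := kr_map_of_flat (B'' := Ta a g) _ hKRg
    rw [Ideal.map_map, ← IsScalarTower.algebraMap_eq] at h3
    rw [Ideal.map_map, ← IsScalarTower.algebraMap_eq]
    exact h3
  have hKRA := Groth.Agent.S9251.main (Aa a) (Ta a g) _ hKRT
  exact kr_at_of_away (RingHom.ker γ) a hKRA 𝔭 h𝔭 ha𝔭

end G2

end Groth.Agent.Helper2.SmKR
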