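import Mathlib
import Groth.Prelude.Def_LCI2
import Groth.Agent.Lib.Helper2.SmKR2
import Groth.Agent.S9269

/-!
# Koszul-regular ideals and standard smooth ring maps
-/

set_option autoImplicit false
universe u

namespace Groth.Agent.Helper2.SmKR

open Groth.Agent.Helper2.KosIdeal Groth.Agent.Helper2.KosDescent TensorProduct

section Std

variable {R' T B' : Type u} [CommRing R'] [CommRing T] [CommRing B'] [Algebra R' T]
  [Algebra.IsStandardSmooth R' T] (ρ₀ : R' →+* B') (hρ₀ : Function.Surjective ρ₀) (γT : T →+* B')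
  (hcomp : γT.comp (algebraMap R' T) = ρ₀)

include hρ₀ hcomp in
/-- comparison of kernels for a standard smooth algebra, both maps onto `B'` -/
theorem kr_iff_of_isStandardSmooth :
    LCI.IsKoszulRegularIdeal (RingHom.ker ρ₀) ↔ LCI.IsKoszulRegularIdeal (RingHom.ker γT) := by
  have hf : (algebraMap R' T).IsStandardSmooth := RingHom.isStandardSmooth_algebraMap.mpr inferInstance
  obtain ⟨n, φ, hφC, hφ⟩ := RingHom.IsStandardSmooth.exists_etale_mvPolynomial hf
  let δ : MvPolynomial (Fin n) R' →+* B' := γT.comp φ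
  have hδ : δ.comp MvPolynomial.C = ρ₀ := by
    rw [RingHom.comp_assoc, hφC, hcomp]
  have hδsurj : Function.Surjective δ := by
    intro b
    obtain ⟨r, rfl⟩ := hρ₀ b
    exact ⟨MvPolynomial.C r, by rw [← hδ]; rfl⟩
  have e1 := Groth.Agent.S9269.ext_iff R' B' ρ₀ hρ₀ n δ hδ
  rw [e1]
  algebraize [φ]
  haveI : Algebra.Etale (MvPolynomial (Fin n) R') T := hφ
  have hc : γT.comp (algebraMap (MvPolynomial (Fin n) R') T) = δ := rfl
  exact ⟨kr_up δ hδsurj γT hc, kr_down δ hδsurj γT hc⟩

end Std

section Model

/-- Koszul-regularity of the extension to a localisation does not depend on the model -/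
theorem kr_model_iff {D : Type u} [CommRing D] (I : Ideal D) (G : D) (T : Type u) [CommRing T]
    [Algebra D T] [IsLocalization.Away G T] :
    LCI.IsKoszulRegularIdeal (I.map (algebraMap D T)) ↔
      LCI.IsKoszulRegularIdeal (I.map (algebraMap D (Localization.Away G))) := by
  let e : T ≃ₐ[D] Localization.Away G :=
    IsLocalization.algEquiv (Submonoid.powers G) T (Localization.Away G)
  have h1 : (algebraMap D (Localization.Away G)) =
      (e.toRingEquiv : T →+* Localization.Away G).comp (algebraMap D T) := by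
    ext r
    exact (e.commutes r).symm
  rw [h1, ← Ideal.map_map]
  exact (kr_ringEquiv_iff e.toRingEquiv _).symm

end Model

section Smooth

attribute [local instance] Algebra.TensorProduct.rightAlgebra

variable {R C' B : Type u} [CommRing R] [CommRing C'] [CommRing B] [Algebra R C']
  (γ : R →+* B) (hγ : Function.Surjective γ) (γ' : C' →+* B)
  (hcomp : γ'.comp (algebraMap R C') = γ)

include hγ hcomp in
/-- the local comparison on a standard smooth chart -/
theorem kr_iff_away (g : C') [Algebra.IsStandardSmooth R (Localization.Away g)] (a : R)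
    (hga : γ a = γ' g) :
    LCI.IsKoszulRegularIdeal ((RingHom.ker γ).map (algebraMap R (Localization.Away a))) ↔
      LCI.IsKoszulRegularIdeal ((RingHom.ker γ').map
        (algebraMap C' (Localization.Away (g * algebraMap R C' a)))) := by
  have hγ'alg : ∀ c : R, γ' (algebraMap R C' c) = γ c := fun c => RingHom.congr_fun hcomp c
  haveI hloc : IsLocalization.Away (algebraMap R (Localization.Away g) a) (Ta a g) := by
    have h1 := IsLocalization.tensorRight (S := Localization.Away g) (A := Aa a)
      (Submonoid.powers a)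
    rw [Algebra.algebraMapSubmonoid_powers] at h1
    exact h1
  letI algC'T : Algebra C' (Ta a g) :=
    ((algebraMap (Localization.Away g) (Ta a g)).comp (algebraMap C' (Localization.Away g))).toAlgebra
  haveI : IsScalarTower C' (Localization.Away g) (Ta a g) := IsScalarTower.of_algebraMap_eq' rfl
  haveI : IsScalarTower R C' (Ta a g) := by
    apply IsScalarTower.of_algebraMap_eq'
    rw [IsScalarTower.algebraMap_eq R (Localization.Away g) (Ta a g),
      IsScalarTower.algebraMap_eq R C' (Localization.Away g)]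
    rfl
  haveI hloc' : IsLocalization.Away (algebraMap C' (Localization.Away g) (algebraMap R C' a))
      (Ta a g) := by
    rw [← IsScalarTower.algebraMap_apply R C' (Localization.Away g) a]
    exact hloc
  haveI hlocT : IsLocalization.Away (g * algebraMap R C' a) (Ta a g) :=
    IsLocalization.Away.mul' (Localization.Away g) (Ta a g) g (algebraMap R C' a)
  -- the target
  haveI hself : IsLocalization.Away (algebraMap B (Localization.Away (γ a)) (γ a))
      (Localization.Away (γ a)) :=
    IsLocalization.away_of_isUnit_of_bijective (Localization.Away (γ a))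
      (IsLocalization.Away.algebraMap_isUnit (γ a)) Function.bijective_id
  haveI hB1 : IsLocalization.Away (γ' (g * algebraMap R C' a)) (Localization.Away (γ a)) := by
    have h1 : γ' (g * algebraMap R C' a) = γ a * γ a := by
      rw [map_mul, hγ'alg, hga]
    rw [h1]
    exact IsLocalization.Away.mul' (Localization.Away (γ a)) (Localization.Away (γ a)) (γ a) (γ a)
  let ρ₀ : Aa a →+* Localization.Away (γ a) :=
    IsLocalization.Away.map (Aa a) (Localization.Away (γ a)) γ a
  let γT : Ta a g →+* Localization.Away (γ a) :=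
    IsLocalization.Away.map (Ta a g) (Localization.Away (γ a)) γ' (g * algebraMap R C' a)
  have hρ₀ : Function.Surjective ρ₀ :=
    awayMap_surjective γ hγ a (Aa a) (Localization.Away (γ a))
  have hρ₀c : ρ₀.comp (algebraMap R (Aa a)) = (algebraMap B (Localization.Away (γ a))).comp γ :=
    awayMap_comp γ a (Aa a) (Localization.Away (γ a))
  have hγTc : γT.comp (algebraMap C' (Ta a g)) = (algebraMap B (Localization.Away (γ a))).comp γ' :=
    awayMap_comp γ' (g * algebraMap R C' a) (Ta a g) (Localization.Away (γ a))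
  have hcompT : γT.comp (algebraMap (Aa a) (Ta a g)) = ρ₀ := by
    apply IsLocalization.ringHom_ext (Submonoid.powers a)
    rw [RingHom.comp_assoc, ← IsScalarTower.algebraMap_eq, hρ₀c,
      IsScalarTower.algebraMap_eq R C' (Ta a g), ← RingHom.comp_assoc, hγTc, RingHom.comp_assoc,
      hcomp]
  have hkerρ : RingHom.ker ρ₀ = (RingHom.ker γ).map (algebraMap R (Aa a)) :=
    IsLocalization.ker_map (S := Aa a) (Localization.Away (γ a)) γ (Submonoid.map_powers γ a)
  have hkerT : RingHom.ker γT = (RingHom.ker γ').map (algebraMap C' (Ta a g)) :=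
    IsLocalization.ker_map (S := Ta a g) (Localization.Away (γ a)) γ'
      (Submonoid.map_powers γ' (g * algebraMap R C' a))
  have key := kr_iff_of_isStandardSmooth ρ₀ hρ₀ γT hcompT
  rw [hkerρ, hkerT] at key
  rw [← kr_model_iff (RingHom.ker γ') (g * algebraMap R C' a) (Ta a g)]
  exact key

include hγ hcomp in
/-- **Smooth comparison.**  For a smooth `R`-algebra `C'` and compatible surjections of `R` and
`C'` onto `B`, the kernel of `R → B` is Koszul-regular iff the kernel of `C' → B` is. -/
theorem kr_iff_of_smooth [Algebra.Smooth R C'] :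
    LCI.IsKoszulRegularIdeal (RingHom.ker γ) ↔ LCI.IsKoszulRegularIdeal (RingHom.ker γ') := by
  obtain ⟨s, hs, hstd⟩ := Algebra.Smooth.exists_span_eq_top_isStandardSmooth R C'
  have hγ'alg : ∀ c : R, γ' (algebraMap R C' c) = γ c := fun c => RingHom.congr_fun hcomp c
  have hex : ∀ 𝔮 : Ideal C', 𝔮.IsPrime → ∃ g ∈ s, g ∉ 𝔮 := by
    intro 𝔮 h𝔮
    by_contra hcon
    push Not at hcon
    apply h𝔮.ne_top
    rw [eq_top_iff, ← hs, Ideal.span_le]
    exact fun g hg => hcon g hg
  constructor
  · intro h 𝔮 h𝔮
    obtain ⟨g, hgs, hg𝔮⟩ := hex 𝔮.asIdeal 𝔮.2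
    haveI := hstd g hgs
    obtain ⟨a, ha⟩ := hγ (γ' g)
    have h1 : LCI.IsKoszulRegularIdeal ((RingHom.ker γ).map (algebraMap R (Localization.Away a))) :=
      kr_map_of_flat _ h
    have h2 := (kr_iff_away γ hγ γ' hcomp g a ha).mp h1
    have ha𝔮 : algebraMap R C' a ∉ 𝔮.asIdeal := by
      intro hmem
      apply hg𝔮
      have h3 : algebraMap R C' a - g ∈ RingHom.ker γ' := by
        rw [RingHom.mem_ker, map_sub, hγ'alg, ha, sub_self]
      have h4 : g = algebraMap R C' a - (algebraMap R C' a - g) := by ring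
      rw [h4]
      exact Ideal.sub_mem _ hmem (h𝔮 h3)
    have hG : g * algebraMap R C' a ∉ 𝔮.asIdeal := by
      intro hmem
      rcases 𝔮.2.mem_or_mem hmem with h | h
      · exact hg𝔮 h
      · exact ha𝔮 h
    exact kr_at_of_away (RingHom.ker γ') _ h2 𝔮 h𝔮 hG
  · intro h 𝔭 h𝔭
    haveI hprimeB : (𝔭.asIdeal.map γ).IsPrime := Ideal.map_isPrime_of_surjective hγ h𝔭
    have hcomapB : (𝔭.asIdeal.map γ).comap γ = 𝔭.asIdeal := by
      rw [Ideal.comap_map_of_surjective γ hγ, sup_eq_left, ← RingHom.ker_eq_comap_bot]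
      exact h𝔭
    haveI h𝔮 : ((𝔭.asIdeal.map γ).comap γ').IsPrime := Ideal.comap_isPrime γ' _
    obtain ⟨g, hgs, hg𝔮⟩ := hex _ h𝔮
    haveI := hstd g hgs
    obtain ⟨a, ha⟩ := hγ (γ' g)
    have h1 : LCI.IsKoszulRegularIdeal ((RingHom.ker γ').map
        (algebraMap C' (Localization.Away (g * algebraMap R C' a)))) :=
      kr_map_of_flat _ h
    have h2 := (kr_iff_away γ hγ γ' hcomp g a ha).mpr h1
    have ha𝔭 : a ∉ 𝔭.asIdeal := by
      intro hmem
      apply hg𝔮
      show γ' g ∈ 𝔭.asIdeal.map γ
      rw [← ha]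
      exact Ideal.mem_map_of_mem γ hmem
    exact kr_at_of_away (RingHom.ker γ) a h2 𝔭 h𝔭 ha𝔭

end Smooth

end Groth.Agent.Helper2.SmKR
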