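import Mathlib
import Groth.Prelude.Def_RegImm
import Groth.Agent.Lib.Helper2.SmKR3
import Groth.Agent.S8653
import Groth.Agent.Lib.Helper28.RegBC7
import Groth.Agent.Lib.Helper18.SymAlg9

/-!
# Koszul-regular immersions: charts and the comparison along a smooth morphism
-/

set_option autoImplicit false
universe u

namespace Groth.Agent.Helper2.KRSch

open CategoryTheory CategoryTheory.Limits AlgebraicGeometry TopologicalSpace
open Groth.Agent.Helper28 Groth.Agent.Helper28.RegBC Groth.Agent.S8653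
  Groth.Agent.Helper2.KosIdeal Groth.Agent.Helper2.SmKR

/-- a Koszul-regular kernel on an affine open gives Koszul-regularity of the immersion at the
points over it -/
theorem regAt_of_kr {X Y : Scheme.{u}} (i : Y ⟶ X) (U : X.Opens) (hU : IsAffineOpen U)
    [IsClosedImmersion (i ∣_ U)]
    (hKR : LCI.IsKoszulRegularIdeal (RingHom.ker (i.app U).hom)) (y : Y) (hyU : i y ∈ U) :
    RegImm.IsRegularImmersionAt .koszul i y := by
  have hVY : IsAffineOpen (i ⁻¹ᵁ U) := RegImmStalk.isAffineOpen_preimage i U hU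
  have hIle : RingHom.ker (i.app U).hom ≤ (hU.primeIdealOf ⟨i y, hyU⟩).asIdeal := by
    have h1 := IsAffineOpen.comap_primeIdealOf_appLE (f := i) (x := y) U hU (i ⁻¹ᵁ U) hVY
      (le_refl _) hyU
    rw [← h1]
    intro a ha
    show (i.appLE U (i ⁻¹ᵁ U) (le_refl _)).hom a ∈ (hVY.primeIdealOf ⟨y, hyU⟩).asIdeal
    rw [← Scheme.Hom.app_eq_appLE, (RingHom.mem_ker).mp ha]
    exact Ideal.zero_mem _
  obtain ⟨G, hG, l, hl, hIl⟩ := hKR (hU.primeIdealOf ⟨i y, hyU⟩) hIle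
  have hW : IsAffineOpen (X.basicOpen G) := hU.basicOpen G
  have hyW : i y ∈ X.basicOpen G := by
    have h1 := (mem_basicOpen_iff hU (hU.primeIdealOf ⟨i y, hyU⟩) G).mpr hG
    rwa [hU.fromSpec_primeIdealOf ⟨i y, hyU⟩] at h1
  have hle' : X.basicOpen G ≤ (𝟙 X) ⁻¹ᵁ U := X.basicOpen_le G
  obtain ⟨hclW, hkerW⟩ := ker_of_isPullback i (𝟙 X) i (𝟙 Y) (IsPullback.id_horiz i) U hU
    (X.basicOpen G) hW hle'
  haveI := hU.isLocalization_basicOpen G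
  let e : Localization.Away G ≃ₐ[Γ(X, U)] Γ(X, X.basicOpen G) :=
    IsLocalization.algEquiv (Submonoid.powers G) (Localization.Away G) Γ(X, X.basicOpen G)
  refine ⟨⟨X.basicOpen G, hW⟩, hyW, hclW, l.map e,
    Groth.Agent.Helper2.KosReg.isKoszulRegularSeq_ringEquiv e.toRingEquiv l hl, ?_⟩
  have h3 : algebraMap Γ(X, U) Γ(X, X.basicOpen G) =
      ((𝟙 X : X ⟶ X).appLE U (X.basicOpen G) hle').hom := by
    rw [RingHom.algebraMap_toAlgebra]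
    simp only [Scheme.Hom.appLE, Scheme.Hom.id_app, CommRingCat.hom_comp]
    rfl
  have h4 : algebraMap Γ(X, U) Γ(X, X.basicOpen G) =
      (e : Localization.Away G →+* Γ(X, X.basicOpen G)).comp
        (algebraMap Γ(X, U) (Localization.Away G)) := by
    ext r
    exact (e.commutes r).symm
  show RingHom.ker (i.app (X.basicOpen G)).hom = Ideal.ofList (l.map e)
  rw [hkerW, ← h3, h4, ← Ideal.map_map, hIl, Ideal.map_ofList]
  rfl

/-- the kernel of `appLE` to an open equal to the preimage -/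
theorem ker_appLE_eq {X Y : Scheme.{u}} (j : Y ⟶ X) (U : X.Opens) (W : Y.Opens)
    (h : W = j ⁻¹ᵁ U) :
    RingHom.ker (j.appLE U W (h ▸ le_rfl)).hom = RingHom.ker (j.app U).hom := by
  subst h
  rw [← Scheme.Hom.app_eq_appLE]

/-- the local comparison for a pair of immersions `j : X → V'` and `j ≫ p : X → V` with `p`
smooth -/
theorem pair_at {X V V' : Scheme.{u}} (j : X ⟶ V') [IsImmersion j] (p : V' ⟶ V) [Smooth p]
    [IsImmersion (j ≫ p)] (x : X) :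
    ∃ (V₂ : V.Opens) (V'₂ : V'.Opens), IsAffineOpen V₂ ∧ IsAffineOpen V'₂ ∧
      (j ≫ p) x ∈ V₂ ∧ j x ∈ V'₂ ∧
      IsClosedImmersion ((j ≫ p) ∣_ V₂) ∧ IsClosedImmersion (j ∣_ V'₂) ∧
      (LCI.IsKoszulRegularIdeal (RingHom.ker ((j ≫ p).app V₂).hom) ↔
        LCI.IsKoszulRegularIdeal (RingHom.ker (j.app V'₂).hom)) := by
  -- an affine open of `V` over which `j ≫ p` is closed
  have hxi : (j ≫ p) x ∈ (j ≫ p).coborderRange := subset_coborder (Set.mem_range_self x)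
  obtain ⟨_, ⟨V₁, hV₁, rfl⟩, hxV₁, hV₁le⟩ :=
    (V.isBasis_affineOpens).exists_subset_of_mem_open hxi (j ≫ p).coborderRange.isOpen
  haveI hcl₁ : IsClosedImmersion ((j ≫ p) ∣_ V₁) :=
    Groth.Agent.Helper18.SymAlg.isClosedImmersion_restrict_of_le_coborderRange (j ≫ p) V₁ hV₁le
  -- an affine open of `V'` over which `j` is closed
  have hxj : j x ∈ (j.coborderRange ⊓ p ⁻¹ᵁ V₁ : V'.Opens) := by
    refine ⟨subset_coborder (Set.mem_range_self x), ?_⟩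
    show p (j x) ∈ V₁
    rw [← Scheme.Hom.comp_apply]
    exact hxV₁
  obtain ⟨_, ⟨V'₁, hV'₁, rfl⟩, hxV'₁, hV'₁le⟩ :=
    (V'.isBasis_affineOpens).exists_subset_of_mem_open hxj
      (j.coborderRange ⊓ p ⁻¹ᵁ V₁ : V'.Opens).isOpen
  haveI hcl'₁ : IsClosedImmersion (j ∣_ V'₁) :=
    Groth.Agent.Helper18.SymAlg.isClosedImmersion_restrict_of_le_coborderRange j V'₁
      (fun z hz => (hV'₁le hz).1)
  have hV'₁V₁ : V'₁ ≤ p ⁻¹ᵁ V₁ := fun z hz => (hV'₁le hz).2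
  have hX₁ : IsAffineOpen ((j ≫ p) ⁻¹ᵁ V₁) := RegImmStalk.isAffineOpen_preimage (j ≫ p) V₁ hV₁
  obtain ⟨fbar, hfle, hxf⟩ := hX₁.exists_basicOpen_le (V := j ⁻¹ᵁ V'₁) ⟨x, hxV'₁⟩ hxV₁
  obtain ⟨a, ha⟩ := RegImmStalk.app_surjective (j ≫ p) V₁ hV₁ fbar
  have hV₂ : IsAffineOpen (V.basicOpen a) := hV₁.basicOpen a
  have hpre : (j ≫ p) ⁻¹ᵁ V.basicOpen a = X.basicOpen fbar := by
    rw [Scheme.preimage_basicOpen, ha]
  have hV'₂ : IsAffineOpen (V'.basicOpen ((p.appLE V₁ V'₁ hV'₁V₁).hom a)) :=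
    hV'₁.basicOpen _
  have hV'₂eq : V'.basicOpen ((p.appLE V₁ V'₁ hV'₁V₁).hom a) = V'₁ ⊓ p ⁻¹ᵁ V.basicOpen a :=
    Scheme.basicOpen_appLE p V'₁ V₁ hV'₁V₁ a
  have hpre' : j ⁻¹ᵁ V'.basicOpen ((p.appLE V₁ V'₁ hV'₁V₁).hom a) =
      (j ≫ p) ⁻¹ᵁ V.basicOpen a := by
    rw [hV'₂eq]
    show j ⁻¹ᵁ V'₁ ⊓ (j ≫ p) ⁻¹ᵁ V.basicOpen a = _
    rw [inf_eq_right, hpre]
    exact hfle
  have hle₂ : V.basicOpen a ≤ (𝟙 V) ⁻¹ᵁ V₁ := V.basicOpen_le a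
  obtain ⟨hcl₂, -⟩ := ker_of_isPullback (j ≫ p) (𝟙 V) (j ≫ p) (𝟙 X)
    (IsPullback.id_horiz (j ≫ p)) V₁ hV₁ (V.basicOpen a) hV₂ hle₂
  have hle'₂ : V'.basicOpen ((p.appLE V₁ V'₁ hV'₁V₁).hom a) ≤ (𝟙 V') ⁻¹ᵁ V'₁ :=
    V'.basicOpen_le _
  obtain ⟨hcl'₂, -⟩ := ker_of_isPullback j (𝟙 V') j (𝟙 X)
    (IsPullback.id_horiz j) V'₁ hV'₁ _ hV'₂ hle'₂
  haveI := hcl₂
  haveI := hcl'₂
  have hle₃ : V'.basicOpen ((p.appLE V₁ V'₁ hV'₁V₁).hom a) ≤ p ⁻¹ᵁ V.basicOpen a := by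
    rw [hV'₂eq]
    exact inf_le_right
  have hxV₂ : (j ≫ p) x ∈ V.basicOpen a := by
    show x ∈ (j ≫ p) ⁻¹ᵁ V.basicOpen a
    rw [hpre]
    exact hxf
  have hxV'₂ : j x ∈ V'.basicOpen ((p.appLE V₁ V'₁ hV'₁V₁).hom a) := by
    show x ∈ j ⁻¹ᵁ V'.basicOpen ((p.appLE V₁ V'₁ hV'₁V₁).hom a)
    rw [hpre', hpre]
    exact hxf
  refine ⟨V.basicOpen a, V'.basicOpen ((p.appLE V₁ V'₁ hV'₁V₁).hom a), hV₂, hV'₂, hxV₂, hxV'₂,
    hcl₂, hcl'₂, ?_⟩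
  letI := (p.appLE (V.basicOpen a) (V'.basicOpen ((p.appLE V₁ V'₁ hV'₁V₁).hom a)) hle₃).hom.toAlgebra
  haveI : Algebra.Smooth Γ(V, V.basicOpen a)
      Γ(V', V'.basicOpen ((p.appLE V₁ V'₁ hV'₁V₁).hom a)) :=
    p.smooth_appLE hV₂ hV'₂ hle₃
  have hγ := RegImmStalk.app_surjective (j ≫ p) (V.basicOpen a) hV₂
  have hcomp : (j.appLE (V'.basicOpen ((p.appLE V₁ V'₁ hV'₁V₁).hom a))
      ((j ≫ p) ⁻¹ᵁ V.basicOpen a) hpre'.ge).hom.comp
      (algebraMap Γ(V, V.basicOpen a) Γ(V', V'.basicOpen ((p.appLE V₁ V'₁ hV'₁V₁).hom a))) =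
      ((j ≫ p).app (V.basicOpen a)).hom := by
    show (j.appLE _ _ hpre'.ge).hom.comp (p.appLE _ _ hle₃).hom = _
    rw [← CommRingCat.hom_comp, Scheme.Hom.appLE_comp_appLE, ← Scheme.Hom.app_eq_appLE]
  have key := kr_iff_of_smooth ((j ≫ p).app (V.basicOpen a)).hom hγ _ hcomp
  rw [ker_appLE_eq j _ ((j ≫ p) ⁻¹ᵁ V.basicOpen a) hpre'.symm] at key
  exact key

end Groth.Agent.Helper2.KRSch
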