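import Mathlib
import Groth.Prelude.Def_RegImm
import Groth.Agent.Lib.Helper2.KRSch1
import Groth.Agent.S8657

/-!
# Koszul-regular immersions: locality on the source
-/

set_option autoImplicit false
universe u

namespace Groth.Agent.Helper2.KRSch

open CategoryTheory CategoryTheory.Limits AlgebraicGeometry TopologicalSpace
open Groth.Agent.Helper28 Groth.Agent.Helper28.RegBC Groth.Agent.S8653
  Groth.Agent.Helper2.KosIdeal Groth.Agent.Helper2.SmKR

/-- the restriction map to an open contained in `U` is injective on `Γ(U, -)` -/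
theorem ι_app_injective {X : Scheme.{u}} (U : X.Opens) (V : X.Opens) (h : V ≤ U) :
    Function.Injective (U.ι.app V).hom := by
  have heq : U.ι ''ᵁ U.ι ⁻¹ᵁ V = V := by
    apply le_antisymm
    · exact Set.image_preimage_subset _ _
    · intro z hz
      exact ⟨⟨z, h hz⟩, hz, rfl⟩
  rw [Scheme.Opens.ι_app]
  have hinv : X.presheaf.map
      (homOfLE (x := U.ι ''ᵁ U.ι ⁻¹ᵁ V) (y := V) (Set.image_preimage_subset _ _)).op ≫
      X.presheaf.map (homOfLE (x := V) (y := U.ι ''ᵁ U.ι ⁻¹ᵁ V) heq.ge).op = 𝟙 _ := by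
    rw [← Functor.map_comp, ← op_comp]
    have : (homOfLE (x := V) (y := U.ι ''ᵁ U.ι ⁻¹ᵁ V) heq.ge) ≫
        (homOfLE (x := U.ι ''ᵁ U.ι ⁻¹ᵁ V) (y := V) (Set.image_preimage_subset _ _)) = 𝟙 _ :=
      Subsingleton.elim _ _
    rw [this, op_id, CategoryTheory.Functor.map_id]
  intro a b hab
  have := congrArg (X.presheaf.map (homOfLE (x := V) (y := U.ι ''ᵁ U.ι ⁻¹ᵁ V) heq.ge).op).hom hab
  have h1 : ∀ c, (X.presheaf.map (homOfLE (x := V) (y := U.ι ''ᵁ U.ι ⁻¹ᵁ V) heq.ge).op).hom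
      ((X.presheaf.map
      (homOfLE (x := U.ι ''ᵁ U.ι ⁻¹ᵁ V) (y := V) (Set.image_preimage_subset _ _)).op).hom c)
      = c := by
    intro c
    have := congrArg (fun φ => φ.hom c) hinv
    simpa using this
  exact (h1 a).symm.trans (this.trans (h1 b))

theorem ker_comp_ι {X Z : Scheme.{u}} (i : X ⟶ Z) (U : X.Opens) (W : Z.Opens)
    (h : i ⁻¹ᵁ W ≤ U) :
    RingHom.ker ((U.ι ≫ i).app W).hom = RingHom.ker (i.app W).hom := by
  have e : ((U.ι ≫ i).app W).hom = (U.ι.app (i ⁻¹ᵁ W)).hom.comp (i.app W).hom := by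
    rw [Scheme.Hom.comp_app]
    rfl
  rw [e]
  exact RingHom.ker_comp_of_injective _ (ι_app_injective U (i ⁻¹ᵁ W) h)

/-- Koszul-regularity of an immersion can be checked on an open of the source -/
theorem kr_at_of_open {X Z : Scheme.{u}} (i : X ⟶ Z) [IsImmersion i] (U : X.Opens)
    (hKR : RegImm.IsRegularImmersion .koszul (U.ι ≫ i)) (x : X) (hx : x ∈ U) :
    RegImm.IsRegularImmersionAt .koszul i x := by
  obtain ⟨O, hO, hOU⟩ := i.isEmbedding.isOpen_iff.mp U.isOpen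
  have hxi : i x ∈ (i.coborderRange ⊓ ⟨O, hO⟩ : Z.Opens) := by
    refine ⟨subset_coborder (Set.mem_range_self x), ?_⟩
    show x ∈ i ⁻¹' O
    rw [hOU]
    exact hx
  obtain ⟨_, ⟨W₁, hW₁, rfl⟩, hxW₁, hW₁le⟩ :=
    (Z.isBasis_affineOpens).exists_subset_of_mem_open hxi
      (i.coborderRange ⊓ ⟨O, hO⟩ : Z.Opens).isOpen
  haveI hcl₁ : IsClosedImmersion (i ∣_ W₁) :=
    Groth.Agent.Helper18.SymAlg.isClosedImmersion_restrict_of_le_coborderRange i W₁
      (fun z hz => (hW₁le hz).1)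
  have hle : i ⁻¹ᵁ W₁ ≤ U := by
    intro z hz
    have : z ∈ i ⁻¹' O := (hW₁le hz).2
    rw [hOU] at this
    exact this
  haveI : IsClosedImmersion ((U.ι ≫ i) ∣_ W₁) := by
    rw [morphismRestrict_comp]
    haveI : IsIso (U.ι ∣_ (i ⁻¹ᵁ W₁)) :=
      Groth.Agent.Helper18.SymAlg.isIso_ι_restrict U (i ⁻¹ᵁ W₁) hle
    haveI h2 : IsClosedImmersion (U.ι ∣_ (i ⁻¹ᵁ W₁)) := inferInstance
    exact @IsClosedImmersion.comp _ _ _ _ _ h2 hcl₁
  have hk := kr_ker (U.ι ≫ i) hKR W₁ hW₁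
  rw [ker_comp_ι i U W₁ hle] at hk
  exact regAt_of_kr i W₁ hW₁ hk x hxW₁

end Groth.Agent.Helper2.KRSch
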