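import Mathlib
import Groth.Prelude.Def_LCI2
import Groth.Prelude.Def_ega3
import Groth.Agent.Lib.Helper2.KosReg
import Groth.Agent.Lib.Helper21.KoszTop
import Groth.Agent.Lib.Helper9.PCoh4
import Groth.Agent.Lib.Helper5.PCM1
import Groth.Agent.S15822

/-!
# Koszul-regular sequences: transitivity (`rs` Koszul-regular, `ts` Koszul-regular modulo `rs`
  implies `ts ++ rs` Koszul-regular)
-/

set_option autoImplicit false
universe u
open CategoryTheory CategoryTheory.Limits CochainComplex HomologicalComplex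

namespace Groth.Agent.Helper2.KosComp

open Groth.Agent.Helper21.KL Groth.Agent.Helper21.KT Groth.Agent.Helper2.KosReg
  Groth.Agent.S15822

variable {A : Type u} [CommRing A]

section KzMap

/-- functoriality of the Koszul complex with complex coefficients -/
noncomputable def KzMap {C C' : CochainComplex (ModuleCat.{u} A) ℤ} (φ : C ⟶ C') :
    ∀ l : List A, Kz C l ⟶ Kz C' l
  | [] => φ
  | a :: l => mappingCone.map (a • 𝟙 (Kz C l)) (a • 𝟙 (Kz C' l)) (KzMap φ l) (KzMap φ l)
      (by rw [Linear.smul_comp, Linear.comp_smul, Category.id_comp, Category.comp_id])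

theorem quasiIso_KzMap {C C' : CochainComplex (ModuleCat.{u} A) ℤ} (φ : C ⟶ C') [QuasiIso φ] :
    ∀ l : List A, QuasiIso (KzMap φ l)
  | [] => by
    show QuasiIso φ
    infer_instance
  | a :: l => by
    haveI := quasiIso_KzMap φ l
    exact Groth.Agent.Helper9.PCohLib.quasiIso_mappingCone_map _ _ _ _ _

end KzMap

section Aug

variable (rs : List A)

/-- the augmentation of the Koszul complex of a Koszul-regular sequence is a quasi-isomorphism -/
theorem exists_aug_quasiIso (hrs : LCI.IsKoszulRegularSeq A rs) :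
    ∃ β : CohIII.koszulCx (ModuleCat.of A A) rs ⟶
        (single (ModuleCat.{u} A) (ComplexShape.up ℤ) 0).obj
          (ModuleCat.of A (A ⧸ Ideal.ofList rs)), QuasiIso β := by
  obtain ⟨t, ht⟩ := exists_top (ModuleCat.of A A) rs
  have hJ : Ideal.ofList rs • (⊤ : Submodule A A) = Ideal.ofList rs := by
    rw [smul_eq_mul, Ideal.mul_top]
  rw [hJ] at ht
  have hker : ∀ x : (CohIII.koszulCx (ModuleCat.of A A) rs).X 0,
      (Submodule.mkQ (Ideal.ofList rs)) (t.symm x) = 0 ↔
        x ∈ LinearMap.range ((CohIII.koszulCx (ModuleCat.of A A) rs).d (-1) 0).hom := by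
    intro x
    rw [ht, Submodule.mkQ_apply, Submodule.Quotient.mk_eq_zero]
    constructor
    · intro hx
      exact ⟨t.symm x, hx, t.apply_symm_apply x⟩
    · rintro ⟨y, hy, rfl⟩
      rw [LinearEquiv.coe_coe, t.symm_apply_apply]
      exact hy
  have hε : (CohIII.koszulCx (ModuleCat.of A A) rs).d (-1) 0 ≫
      ModuleCat.ofHom ((Submodule.mkQ (Ideal.ofList rs)) ∘ₗ t.symm.toLinearMap) = 0 := by
    ext x
    exact (hker _).mpr ⟨x, rfl⟩
  have hsurj : Function.Surjective
      (ModuleCat.ofHom ((Submodule.mkQ (Ideal.ofList rs)) ∘ₗ t.symm.toLinearMap)).hom :=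
    (Submodule.mkQ_surjective _).comp t.symm.surjective
  haveI : Epi (ModuleCat.ofHom ((Submodule.mkQ (Ideal.ofList rs)) ∘ₗ t.symm.toLinearMap)) :=
    (ModuleCat.epi_iff_surjective _).mpr hsurj
  have hex : (ShortComplex.mk _ _ hε).Exact := by
    rw [ShortComplex.moduleCat_exact_iff_ker_sub_range]
    intro x hx
    exact (hker x).mp hx
  have hc : IsColimit (CokernelCofork.ofπ _ hε) := hex.gIsCokernel
  have h1 : IsZero ((CohIII.koszulCx (ModuleCat.of A A) rs).X 1) :=
    Groth.Agent.Helper21.KF.isZero_X_of_pos _ rs 1 (by norm_num)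
  have hε' : ∀ i : ℤ, (ComplexShape.up ℤ).Rel i 0 →
      (CohIII.koszulCx (ModuleCat.of A A) rs).d i 0 ≫
        ModuleCat.ofHom ((Submodule.mkQ (Ideal.ofList rs)) ∘ₗ t.symm.toLinearMap) = 0 := by
    intro i hi
    obtain rfl : i = -1 := by
      simp only [ComplexShape.up_Rel] at hi
      omega
    exact hε
  refine ⟨mkHomToSingle _ hε', ?_⟩
  rw [quasiIso_iff]
  intro n
  by_cases hn : n = 0
  · subst hn
    exact Groth.Agent.Helper5.PCM.quasiIsoAt_mkHomToSingle _ _ h1 _ hε hc hε'
  · have hK : (CohIII.koszulCx (ModuleCat.of A A) rs).ExactAt n :=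
      (exactAt_iff_isZero_homology _ n).mpr ((isKoszulRegularSeq_iff rs).mp hrs n hn)
    rw [quasiIsoAt_iff_exactAt _ _ hK]
    exact exactAt_single_obj _ _ _ _ hn

end Aug

section Comp

/-- transitivity of Koszul-regularity -/
theorem kr_append (rs ts : List A) (hrs : LCI.IsKoszulRegularSeq A rs)
    (hts : LCI.IsKoszulRegularSeq (A ⧸ Ideal.ofList rs)
      (ts.map (Ideal.Quotient.mk (Ideal.ofList rs)))) :
    LCI.IsKoszulRegularSeq A (ts ++ rs) := by
  rw [isKoszulRegularSeq_iff] at hts ⊢
  intro i hi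
  obtain ⟨β, hβ⟩ := exists_aug_quasiIso rs hrs
  haveI := quasiIso_KzMap β ts
  have e := isoOfQuasiIsoAt (KzMap β ts) i
  have h1 : CohIII.koszulCx (ModuleCat.of A A) (ts ++ rs) =
      Kz (CohIII.koszulCx (ModuleCat.of A A) rs) ts := by
    rw [koszulCx_eq_Kz, Kz_append, ← koszulCx_eq_Kz]
  have h2 : CohIII.koszulCx (ModuleCat.of A (A ⧸ Ideal.ofList rs)) ts =
      Kz ((single (ModuleCat.{u} A) (ComplexShape.up ℤ) 0).obj
        (ModuleCat.of A (A ⧸ Ideal.ofList rs))) ts := koszulCx_eq_Kz _ _
  unfold AcycAt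
  rw [transfer h1 i]
  refine IsZero.of_iso ?_ e
  rw [← transfer h2 i]
  exact (acycAt_restrict_iff (Ideal.Quotient.mk (Ideal.ofList rs)) (A ⧸ Ideal.ofList rs)
    (fun b m => rfl) ts i).mp (hts i hi)

end Comp

section Comap

variable {R S : Type u} [CommRing R] [CommRing S]

theorem exists_list_map_eq (φ : R →+* S) (hφ : Function.Surjective φ) :
    ∀ l : List S, ∃ l' : List R, l'.map φ = l
  | [] => ⟨[], rfl⟩
  | a :: l => by
    obtain ⟨l', hl'⟩ := exists_list_map_eq φ hφ l
    obtain ⟨b, hb⟩ := hφ a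
    exact ⟨b :: l', by rw [List.map_cons, hb, hl']⟩

/-- a Koszul-regular ideal of the quotient by a Koszul-regular sequence pulls back to an ideal
generated by a Koszul-regular sequence -/
theorem kr_comap (φ : R →+* S) (hφ : Function.Surjective φ) (rs : List R)
    (hker : RingHom.ker φ = Ideal.ofList rs) (hrs : LCI.IsKoszulRegularSeq R rs)
    (ts : List S) (hts : LCI.IsKoszulRegularSeq S ts) :
    ∃ qs : List R, qs.length = ts.length + rs.length ∧ LCI.IsKoszulRegularSeq R qs ∧
      Ideal.ofList qs = (Ideal.ofList ts).comap φ := by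
  obtain ⟨t', ht'⟩ := exists_list_map_eq φ hφ ts
  refine ⟨t' ++ rs, ?_, ?_, ?_⟩
  · rw [List.length_append, ← ht', List.length_map]
  · apply kr_append rs t' hrs
    have h1 := isKoszulRegularSeq_ringEquiv (RingHom.quotientKerEquivOfSurjective hφ).symm ts hts
    have h2 : ts.map (RingHom.quotientKerEquivOfSurjective hφ).symm =
        t'.map (Ideal.Quotient.mk (RingHom.ker φ)) := by
      rw [← ht', List.map_map]
      apply List.map_congr_left
      intro x _
      rw [Function.comp_apply, RingEquiv.symm_apply_eq]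
      rfl
    rw [h2] at h1
    have key : ∀ I : Ideal R, I = Ideal.ofList rs →
        LCI.IsKoszulRegularSeq (R ⧸ I) (t'.map (Ideal.Quotient.mk I)) →
        LCI.IsKoszulRegularSeq (R ⧸ Ideal.ofList rs)
          (t'.map (Ideal.Quotient.mk (Ideal.ofList rs))) := by
      rintro I rfl h
      exact h
    exact key _ hker h1
  · rw [← ht', ← Ideal.map_ofList, Ideal.comap_map_of_surjective φ hφ, Ideal.ofList_append,
      ← RingHom.ker_eq_comap_bot, hker]

end Comap

end Groth.Agent.Helper2.KosComp
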