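import Mathlib
import Groth.Prelude.Def_RegImm
import Groth.Agent.Lib.Helper2.KosComp
import Groth.Agent.Lib.Helper28.RegBC7

/-!
# Composition of Koszul-regular immersions: the local statement
-/

set_option autoImplicit false
universe u

namespace Groth.Agent.Helper2.KRCompSch

open CategoryTheory CategoryTheory.Limits AlgebraicGeometry TopologicalSpace
open Groth.Agent.Helper28 Groth.Agent.Helper28.RegBC Groth.Agent.Helper2.KosReg
  Groth.Agent.Helper2.KosComp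

/-- Koszul-regular data on an affine open restricts to smaller affine opens, keeping the length -/
theorem restrict_data_len {Z X : Scheme.{u}} (i : Z ⟶ X)
    (U₀ : X.Opens) (hU₀ : IsAffineOpen U₀) (hcl : IsClosedImmersion (i ∣_ U₀))
    (rs : List Γ(X, U₀)) (hrs : LCI.IsKoszulRegularSeq Γ(X, U₀) rs)
    (hker : RingHom.ker (i.app U₀).hom = Ideal.ofList rs)
    (U : X.Opens) (hU : IsAffineOpen U) (hle : U ≤ U₀) :
    IsClosedImmersion (i ∣_ U) ∧ ∃ rs' : List Γ(X, U), rs'.length = rs.length ∧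
      LCI.IsKoszulRegularSeq Γ(X, U) rs' ∧ RingHom.ker (i.app U).hom = Ideal.ofList rs' := by
  haveI := hcl
  have hle' : U ≤ (𝟙 X) ⁻¹ᵁ U₀ := hle
  obtain ⟨h1, h2⟩ := ker_of_isPullback i (𝟙 X) i (𝟙 Z) (IsPullback.id_horiz i) U₀ hU₀ U hU hle'
  refine ⟨h1, rs.map ((𝟙 X : X ⟶ X).appLE U₀ U hle').hom, List.length_map _, ?_, ?_⟩
  · letI : Algebra Γ(X, U₀) Γ(X, U) := ((𝟙 X : X ⟶ X).appLE U₀ U hle').hom.toAlgebra
    haveI : Module.Flat Γ(X, U₀) Γ(X, U) := (𝟙 X : X ⟶ X).flat_appLE hU₀ hU hle'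
    exact isKoszulRegularSeq_baseChange Γ(X, U) rs hrs
  · rw [h2, hker, Ideal.map_ofList]

/-- the local form of the composition of Koszul-regular immersions -/
theorem comp_at {X Y Z : Scheme.{u}} (i : Y ⟶ X) (j : Z ⟶ Y) (z : Z)
    (U : X.Opens) (hU : IsAffineOpen U) (hzU : i (j z) ∈ U) (hclU : IsClosedImmersion (i ∣_ U))
    (rs : List Γ(X, U)) (hrs : LCI.IsKoszulRegularSeq Γ(X, U) rs)
    (hkerU : RingHom.ker (i.app U).hom = Ideal.ofList rs)
    (V : Y.Opens) (hV : IsAffineOpen V) (hzV : j z ∈ V) (hclV : IsClosedImmersion (j ∣_ V))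
    (ts : List Γ(Y, V)) (hts : LCI.IsKoszulRegularSeq Γ(Y, V) ts)
    (hkerV : RingHom.ker (j.app V).hom = Ideal.ofList ts) :
    ∃ W : X.affineOpens, i (j z) ∈ W.1 ∧ IsClosedImmersion ((j ≫ i) ∣_ W.1) ∧
      ∃ qs : List Γ(X, W.1), qs.length = ts.length + rs.length ∧
        LCI.IsKoszulRegularSeq Γ(X, W.1) qs ∧
        RingHom.ker ((j ≫ i).app W.1).hom = Ideal.ofList qs := by
  haveI := hclU
  haveI := hclV
  have hUY : IsAffineOpen (i ⁻¹ᵁ U) := RegImmStalk.isAffineOpen_preimage i U hU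
  have hsurj := RegImmStalk.app_surjective i U hU
  have hzU' : j z ∈ i ⁻¹ᵁ U := hzU
  obtain ⟨fbar, g, hfg, hzf⟩ := exists_basicOpen_le_affine_inter hUY hV (j z) ⟨hzU', hzV⟩
  obtain ⟨f, hf⟩ := hsurj fbar
  have hW : IsAffineOpen (X.basicOpen f) := hU.basicOpen f
  have hpre : i ⁻¹ᵁ X.basicOpen f = Y.basicOpen fbar := by
    rw [Scheme.preimage_basicOpen, hf]
  have hzW : i (j z) ∈ X.basicOpen f := by
    show j z ∈ i ⁻¹ᵁ X.basicOpen f
    rw [hpre]
    exact hzf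
  obtain ⟨hclW, rs', hlen, hrs', hkerW⟩ := restrict_data_len i U hU hclU rs hrs hkerU
    (X.basicOpen f) hW (X.basicOpen_le f)
  have hYW : IsAffineOpen (i ⁻¹ᵁ X.basicOpen f) := by
    rw [hpre]
    exact hUY.basicOpen fbar
  have hle : i ⁻¹ᵁ X.basicOpen f ≤ V := by
    rw [hpre, hfg]
    exact Y.basicOpen_le g
  obtain ⟨hclYW, ts', hlen', hts', hkerYW⟩ := restrict_data_len j V hV hclV ts hts hkerV
    (i ⁻¹ᵁ X.basicOpen f) hYW hle
  haveI := hclW
  haveI := hclYW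
  have hcomp : IsClosedImmersion ((j ≫ i) ∣_ X.basicOpen f) := by
    rw [morphismRestrict_comp]
    exact @IsClosedImmersion.comp _ _ _ _ _ hclYW hclW
  obtain ⟨qs, hqlen, hqs, hq⟩ := kr_comap (i.app (X.basicOpen f)).hom
    (RegImmStalk.app_surjective i (X.basicOpen f) hW) rs' hkerW hrs' ts' hts'
  refine ⟨⟨X.basicOpen f, hW⟩, hzW, hcomp, qs, by rw [hqlen, hlen, hlen'], hqs, ?_⟩
  rw [hq, ← hkerYW, RingHom.comap_ker]
  congr 1

end Groth.Agent.Helper2.KRCompSch
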