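import Mathlib
import Groth.Prelude.Def_RegImm
import Groth.Agent.Lib.Helper2.KRSch2
import Groth.Agent.S8654
import Groth.Agent.S8656

/-!
# Bridge between the factorisation form and the affine-local ring form of lci morphisms
-/

set_option autoImplicit false
universe u

namespace Groth.Agent.Helper2.KosBridge

open CategoryTheory CategoryTheory.Limits AlgebraicGeometry TopologicalSpace
open Groth.Agent.Helper28 Groth.Agent.Helper28.RegBC Groth.Agent.S8653
  Groth.Agent.Helper2.KosIdeal Groth.Agent.Helper2.KRSch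

/-- the empty sequence is Koszul-regular -/
theorem krSeq_nil (A : Type u) [CommRing A] : LCI.IsKoszulRegularSeq A ([] : List A) := by
  intro i hi
  exact HomologicalComplex.isZero_single_obj_homology (ComplexShape.up ℤ) (0 : ℤ) _ i hi

/-- the zero ideal is Koszul-regular -/
theorem kr_bot (A : Type u) [CommRing A] : LCI.IsKoszulRegularIdeal (⊥ : Ideal A) := by
  intro 𝔭 _
  refine ⟨1, ?_, [], krSeq_nil _, ?_⟩
  · intro h
    exact 𝔭.isPrime.ne_top ((Ideal.eq_top_iff_one _).mpr h)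
  · rw [Ideal.map_bot]
    simp

/-- an open immersion is a Koszul-regular immersion -/
theorem kr_of_isOpenImmersion {U X : Scheme.{u}} (j : U ⟶ X) [IsOpenImmersion j] :
    RegImm.IsRegularImmersion .koszul j := by
  refine ⟨inferInstance, fun x => ?_⟩
  have hx : j x ∈ j.opensRange := ⟨x, rfl⟩
  obtain ⟨_, ⟨W, hW, rfl⟩, hxW, hWle⟩ :=
    (X.isBasis_affineOpens).exists_subset_of_mem_open hx j.opensRange.isOpen
  haveI : IsIso (j ∣_ W) :=
    Groth.Agent.Helper18.SymAlg.isIso_restrict_of_le_opensRange j W hWle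
  haveI : IsClosedImmersion (j ∣_ W) := inferInstance
  refine regAt_of_kr j W hW ?_ x hxW
  haveI : IsIso (j.app W) := j.isIso_app W hWle
  have hinj : Function.Injective (j.app W).hom :=
    (ConcreteCategory.bijective_of_isIso (j.app W)).1
  rw [(RingHom.injective_iff_ker_eq_bot _).mp hinj]
  exact kr_bot _

/-- precomposition of a Koszul-regular immersion with an open immersion -/
theorem kr_open_comp {U X Z : Scheme.{u}} (j : U ⟶ X) [IsOpenImmersion j] (i : X ⟶ Z)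
    (hi : RegImm.IsRegularImmersion .koszul i) : RegImm.IsRegularImmersion .koszul (j ≫ i) :=
  Groth.Agent.S8654.main i j hi (kr_of_isOpenImmersion j)

/-- `IsKoszulAt` restricts to opens of the source -/
theorem isKoszulAt_ι_comp {X Y : Scheme.{u}} (f : X ⟶ Y) (U : X.Opens) (x : X) (hx : x ∈ U)
    (h : Synt.IsKoszulAt f x) : Synt.IsKoszulAt (U.ι ≫ f) ⟨x, hx⟩ := by
  obtain ⟨U₀, P, i₀, π, hxU₀, hlft, hi₀, hπ, hcomp⟩ := h
  have hrange : Set.range (((U.ι ⁻¹ᵁ U₀).ι ≫ U.ι)) ⊆ Set.range U₀.ι := by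
    rintro _ ⟨z, rfl⟩
    have hz : U.ι z.1 ∈ U₀ := z.2
    exact ⟨⟨U.ι z.1, hz⟩, rfl⟩
  obtain ⟨j, hfac⟩ : ∃ j : ((U.ι ⁻¹ᵁ U₀ : (U : Scheme.{u}).Opens) : Scheme.{u}) ⟶ (U₀ : Scheme.{u}),
      j ≫ U₀.ι = (U.ι ⁻¹ᵁ U₀).ι ≫ U.ι :=
    ⟨IsOpenImmersion.lift U₀.ι ((U.ι ⁻¹ᵁ U₀).ι ≫ U.ι) hrange, IsOpenImmersion.lift_fac _ _ _⟩
  haveI : IsOpenImmersion j := by
    haveI : IsOpenImmersion (j ≫ U₀.ι) := by
      rw [hfac]; infer_instance
    exact IsOpenImmersion.of_comp j U₀.ι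
  refine ⟨U.ι ⁻¹ᵁ U₀, P, j ≫ i₀, π, hxU₀, ?_, kr_open_comp j i₀ hi₀, hπ, ?_⟩
  · have : (U.ι ⁻¹ᵁ U₀).ι ≫ U.ι ≫ f = j ≫ (U₀.ι ≫ f) := by
      rw [← Category.assoc, ← hfac, Category.assoc]
    rw [this]
    haveI := hlft
    infer_instance
  · rw [Category.assoc, hcomp, ← Category.assoc, hfac, Category.assoc]

/-- a morphism that is Koszul at every point is locally of finite type -/
theorem lft_of_isKoszulAt {X Y : Scheme.{u}} (f : X ⟶ Y) (hf : ∀ x : X, Synt.IsKoszulAt f x) :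
    LocallyOfFiniteType f := by
  choose U P i₀ π hxU hlft hi₀ hπ hcomp using hf
  refine IsZariskiLocalAtSource.of_iSup_eq_top (P := @LocallyOfFiniteType) U ?_ hlft
  rw [eq_top_iff]
  intro x _
  exact Opens.mem_iSup.mpr ⟨x, hxU x⟩

end Groth.Agent.Helper2.KosBridge
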