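import Mathlib
import Groth.Prelude.Def_RegImm
import Groth.Agent.Lib.Helper2.KosBridge1

/-!
# The affine chart `U → 𝔸ⁿ_V → Y` of an affine pair
-/

set_option autoImplicit false
universe u

namespace Groth.Agent.Helper2.KosBridge

open CategoryTheory CategoryTheory.Limits AlgebraicGeometry TopologicalSpace
open Groth.Agent.Helper28 Groth.Agent.Helper28.RegBC Groth.Agent.S8653
  Groth.Agent.Helper2.KosIdeal Groth.Agent.Helper2.KRSch

section chart

variable {X Y : Scheme.{u}} (f : X ⟶ Y) {U : X.Opens} {V : Y.Opens} (hU : IsAffineOpen U)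
  (hV : IsAffineOpen V) (e : U ≤ f ⁻¹ᵁ V) {n : ℕ}
  (ψ : MvPolynomial (Fin n) Γ(Y, V) →+* Γ(X, U))

theorem chart_comm (hψ : ψ.comp MvPolynomial.C = (f.appLE V U e).hom) :
    (hU.isoSpec.hom ≫ Spec.map (CommRingCat.ofHom ψ)) ≫
      (Spec.map (CommRingCat.ofHom (MvPolynomial.C : Γ(Y, V) →+* MvPolynomial (Fin n) Γ(Y, V))) ≫
        hV.fromSpec) = U.ι ≫ f := by
  have h1 : CommRingCat.ofHom (MvPolynomial.C : Γ(Y, V) →+* MvPolynomial (Fin n) Γ(Y, V)) ≫
      CommRingCat.ofHom ψ = f.appLE V U e := by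
    ext1
    exact hψ
  rw [Category.assoc, ← Category.assoc (Spec.map _), ← Spec.map_comp, h1,
    IsAffineOpen.SpecMap_appLE_fromSpec f hV hU e, ← Category.assoc,
    IsAffineOpen.isoSpec_hom_fromSpec]

instance chart_smooth :
    Smooth (Spec.map (CommRingCat.ofHom
      (MvPolynomial.C : Γ(Y, V) →+* MvPolynomial (Fin n) Γ(Y, V))) ≫ hV.fromSpec) := by
  haveI : Smooth (Spec.map (CommRingCat.ofHom
      (MvPolynomial.C : Γ(Y, V) →+* MvPolynomial (Fin n) Γ(Y, V)))) := by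
    rw [HasRingHomProperty.Spec_iff (P := @Smooth)]
    show RingHom.Smooth (algebraMap Γ(Y, V) (MvPolynomial (Fin n) Γ(Y, V)))
    rw [RingHom.smooth_algebraMap]
    exact ⟨inferInstance, inferInstance⟩
  infer_instance

theorem chart_closed (hsurj : Function.Surjective ψ) :
    IsClosedImmersion (hU.isoSpec.hom ≫ Spec.map (CommRingCat.ofHom ψ)) := by
  haveI : IsClosedImmersion (Spec.map (CommRingCat.ofHom ψ)) :=
    IsClosedImmersion.spec_of_surjective _ hsurj
  infer_instance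

theorem chart_ker :
    RingHom.ker ((hU.isoSpec.hom ≫ Spec.map (CommRingCat.ofHom ψ)).app ⊤).hom =
      (RingHom.ker ψ).comap
        (Scheme.ΓSpecIso (CommRingCat.of (MvPolynomial (Fin n) Γ(Y, V)))).hom.hom := by
  have h1 : ∀ a, ((hU.isoSpec.hom ≫ Spec.map (CommRingCat.ofHom ψ)).app ⊤).hom a =
      ((hU.isoSpec.hom).app ((Spec.map (CommRingCat.ofHom ψ)) ⁻¹ᵁ ⊤)).hom
        (((Spec.map (CommRingCat.ofHom ψ)).app ⊤).hom a) := by
    intro a
    rw [Scheme.Hom.comp_app]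
    rfl
  have hinj : Function.Injective
      ((hU.isoSpec.hom).app ((Spec.map (CommRingCat.ofHom ψ)) ⁻¹ᵁ ⊤)).hom :=
    (ConcreteCategory.bijective_of_isIso _).1
  have h2 := Scheme.ΓSpecIso_naturality (CommRingCat.ofHom ψ)
  have hinj2 : Function.Injective (Scheme.ΓSpecIso (CommRingCat.of Γ(X, U))).hom.hom :=
    (ConcreteCategory.bijective_of_isIso _).1
  ext a
  rw [RingHom.mem_ker, Ideal.mem_comap, RingHom.mem_ker, h1]
  have h3 : (Scheme.ΓSpecIso (CommRingCat.of Γ(X, U))).hom.hom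
      (((Spec.map (CommRingCat.ofHom ψ)).app ⊤).hom a) =
      ψ ((Scheme.ΓSpecIso (CommRingCat.of (MvPolynomial (Fin n) Γ(Y, V)))).hom.hom a) := by
    have := congrArg (fun φ => φ.hom a) h2
    exact this
  rw [← h3]
  constructor
  · intro h
    have h4 := hinj (h.trans (map_zero _).symm)
    exact (congrArg _ h4).trans (map_zero _)
  · intro h
    have h4 := hinj2 (h.trans (map_zero _).symm)
    exact (congrArg _ h4).trans (map_zero _)

theorem chart_kr_iff :
    LCI.IsKoszulRegularIdeal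
      (RingHom.ker ((hU.isoSpec.hom ≫ Spec.map (CommRingCat.ofHom ψ)).app ⊤).hom) ↔
    LCI.IsKoszulRegularIdeal (RingHom.ker ψ) := by
  rw [chart_ker]
  let ε : Γ(Spec (CommRingCat.of (MvPolynomial (Fin n) Γ(Y, V))), ⊤) ≃+*
      MvPolynomial (Fin n) Γ(Y, V) :=
    (Scheme.ΓSpecIso (CommRingCat.of (MvPolynomial (Fin n) Γ(Y, V)))).commRingCatIsoToRingEquiv
  have h1 : (RingHom.ker ψ).comap
      (Scheme.ΓSpecIso (CommRingCat.of (MvPolynomial (Fin n) Γ(Y, V)))).hom.hom =
      (RingHom.ker ψ).map (ε.symm : MvPolynomial (Fin n) Γ(Y, V) →+* _) := by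
    have := Ideal.map_comap_of_equiv (I := RingHom.ker ψ) ε.symm
    rw [this]
    rfl
  rw [h1]
  exact kr_ringEquiv_iff ε.symm (RingHom.ker ψ)

end chart

end Groth.Agent.Helper2.KosBridge
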