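import Mathlib
import Groth.Prelude.Def_RegImm
import Groth.Agent.Lib.Helper2.KosBridge2

/-!
# Bridge: Koszul at every point ⟺ lci ring maps on all affine pairs
-/

set_option autoImplicit false
universe u

namespace Groth.Agent.Helper2.KosBridge

open CategoryTheory CategoryTheory.Limits AlgebraicGeometry TopologicalSpace
open Groth.Agent.Helper28 Groth.Agent.Helper28.RegBC Groth.Agent.S8653
  Groth.Agent.Helper2.KosIdeal Groth.Agent.Helper2.KRSch

/-- Koszul at every point implies lci ring maps on all affine pairs -/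
theorem isLCI_of_isKoszulAt {X Y : Scheme.{u}} (f : X ⟶ Y) (hf : ∀ x : X, Synt.IsKoszulAt f x)
    (U : X.Opens) (V : Y.Opens) (hU : IsAffineOpen U) (hV : IsAffineOpen V) (e : U ≤ f ⁻¹ᵁ V) :
    letI := (f.appLE V U e).hom.toAlgebra
    LCI.IsLCI Γ(Y, V) Γ(X, U) := by
  letI := (f.appLE V U e).hom.toAlgebra
  haveI hlft := lft_of_isKoszulAt f hf
  have hft : Algebra.FiniteType Γ(Y, V) Γ(X, U) := hlft.finiteType_appLE hV hU e
  obtain ⟨n, φ, hφ⟩ := Algebra.FiniteType.iff_quotient_mvPolynomial''.mp hft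
  refine ⟨hft, n, φ, hφ, ?_⟩
  have hψ : (φ.toRingHom).comp MvPolynomial.C = (f.appLE V U e).hom := by
    ext a
    exact φ.commutes a
  have hcomm := chart_comm f hU hV e φ.toRingHom hψ
  haveI := chart_closed hU φ.toRingHom hφ
  have hK : ∀ y : U, Synt.IsKoszulAt (U.ι ≫ f) y :=
    fun y => isKoszulAt_ι_comp f U y.1 y.2 (hf y.1)
  have hKR := Groth.Agent.S8656.main (U.ι ≫ f) hK _ _ hcomm
  haveI : IsClosedImmersion
      ((hU.isoSpec.hom ≫ Spec.map (CommRingCat.ofHom φ.toRingHom)) ∣_ ⊤) :=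
    IsZariskiLocalAtTarget.restrict ‹_› _
  have := kr_ker _ hKR ⊤ (isAffineOpen_top _)
  exact (chart_kr_iff hU φ.toRingHom).mp this

/-- an lci ring map on an affine pair gives Koszul at the points of the pair -/
theorem isKoszulAt_of_isLCI {X Y : Scheme.{u}} (f : X ⟶ Y) (U : X.Opens) (V : Y.Opens)
    (hU : IsAffineOpen U) (hV : IsAffineOpen V) (e : U ≤ f ⁻¹ᵁ V)
    (h : letI := (f.appLE V U e).hom.toAlgebra
      LCI.IsLCI Γ(Y, V) Γ(X, U)) (x : X) (hx : x ∈ U) : Synt.IsKoszulAt f x := by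
  letI := (f.appLE V U e).hom.toAlgebra
  obtain ⟨hft, n, φ, hφ, hkr⟩ := h
  have hψ : (φ.toRingHom).comp MvPolynomial.C = (f.appLE V U e).hom := by
    ext a
    exact φ.commutes a
  have hcomm := chart_comm f hU hV e φ.toRingHom hψ
  haveI := chart_closed hU φ.toRingHom hφ
  refine ⟨U, _, hU.isoSpec.hom ≫ Spec.map (CommRingCat.ofHom φ.toRingHom), _, hx, ?_, ?_,
    chart_smooth hV, hcomm⟩
  · rw [← hcomm]
    haveI := chart_smooth (n := n) hV
    infer_instance
  · refine ⟨inferInstance, fun y => ?_⟩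
    haveI : IsClosedImmersion
        ((hU.isoSpec.hom ≫ Spec.map (CommRingCat.ofHom φ.toRingHom)) ∣_ ⊤) :=
      IsZariskiLocalAtTarget.restrict ‹_› _
    exact regAt_of_kr _ ⊤ (isAffineOpen_top _) ((chart_kr_iff hU φ.toRingHom).mpr hkr) y trivial

/-- the bridge, global form -/
theorem isKoszulAt_iff {X Y : Scheme.{u}} (f : X ⟶ Y) :
    (∀ x : X, Synt.IsKoszulAt f x) ↔
    (∀ (U : X.Opens) (V : Y.Opens) (hU : IsAffineOpen U) (hV : IsAffineOpen V)
        (hUV : U ≤ f ⁻¹ᵁ V),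
        letI := (f.appLE V U hUV).hom.toAlgebra
        LCI.IsLCI Γ(Y, V) Γ(X, U)) := by
  constructor
  · intro hf U V hU hV e
    exact isLCI_of_isKoszulAt f hf U V hU hV e
  · intro h x
    obtain ⟨_, ⟨V, hV, rfl⟩, hxV, -⟩ :=
      (Y.isBasis_affineOpens).exists_subset_of_mem_open (Set.mem_univ (f x)) isOpen_univ
    have hxV' : x ∈ f ⁻¹ᵁ V := hxV
    obtain ⟨_, ⟨U, hU, rfl⟩, hxU, hUle⟩ :=
      (X.isBasis_affineOpens).exists_subset_of_mem_open hxV' (f ⁻¹ᵁ V).isOpen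
    exact isKoszulAt_of_isLCI f U V hU hV hUle (h U V hU hV hUle) x hxU

end Groth.Agent.Helper2.KosBridge
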