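import Mathlib
import Groth.Prelude.Def_LCI2
import Groth.Agent.S9269
import Groth.Agent.S9251
import Groth.Agent.Lib.Helper2.KRProd
import Groth.Agent.Lib.Helper2.KosIdeal

/-!
# Local complete intersection ring maps: descent along a finite flat jointly surjective family
-/

set_option autoImplicit false
universe u
open TensorProduct

namespace Groth.Agent.Helper2.LCIDesc

open Groth.Agent.Helper2.KosIdeal Groth.Agent.Helper2.KRProd

section Equiv

variable {A B B' : Type u} [CommRing A] [CommRing B] [CommRing B'] [Algebra A B] [Algebra A B']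

/-- transport of `IsLCI` along an isomorphism of the target -/
theorem isLCI_of_algEquiv (e : B ≃ₐ[A] B') (h : LCI.IsLCI A B) : LCI.IsLCI A B' := by
  obtain ⟨hft, n, f, hf, hK⟩ := h
  haveI := hft
  refine ⟨Algebra.FiniteType.equiv hft e, n, (e : B →ₐ[A] B').comp f, ?_, ?_⟩
  · exact e.surjective.comp hf
  · have hker : RingHom.ker ((e : B →ₐ[A] B').comp f).toRingHom = RingHom.ker f.toRingHom := by
      ext x
      simp only [RingHom.mem_ker]
      show e (f x) = 0 ↔ f x = 0
      exact map_eq_zero_iff e e.injective
    rw [hker]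
    exact hK

end Equiv

section BaseChange

variable {R B : Type u} [CommRing R] [CommRing B] [Algebra R B]
  (T : Type u) [CommRing T] [Algebra R T]
  {n : ℕ} (p : MvPolynomial (Fin n) R →ₐ[R] B)

/-- the base-changed presentation -/
noncomputable def bcPres : MvPolynomial (Fin n) T →ₐ[T] (T ⊗[R] B) :=
  MvPolynomial.aeval (fun i => (1 : T) ⊗ₜ[R] p (MvPolynomial.X i))

theorem bcPres_comp (z : T ⊗[R] MvPolynomial (Fin n) R) :
    bcPres T p (MvPolynomial.algebraTensorAlgEquiv R T z) =
      Algebra.TensorProduct.map (AlgHom.id R T) p z := by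
  induction z using TensorProduct.induction_on with
  | zero => simp
  | add x y hx hy => rw [map_add, map_add, map_add, hx, hy]
  | tmul t q =>
    rw [MvPolynomial.algebraTensorAlgEquiv_tmul, map_smul, Algebra.TensorProduct.map_tmul,
      AlgHom.id_apply]
    have h1 : bcPres T p (MvPolynomial.map (algebraMap R T) q) = (1 : T) ⊗ₜ[R] p q := by
      induction q using MvPolynomial.induction_on with
      | C a =>
        rw [MvPolynomial.map_C, ← MvPolynomial.algebraMap_eq, AlgHom.commutes,
          ← MvPolynomial.algebraMap_eq, AlgHom.commutes, Algebra.TensorProduct.algebraMap_apply,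
          Algebra.algebraMap_self, RingHom.id_apply, Algebra.algebraMap_eq_smul_one,
          Algebra.algebraMap_eq_smul_one, TensorProduct.smul_tmul]
      | add q₁ q₂ h₁ h₂ => rw [map_add, map_add, map_add, h₁, h₂, TensorProduct.tmul_add]
      | mul_X q i h =>
        rw [map_mul, map_mul, map_mul, h, MvPolynomial.map_X]
        simp only [bcPres, MvPolynomial.aeval_X, Algebra.TensorProduct.tmul_mul_tmul, one_mul]
    rw [h1, TensorProduct.smul_tmul', smul_eq_mul, mul_one]

variable (hp : Function.Surjective p)

include hp in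
theorem bcPres_surjective : Function.Surjective (bcPres T p) := by
  intro z
  induction z using TensorProduct.induction_on with
  | zero => exact ⟨0, map_zero _⟩
  | add x y hx hy =>
    obtain ⟨a, rfl⟩ := hx
    obtain ⟨b, rfl⟩ := hy
    exact ⟨a + b, map_add _ _ _⟩
  | tmul t b =>
    obtain ⟨q, rfl⟩ := hp b
    refine ⟨MvPolynomial.algebraTensorAlgEquiv R T (t ⊗ₜ q), ?_⟩
    rw [bcPres_comp, Algebra.TensorProduct.map_tmul, AlgHom.id_apply]

include hp in
theorem bcPres_ker :
    RingHom.ker (bcPres T p).toRingHom =
      (RingHom.ker p.toRingHom).map (MvPolynomial.map (algebraMap R T)) := by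
  set e : T ⊗[R] MvPolynomial (Fin n) R ≃ₐ[T] MvPolynomial (Fin n) T :=
    MvPolynomial.algebraTensorAlgEquiv R T with he
  have h1 := Algebra.TensorProduct.lTensor_ker (A := T) p hp
  have h2 : RingHom.ker (Algebra.TensorProduct.map (AlgHom.id R T) p).toRingHom =
      (RingHom.ker (bcPres T p).toRingHom).comap
        (e : T ⊗[R] MvPolynomial (Fin n) R →+* MvPolynomial (Fin n) T) := by
    ext z
    rw [Ideal.mem_comap, RingHom.mem_ker, RingHom.mem_ker]
    show Algebra.TensorProduct.map (AlgHom.id R T) p z = 0 ↔ bcPres T p (e z) = 0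
    rw [he, bcPres_comp]
  have h3 : RingHom.ker (bcPres T p).toRingHom =
      (RingHom.ker (Algebra.TensorProduct.map (AlgHom.id R T) p).toRingHom).map
        (e : T ⊗[R] MvPolynomial (Fin n) R →+* MvPolynomial (Fin n) T) := by
    rw [h2, Ideal.map_comap_of_surjective
      (e : T ⊗[R] MvPolynomial (Fin n) R →+* MvPolynomial (Fin n) T) e.surjective]
  rw [h3]
  have h1' : RingHom.ker (Algebra.TensorProduct.map (AlgHom.id R T) p).toRingHom =
      (RingHom.ker p.toRingHom).map
        (Algebra.TensorProduct.includeRight : MvPolynomial (Fin n) R →ₐ[R]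
          T ⊗[R] MvPolynomial (Fin n) R).toRingHom := h1
  rw [h1', Ideal.map_map]
  congr 1
  apply RingHom.ext
  intro x
  show e ((1 : T) ⊗ₜ[R] x) = MvPolynomial.map (algebraMap R T) x
  rw [he, MvPolynomial.algebraTensorAlgEquiv_tmul, one_smul]

end BaseChange

end Groth.Agent.Helper2.LCIDesc
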