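import Mathlib
import Groth.Prelude.Def_LCI2
import Groth.Agent.S9269
import Groth.Agent.S9251
import Groth.Agent.Lib.Helper2.KRProd
import Groth.Agent.Lib.Helper2.KosIdeal
import Groth.Agent.Lib.Helper2.LCIDesc1

/-!
# Local complete intersection ring maps: descent along a finite flat jointly surjective family
-/

set_option autoImplicit false
universe u
open TensorProduct

namespace Groth.Agent.Helper2.LCIDesc

open Groth.Agent.Helper2.KosIdeal Groth.Agent.Helper2.KRProd

section One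

variable (R : Type u) [CommRing R] (T : Type u) [CommRing T] [Algebra R T] (n : ℕ)

/-- `T[x] ≃ R[x] ⊗_R T` as rings -/
noncomputable def polyTensorEquiv :
    MvPolynomial (Fin n) T ≃+* (MvPolynomial (Fin n) R) ⊗[R] T :=
  ((MvPolynomial.algebraTensorAlgEquiv R T).symm.toRingEquiv).trans
    (Algebra.TensorProduct.comm R T (MvPolynomial (Fin n) R)).toRingEquiv

theorem polyTensorEquiv_map (x : MvPolynomial (Fin n) R) :
    polyTensorEquiv R T n (MvPolynomial.map (algebraMap R T) x) = x ⊗ₜ[R] (1 : T) := by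
  unfold polyTensorEquiv
  have h1 : (MvPolynomial.algebraTensorAlgEquiv R T).symm (MvPolynomial.map (algebraMap R T) x)
      = (1 : T) ⊗ₜ[R] x := by
    rw [AlgEquiv.symm_apply_eq, MvPolynomial.algebraTensorAlgEquiv_tmul, one_smul]
  show (Algebra.TensorProduct.comm R T (MvPolynomial (Fin n) R))
    ((MvPolynomial.algebraTensorAlgEquiv R T).symm (MvPolynomial.map (algebraMap R T) x)) = _
  rw [h1, Algebra.TensorProduct.comm_tmul]

theorem kr_map_includeLeft (I : Ideal (MvPolynomial (Fin n) R))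
    (h : LCI.IsKoszulRegularIdeal (I.map (MvPolynomial.map (algebraMap R T)))) :
    LCI.IsKoszulRegularIdeal
      (I.map (algebraMap (MvPolynomial (Fin n) R) ((MvPolynomial (Fin n) R) ⊗[R] T))) := by
  have h1 := kr_ringEquiv (polyTensorEquiv R T n) _ h
  rw [Ideal.map_map] at h1
  have h2 : ((polyTensorEquiv R T n : MvPolynomial (Fin n) T →+* _).comp
      (MvPolynomial.map (algebraMap R T))) =
      algebraMap (MvPolynomial (Fin n) R) ((MvPolynomial (Fin n) R) ⊗[R] T) := by
    apply RingHom.ext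
    intro x
    show polyTensorEquiv R T n (MvPolynomial.map (algebraMap R T) x) = _
    rw [polyTensorEquiv_map, Algebra.TensorProduct.algebraMap_apply, Algebra.algebraMap_self,
      RingHom.id_apply]
  rw [h2] at h1
  exact h1

end One

section Family

variable {R B : Type u} [CommRing R] [CommRing B] [Algebra R B]
  {ι : Type u} [Fintype ι] [DecidableEq ι]
  (T : ι → Type u) [∀ j, CommRing (T j)] [∀ j, Algebra R (T j)]

theorem kr_of_family_tensor [∀ j, Module.Flat R (T j)]
    (hsurj : ∀ 𝔭 : Ideal R, 𝔭.IsPrime → ∃ j, ∃ 𝔮 : Ideal (T j), 𝔮.IsPrime ∧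
      𝔮.comap (algebraMap R (T j)) = 𝔭)
    (P : Type u) [CommRing P] [Algebra R P] (I : Ideal P)
    (h : ∀ j, LCI.IsKoszulRegularIdeal (I.map (algebraMap P (P ⊗[R] T j)))) :
    LCI.IsKoszulRegularIdeal I := by
  haveI : Module.FaithfullyFlat R (∀ j, T j) := faithfullyFlat_pi T hsurj
  have h1 : LCI.IsKoszulRegularIdeal (I.map (algebraMap P (∀ j, P ⊗[R] T j))) :=
    kr_pi (fun j => P ⊗[R] T j) I h
  let e : P ⊗[R] (∀ j, T j) ≃ₐ[P] ∀ j, P ⊗[R] T j := Algebra.TensorProduct.piRight R P P T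
  have h2 := kr_ringEquiv e.symm.toRingEquiv _ h1
  rw [Ideal.map_map] at h2
  have h3 : ((e.symm.toRingEquiv : (∀ j, P ⊗[R] T j) →+* P ⊗[R] (∀ j, T j)).comp
      (algebraMap P (∀ j, P ⊗[R] T j))) = algebraMap P (P ⊗[R] (∀ j, T j)) := by
    apply RingHom.ext
    intro x
    show e.symm (algebraMap P (∀ j, P ⊗[R] T j) x) = _
    exact e.symm.commutes x
  rw [h3] at h2
  exact Groth.Agent.S9251.main P (P ⊗[R] (∀ j, T j)) I h2

theorem isLCI_of_family [∀ j, Module.Flat R (T j)]
    (hsurj : ∀ 𝔭 : Ideal R, 𝔭.IsPrime → ∃ j, ∃ 𝔮 : Ideal (T j), 𝔮.IsPrime ∧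
      𝔮.comap (algebraMap R (T j)) = 𝔭)
    (hft : Algebra.FiniteType R B)
    (h : ∀ j, LCI.IsLCI (T j) (T j ⊗[R] B)) : LCI.IsLCI R B := by
  obtain ⟨n, p, hp⟩ := Algebra.FiniteType.iff_quotient_mvPolynomial''.mp hft
  refine ⟨hft, n, p, hp, ?_⟩
  apply kr_of_family_tensor T hsurj
  intro j
  apply kr_map_includeLeft R (T j) n
  rw [← bcPres_ker (T j) p hp]
  obtain ⟨_, m, f, hf, hK⟩ := h j
  exact Groth.Agent.S9269.main (T j) (T j ⊗[R] B) m n f hf (bcPres (T j) p)
    (bcPres_surjective (T j) p hp) hK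

end Family

end Groth.Agent.Helper2.LCIDesc
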