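import Mathlib
import Groth.Prelude.Def_RegImm
import Groth.Agent.Lib.Helper2.KosBridge3
import Groth.Agent.S8662

/-!
# Restriction to opens and descent of lci morphisms along flat open coverings
-/

set_option autoImplicit false
universe u

namespace Groth.Agent.Helper2.KosBridge

open CategoryTheory CategoryTheory.Limits AlgebraicGeometry TopologicalSpace

/-- the all-affine-pairs form restricts to `resLE` -/
theorem isLCI_resLE {X Y : Scheme.{u}} (f : X ⟶ Y)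
    (h : ∀ (U : X.Opens) (V : Y.Opens) (_ : IsAffineOpen U) (_ : IsAffineOpen V)
        (hUV : U ≤ f ⁻¹ᵁ V),
        letI := (f.appLE V U hUV).hom.toAlgebra
        LCI.IsLCI Γ(Y, V) Γ(X, U))
    (V₀ : Y.Opens) (U₀ : X.Opens) (e : U₀ ≤ f ⁻¹ᵁ V₀) :
    ∀ (U : (U₀ : Scheme.{u}).Opens) (V : (V₀ : Scheme.{u}).Opens) (_ : IsAffineOpen U)
        (_ : IsAffineOpen V) (hUV : U ≤ (f.resLE V₀ U₀ e) ⁻¹ᵁ V),
        letI := ((f.resLE V₀ U₀ e).appLE V U hUV).hom.toAlgebra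
        LCI.IsLCI Γ((V₀ : Scheme.{u}), V) Γ((U₀ : Scheme.{u}), U) := by
  intro U V hU hV hUV
  have h1 := h (U₀.ι ''ᵁ U) (V₀.ι ''ᵁ V) (hU.image_of_isOpenImmersion U₀.ι)
    (hV.image_of_isOpenImmersion V₀.ι) ((Scheme.Hom.le_resLE_preimage_iff f e V U).mp hUV)
  rw [Scheme.Hom.resLE_appLE]
  exact h1

/-- Koszul at every point restricts to `resLE` -/
theorem isKoszulAt_resLE {X Y : Scheme.{u}} (f : X ⟶ Y) (hf : ∀ x : X, Synt.IsKoszulAt f x)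
    (V₀ : Y.Opens) (U₀ : X.Opens) (e : U₀ ≤ f ⁻¹ᵁ V₀) :
    ∀ z : (U₀ : Scheme.{u}), Synt.IsKoszulAt (f.resLE V₀ U₀ e) z := by
  rw [isKoszulAt_iff] at hf ⊢
  exact isLCI_resLE f hf V₀ U₀ e

/-- Koszul at a point can be checked on `resLE` -/
theorem isKoszulAt_of_resLE {X Y : Scheme.{u}} (f : X ⟶ Y)
    (V₀ : Y.Opens) (U₀ : X.Opens) (e : U₀ ≤ f ⁻¹ᵁ V₀)
    (h : ∀ z : (U₀ : Scheme.{u}), Synt.IsKoszulAt (f.resLE V₀ U₀ e) z) (x : X) (hx : x ∈ U₀) :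
    Synt.IsKoszulAt f x := by
  rw [isKoszulAt_iff] at h
  -- an affine pair around `⟨x, hx⟩`
  obtain ⟨_, ⟨V, hV, rfl⟩, hxV, -⟩ :=
    ((V₀ : Scheme.{u}).isBasis_affineOpens).exists_subset_of_mem_open
      (Set.mem_univ ((f.resLE V₀ U₀ e) ⟨x, hx⟩)) isOpen_univ
  have hxV' : (⟨x, hx⟩ : (U₀ : Scheme.{u})) ∈ (f.resLE V₀ U₀ e) ⁻¹ᵁ V := hxV
  obtain ⟨_, ⟨U, hU, rfl⟩, hxU, hUle⟩ :=
    ((U₀ : Scheme.{u}).isBasis_affineOpens).exists_subset_of_mem_open hxV'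
      ((f.resLE V₀ U₀ e) ⁻¹ᵁ V).isOpen
  have h1 := h U V hU hV hUle
  rw [Scheme.Hom.resLE_appLE] at h1
  refine isKoszulAt_of_isLCI f (U₀.ι ''ᵁ U) (V₀.ι ''ᵁ V) (hU.image_of_isOpenImmersion U₀.ι)
    (hV.image_of_isOpenImmersion V₀.ι) _ h1 x ?_
  exact ⟨⟨x, hx⟩, hxU, rfl⟩

end Groth.Agent.Helper2.KosBridge
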