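import Mathlib
import Groth.Prelude.Def_RegImm
import Groth.Agent.Lib.Helper2.KosBridge4
import Groth.Agent.Lib.Helper28.RegImmIso

/-!
# Descent of lci morphisms and Koszul-regular immersions along flat open coverings
-/

set_option autoImplicit false
universe u

namespace Groth.Agent.Helper2.KosBridge

open CategoryTheory CategoryTheory.Limits AlgebraicGeometry TopologicalSpace

/-- descent of "Koszul at a point" along a flat base change which is an open map (no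
quasi-compactness), at points over the image -/
theorem isKoszulAt_of_baseChange_of_isOpenMap {X Y X' Y' : Scheme.{u}} (f : X ⟶ Y) (g : Y' ⟶ Y)
    [Flat g] (hopen : IsOpenMap g) (f' : X' ⟶ Y') (g' : X' ⟶ X)
    (hsq : IsPullback g' f' f g) (hf' : ∀ x' : X', Synt.IsKoszulAt f' x') (x : X) (y' : Y')
    (hy' : g y' = f x) : Synt.IsKoszulAt f x := by
  obtain ⟨_, ⟨V₁, hV₁, rfl⟩, hxV₁, -⟩ :=
    (Y.isBasis_affineOpens).exists_subset_of_mem_open (Set.mem_univ (f x)) isOpen_univ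
  have hy'V₁ : y' ∈ g ⁻¹ᵁ V₁ := by
    show g y' ∈ V₁
    rw [hy']
    exact hxV₁
  obtain ⟨_, ⟨V'₁, hV'₁, rfl⟩, hy'V'₁, hV'₁le⟩ :=
    (Y'.isBasis_affineOpens).exists_subset_of_mem_open hy'V₁ (g ⁻¹ᵁ V₁).isOpen
  have hO : IsOpen (g '' (V'₁ : Set Y')) := hopen _ V'₁.isOpen
  have hxO : f x ∈ (⟨g '' (V'₁ : Set Y'), hO⟩ : Y.Opens) := ⟨y', hy'V'₁, hy'⟩
  obtain ⟨s, hsle, hxs⟩ :=
    hV₁.exists_basicOpen_le (V := ⟨g '' (V'₁ : Set Y'), hO⟩) ⟨f x, hxO⟩ hxV₁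
  have hV₂ : IsAffineOpen (Y.basicOpen s) := hV₁.basicOpen s
  have hV'₂ : IsAffineOpen (Y'.basicOpen ((g.appLE V₁ V'₁ hV'₁le).hom s)) := hV'₁.basicOpen _
  have hV'₂eq : Y'.basicOpen ((g.appLE V₁ V'₁ hV'₁le).hom s) = V'₁ ⊓ g ⁻¹ᵁ Y.basicOpen s :=
    Scheme.basicOpen_appLE g V'₁ V₁ hV'₁le s
  have e₂ : Y'.basicOpen ((g.appLE V₁ V'₁ hV'₁le).hom s) ≤ g ⁻¹ᵁ Y.basicOpen s := by
    rw [hV'₂eq]
    exact inf_le_right
  haveI : IsAffine ((Y.basicOpen s : Y.Opens) : Scheme.{u}) := hV₂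
  haveI : IsAffine ((Y'.basicOpen ((g.appLE V₁ V'₁ hV'₁le).hom s) : Y'.Opens) : Scheme.{u}) :=
    hV'₂
  haveI : Surjective (g.resLE (Y.basicOpen s) (Y'.basicOpen ((g.appLE V₁ V'₁ hV'₁le).hom s))
      e₂) := by
    refine ⟨fun z => ?_⟩
    obtain ⟨w, hw, hwz⟩ := hsle z.2
    have hw2 : w ∈ Y'.basicOpen ((g.appLE V₁ V'₁ hV'₁le).hom s) := by
      rw [hV'₂eq]
      refine ⟨hw, ?_⟩
      show g w ∈ Y.basicOpen s
      rw [hwz]
      exact z.2
    refine ⟨⟨w, hw2⟩, ?_⟩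
    apply Subtype.ext
    rw [Scheme.Hom.coe_resLE_apply]
    exact hwz
  haveI : QuasiCompact (g.resLE (Y.basicOpen s)
      (Y'.basicOpen ((g.appLE V₁ V'₁ hV'₁le).hom s)) e₂) := inferInstance
  have sq₂ := Scheme.Hom.isPullback_resLE hsq e₂ (le_refl (f ⁻¹ᵁ Y.basicOpen s))
    (UY := g' ⁻¹ᵁ (f ⁻¹ᵁ Y.basicOpen s) ⊓
      f' ⁻¹ᵁ Y'.basicOpen ((g.appLE V₁ V'₁ hV'₁le).hom s)) rfl
  have hf'₂ := isKoszulAt_resLE f' hf' (Y'.basicOpen ((g.appLE V₁ V'₁ hV'₁le).hom s))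
    (g' ⁻¹ᵁ (f ⁻¹ᵁ Y.basicOpen s) ⊓ f' ⁻¹ᵁ Y'.basicOpen ((g.appLE V₁ V'₁ hV'₁le).hom s))
    inf_le_right
  have h2 := Groth.Agent.S8662.main _ _ _ _ sq₂ hf'₂
  exact isKoszulAt_of_resLE f (Y.basicOpen s) (f ⁻¹ᵁ Y.basicOpen s) le_rfl h2 x hxs

/-- descent of lci morphisms along a flat surjective open base change -/
theorem isKoszulAt_of_baseChange_surjective {X Y X' Y' : Scheme.{u}} (f : X ⟶ Y) (g : Y' ⟶ Y)
    [Flat g] [Surjective g] (hopen : IsOpenMap g) (f' : X' ⟶ Y') (g' : X' ⟶ X)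
    (hsq : IsPullback g' f' f g) (hf' : ∀ x' : X', Synt.IsKoszulAt f' x') :
    ∀ x : X, Synt.IsKoszulAt f x := by
  intro x
  obtain ⟨y', hy'⟩ := g.surjective (f x)
  exact isKoszulAt_of_baseChange_of_isOpenMap f g hopen f' g' hsq hf' x y' hy'

/-- an immersion which is an lci morphism is a Koszul-regular immersion -/
theorem kr_of_isKoszulAt {X Y : Scheme.{u}} (i : X ⟶ Y) [IsImmersion i]
    (h : ∀ x : X, Synt.IsKoszulAt i x) : RegImm.IsRegularImmersion .koszul i :=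
  Groth.Agent.S8656.main i h (𝟙 Y) i (Category.comp_id i)

/-- descent of Koszul-regular immersions along a flat surjective open base change -/
theorem kr_of_baseChange_surjective {X Y X' Y' : Scheme.{u}} (i : X ⟶ Y) [IsImmersion i]
    (g : Y' ⟶ Y) [Flat g] [Surjective g] (hopen : IsOpenMap g) (i' : X' ⟶ Y') (g' : X' ⟶ X)
    (hsq : IsPullback g' i' i g) (hi' : RegImm.IsRegularImmersion .koszul i') :
    RegImm.IsRegularImmersion .koszul i :=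
  kr_of_isKoszulAt i (isKoszulAt_of_baseChange_surjective i g hopen i' g' hsq
    (Groth.Agent.Helper28.RegImmIso.isKoszulAt_of_koszul i' hi'))

/-- smooth morphisms are lci -/
theorem isKoszulAt_of_smooth {X Y : Scheme.{u}} (f : X ⟶ Y) [Smooth f] (x : X) :
    Synt.IsKoszulAt f x :=
  ⟨⊤, X, (⊤ : X.Opens).ι, f, trivial, inferInstance, kr_of_isOpenImmersion _, inferInstance, rfl⟩

end Groth.Agent.Helper2.KosBridge
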