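import Mathlib
import Groth.Prelude.Def_RegImm
import Groth.Agent.Lib.Helper2.KosBridge5

/-!
# Pointwise forms of the bridge between Koszul points and Koszul-regular kernels
-/

set_option autoImplicit false
universe u

namespace Groth.Agent.Helper2.LciLoc

open CategoryTheory CategoryTheory.Limits AlgebraicGeometry TopologicalSpace
open Groth.Agent.Helper28 Groth.Agent.Helper28.RegBC Groth.Agent.S8653
  Groth.Agent.Helper2.KosIdeal Groth.Agent.Helper2.KRSch Groth.Agent.Helper2.KosBridge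

/-- pointwise independence of the factorisation -/
theorem regAt_of_isKoszulAt {X Y Z : Scheme.{u}} (f : X ⟶ Y) (x : X)
    (hf : Synt.IsKoszulAt f x) (p : Z ⟶ Y) [Smooth p] (i : X ⟶ Z) [IsImmersion i]
    (h : i ≫ p = f) : RegImm.IsRegularImmersionAt .koszul i x := by
  obtain ⟨U, P, i₀, π, hxU, -, hi₀, hπ, hcomp⟩ := hf
  haveI := hπ
  exact kr_at_of_open i U (Groth.Agent.S8656.kr_of_factor f p i h U i₀ π hi₀ hcomp) x hxU

/-- pointwise form of `kr_ker` -/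
theorem kr_ker_at {X' Y' : Scheme.{u}} (i' : Y' ⟶ X') (V : X'.Opens) (hV : IsAffineOpen V)
    [IsClosedImmersion (i' ∣_ V)] (y : Y') (hyV : i' y ∈ V)
    (hy : RegImm.IsRegularImmersionAt .koszul i' y) :
    ∃ f : Γ(X', V), f ∉ (hV.primeIdealOf ⟨i' y, hyV⟩).asIdeal ∧
      ∃ l : List (Localization.Away f), LCI.IsKoszulRegularSeq (Localization.Away f) l ∧
        (RingHom.ker (i'.app V).hom).map (algebraMap Γ(X', V) (Localization.Away f)) =
          Ideal.span {x | x ∈ l} := by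
  obtain ⟨⟨U'', hU''⟩, hyU'', hcl'', rs, hrs, hker''⟩ := hy
  obtain ⟨f, f'', hff'', hyf⟩ := exists_basicOpen_le_affine_inter hV hU''
    (i' y) ⟨hyV, hyU''⟩
  have hW : IsAffineOpen (X'.basicOpen f) := hV.basicOpen f
  have hleU'' : X'.basicOpen f ≤ U'' := hff'' ▸ X'.basicOpen_le f''
  obtain ⟨hclW, rs', hrs', hkerW⟩ := restrict_data i' .koszul y U'' hU''
    hcl'' rs hrs hker'' (X'.basicOpen f) hW hyf hleU''
  have hle' : X'.basicOpen f ≤ (𝟙 X') ⁻¹ᵁ V := X'.basicOpen_le f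
  obtain ⟨-, hkerWV⟩ := ker_of_isPullback i' (𝟙 X') i' (𝟙 Y') (IsPullback.id_horiz i') V hV
    (X'.basicOpen f) hW hle'
  refine ⟨f, ?_, ?_⟩
  · have h1 : hV.fromSpec (hV.primeIdealOf ⟨i' y, hyV⟩) ∈ X'.basicOpen f := by
      rw [hV.fromSpec_primeIdealOf ⟨i' y, hyV⟩]
      exact hyf
    exact (mem_basicOpen_iff hV _ f).mp h1
  · haveI := hV.isLocalization_basicOpen f
    refine exists_list_of_isLocalization _ f Γ(X', X'.basicOpen f) rs' hrs' ?_
    have h3 : algebraMap Γ(X', V) Γ(X', X'.basicOpen f) =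
        ((𝟙 X' : X' ⟶ X').appLE V (X'.basicOpen f) hle').hom := by
      rw [RingHom.algebraMap_toAlgebra]
      simp only [Scheme.Hom.appLE, Scheme.Hom.id_app, CommRingCat.hom_comp]
      rfl
    rw [h3, ← hkerWV, hkerW]

/-- pointwise form of `regAt_of_kr` -/
theorem regAt_of_kr_at {X Y : Scheme.{u}} (i : Y ⟶ X) (U : X.Opens) (hU : IsAffineOpen U)
    [IsClosedImmersion (i ∣_ U)] (y : Y) (hyU : i y ∈ U)
    (h : ∃ G : Γ(X, U), G ∉ (hU.primeIdealOf ⟨i y, hyU⟩).asIdeal ∧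
      ∃ l : List (Localization.Away G), LCI.IsKoszulRegularSeq (Localization.Away G) l ∧
        (RingHom.ker (i.app U).hom).map (algebraMap Γ(X, U) (Localization.Away G)) =
          Ideal.span {x | x ∈ l}) :
    RegImm.IsRegularImmersionAt .koszul i y := by
  obtain ⟨G, hG, l, hl, hIl⟩ := h
  have hW : IsAffineOpen (X.basicOpen G) := hU.basicOpen G
  have hyW : i y ∈ X.basicOpen G := by
    have h1 := (mem_basicOpen_iff hU (hU.primeIdealOf ⟨i y, hyU⟩) G).mpr hG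
    rwa [hU.fromSpec_primeIdealOf ⟨i y, hyU⟩] at h1
  have hle' : X.basicOpen G ≤ (𝟙 X) ⁻¹ᵁ U := X.basicOpen_le G
  obtain ⟨hclW, hkerW⟩ := ker_of_isPullback i (𝟙 X) i (𝟙 Y) (IsPullback.id_horiz i) U hU
    (X.basicOpen G) hW hle'
  haveI := hU.isLocalization_basicOpen G
  let e : Localization.Away G ≃ₐ[Γ(X, U)] Γ(X, X.basicOpen G) :=
    IsLocalization.algEquiv (Submonoid.powers G) (Localization.Away G) Γ(X, X.basicOpen G)
  refine ⟨⟨X.basicOpen G, hW⟩, hyW, hclW, l.map e,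
    Groth.Agent.Helper2.KosReg.isKoszulRegularSeq_ringEquiv e.toRingEquiv l hl, ?_⟩
  have h3 : algebraMap Γ(X, U) Γ(X, X.basicOpen G) =
      ((𝟙 X : X ⟶ X).appLE U (X.basicOpen G) hle').hom := by
    rw [RingHom.algebraMap_toAlgebra]
    simp only [Scheme.Hom.appLE, Scheme.Hom.id_app, CommRingCat.hom_comp]
    rfl
  have h4 : algebraMap Γ(X, U) Γ(X, X.basicOpen G) =
      (e : Localization.Away G →+* Γ(X, X.basicOpen G)).comp
        (algebraMap Γ(X, U) (Localization.Away G)) := by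
    ext r
    exact (e.commutes r).symm
  show RingHom.ker (i.app (X.basicOpen G)).hom = Ideal.ofList (l.map e)
  rw [hkerW, ← h3, h4, ← Ideal.map_map, hIl, Ideal.map_ofList]
  rfl

/-- an immersion which is Koszul-regular at a point is Koszul-regular on an open neighbourhood -/
theorem exists_open_kr_of_regAt {X Z : Scheme.{u}} (i : X ⟶ Z) [IsImmersion i] (x : X)
    (h : RegImm.IsRegularImmersionAt .koszul i x) :
    ∃ N : X.Opens, x ∈ N ∧ RegImm.IsRegularImmersion .koszul (N.ι ≫ i) := by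
  obtain ⟨O, hxO, hcl, rs, hrs, hker⟩ := h
  refine ⟨i ⁻¹ᵁ O.1, hxO, inferInstance, fun z => ?_⟩
  refine ⟨O, z.2, ?_, rs, hrs, ?_⟩
  · rw [morphismRestrict_comp]
    haveI : IsIso ((i ⁻¹ᵁ O.1).ι ∣_ (i ⁻¹ᵁ O.1)) :=
      Groth.Agent.Helper18.SymAlg.isIso_restrict_of_le_opensRange (i ⁻¹ᵁ O.1).ι (i ⁻¹ᵁ O.1)
        (by rw [Scheme.Opens.opensRange_ι])
    haveI h1 : IsClosedImmersion ((i ⁻¹ᵁ O.1).ι ∣_ (i ⁻¹ᵁ O.1)) := inferInstance
    haveI h2 : IsClosedImmersion (i ∣_ O.1) := hcl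
    exact MorphismProperty.comp_mem _ _ _ h1 h2
  · rw [ker_comp_ι i (i ⁻¹ᵁ O.1) O.1 le_rfl]
    exact hker

/-- `IsKoszulAt` can be checked on an open of the source -/
theorem isKoszulAt_of_ι_comp {X Y : Scheme.{u}} (f : X ⟶ Y) (U : X.Opens) (x : X) (hx : x ∈ U)
    (h : Synt.IsKoszulAt (U.ι ≫ f) ⟨x, hx⟩) : Synt.IsKoszulAt f x := by
  obtain ⟨N, P, i, π, hxN, hlft, hi, hπ, hcomp⟩ := h
  have hkey : (U.ι ''ᵁ N).ι ≫ f = (U.ι.isoImage N).inv ≫ (N.ι ≫ U.ι ≫ f) := by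
    rw [← Scheme.Hom.isoImage_inv_ι U.ι N, Category.assoc, Category.assoc]
  refine ⟨U.ι ''ᵁ N, P, (U.ι.isoImage N).inv ≫ i, π, ⟨⟨x, hx⟩, hxN, rfl⟩, ?_,
    kr_open_comp _ i hi, hπ, ?_⟩
  · rw [hkey]
    haveI := hlft
    infer_instance
  · rw [Category.assoc, hcomp, hkey]

end Groth.Agent.Helper2.LciLoc
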