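import Mathlib
import Groth.Prelude.Def_RegImm
import Groth.Agent.Lib.Helper28.RegBC8
import Groth.Agent.Lib.Helper6.LciBCA
import Groth.Agent.Lib.Helper2.KindDesc
import Groth.Agent.Lib.Helper2.LciLoc2

/-!
# Base change of Koszul-regular immersions of flat schemes along an arbitrary morphism of the base
-/

set_option autoImplicit false
universe u

open CategoryTheory CategoryTheory.Limits AlgebraicGeometry TopologicalSpace TensorProduct

namespace Groth.Agent.Helper2.LciLoc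

open Groth.Agent.Helper28 Groth.Agent.Helper28.RegBC

/-- ring-level pushout form of the base change of Koszul-regular sequences with flat quotient in
a flat algebra -/
theorem krSeq_of_isPushout {A B A' C : Type u} [CommRing A] [CommRing B] [CommRing A']
    [CommRing C] [Algebra A B] [Algebra A A'] (inl : B →+* C) (inr : A' →+* C)
    (hP : IsPushout (CommRingCat.ofHom (algebraMap A B)) (CommRingCat.ofHom (algebraMap A A'))
      (CommRingCat.ofHom inl) (CommRingCat.ofHom inr))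
    (rs : List B) (hrs : LCI.IsKoszulRegularSeq B rs) [Module.Flat A B]
    (hflat : Module.Flat A (B ⧸ Ideal.ofList rs)) : LCI.IsKoszulRegularSeq C (rs.map inl) := by
  have hT := CommRingCat.isPushout_tensorProduct A A' B
  let e : A' ⊗[A] B ≃+* C := (hT.isoIsPushout _ _ hP.flip).commRingCatIsoToRingEquiv
  have he : ∀ b : B, e ((1 : A') ⊗ₜ[A] b) = inl b := by
    intro b
    have h := hT.inr_isoIsPushout_hom _ _ hP.flip
    have h2 : (CommRingCat.ofHom (S := A' ⊗[A] B)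
        (Algebra.TensorProduct.includeRight (R := A) (A := A') (B := B)).toRingHom ≫
        (hT.isoIsPushout _ _ hP.flip).hom).hom b = inl b := by
      rw [h]; rfl
    exact h2
  haveI := hflat
  have h1 := Groth.Agent.Helper6.LciBC.krSeq_tensor (A := A) rs hrs A'
  let c : B ⊗[A] A' ≃+* A' ⊗[A] B := (Algebra.TensorProduct.comm A B A').toRingEquiv
  have h2 : LCI.IsKoszulRegularSeq C
      ((rs.map (Algebra.TensorProduct.includeLeftRingHom : B →+* B ⊗[A] A')).map (c.trans e)) :=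
    Groth.Agent.Helper2.KindDesc.kind_ringEquiv RegImm.Kind.koszul (by decide) (c.trans e) _ h1
  rw [List.map_map] at h2
  have h3 : ((c.trans e) ∘ (Algebra.TensorProduct.includeLeftRingHom : B →+* B ⊗[A] A')) =
      inl := by
    funext b
    show e (c (b ⊗ₜ[A] (1 : A'))) = inl b
    rw [← he b]
    rfl
  rw [h3] at h2
  exact h2

/-- base change of Koszul-regular immersions of flat `S`-schemes along an arbitrary morphism of
the base -/
theorem kr_rel_base_change {Z X S S' X' Z' : Scheme.{u}} (f : X ⟶ S) [Flat f] (i : Z ⟶ X)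
    (hi : RegImm.IsRegularImmersion .koszul i) [hflat : Flat (i ≫ f)] (g : S' ⟶ S)
    (p : X' ⟶ X) (q : X' ⟶ S') (hsqX : IsPullback p q f g)
    (g' : Z' ⟶ Z) (i' : Z' ⟶ X') (hsqZ : IsPullback g' i' i p) :
    RegImm.IsRegularImmersion .koszul i' := by
  obtain ⟨himm, hreg⟩ := hi
  haveI := himm
  refine ⟨MorphismProperty.of_isPullback hsqZ himm, fun z' => ?_⟩
  obtain ⟨⟨U₀, hU₀⟩, hzU₀, hcl₀, rs₀, hrs₀, hker₀⟩ := hreg (g' z')
  have hcondZ : i (g' z') = p (i' z') := by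
    have := congrArg (fun t : Z' ⟶ X => t z') hsqZ.w
    simpa using this
  have hcondX : f (p (i' z')) = g (q (i' z')) := by
    have := congrArg (fun t : X' ⟶ S => t (i' z')) hsqX.w
    simpa using this
  obtain ⟨V, hV, hsV⟩ : ∃ V : S.Opens, IsAffineOpen V ∧ f (i (g' z')) ∈ V := by
    obtain ⟨_, ⟨V, hV, rfl⟩, hsV, -⟩ := S.isBasis_affineOpens.exists_subset_of_mem_open
      (Set.mem_univ (f (i (g' z')))) isOpen_univ
    exact ⟨V, hV, hsV⟩
  have hs' : q (i' z') ∈ g ⁻¹ᵁ V := by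
    show g (q (i' z')) ∈ V
    rw [← hcondX, ← hcondZ]; exact hsV
  obtain ⟨V', hV', hsV', hV'le⟩ : ∃ V' : S'.Opens, IsAffineOpen V' ∧ q (i' z') ∈ V' ∧
      V' ≤ g ⁻¹ᵁ V := by
    obtain ⟨_, ⟨W, hW, rfl⟩, hzW, hWle⟩ :=
      (S'.isBasis_affineOpens).exists_subset_of_mem_open hs' (g ⁻¹ᵁ V).isOpen
    exact ⟨W, hW, hzW, hWle⟩
  have hxU : i (g' z') ∈ U₀ ⊓ f ⁻¹ᵁ V := ⟨hzU₀, hsV⟩
  obtain ⟨U, hU, hzU, hUle⟩ : ∃ U : X.Opens, IsAffineOpen U ∧ i (g' z') ∈ U ∧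
      U ≤ U₀ ⊓ f ⁻¹ᵁ V := by
    obtain ⟨_, ⟨W, hW, rfl⟩, hzW, hWle⟩ :=
      (X.isBasis_affineOpens).exists_subset_of_mem_open hxU (U₀ ⊓ f ⁻¹ᵁ V).isOpen
    exact ⟨W, hW, hzW, hWle⟩
  obtain ⟨hcl, rs, hrs, hker⟩ := restrict_data i .koszul (g' z') U₀ hU₀ hcl₀ rs₀ hrs₀ hker₀ U hU
    hzU (hUle.trans inf_le_left)
  haveI := hcl
  have hUV : U ≤ f ⁻¹ᵁ V := hUle.trans inf_le_right
  have hU'aff : IsAffineOpen (p ⁻¹ᵁ U ⊓ q ⁻¹ᵁ V') := by
    haveI : IsAffine V := hV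
    haveI : IsAffine V' := hV'
    haveI : IsAffine U := hU
    exact .of_isIso (Scheme.Hom.isPullback_resLE hsqX hV'le hUV rfl).isoPullback.hom
  have hz'U' : i' z' ∈ p ⁻¹ᵁ U ⊓ q ⁻¹ᵁ V' :=
    ⟨by show p (i' z') ∈ U; rw [← hcondZ]; exact hzU, hsV'⟩
  have hU'le : p ⁻¹ᵁ U ⊓ q ⁻¹ᵁ V' ≤ p ⁻¹ᵁ U := inf_le_left
  obtain ⟨hcl', hker'⟩ := ker_of_isPullback i p i' g' hsqZ U hU _ hU'aff hU'le
  have hiso := isIso_pushoutSection_of_isAffineOpen hsqX hV'le hUV
    (rfl : p ⁻¹ᵁ U ⊓ q ⁻¹ᵁ V' = _) hV hV' hU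
  have hpo := (isIso_pushoutSection_iff hsqX hV'le hUV rfl).1 hiso
  letI : Algebra Γ(S, V) Γ(X, U) := (f.appLE V U hUV).hom.toAlgebra
  letI : Algebra Γ(S, V) Γ(S', V') := (g.appLE V V' hV'le).hom.toAlgebra
  haveI hflXU : Module.Flat Γ(S, V) Γ(X, U) := f.flat_appLE hV hU hUV
  have hfl : Module.Flat Γ(S, V) (Γ(X, U) ⧸ Ideal.ofList rs) := by
    apply flat_quot_of_surjective (i.app U).hom (RegImmStalk.app_surjective i U hU) _ hker
    have hUZ : IsAffineOpen (i ⁻¹ᵁ U) := RegImmStalk.isAffineOpen_preimage i U hU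
    have h1 := (i ≫ f).flat_appLE hV hUZ (show i ⁻¹ᵁ U ≤ (i ≫ f) ⁻¹ᵁ V from fun x hx => hUV hx)
    have h2 : (i ≫ f).appLE V (i ⁻¹ᵁ U) (fun x hx => hUV hx) = f.appLE V U hUV ≫ i.app U := by
      rw [Scheme.Hom.app_eq_appLE, Scheme.Hom.appLE_comp_appLE]
    rw [h2] at h1
    exact h1
  have hseq := krSeq_of_isPushout (A := Γ(S, V)) (B := Γ(X, U)) (A' := Γ(S', V'))
    (p.appLE U _ hU'le).hom (q.appLE V' (p ⁻¹ᵁ U ⊓ q ⁻¹ᵁ V') inf_le_right).hom hpo rs hrs hfl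
  refine ⟨⟨_, hU'aff⟩, hz'U', hcl', rs.map (p.appLE U _ hU'le).hom, hseq, ?_⟩
  rw [hker', hker, Ideal.map_ofList]

/-- the left square of a pair of base change squares is a pullback -/
theorem isPullback_left {X Y S X' Y' S' : Scheme.{u}} {f : X ⟶ Y} {g : Y ⟶ S} {h : S' ⟶ S}
    {gY : Y' ⟶ Y} {g' : Y' ⟶ S'} (hY : IsPullback gY g' g h) {gX : X' ⟶ X} {f' : X' ⟶ Y'}
    (hX : IsPullback gX (f' ≫ g') (f ≫ g) h) (w : gX ≫ f = f' ≫ gY) :
    IsPullback gX f' f gY :=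
  (IsPullback.of_right hX.flip w.symm hY.flip).flip

/-- Koszul points are preserved by base change along any morphism of the base `S`, when source
and target are flat over `S` -/
theorem isKoszulAt_baseChange {X Y S X' Y' S' : Scheme.{u}} (f : X ⟶ Y) (g : Y ⟶ S)
    [Flat (f ≫ g)] [Flat g] (h : S' ⟶ S) (gY : Y' ⟶ Y) (g' : Y' ⟶ S')
    (hY : IsPullback gY g' g h) (gX : X' ⟶ X) (f' : X' ⟶ Y')
    (hX : IsPullback gX (f' ≫ g') (f ≫ g) h) (w : gX ≫ f = f' ≫ gY)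
    (x' : X') (hx : Synt.IsKoszulAt f (gX x')) : Synt.IsKoszulAt f' x' := by
  have hL : IsPullback gX f' f gY := isPullback_left hY hX w
  obtain ⟨U, P, i, π, hxU, hlft, hi, hπ, hcomp⟩ := hx
  haveI := hπ
  have hbig : IsPullback (gX ∣_ U) ((gX ⁻¹ᵁ U).ι ≫ f') (U.ι ≫ f) gY :=
    (isPullback_morphismRestrict gX U).paste_vert hL
  have hbot : IsPullback (pullback.fst π gY) (pullback.snd π gY) π gY :=
    IsPullback.of_hasPullback π gY
  let i' : ((gX ⁻¹ᵁ U : X'.Opens) : Scheme.{u}) ⟶ pullback π gY :=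
    pullback.lift ((gX ∣_ U) ≫ i) ((gX ⁻¹ᵁ U).ι ≫ f') (by
      rw [Category.assoc, hcomp]
      exact hbig.w)
  have hi'1 : i' ≫ pullback.fst π gY = (gX ∣_ U) ≫ i := pullback.lift_fst _ _ _
  have hi'2 : i' ≫ pullback.snd π gY = (gX ⁻¹ᵁ U).ι ≫ f' := pullback.lift_snd _ _ _
  have hbig' : IsPullback (gX ∣_ U) (i' ≫ pullback.snd π gY) (i ≫ π) gY := by
    rw [hi'2, hcomp]; exact hbig
  have htop : IsPullback (gX ∣_ U) i' i (pullback.fst π gY) :=
    IsPullback.of_bot hbig' hi'1.symm hbot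
  have hP : IsPullback (pullback.fst π gY) (pullback.snd π gY ≫ g') (π ≫ g) h :=
    (hbot.flip.paste_horiz hY.flip).flip
  haveI : Flat (π ≫ g) := inferInstance
  haveI : Flat (i ≫ π ≫ g) := by
    rw [← Category.assoc, hcomp, Category.assoc]
    infer_instance
  refine ⟨gX ⁻¹ᵁ U, pullback π gY, i', pullback.snd π gY, hxU, ?_, ?_, inferInstance, hi'2⟩
  · exact MorphismProperty.of_isPullback hbig hlft
  · exact kr_rel_base_change (π ≫ g) i hi h (pullback.fst π gY) (pullback.snd π gY ≫ g') hP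
      (gX ∣_ U) i' htop

end Groth.Agent.Helper2.LciLoc
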