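import Mathlib
import Groth.Prelude.Def_RegImm
import Groth.Agent.Lib.Helper3.CI5
import Groth.Agent.Lib.Helper3.RegSec2

/-!
# Complete intersections over a field: independence of the regular presentation (helper2)
-/

set_option autoImplicit false
universe u

namespace Groth.Agent.Helper2.CIField

open IsLocalRing RingTheory.Sequence

section Basic

variable {k : Type u} [Field k]

theorem isCIOver_of_algEquiv {S S' : Type u} [CommRing S] [CommRing S'] [IsLocalRing S]
    [IsLocalRing S'] [Algebra k S] [Algebra k S'] (e : S ≃ₐ[k] S') (h : Synt.IsCIOver k S) :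
    Synt.IsCIOver k S' := by
  obtain ⟨R, i1, i2, i3, hess, rs, hmem, hreg, ⟨ψ⟩⟩ := h
  exact ⟨R, i1, i2, i3, hess, rs, hmem, hreg, ⟨e.symm.trans ψ⟩⟩

theorem isRegQuot_of_isCIOver {S : Type u} [CommRing S] [IsLocalRing S] [Algebra k S]
    (h : Synt.IsCIOver k S) : Groth.Agent.Helper3.CI4.IsRegQuot S := by
  obtain ⟨R, i1, i2, i3, hess, rs, hmem, hreg, ⟨ψ⟩⟩ := h
  exact ⟨R, i1, i2, rs, hmem, hreg, ⟨ψ.toRingEquiv⟩⟩

/-- the criterion in terms of one surjection from a regular local ring essentially of finite type -/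
theorem isCIOver_iff_of_surjective {S : Type u} [CommRing S] [IsLocalRing S] [Algebra k S]
    (R : Type u) [CommRing R] [IsRegularLocalRing R] [Algebra k R] (hR : Algebra.EssFiniteType k R)
    (π : R →ₐ[k] S) (hπ : Function.Surjective π) :
    Synt.IsCIOver k S ↔
      ∃ rs : List R, IsRegular R rs ∧ RingHom.ker π.toRingHom = Ideal.ofList rs := by
  constructor
  · intro h
    haveI : IsNoetherianRing S := isNoetherianRing_of_surjective R S π.toRingHom hπ
    obtain ⟨rs, h1, h2⟩ := Groth.Agent.Helper3.CI5.exists_regular_ker S (isRegQuot_of_isCIOver h) R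
      π.toRingHom hπ
    exact ⟨rs, h2, h1.symm⟩
  · rintro ⟨rs, hreg, hker⟩
    refine ⟨R, inferInstance, inferInstance, inferInstance, hR, rs, ?_, hreg, ?_⟩
    · intro r hr
      have h1 : r ∈ RingHom.ker π.toRingHom := by
        rw [hker]
        exact Ideal.subset_span hr
      exact IsLocalRing.le_maximalIdeal (RingHom.ker_ne_top _) h1
    · exact ⟨(Ideal.quotientKerAlgEquivOfSurjective hπ).symm.trans
        (Ideal.quotientEquivAlgOfEq k hker)⟩

end Basic

end Groth.Agent.Helper2.CIField
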