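import Mathlib
import Groth.Agent.Lib.Helper21.CPF9
import Groth.Agent.Lib.Helper21.FL9

/-!
# Fibre criterion for a non-zero-divisor, part 1: the fibre of `R[X]` at a prime containing `X`
-/

set_option autoImplicit false
universe u

namespace Groth.Agent.Helper2.FCR

open Polynomial

section Split

variable {R : Type u} [CommRing R] (𝔭 : Ideal R)

/-- splitting off the part with low coefficients in `𝔭` -/
theorem exists_split : ∀ (k : ℕ) (g : R[X]), (∀ i < k, g.coeff i ∈ 𝔭) →
    ∃ g₀ ∈ 𝔭.map (C : R →+* R[X]), ∃ h : R[X], g = g₀ + X ^ k * h ∧ h.coeff 0 = g.coeff k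
  | 0, g, _ => ⟨0, Ideal.zero_mem _, g, by simp, rfl⟩
  | k + 1, g, hg => by
    obtain ⟨g₀, hg₀, h, hgh, hh⟩ := exists_split k (divX g)
      (fun i hi => by rw [coeff_divX]; exact hg (i + 1) (by omega))
    refine ⟨C (g.coeff 0) + X * g₀, ?_, h, ?_, ?_⟩
    · exact Ideal.add_mem _ (Ideal.mem_map_of_mem _ (hg 0 (by omega)))
        (Ideal.mul_mem_left _ _ hg₀)
    · have h2 := divX_mul_X_add g
      rw [hgh] at h2
      calc g = (g₀ + X ^ k * h) * X + C (g.coeff 0) := h2.symm
        _ = _ := by ring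
    · rw [hh, coeff_divX]

theorem exists_pow_mul (g : R[X]) (hg : g ∉ 𝔭.map (C : R →+* R[X])) :
    ∃ (k : ℕ), ∃ g₀ ∈ 𝔭.map (C : R →+* R[X]), ∃ h : R[X],
      g = g₀ + X ^ k * h ∧ h.coeff 0 ∉ 𝔭 := by
  classical
  rw [Ideal.mem_map_C_iff] at hg
  push Not at hg
  have hk : g.coeff (Nat.find hg) ∉ 𝔭 := Nat.find_spec hg
  have hlt : ∀ i < Nat.find hg, g.coeff i ∈ 𝔭 := fun i hi => by
    by_contra h
    exact Nat.find_min hg hi h
  obtain ⟨g₀, hg₀, h, hgh, hh⟩ := exists_split 𝔭 (Nat.find hg) g hlt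
  exact ⟨Nat.find hg, g₀, hg₀, h, hgh, by rw [hh]; exact hk⟩

end Split

section Val

variable {R : Type u} [CommRing R] (q : Ideal R[X]) [hq : q.IsPrime] (hX : X ∈ q)

include hX in
theorem not_mem_of_coeff_zero (h : R[X]) (hh : h.coeff 0 ∉ q.comap (C : R →+* R[X])) : h ∉ q := by
  intro hmem
  apply hh
  rw [Ideal.mem_comap]
  have h1 : C (h.coeff 0) = h - divX h * X := by
    rw [eq_sub_iff_add_eq, add_comm]
    exact divX_mul_X_add h
  rw [h1]
  exact Ideal.sub_mem _ hmem (Ideal.mul_mem_left _ _ hX)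

/-- the ideal of the fibre in the local ring -/
noncomputable abbrev IY : Ideal (Localization.AtPrime q) :=
  ((q.comap (C : R →+* R[X])).map (C : R →+* R[X])).map (algebraMap R[X] (Localization.AtPrime q))

instance IY_isPrime : (IY q).IsPrime := by
  haveI : (q.comap (C : R →+* R[X])).IsPrime := Ideal.comap_isPrime _ _
  refine IsLocalization.isPrime_of_isPrime_disjoint q.primeCompl _ _ inferInstance ?_
  rw [Set.disjoint_left]
  intro x hx hxq
  exact hx (Ideal.map_comap_le hxq)

include hX in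
/-- every element of the fibre ring is zero or a unit times a power of `X` -/
theorem elem_form (x : Localization.AtPrime q ⧸ IY q) :
    x = 0 ∨ ∃ (u : (Localization.AtPrime q ⧸ IY q)ˣ) (k : ℕ),
      x = u * (Ideal.Quotient.mk (IY q) (algebraMap R[X] (Localization.AtPrime q) X)) ^ k := by
  obtain ⟨y, rfl⟩ := Ideal.Quotient.mk_surjective x
  obtain ⟨g, s, rfl⟩ := IsLocalization.exists_mk'_eq q.primeCompl y
  by_cases hg : g ∈ (q.comap (C : R →+* R[X])).map (C : R →+* R[X])
  · left
    rw [Ideal.Quotient.eq_zero_iff_mem]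
    have h1 : IsLocalization.mk' (Localization.AtPrime q) g s =
        IsLocalization.mk' (Localization.AtPrime q) 1 s *
          algebraMap R[X] (Localization.AtPrime q) g := by
      rw [mul_comm, IsLocalization.mul_mk'_eq_mk'_of_mul, mul_one]
    rw [h1]
    exact Ideal.mul_mem_left _ _ (Ideal.mem_map_of_mem _ hg)
  · right
    obtain ⟨k, g₀, hg₀, h, hgh, hh⟩ := exists_pow_mul _ g hg
    have hhq : h ∉ q := not_mem_of_coeff_zero q hX h hh
    have hm : ∀ a : R[X], IsLocalization.mk' (Localization.AtPrime q) a s =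
        algebraMap R[X] (Localization.AtPrime q) a *
          IsLocalization.mk' (Localization.AtPrime q) 1 s := fun a => by
      rw [IsLocalization.mul_mk'_eq_mk'_of_mul, mul_one]
    have hu : IsUnit (IsLocalization.mk' (Localization.AtPrime q) h s) :=
      (IsLocalization.AtPrime.isUnit_mk'_iff (Localization.AtPrime q) q h s).mpr hhq
    refine ⟨(hu.map (Ideal.Quotient.mk (IY q))).unit, k, ?_⟩
    rw [IsUnit.unit_spec, ← map_pow, ← map_mul]
    rw [Ideal.Quotient.eq]
    have h1 : IsLocalization.mk' (Localization.AtPrime q) g s -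
        IsLocalization.mk' (Localization.AtPrime q) h s *
          algebraMap R[X] (Localization.AtPrime q) X ^ k =
        IsLocalization.mk' (Localization.AtPrime q) 1 s *
          algebraMap R[X] (Localization.AtPrime q) g₀ := by
      rw [hm g, hm h, hgh, map_add, map_mul, map_pow]
      ring
    rw [h1]
    exact Ideal.mul_mem_left _ _ (Ideal.mem_map_of_mem _ hg₀)

include hX in
/-- the fibre of `R[X]` at a prime containing `X`, localized, is a valuation ring -/
theorem valuationRing_fibre : ValuationRing (Localization.AtPrime q ⧸ IY q) := by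
  rw [ValuationRing.iff_dvd_total]
  refine ⟨fun a b => ?_⟩
  set τ := Ideal.Quotient.mk (IY q) (algebraMap R[X] (Localization.AtPrime q) X) with hτ
  rcases elem_form q hX a with rfl | ⟨u, i, rfl⟩
  · right
    exact dvd_zero _
  rcases elem_form q hX b with rfl | ⟨v, j, rfl⟩
  · left
    exact dvd_zero _
  rcases le_total i j with hij | hij
  · left
    obtain ⟨d, rfl⟩ := Nat.exists_eq_add_of_le hij
    refine ⟨↑u⁻¹ * ↑v * τ ^ d, ?_⟩
    rw [pow_add]
    have : (u : Localization.AtPrime q ⧸ IY q) * ↑u⁻¹ = 1 := u.mul_inv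
    linear_combination (↑v * τ ^ i * τ ^ d) * this.symm
  · right
    obtain ⟨d, rfl⟩ := Nat.exists_eq_add_of_le hij
    refine ⟨↑v⁻¹ * ↑u * τ ^ d, ?_⟩
    rw [pow_add]
    have : (v : Localization.AtPrime q ⧸ IY q) * ↑v⁻¹ = 1 := v.mul_inv
    linear_combination (↑u * τ ^ j * τ ^ d) * this.symm

end Val

end Groth.Agent.Helper2.FCR
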