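import Mathlib
import Groth.Agent.Lib.Helper2.FCR1

/-!
# Fibre criterion for a non-zero-divisor, part 2: flatness over `R[X]` at a point
-/

set_option autoImplicit false
universe u

namespace Groth.Agent.Helper2.FCR

open Polynomial Groth.Agent.Helper21.CPF Groth.Agent.Helper21.FL

section Main

variable {R E : Type u} [CommRing R] [CommRing E] [Algebra R E] [Algebra R[X] E]
  [IsScalarTower R R[X] E] (Q : Ideal E) [hQ : Q.IsPrime]

/-- the elementwise form of "`f` is a non-zero-divisor on the local ring of the fibre" -/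
def FibNZD (f : E) : Prop :=
  ∀ x : E, (∃ s ∉ Q, s * (f * x) ∈ (Q.comap (algebraMap R E)).map (algebraMap R E)) →
    ∃ s' ∉ Q, s' * x ∈ (Q.comap (algebraMap R E)).map (algebraMap R E)

theorem comap_C_eq : (Q.comap (algebraMap R[X] E)).comap (C : R →+* R[X]) =
    Q.comap (algebraMap R E) := by
  rw [Ideal.comap_comap]
  congr 1
  ext r
  simp only [RingHom.comp_apply]
  rw [IsScalarTower.algebraMap_apply R R[X] E r]
  rfl

/-- the non-zero-divisor property on the quotient of the local ring -/
theorem nzd_quot (hnzd : FibNZD (R := R) Q (algebraMap R[X] E X))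
    (w : Localization.AtPrime Q ⧸ Ideal.map (algebraMap E (Localization.AtPrime Q))
      (Ideal.map (algebraMap R E) (Q.comap (algebraMap R E))))
    (hw : Ideal.Quotient.mk _ (algebraMap E (Localization.AtPrime Q) (algebraMap R[X] E X)) * w = 0) :
    w = 0 := by
  obtain ⟨z, rfl⟩ := Ideal.Quotient.mk_surjective w
  obtain ⟨x, s, rfl⟩ := IsLocalization.exists_mk'_eq Q.primeCompl z
  rw [← map_mul, Ideal.Quotient.eq_zero_iff_mem, IsLocalization.mem_map_algebraMap_iff Q.primeCompl]
    at hw
  obtain ⟨⟨⟨c, hc⟩, m⟩, hcm⟩ := hw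
  simp only at hcm
  have h1 : algebraMap E (Localization.AtPrime Q) (algebraMap R[X] E X * x * m) =
      algebraMap E (Localization.AtPrime Q) (c * s) := by
    rw [map_mul, map_mul, map_mul, ← hcm]
    have h2 := IsLocalization.mk'_spec (Localization.AtPrime Q) x s
    rw [← h2]
    ring
  obtain ⟨m', hm'⟩ := (IsLocalization.eq_iff_exists Q.primeCompl (Localization.AtPrime Q)).mp h1
  have h3 : (m' : E) * m ∉ Q := fun hmem =>
    (hQ.mem_or_mem hmem).elim m'.2 m.2
  obtain ⟨s', hs', hs'x⟩ := hnzd x ⟨(m' : E) * m, h3, by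
    have h4 : (m' : E) * m * (algebraMap R[X] E X * x) = (m' : E) * (c * s) := by
      rw [← hm']
      ring
    rw [h4]
    exact Ideal.mul_mem_left _ _ (Ideal.mul_mem_right _ _ hc)⟩
  rw [Ideal.Quotient.eq_zero_iff_mem, IsLocalization.mem_map_algebraMap_iff Q.primeCompl]
  refine ⟨⟨⟨s' * x, hs'x⟩, (⟨s', hs'⟩ : Q.primeCompl) * s⟩, ?_⟩
  simp only [Submonoid.coe_mul, map_mul]
  have h2 := IsLocalization.mk'_spec (Localization.AtPrime Q) x s
  rw [← h2]
  ring


/-- flatness of the map of fibre local rings -/
theorem gamma_flat (hXQ : algebraMap R[X] E X ∈ Q)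
    (hnzd : FibNZD (R := R) Q (algebraMap R[X] E X))
    (γ : (Localization.AtPrime (Q.comap (algebraMap R[X] E)) ⧸
      IY (Q.comap (algebraMap R[X] E))) →+* (Localization.AtPrime Q ⧸
        Ideal.map (algebraMap E (Localization.AtPrime Q))
          (Ideal.map (algebraMap R E) (Q.comap (algebraMap R E)))))
    (hγ : γ.comp (Ideal.Quotient.mk (IY (Q.comap (algebraMap R[X] E)))) =
      (Ideal.Quotient.mk _).comp (Localization.localRingHom (Q.comap (algebraMap R[X] E)) Q
        (algebraMap R[X] E) rfl)) :
    letI : Algebra (Localization.AtPrime (Q.comap (algebraMap R[X] E)) ⧸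
      IY (Q.comap (algebraMap R[X] E))) (Localization.AtPrime Q ⧸
        Ideal.map (algebraMap E (Localization.AtPrime Q))
          (Ideal.map (algebraMap R E) (Q.comap (algebraMap R E)))) := γ.toAlgebra
    Module.Flat (Localization.AtPrime (Q.comap (algebraMap R[X] E)) ⧸
      IY (Q.comap (algebraMap R[X] E))) (Localization.AtPrime Q ⧸
        Ideal.map (algebraMap E (Localization.AtPrime Q))
          (Ideal.map (algebraMap R E) (Q.comap (algebraMap R E)))) := by
  haveI hqp : (Q.comap (algebraMap R[X] E)).IsPrime := Ideal.comap_isPrime _ _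
  have hXq : (X : R[X]) ∈ Q.comap (algebraMap R[X] E) := hXQ
  letI : Algebra (Localization.AtPrime (Q.comap (algebraMap R[X] E)) ⧸
      IY (Q.comap (algebraMap R[X] E))) (Localization.AtPrime Q ⧸
        Ideal.map (algebraMap E (Localization.AtPrime Q))
          (Ideal.map (algebraMap R E) (Q.comap (algebraMap R E)))) := γ.toAlgebra
  show Module.Flat (Localization.AtPrime (Q.comap (algebraMap R[X] E)) ⧸
      IY (Q.comap (algebraMap R[X] E))) (Localization.AtPrime Q ⧸
        Ideal.map (algebraMap E (Localization.AtPrime Q))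
          (Ideal.map (algebraMap R E) (Q.comap (algebraMap R E))))
  haveI : ValuationRing (Localization.AtPrime (Q.comap (algebraMap R[X] E)) ⧸
      IY (Q.comap (algebraMap R[X] E))) := valuationRing_fibre _ hXq
  refine (Module.Flat.flat_iff_torsion_eq_bot_of_isBezout
    (R := Localization.AtPrime (Q.comap (algebraMap R[X] E)) ⧸ IY (Q.comap (algebraMap R[X] E)))
    (M := Localization.AtPrime Q ⧸ Ideal.map (algebraMap E (Localization.AtPrime Q))
      (Ideal.map (algebraMap R E) (Q.comap (algebraMap R E))))).mpr ?_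
  rw [Submodule.eq_bot_iff]
  intro w hw
  rw [Submodule.mem_torsion_iff] at hw
  obtain ⟨a, ha⟩ := hw
  have hγτ : γ (Ideal.Quotient.mk (IY (Q.comap (algebraMap R[X] E)))
      (algebraMap R[X] (Localization.AtPrime (Q.comap (algebraMap R[X] E))) X)) =
      Ideal.Quotient.mk _ (algebraMap E (Localization.AtPrime Q) (algebraMap R[X] E X)) := by
    have h0 := RingHom.congr_fun hγ
      (algebraMap R[X] (Localization.AtPrime (Q.comap (algebraMap R[X] E))) X)
    simp only [RingHom.comp_apply] at h0
    rw [h0]
    congr 1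
    exact Localization.localRingHom_to_map (Q.comap (algebraMap R[X] E)) Q
      (algebraMap R[X] E) rfl X
  have hpow : ∀ (k : ℕ) (w : Localization.AtPrime Q ⧸
      Ideal.map (algebraMap E (Localization.AtPrime Q))
        (Ideal.map (algebraMap R E) (Q.comap (algebraMap R E)))),
      (Ideal.Quotient.mk _ (algebraMap E (Localization.AtPrime Q) (algebraMap R[X] E X))) ^ k *
        w = 0 → w = 0 := by
    intro k
    induction k with
    | zero =>
      intro w hw
      simpa using hw
    | succ k ih =>
      intro w hw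
      apply nzd_quot Q hnzd
      apply ih
      rw [← mul_assoc, ← pow_succ]
      exact hw
  rcases elem_form _ hXq (a : Localization.AtPrime (Q.comap (algebraMap R[X] E)) ⧸
      IY (Q.comap (algebraMap R[X] E))) with h0 | ⟨u, k, hk⟩
  · exact absurd h0 (nonZeroDivisors.coe_ne_zero a)
  · have h3 : γ (a : Localization.AtPrime
        (Q.comap (algebraMap R[X] E)) ⧸ IY (Q.comap (algebraMap R[X] E))) * w = 0 := by
      rw [← ha]
      rfl
    rw [hk, map_mul, map_pow, hγτ, mul_assoc] at h3
    have hu : IsUnit (γ (u : Localization.AtPrime (Q.comap (algebraMap R[X] E)) ⧸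
          IY (Q.comap (algebraMap R[X] E)))) := u.isUnit.map _
    exact hpow k w ((hu.mul_right_eq_zero).mp h3)

variable [Algebra.FinitePresentation R E]

set_option maxHeartbeats 1600000 in
set_option synthInstance.maxHeartbeats 400000 in
/-- **Fibre criterion, local form**: if `C_Q` is flat over `R`, `f = X • 1 ∈ Q` and `f` is a
non-zero-divisor on the local ring of the fibre, then `C_Q` is flat over `R[X]`. -/
theorem flat_polynomial_of_fibNZD (hXQ : algebraMap R[X] E X ∈ Q)
    (hnzd : FibNZD (R := R) Q (algebraMap R[X] E X))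
    [Module.Flat R (LocalizedModule Q.primeCompl E)] :
    Module.Flat R[X] (LocalizedModule Q.primeCompl E) := by
  haveI hqp : (Q.comap (algebraMap R[X] E)).IsPrime := Ideal.comap_isPrime _ _
  haveI hpp : (Q.comap (algebraMap R E)).IsPrime := Ideal.comap_isPrime _ _
  have hXq : (X : R[X]) ∈ Q.comap (algebraMap R[X] E) := hXQ
  rw [← flat_localRingHom_iff (Q.comap (algebraMap R[X] E)) Q rfl]
  have hcomp : (Localization.localRingHom (Q.comap (algebraMap R[X] E)) Q (algebraMap R[X] E)
      rfl).comp (algebraMap R[X] (Localization.AtPrime (Q.comap (algebraMap R[X] E)))) =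
      (algebraMap E (Localization.AtPrime Q)).comp (algebraMap R[X] E) :=
    RingHom.ext fun x => Localization.localRingHom_to_map (Q.comap (algebraMap R[X] E)) Q
      (algebraMap R[X] E) rfl x
  have hC : (algebraMap R[X] E).comp (C : R →+* R[X]) = algebraMap R E := by
    ext r
    simp only [RingHom.comp_apply]
    rw [IsScalarTower.algebraMap_apply R R[X] E r]
    rfl
  have hIYle : IY (Q.comap (algebraMap R[X] E)) ≤
      (Ideal.map (algebraMap E (Localization.AtPrime Q))
        (Ideal.map (algebraMap R E) (Q.comap (algebraMap R E)))).comap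
        (Localization.localRingHom (Q.comap (algebraMap R[X] E)) Q (algebraMap R[X] E) rfl) := by
    rw [Ideal.map_le_iff_le_comap.symm, IY, Ideal.map_map, hcomp,
      Ideal.map_map, comap_C_eq]
    refine le_of_eq ?_
    rw [Ideal.map_map, RingHom.comp_assoc, hC]
  have hγ := Ideal.quotientMap_comp_mk hIYle
  have hIY' : IY (Q.comap (algebraMap R[X] E)) =
      Ideal.map (algebraMap R[X] (Localization.AtPrime (Q.comap (algebraMap R[X] E))))
        (Ideal.map (algebraMap R R[X]) (Q.comap (algebraMap R E))) := by
    rw [IY, comap_C_eq]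
    rfl
  have h1 : ((algebraMap E (Localization.AtPrime Q)).comp (algebraMap R E)).Flat := by
    rw [← IsScalarTower.algebraMap_eq R E (Localization.AtPrime Q), RingHom.flat_algebraMap_iff]
    haveI : IsLocalizedModule Q.primeCompl (Algebra.linearMap E (Localization.AtPrime Q)) :=
      (isLocalizedModule_iff_isLocalization).mpr inferInstance
    exact Module.Flat.of_linearEquiv ((IsLocalizedModule.iso Q.primeCompl
      (Algebra.linearMap E (Localization.AtPrime Q))).restrictScalars R).symm
  let γ : (Localization.AtPrime (Q.comap (algebraMap R[X] E)) ⧸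
      IY (Q.comap (algebraMap R[X] E))) →+* (Localization.AtPrime Q ⧸
        Ideal.map (algebraMap E (Localization.AtPrime Q))
          (Ideal.map (algebraMap R E) (Q.comap (algebraMap R E)))) :=
    Ideal.quotientMap _ _ hIYle
  have hγ' : γ.comp (Ideal.Quotient.mk (IY (Q.comap (algebraMap R[X] E)))) =
      (Ideal.Quotient.mk _).comp (Localization.localRingHom (Q.comap (algebraMap R[X] E)) Q
        (algebraMap R[X] E) rfl) := hγ
  have h2 := gamma_flat Q hXQ hnzd γ hγ'
  exact cpf_loc_core (Q.comap (algebraMap R E)) (Q.comap (algebraMap R[X] E)) Q rfl _ hcomp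
    (IY (Q.comap (algebraMap R[X] E))) hIY' _ rfl γ hγ' h1 h2

end Main

end Groth.Agent.Helper2.FCR
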