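import Mathlib
import Groth.Agent.Lib.Helper2.FCR2
import Groth.Agent.Lib.Helper21.FL8

/-!
# Fibre criterion for a non-zero-divisor, part 3: neighbourhoods and the quotient
-/

set_option autoImplicit false
universe u

namespace Groth.Agent.Helper2.FCR

open Polynomial Groth.Agent.Helper21.CPF Groth.Agent.Helper21.FL TensorProduct

section Nbhd

variable {R E : Type u} [CommRing R] [CommRing E] [Algebra R E] [Algebra R[X] E]
  [IsScalarTower R R[X] E] [Algebra.FinitePresentation R E] (Q : Ideal E) [hQ : Q.IsPrime]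

/-- if `E_Q` is flat over `R[X]`, then `X` acts as a non-zero-divisor on a basic open
neighbourhood of `Q` -/
theorem exists_nzd_away [hfl : Module.Flat R[X] (LocalizedModule Q.primeCompl E)] :
    ∃ g : E, g ∉ Q ∧ algebraMap E (Localization.Away g) (algebraMap R[X] E X) ∈
      nonZeroDivisors (Localization.Away g) := by
  haveI : Algebra.FinitePresentation R[X] E :=
    Algebra.FinitePresentation.of_restrict_scalars_finitePresentation R R[X] E
  have hopen := isOpen_flatLocus (R := R[X]) (S := E) (M := E)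
  have hQmem : (⟨Q, hQ⟩ : PrimeSpectrum E) ∈
      {q : PrimeSpectrum E | Module.Flat R[X] (LocalizedModule q.asIdeal.primeCompl E)} := hfl
  obtain ⟨_, ⟨_, ⟨g, rfl⟩, rfl⟩, hQg, hgU⟩ :=
    PrimeSpectrum.isBasis_basic_opens.exists_subset_of_mem_open hQmem hopen
  refine ⟨g, hQg, ?_⟩
  rw [mem_nonZeroDivisors_iff_right]
  intro y hy
  obtain ⟨x, s, rfl⟩ := IsLocalization.exists_mk'_eq (Submonoid.powers g) y
  rw [mul_comm, IsLocalization.mul_mk'_eq_mk'_of_mul, IsLocalization.mk'_eq_zero_iff] at hy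
  obtain ⟨⟨_, m, rfl⟩, hm⟩ := hy
  rw [IsLocalization.mk'_eq_zero_iff]
  -- suppose no power of `g` kills `x`
  by_contra hcon
  push Not at hcon
  have hdisj : Disjoint ((Submodule.span E {x}).annihilator : Set E)
      (Submonoid.powers g : Set E) := by
    rw [Set.disjoint_left]
    rintro e he ⟨k, rfl⟩
    rw [SetLike.mem_coe, Submodule.mem_annihilator_span_singleton] at he
    exact hcon ⟨g ^ k, k, rfl⟩ he
  obtain ⟨Q', hQ'p, h𝔞Q', hQ'g⟩ := Ideal.exists_le_prime_disjoint _ (Submonoid.powers g) hdisj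
  haveI := hQ'p
  have hgQ' : g ∉ Q' := fun hmem =>
    (Set.disjoint_left.mp hQ'g) hmem ⟨1, pow_one g⟩
  have hfl' : Module.Flat R[X] (LocalizedModule Q'.primeCompl E) :=
    hgU (show (⟨Q', hQ'p⟩ : PrimeSpectrum E) ∈ (PrimeSpectrum.basicOpen g : Set _) from hgQ')
  have hreg : IsSMulRegular (LocalizedModule Q'.primeCompl E) (X : R[X]) :=
    Module.Flat.isSMulRegular_of_nonZeroDivisors (R := R[X]) (M := LocalizedModule Q'.primeCompl E) (r := X) Polynomial.X_mem_nonzeroDivisors
  have h0 : (X : R[X]) • (LocalizedModule.mk (g ^ m * x) 1 : LocalizedModule Q'.primeCompl E) =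
      (X : R[X]) • (0 : LocalizedModule Q'.primeCompl E) := by
    rw [smul_zero, LocalizedModule.smul'_mk, Algebra.smul_def]
    have h1 : algebraMap R[X] E X * (g ^ m * x) = g ^ m * (algebraMap R[X] E X * x) := by ring
    rw [h1]
    have h2 : g ^ m * (algebraMap R[X] E X * x) = 0 := hm
    rw [h2, LocalizedModule.zero_mk]
  have h3 := hreg h0
  rw [← LocalizedModule.zero_mk (1 : Q'.primeCompl), LocalizedModule.mk_eq] at h3
  obtain ⟨u, hu⟩ := h3
  simp only [one_smul, smul_zero] at hu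
  have h4 : (u : E) * g ^ m ∈ (Submodule.span E {x}).annihilator := by
    rw [Submodule.mem_annihilator_span_singleton]
    rw [smul_eq_mul, mul_assoc]
    exact hu
  rcases hQ'p.mem_or_mem (h𝔞Q' h4) with h5 | h5
  · exact u.2 h5
  · exact hgQ' (hQ'p.mem_of_pow_mem m h5)

end Nbhd


section Quot

variable {R : Type u} [CommRing R]

/-- `R → R[X]/(X)` is bijective, so `R[X]/(X)` is `R`-flat -/
theorem flat_quot_X : Module.Flat R (R[X] ⧸ Ideal.span {(X : R[X])}) := by
  let φ : R →ₗ[R] (R[X] ⧸ Ideal.span {(X : R[X])}) := Algebra.linearMap R _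
  have hbij : Function.Bijective φ := by
    constructor
    · rw [injective_iff_map_eq_zero]
      intro r hr
      have h1 : algebraMap R (R[X] ⧸ Ideal.span {(X : R[X])}) r = 0 := hr
      rw [IsScalarTower.algebraMap_apply R R[X] (R[X] ⧸ Ideal.span {(X : R[X])}),
        Ideal.Quotient.algebraMap_eq, Ideal.Quotient.eq_zero_iff_mem, Ideal.mem_span_singleton,
        Polynomial.X_dvd_iff] at h1
      simpa using h1
    · intro y
      obtain ⟨p, rfl⟩ := Ideal.Quotient.mk_surjective y
      refine ⟨p.coeff 0, ?_⟩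
      change algebraMap R (R[X] ⧸ Ideal.span {(X : R[X])}) (p.coeff 0) = _
      rw [IsScalarTower.algebraMap_apply R R[X] (R[X] ⧸ Ideal.span {(X : R[X])}),
        Ideal.Quotient.algebraMap_eq, Ideal.Quotient.eq, Ideal.mem_span_singleton,
        Polynomial.X_dvd_iff]
      simp
  exact Module.Flat.of_linearEquiv (LinearEquiv.ofBijective φ hbij).symm

variable {E : Type u} [CommRing E] [Algebra R E] [Algebra R[X] E]
  [IsScalarTower R R[X] E] (Q : Ideal E) [hQ : Q.IsPrime]

theorem flat_quot_aux [hfl : Module.Flat R[X] (LocalizedModule Q.primeCompl E)]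
    (J : Ideal R[X]) (hJ : J = Ideal.span {(X : R[X])})
    (K : Ideal E) (hKdef : K = Ideal.span {algebraMap R[X] E X})
    (Qb : Ideal (E ⧸ K)) [Qb.IsPrime]
    (hQb : Qb.comap (Ideal.Quotient.mk K) = Q) :
    Module.Flat R (LocalizedModule Qb.primeCompl (E ⧸ K)) := by
  have hK : K = J.map (algebraMap R[X] E) := by
    rw [hJ, hKdef, Ideal.map_span, Set.image_singleton]
  have hJK : J ≤ K.comap (algebraMap R[X] E) := by
    rw [← Ideal.map_le_iff_le_comap, ← hK]
  letI alg : Algebra (R[X] ⧸ J) (E ⧸ K) :=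
    (Ideal.quotientMap K (algebraMap R[X] E) hJK).toAlgebra
  haveI t1 : IsScalarTower R[X] (R[X] ⧸ J) (E ⧸ K) :=
    IsScalarTower.of_algebraMap_eq (R := R[X]) (S := R[X] ⧸ J) (A := E ⧸ K) (fun p => rfl)
  haveI t2 : IsScalarTower R (R[X] ⧸ J) (E ⧸ K) :=
    IsScalarTower.of_algebraMap_eq (R := R) (S := R[X] ⧸ J) (A := E ⧸ K) (fun r => by
      rw [IsScalarTower.algebraMap_apply R R[X] (R[X] ⧸ J),
        ← IsScalarTower.algebraMap_apply R[X] (R[X] ⧸ J) (E ⧸ K),
        ← IsScalarTower.algebraMap_apply R R[X] (E ⧸ K)])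
  have h1 : Module.Flat (R[X] ⧸ J) ((R[X] ⧸ J) ⊗[R[X]] LocalizedModule Q.primeCompl E) :=
    inferInstance
  have h2 : Module.Flat (R[X] ⧸ J) (LocalizedModule Qb.primeCompl (E ⧸ K)) :=
    (flat_quot_iff J K hK Q Qb hQb).mp h1
  haveI t3 : IsScalarTower R (R[X] ⧸ J) (LocalizedModule Qb.primeCompl (E ⧸ K)) := by
    constructor
    intro r s m
    induction m using LocalizedModule.induction_on with
    | h e t =>
      rw [LocalizedModule.smul'_mk, LocalizedModule.smul'_mk, LocalizedModule.smul'_mk,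
        smul_assoc]
  haveI : Module.Flat R (R[X] ⧸ J) := by
    subst hJ
    exact flat_quot_X (R := R)
  exact Module.Flat.trans R (R[X] ⧸ J) _

/-- if `E_Q` is flat over `R[X]`, then `(E/(f))_Q` is flat over `R` (`f` the image of `X`) -/
theorem flat_quot [hfl : Module.Flat R[X] (LocalizedModule Q.primeCompl E)]
    (Qb : Ideal (E ⧸ Ideal.span {algebraMap R[X] E X})) [Qb.IsPrime]
    (hQb : Qb.comap (Ideal.Quotient.mk (Ideal.span {algebraMap R[X] E X})) = Q) :
    Module.Flat R (LocalizedModule Qb.primeCompl (E ⧸ Ideal.span {algebraMap R[X] E X})) :=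
  flat_quot_aux Q _ rfl _ rfl Qb hQb

end Quot

end Groth.Agent.Helper2.FCR
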