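import Mathlib
import Groth.Agent.Lib.Helper2.FCR3

/-!
# Fibre criterion for regular sequences on a neighbourhood (elementwise form)
-/

set_option autoImplicit false
universe u

namespace Groth.Agent.Helper2.FCR

open Polynomial

section Defs

variable (R : Type u) {E : Type u} [CommRing R] [CommRing E] [Algebra R E]

/-- fibrewise regularity of the list `l` at the prime `Q` (elementwise) -/
def HFib (Q : Ideal E) (l : List E) : Prop :=
  ∀ (i : ℕ) (hi : i < l.length) (x : E),
    (∃ s ∉ Q, s * (l[i] * x) ∈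
      (Q.comap (algebraMap R E)).map (algebraMap R E) ⊔ Ideal.ofList (l.take i)) →
    ∃ s' ∉ Q, s' * x ∈
      (Q.comap (algebraMap R E)).map (algebraMap R E) ⊔ Ideal.ofList (l.take i)

end Defs

section WRDef

variable {E : Type u} [CommRing E]

/-- weak regularity of `l` on `D(g)` (elementwise) -/
def WR (g : E) (l : List E) : Prop :=
  ∀ (i : ℕ) (hi : i < l.length) (x : E),
    (∃ m : ℕ, g ^ m * (l[i] * x) ∈ Ideal.ofList (l.take i)) →
    ∃ m' : ℕ, g ^ m' * x ∈ Ideal.ofList (l.take i)

end WRDef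

section Step

variable {R E : Type u} [CommRing R] [CommRing E] [Algebra R E]
  [Algebra.FinitePresentation R E] (Q : Ideal E) [hQ : Q.IsPrime]

/-- one step of the fibre criterion -/
theorem step (f : E) (hfQ : f ∈ Q) (hnzd : FibNZD (R := R) Q f)
    [Module.Flat R (LocalizedModule Q.primeCompl E)] :
    (∃ g : E, g ∉ Q ∧
      algebraMap E (Localization.Away g) f ∈ nonZeroDivisors (Localization.Away g)) ∧
    ∀ (Qb : Ideal (E ⧸ Ideal.span {f})) [Qb.IsPrime],
      Qb.comap (Ideal.Quotient.mk (Ideal.span {f})) = Q →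
      Module.Flat R (LocalizedModule Qb.primeCompl (E ⧸ Ideal.span {f})) := by
  letI : Algebra R[X] E := (Polynomial.aeval f).toRingHom.toAlgebra
  haveI : IsScalarTower R R[X] E := IsScalarTower.of_algebraMap_eq (fun r => by
    change algebraMap R E r = Polynomial.aeval f (C r)
    rw [Polynomial.aeval_C])
  have hX : algebraMap R[X] E X = f := Polynomial.aeval_X f
  haveI : Module.Flat R[X] (LocalizedModule Q.primeCompl E) :=
    flat_polynomial_of_fibNZD (R := R) Q (by rw [hX]; exact hfQ) (by rw [hX]; exact hnzd)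
  constructor
  · obtain ⟨g, hg, h⟩ := exists_nzd_away (R := R) Q
    rw [hX] at h
    exact ⟨g, hg, h⟩
  · intro Qb _ hQb
    exact flat_quot_aux (R := R) Q _ rfl (Ideal.span {f}) (by rw [hX]) Qb hQb

end Step


section Transfer

variable {R E : Type u} [CommRing R] [CommRing E] [Algebra R E]

theorem fibNZD_of_hFib (Q : Ideal E) (a : E) (l : List E) (H : HFib R Q (a :: l)) :
    FibNZD (R := R) Q a := by
  intro x hx
  have h0 := H 0 (by simp) x
  simp only [List.getElem_cons_zero, List.take_zero, Ideal.ofList_nil, sup_bot_eq] at h0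
  exact h0 hx

theorem ofList_take_succ_cons (a : E) (l : List E) (i : ℕ) :
    Ideal.ofList ((a :: l).take (i + 1)) = Ideal.span {a} ⊔ Ideal.ofList (l.take i) := by
  rw [List.take_succ_cons, Ideal.ofList_cons]

theorem ofList_take_map {E' : Type u} [CommRing E'] (π : E →+* E') (l : List E) (i : ℕ) :
    Ideal.ofList ((l.map π).take i) = (Ideal.ofList (l.take i)).map π := by
  rw [← List.map_take, Ideal.map_ofList]

/-- membership in the image of `J ⊔ (a)` in `E/(a)` -/
theorem mem_map_mk_iff (a : E) (J : Ideal E) (y : E) :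
    Ideal.Quotient.mk (Ideal.span {a}) y ∈ J.map (Ideal.Quotient.mk (Ideal.span {a})) ↔
      y ∈ Ideal.span {a} ⊔ J := by
  rw [Ideal.mem_quotient_iff_mem_sup, sup_comm]

theorem hFib_quot (Q : Ideal E) (a : E) (l : List E) (H : HFib R Q (a :: l))
    (Qb : Ideal (E ⧸ Ideal.span {a}))
    (hQb : Qb.comap (Ideal.Quotient.mk (Ideal.span {a})) = Q) :
    HFib R Qb (l.map (Ideal.Quotient.mk (Ideal.span {a}))) := by
  set π := Ideal.Quotient.mk (Ideal.span {a}) with hπ
  have hp : Qb.comap (algebraMap R (E ⧸ Ideal.span {a})) = Q.comap (algebraMap R E) := by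
    rw [← hQb, Ideal.comap_comap]
    rfl
  have hpm : (Q.comap (algebraMap R E)).map (algebraMap R (E ⧸ Ideal.span {a})) =
      ((Q.comap (algebraMap R E)).map (algebraMap R E)).map π := by
    rw [Ideal.map_map]
    rfl
  have hJ : ∀ i : ℕ, (Qb.comap (algebraMap R (E ⧸ Ideal.span {a}))).map
      (algebraMap R (E ⧸ Ideal.span {a})) ⊔ Ideal.ofList ((l.map π).take i) =
      ((Q.comap (algebraMap R E)).map (algebraMap R E) ⊔ Ideal.ofList (l.take i)).map π := by
    intro i
    rw [hp, hpm, ofList_take_map, Ideal.map_sup]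
  have hmem : ∀ (i : ℕ) (y : E), π y ∈ ((Q.comap (algebraMap R E)).map (algebraMap R E) ⊔
      Ideal.ofList (l.take i)).map π ↔ y ∈ (Q.comap (algebraMap R E)).map (algebraMap R E) ⊔
      Ideal.ofList ((a :: l).take (i + 1)) := by
    intro i y
    rw [mem_map_mk_iff, ofList_take_succ_cons, ← sup_assoc, ← sup_assoc,
      sup_comm (Ideal.span {a})]
  intro i hi x' hx'
  obtain ⟨x, rfl⟩ := Ideal.Quotient.mk_surjective x'
  obtain ⟨s', hs', hmem'⟩ := hx'
  obtain ⟨s, rfl⟩ := Ideal.Quotient.mk_surjective s'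
  have hsQ : s ∉ Q := by
    intro hs
    apply hs'
    rw [← hQb] at hs
    exact hs
  have hil : i < l.length := by simpa using hi
  rw [hJ, List.getElem_map, ← hπ, ← map_mul, ← map_mul, hmem] at hmem'
  have h1 := H (i + 1) (by simpa using hil) x ⟨s, hsQ, by simpa using hmem'⟩
  obtain ⟨s₁, hs₁, h2⟩ := h1
  refine ⟨π s₁, ?_, ?_⟩
  · intro hmem₁
    apply hs₁
    rw [← hQb]
    exact hmem₁
  · rw [hJ, ← map_mul, hmem]
    exact h2

end Transfer


section Back

variable {E : Type u} [CommRing E]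

/-- elementwise form of "`a` is a non-zero-divisor on `E_g`" -/
theorem nzd_elementwise (g a : E)
    (h : algebraMap E (Localization.Away g) a ∈ nonZeroDivisors (Localization.Away g))
    (x : E) (m : ℕ) (hx : g ^ m * (a * x) = 0) : ∃ k : ℕ, g ^ k * x = 0 := by
  have h1 : algebraMap E (Localization.Away g) a * algebraMap E (Localization.Away g) x = 0 := by
    have h2 : algebraMap E (Localization.Away g) (g ^ m * (a * x)) = 0 := by rw [hx, map_zero]
    rw [map_mul, map_mul] at h2
    have hu : IsUnit (algebraMap E (Localization.Away g) (g ^ m)) := by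
      rw [map_pow]
      exact (IsLocalization.Away.algebraMap_isUnit g).pow m
    exact (hu.mul_right_eq_zero).mp h2
  have h3 : algebraMap E (Localization.Away g) x = 0 :=
    (mem_nonZeroDivisors_iff.mp h).1 _ h1
  rw [IsLocalization.map_eq_zero_iff (Submonoid.powers g)] at h3
  obtain ⟨⟨_, k, rfl⟩, hk⟩ := h3
  exact ⟨k, hk⟩

theorem wr_back (g₀ g₁ a : E) (l : List E)
    (h0 : algebraMap E (Localization.Away g₀) a ∈ nonZeroDivisors (Localization.Away g₀))
    (h1 : WR (Ideal.Quotient.mk (Ideal.span {a}) g₁)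
      (l.map (Ideal.Quotient.mk (Ideal.span {a})))) :
    WR (g₀ * g₁) (a :: l) := by
  set π := Ideal.Quotient.mk (Ideal.span {a}) with hπ
  intro i hi x hx
  obtain ⟨m, hm⟩ := hx
  rcases i with _ | i
  · simp only [List.getElem_cons_zero, List.take_zero, Ideal.ofList_nil, Ideal.mem_bot] at hm ⊢
    have h2 : g₀ ^ m * (a * (g₁ ^ m * x)) = 0 := by
      rw [← hm, mul_pow]; ring
    obtain ⟨k, hk⟩ := nzd_elementwise g₀ a h0 _ m h2
    refine ⟨k + m, ?_⟩
    have h3 : (g₀ * g₁) ^ (k + m) * x = g₀ ^ m * g₁ ^ k * (g₀ ^ k * (g₁ ^ m * x)) := by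
      rw [mul_pow, pow_add, pow_add]; ring
    rw [h3, hk, mul_zero]
  · have hil : i < l.length := by simpa using hi
    simp only [List.getElem_cons_succ] at hm
    rw [ofList_take_succ_cons] at hm ⊢
    have hm' : π g₁ ^ m * ((l.map π)[i]'(by simpa using hil) * π (g₀ ^ m * x)) ∈
        Ideal.ofList ((l.map π).take i) := by
      rw [ofList_take_map, List.getElem_map, ← map_pow, ← map_mul, ← map_mul, hπ, mem_map_mk_iff]
      have h2 : g₁ ^ m * (l[i] * (g₀ ^ m * x)) = (g₀ * g₁) ^ m * (l[i] * x) := by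
        rw [mul_pow]; ring
      rw [h2]
      exact hm
    obtain ⟨m', hm''⟩ := h1 i (by simpa using hil) (π (g₀ ^ m * x)) ⟨m, hm'⟩
    rw [ofList_take_map, ← map_pow, ← map_mul, hπ, mem_map_mk_iff] at hm''
    refine ⟨m + m', ?_⟩
    have h3 : (g₀ * g₁) ^ (m + m') * x = (g₀ ^ m' * g₁ ^ m) * (g₁ ^ m' * (g₀ ^ m * x)) := by
      rw [mul_pow, pow_add, pow_add]; ring
    rw [h3]
    exact Ideal.mul_mem_left _ _ hm''

end Back

section Main

variable {R : Type u} [CommRing R]

/-- **Fibre criterion for regular sequences, neighbourhood form.**  Let `E` be a finitely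
presented `R`-algebra, `Q` a prime of `E` at which `E` is flat over `R`, and `l` a list of elements
of `Q` which is a regular sequence on the local ring of the fibre at `Q` (elementwise: `HFib`).
Then `l` is a weakly regular sequence on a basic open neighbourhood `D(g)` of `Q`
(elementwise: `WR g l`). -/
theorem exists_wr : ∀ (n : ℕ) (E : Type u) [CommRing E] [Algebra R E]
    [Algebra.FinitePresentation R E] (Q : Ideal E) [Q.IsPrime]
    [Module.Flat R (LocalizedModule Q.primeCompl E)] (l : List E), l.length = n →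
    (∀ a ∈ l, a ∈ Q) → HFib R Q l → ∃ g : E, g ∉ Q ∧ WR g l := by
  intro n
  induction n with
  | zero =>
    intro E _ _ _ Q hQ _ l hl _ _
    refine ⟨1, fun h => hQ.ne_top ((Ideal.eq_top_iff_one _).mpr h), ?_⟩
    rw [List.length_eq_zero_iff] at hl
    subst hl
    intro i hi
    simp at hi
  | succ n ih =>
    intro E _ _ _ Q hQ _ l hl hlQ H
    obtain ⟨a, l', rfl⟩ := List.exists_cons_of_length_eq_add_one hl
    have haQ : a ∈ Q := hlQ a (by simp)
    obtain ⟨⟨g₀, hg₀, hnzd⟩, hflat⟩ := step (R := R) Q a haQ (fibNZD_of_hFib Q a l' H)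
    have hker : RingHom.ker (Ideal.Quotient.mk (Ideal.span {a})) ≤ Q := by
      rw [Ideal.mk_ker, Ideal.span_singleton_le_iff_mem]
      exact haQ
    haveI hQb : (Q.map (Ideal.Quotient.mk (Ideal.span {a}))).IsPrime :=
      Ideal.map_isPrime_of_surjective Ideal.Quotient.mk_surjective hker
    have hcomap : (Q.map (Ideal.Quotient.mk (Ideal.span {a}))).comap
        (Ideal.Quotient.mk (Ideal.span {a})) = Q := by
      rw [Ideal.comap_map_of_surjective _ Ideal.Quotient.mk_surjective, ← RingHom.ker_eq_comap_bot]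
      exact sup_eq_left.mpr hker
    haveI := hflat (Q.map (Ideal.Quotient.mk (Ideal.span {a}))) hcomap
    haveI : Algebra.FinitePresentation R (E ⧸ Ideal.span {a}) :=
      Algebra.FinitePresentation.quotient ⟨{a}, by simp⟩
    have H' := hFib_quot (R := R) Q a l' H (Q.map (Ideal.Quotient.mk (Ideal.span {a}))) hcomap
    obtain ⟨g', hg', hwr⟩ := ih (E ⧸ Ideal.span {a}) (Q.map (Ideal.Quotient.mk (Ideal.span {a})))
      (l'.map (Ideal.Quotient.mk (Ideal.span {a}))) (by simpa using hl)
      (by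
        intro b hb
        obtain ⟨b₀, hb₀, rfl⟩ := List.mem_map.mp hb
        exact Ideal.mem_map_of_mem _ (hlQ b₀ (by simp [hb₀]))) H'
    obtain ⟨g₁, rfl⟩ := Ideal.Quotient.mk_surjective g'
    have hg₁ : g₁ ∉ Q := fun h => hg' (Ideal.mem_map_of_mem _ h)
    refine ⟨g₀ * g₁, ?_, wr_back g₀ g₁ a l' hnzd hwr⟩
    intro h
    rcases hQ.mem_or_mem h with h | h
    · exact hg₀ h
    · exact hg₁ h

end Main

end Groth.Agent.Helper2.FCR
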