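import Mathlib
import Groth.Agent.Lib.Helper2.FCR4
import Groth.Agent.S15821

/-!
# Fibre criterion: conversions and the Nakayama step
-/

set_option autoImplicit false
universe u

namespace Groth.Agent.Helper2.FCR

section Conv

variable {E : Type u} [CommRing E]

theorem isWeaklyRegular_of_wr (g : E) (l : List E) (h : WR g l) :
    RingTheory.Sequence.IsWeaklyRegular (Localization.Away g)
      (l.map (algebraMap E (Localization.Away g))) := by
  rw [RingTheory.Sequence.isWeaklyRegular_iff]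
  intro i hi
  have hil : i < l.length := by simpa using hi
  rw [isSMulRegular_on_quot_iff_lsmul_comap_le]
  intro z hz
  rw [Submodule.mem_comap, LinearMap.lsmul_apply] at hz
  have hJ : (Ideal.ofList ((l.map (algebraMap E (Localization.Away g))).take i) •
      (⊤ : Submodule (Localization.Away g) (Localization.Away g))) =
      (Ideal.ofList (l.take i)).map (algebraMap E (Localization.Away g)) := by
    rw [smul_eq_mul, Ideal.mul_top, ofList_take_map]
  rw [hJ] at hz ⊢
  obtain ⟨x, s, rfl⟩ := IsLocalization.exists_mk'_eq (Submonoid.powers g) z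
  rw [List.getElem_map, smul_eq_mul, IsLocalization.mul_mk'_eq_mk'_of_mul,
    IsLocalization.mk'_mem_map_algebraMap_iff (Submonoid.powers g)] at hz
  obtain ⟨_, ⟨m, rfl⟩, hm⟩ := hz
  obtain ⟨m', hm'⟩ := h i hil x ⟨m, hm⟩
  rw [IsLocalization.mk'_mem_map_algebraMap_iff (Submonoid.powers g)]
  exact ⟨g ^ m', ⟨m', rfl⟩, hm'⟩

theorem krSeq_of_wr (g : E) (l : List E) (h : WR g l) :
    LCI.IsKoszulRegularSeq (Localization.Away g) (l.map (algebraMap E (Localization.Away g))) :=
  (Groth.Agent.S15821.result _ _ (isWeaklyRegular_of_wr g l h)).1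

end Conv

section FlatInf

variable {R P : Type u} [CommRing R] [CommRing P] [Algebra R P]

/-- `𝔭P ∩ I = 𝔭I` when `P/I` is flat over `R` -/
theorem inf_le_mul_of_flat (I : Ideal P) [Module.Flat R (P ⧸ I)] (𝔭 : Ideal R) :
    𝔭.map (algebraMap R P) ⊓ I ≤ 𝔭.map (algebraMap R P) * I := by
  intro b hb
  obtain ⟨hb𝔭, hbI⟩ := Ideal.mem_inf.mp hb
  rw [Ideal.map, Ideal.span, Submodule.mem_span_set'] at hb𝔭
  obtain ⟨n, c, gfun, rfl⟩ := hb𝔭
  choose p hp𝔭 hpg using fun i => (gfun i).2
  -- relation in `P/I`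
  have hrel : ∑ i, p i • (Ideal.Quotient.mk I (c i)) = 0 := by
    have h1 : Ideal.Quotient.mk I (∑ i, c i • (gfun i : P)) = 0 :=
      Ideal.Quotient.eq_zero_iff_mem.mpr hbI
    rw [map_sum] at h1
    rw [← h1]
    refine Finset.sum_congr rfl fun i _ => ?_
    rw [smul_eq_mul, map_mul, ← hpg i, Algebra.smul_def, mul_comm]
    rfl
  obtain ⟨k, a, y, hxy, hfa⟩ := Module.Flat.isTrivialRelation_of_sum_smul_eq_zero (R := R)
    (M := P ⧸ I) (f := p) (x := fun i => Ideal.Quotient.mk I (c i)) hrel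
  choose Y hY using fun j => Ideal.Quotient.mk_surjective (y j)
  have hmemI : ∀ i, c i - ∑ j, algebraMap R P (a i j) * Y j ∈ I := by
    intro i
    have hxy' : Ideal.Quotient.mk I (c i) = ∑ j, a i j • y j := hxy i
    rw [← Ideal.Quotient.eq_zero_iff_mem, map_sub, map_sum, hxy', sub_eq_zero]
    refine Finset.sum_congr rfl fun j _ => ?_
    rw [map_mul, hY j, Algebra.smul_def]
    rfl
  have hsum : ∑ i, c i • (gfun i : P) =
      ∑ i, algebraMap R P (p i) * (c i - ∑ j, algebraMap R P (a i j) * Y j) := by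
    have h2 : ∑ i, algebraMap R P (p i) * ∑ j, algebraMap R P (a i j) * Y j = 0 := by
      simp_rw [Finset.mul_sum]
      rw [Finset.sum_comm]
      refine Finset.sum_eq_zero fun j _ => ?_
      have h3 : ∑ i, algebraMap R P (p i) * (algebraMap R P (a i j) * Y j) =
          algebraMap R P (∑ i, p i * a i j) * Y j := by
        rw [map_sum, Finset.sum_mul]
        refine Finset.sum_congr rfl fun i _ => ?_
        rw [map_mul, mul_assoc]
      rw [h3, hfa j, map_zero, zero_mul]
    simp_rw [mul_sub, Finset.sum_sub_distrib]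
    rw [h2, sub_zero]
    refine Finset.sum_congr rfl fun i _ => ?_
    rw [smul_eq_mul, ← hpg i, mul_comm]
  rw [hsum]
  refine Ideal.sum_mem _ fun i _ => ?_
  exact Ideal.mul_mem_mul (Ideal.mem_map_of_mem _ (hp𝔭 i)) (hmemI i)

end FlatInf


section Nak

variable {R P : Type u} [CommRing R] [CommRing P] [Algebra R P]

/-- **Nakayama step**: if `P/I` is `R`-flat, `I` is finitely generated and `I ⊆ (l) + 𝔭P` locally
at `𝔮` (with `l ⊆ I`), then `I = (l)` on a basic open neighbourhood of `𝔮`. -/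
theorem nak_step (I : Ideal P) (hI : I.FG) [Module.Flat R (P ⧸ I)] (𝔮 : Ideal P) [h𝔮 : 𝔮.IsPrime]
    (l : List P) (hl : ∀ a ∈ l, a ∈ I)
    (h : ∀ a ∈ I, ∃ s ∉ 𝔮, s * a ∈
      (𝔮.comap (algebraMap R P)).map (algebraMap R P) ⊔ Ideal.ofList l) :
    ∃ g ∉ 𝔮, ∀ a ∈ I, g * a ∈ Ideal.ofList l := by
  classical
  set 𝔭P := (𝔮.comap (algebraMap R P)).map (algebraMap R P) with h𝔭P
  have h𝔭P𝔮 : 𝔭P ≤ 𝔮 := Ideal.map_comap_le
  have hKI : Ideal.ofList l ≤ I := by
    rw [Ideal.ofList, Ideal.span_le]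
    exact fun a ha => hl a ha
  let A := Localization.AtPrime 𝔮
  have hNN : I.map (algebraMap P A) ≤ (Ideal.ofList l).map (algebraMap P A) ⊔
      IsLocalRing.maximalIdeal A • I.map (algebraMap P A) := by
    rw [Ideal.map_le_iff_le_comap]
    intro a ha
    rw [Ideal.mem_comap]
    obtain ⟨s, hs, hsa⟩ := h a ha
    obtain ⟨b, hb, k, hk, hbk⟩ := Submodule.mem_sup.mp hsa
    have hbI : b ∈ I := by
      have : b = s * a - k := by rw [← hbk]; ring
      rw [this]
      exact I.sub_mem (I.mul_mem_left _ ha) (hKI hk)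
    have hb2 : b ∈ 𝔭P * I := inf_le_mul_of_flat (R := R) I _ ⟨hb, hbI⟩
    have hu : IsUnit (algebraMap P A s) :=
      IsLocalization.map_units A (⟨s, hs⟩ : 𝔮.primeCompl)
    have h1 : algebraMap P A (s * a) ∈ (Ideal.ofList l).map (algebraMap P A) ⊔
        IsLocalRing.maximalIdeal A • I.map (algebraMap P A) := by
      rw [← hbk, map_add, add_comm]
      refine Submodule.add_mem_sup (Ideal.mem_map_of_mem _ hk) ?_
      have h2 : algebraMap P A b ∈ (𝔭P * I).map (algebraMap P A) := Ideal.mem_map_of_mem _ hb2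
      rw [Ideal.map_mul] at h2
      rw [smul_eq_mul]
      refine Ideal.mul_mono_left ?_ h2
      rw [← Localization.AtPrime.map_eq_maximalIdeal]
      exact Ideal.map_mono h𝔭P𝔮
    rw [map_mul] at h1
    exact (Ideal.unit_mul_mem_iff_mem _ hu).mp h1
  have hjac : IsLocalRing.maximalIdeal A ≤ Ideal.jacobson (⊥ : Ideal A) := by
    rw [IsLocalRing.jacobson_eq_maximalIdeal ⊥ bot_ne_top]
  have hle : I.map (algebraMap P A) ≤ (Ideal.ofList l).map (algebraMap P A) :=
    Submodule.le_of_le_smul_of_le_jacobson_bot (Ideal.FG.map hI _) hjac hNN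
  obtain ⟨T, hT⟩ := hI
  have hex : ∀ t ∈ T, ∃ s ∉ 𝔮, s * t ∈ Ideal.ofList l := by
    intro t ht
    have h1 : algebraMap P A t ∈ (Ideal.ofList l).map (algebraMap P A) :=
      hle (Ideal.mem_map_of_mem _ (hT ▸ Ideal.subset_span ht))
    rw [IsLocalization.algebraMap_mem_map_algebraMap_iff 𝔮.primeCompl] at h1
    obtain ⟨s, hs, hst⟩ := h1
    exact ⟨s, hs, hst⟩
  choose! sfun hsfun hsmem using hex
  refine ⟨∏ t ∈ T, sfun t, ?_, ?_⟩
  · intro hmem
    rw [Ideal.IsPrime.prod_mem_iff] at hmem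
    obtain ⟨t, ht, hmem⟩ := hmem
    exact hsfun t ht hmem
  · intro a ha
    rw [← hT] at ha
    induction ha using Submodule.span_induction with
    | mem t ht =>
      obtain ⟨w, hw⟩ := Finset.dvd_prod_of_mem sfun ht
      rw [hw, mul_comm (sfun t) w, mul_assoc]
      exact Ideal.mul_mem_left _ _ (hsmem t ht)
    | zero => rw [mul_zero]; exact Ideal.zero_mem _
    | add x y _ _ hx hy => rw [mul_add]; exact Ideal.add_mem _ hx hy
    | smul c x _ hx =>
      rw [smul_eq_mul, mul_left_comm]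
      exact Ideal.mul_mem_left _ _ hx

end Nak

end Groth.Agent.Helper2.FCR
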