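import Mathlib
import Groth.Agent.Lib.Helper2.FCR5

/-!
# Fibre criterion: from a model of the local ring of the fibre
-/

set_option autoImplicit false
universe u

namespace Groth.Agent.Helper2.FCR

/-- `ψ : P → L` exhibits `L` as the local ring of the fibre of `P` over `R` at the prime `𝔮`,
i.e. as the localization of `P/𝔭P` at `𝔮` (`𝔭 = 𝔮 ∩ R`), in elementwise terms. -/
structure FibModel (R : Type u) {P : Type u} [CommRing R] [CommRing P] [Algebra R P]
    (𝔮 : Ideal P) {L : Type u} [CommRing L] (ψ : P →+* L) : Prop where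
  unit : ∀ s, s ∉ 𝔮 → IsUnit (ψ s)
  surj : ∀ y : L, ∃ s, s ∉ 𝔮 ∧ ∃ x : P, ψ s * y = ψ x
  ker : ∀ x : P, ψ x = 0 →
    ∃ s, s ∉ 𝔮 ∧ s * x ∈ (𝔮.comap (algebraMap R P)).map (algebraMap R P)
  ker' : ∀ x ∈ (𝔮.comap (algebraMap R P)).map (algebraMap R P), ψ x = 0

namespace FibModel

variable {R P L : Type u} [CommRing R] [CommRing P] [Algebra R P] [CommRing L]
  {𝔮 : Ideal P} [h𝔮 : 𝔮.IsPrime] {ψ : P →+* L} (hM : FibModel R 𝔮 ψ)

include hM h𝔮

theorem lift_mem (K : Ideal P) (r : L) (hr : r ∈ K.map ψ) :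
    ∃ s, s ∉ 𝔮 ∧ ∃ f ∈ K, ψ s * r = ψ f := by
  have h1 : (1 : P) ∉ 𝔮 := fun h => h𝔮.ne_top ((Ideal.eq_top_iff_one _).mpr h)
  rw [Ideal.map, Ideal.span] at hr
  induction hr using Submodule.span_induction with
  | mem r hr =>
    obtain ⟨a, ha, rfl⟩ := hr
    exact ⟨1, h1, a, ha, by rw [map_one, one_mul]⟩
  | zero => exact ⟨1, h1, 0, K.zero_mem, by rw [map_zero, mul_zero]⟩
  | add r₁ r₂ _ _ h₁ h₂ =>
    obtain ⟨s₁, hs₁, f₁, hf₁, e₁⟩ := h₁
    obtain ⟨s₂, hs₂, f₂, hf₂, e₂⟩ := h₂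
    refine ⟨s₁ * s₂, fun h => (h𝔮.mem_or_mem h).elim hs₁ hs₂, s₂ * f₁ + s₁ * f₂,
      K.add_mem (K.mul_mem_left _ hf₁) (K.mul_mem_left _ hf₂), ?_⟩
    rw [map_add, map_mul, map_mul, map_mul, ← e₁, ← e₂]
    ring
  | smul y r _ h₁ =>
    obtain ⟨s₁, hs₁, f₁, hf₁, e₁⟩ := h₁
    obtain ⟨t, ht, x, hx⟩ := hM.surj y
    refine ⟨t * s₁, fun h => (h𝔮.mem_or_mem h).elim ht hs₁, x * f₁, K.mul_mem_left _ hf₁, ?_⟩
    rw [map_mul, map_mul, ← e₁, ← hx, smul_eq_mul]
    ring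

theorem pullback_mem (K : Ideal P) (x : P) (hx : ψ x ∈ K.map ψ) :
    ∃ s, s ∉ 𝔮 ∧ s * x ∈ (𝔮.comap (algebraMap R P)).map (algebraMap R P) ⊔ K := by
  obtain ⟨s, hs, f, hf, e⟩ := hM.lift_mem K _ hx
  have h0 : ψ (s * x - f) = 0 := by rw [map_sub, map_mul, e, sub_self]
  obtain ⟨t, ht, hmem⟩ := hM.ker _ h0
  refine ⟨t * s, fun h => (h𝔮.mem_or_mem h).elim ht hs, ?_⟩
  have h2 : t * s * x = t * (s * x - f) + t * f := by ring
  rw [h2]
  exact Submodule.add_mem_sup hmem (K.mul_mem_left _ hf)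

theorem exists_lifts (I : Ideal P) : ∀ rs : List L, (∀ r ∈ rs, r ∈ I.map ψ) →
    ∃ l : List P, (∀ a ∈ l, a ∈ I) ∧
      List.Forall₂ (fun a r => ∃ s, s ∉ 𝔮 ∧ ψ a = ψ s * r) l rs
  | [], _ => ⟨[], by simp, List.Forall₂.nil⟩
  | r :: rs, h => by
    obtain ⟨l, hl, hfa⟩ := exists_lifts I rs (fun r' hr' => h r' (by simp [hr']))
    obtain ⟨s, hs, f, hf, e⟩ := hM.lift_mem I r (h r (by simp))
    refine ⟨f :: l, ?_, List.Forall₂.cons ⟨s, hs, e.symm⟩ hfa⟩
    intro a ha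
    rcases List.mem_cons.mp ha with rfl | ha
    · exact hf
    · exact hl a ha

theorem map_ofList_eq {l : List P} {rs : List L}
    (h : List.Forall₂ (fun a r => ∃ s, s ∉ 𝔮 ∧ ψ a = ψ s * r) l rs) :
    (Ideal.ofList l).map ψ = Ideal.ofList rs := by
  induction h with
  | nil => rw [Ideal.ofList_nil, Ideal.ofList_nil, Ideal.map_bot]
  | cons hab _ ih =>
    obtain ⟨s, hs, e⟩ := hab
    rw [Ideal.ofList_cons, Ideal.ofList_cons, Ideal.map_sup, ih, Ideal.map_span,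
      Set.image_singleton, e, Ideal.span_singleton_mul_left_unit (hM.unit s hs)]

/-- the lifts form a fibrewise regular sequence -/
theorem hFib_of_lifts {l : List P} {rs : List L}
    (h : List.Forall₂ (fun a r => ∃ s, s ∉ 𝔮 ∧ ψ a = ψ s * r) l rs)
    (hreg : RingTheory.Sequence.IsWeaklyRegular L rs) : HFib R 𝔮 l := by
  intro i hi x hx
  obtain ⟨s, hs, hmem⟩ := hx
  obtain ⟨hlen, hget⟩ := List.forall₂_iff_get.mp h
  have hi' : i < rs.length := hlen ▸ hi
  obtain ⟨si, hsi, ei⟩ := hget i hi hi'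
  have htake := hM.map_ofList_eq (List.forall₂_take i h)
  -- apply `ψ`
  have h1 : ψ (s * (l[i] * x)) ∈ Ideal.ofList (rs.take i) := by
    have h2 := Ideal.mem_map_of_mem ψ hmem
    rw [Ideal.map_sup, htake] at h2
    have h3 : ((𝔮.comap (algebraMap R P)).map (algebraMap R P)).map ψ = ⊥ := by
      rw [eq_bot_iff, Ideal.map_le_iff_le_comap]
      intro y hy
      rw [Ideal.mem_comap, Ideal.mem_bot]
      exact hM.ker' y hy
    rw [h3, bot_sup_eq] at h2
    exact h2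
  have h4 : rs[i] * ψ x ∈ Ideal.ofList (rs.take i) := by
    have e1 : ψ (s * (l[i] * x)) = (ψ s * ψ si) * (rs[i] * ψ x) := by
      rw [map_mul, map_mul]
      have : ψ l[i] = ψ si * rs[i] := ei
      rw [this]
      ring
    rw [e1] at h1
    exact (Ideal.unit_mul_mem_iff_mem _ ((hM.unit s hs).mul (hM.unit si hsi))).mp h1
  have hreg' := (RingTheory.Sequence.isWeaklyRegular_iff L rs).mp hreg i hi'
  rw [isSMulRegular_on_quot_iff_lsmul_comap_le] at hreg'
  have h5 : ψ x ∈ (Ideal.ofList (rs.take i) • (⊤ : Submodule L L)) := by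
    apply hreg'
    rw [Submodule.mem_comap, LinearMap.lsmul_apply, smul_eq_mul, Ideal.mul_top, smul_eq_mul]
    exact h4
  rw [smul_eq_mul, Ideal.mul_top, ← htake] at h5
  exact hM.pullback_mem _ x h5

/-- **Model form of the hypotheses**: if `I·L` is generated by a weakly regular sequence of `L`,
there are lifts in `I` forming a fibrewise regular sequence and generating `I` modulo `𝔭P`
locally at `𝔮`. -/
theorem exists_hFib (I : Ideal P) (rs : List L)
    (hreg : RingTheory.Sequence.IsWeaklyRegular L rs) (hI : Ideal.ofList rs = I.map ψ) :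
    ∃ l : List P, (∀ a ∈ l, a ∈ I) ∧ HFib R 𝔮 l ∧
      ∀ a ∈ I, ∃ s, s ∉ 𝔮 ∧
        s * a ∈ (𝔮.comap (algebraMap R P)).map (algebraMap R P) ⊔ Ideal.ofList l := by
  have hrs : ∀ r ∈ rs, r ∈ I.map ψ := by
    intro r hr
    rw [← hI]
    exact Ideal.subset_span hr
  obtain ⟨l, hl, hfa⟩ := hM.exists_lifts I rs hrs
  refine ⟨l, hl, hM.hFib_of_lifts hfa hreg, ?_⟩
  intro a ha
  apply hM.pullback_mem
  rw [hM.map_ofList_eq hfa, hI]
  exact Ideal.mem_map_of_mem _ ha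

end FibModel


section App

theorem wr_mul {E : Type u} [CommRing E] (g h : E) (l : List E) (hw : WR g l) : WR (g * h) l := by
  intro i hi x hx
  obtain ⟨m, hm⟩ := hx
  have h1 : g ^ m * (l[i] * (h ^ m * x)) = (g * h) ^ m * (l[i] * x) := by
    rw [mul_pow]; ring
  obtain ⟨m', hm'⟩ := hw i hi (h ^ m * x) ⟨m, by rw [h1]; exact hm⟩
  refine ⟨m + m', ?_⟩
  have h2 : (g * h) ^ (m + m') * x = (g ^ m * h ^ m') * (g ^ m' * (h ^ m * x)) := by
    rw [mul_pow, pow_add, pow_add]; ring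
  rw [h2]
  exact Ideal.mul_mem_left _ _ hm'

variable {R P L : Type u} [CommRing R] [CommRing P] [Algebra R P]
  [Algebra.FinitePresentation R P] [CommRing L]

/-- **Fibre criterion for Koszul-regular ideals.** Let `P` be a finitely presented `R`-algebra,
`I` a finitely generated ideal with `P/I` flat over `R`, `𝔮 ⊇ I` a prime at which `P` is flat
over `R`, and suppose the extension of `I` to the local ring `L` of the fibre at `𝔮` is generated
by a weakly regular sequence.  Then `I` is generated by a Koszul-regular sequence on a basic open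
neighbourhood of `𝔮`. -/
theorem fcr_app (I : Ideal P) (hI : I.FG) [Module.Flat R (P ⧸ I)] (𝔮 : Ideal P) [h𝔮 : 𝔮.IsPrime]
    [Module.Flat R (LocalizedModule 𝔮.primeCompl P)]
    (ψ : P →+* L) (hM : FibModel R 𝔮 ψ) (rs : List L)
    (hreg : RingTheory.Sequence.IsWeaklyRegular L rs) (hIrs : Ideal.ofList rs = I.map ψ)
    (hI𝔮 : I ≤ 𝔮) :
    ∃ g, g ∉ 𝔮 ∧ ∃ l : List (Localization.Away g),
      LCI.IsKoszulRegularSeq (Localization.Away g) l ∧
      I.map (algebraMap P (Localization.Away g)) = Ideal.span {x | x ∈ l} := by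
  obtain ⟨l₀, hl₀, hH, hcont⟩ := hM.exists_hFib I rs hreg hIrs
  obtain ⟨g₁, hg₁, hwr⟩ := exists_wr (R := R) l₀.length P 𝔮 l₀ rfl
    (fun a ha => hI𝔮 (hl₀ a ha)) hH
  obtain ⟨g₂, hg₂, hnak⟩ := nak_step (R := R) I hI 𝔮 l₀ hl₀ (fun a ha => by
    obtain ⟨s, hs, h⟩ := hcont a ha
    exact ⟨s, hs, h⟩)
  refine ⟨g₁ * g₂, fun h => (h𝔮.mem_or_mem h).elim hg₁ hg₂,
    l₀.map (algebraMap P (Localization.Away (g₁ * g₂))), krSeq_of_wr _ _ (wr_mul g₁ g₂ l₀ hwr), ?_⟩
  have hspan : Ideal.span {x | x ∈ l₀.map (algebraMap P (Localization.Away (g₁ * g₂)))} =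
      (Ideal.ofList l₀).map (algebraMap P (Localization.Away (g₁ * g₂))) := by
    rw [Ideal.map_ofList]
  rw [hspan]
  apply le_antisymm
  · rw [Ideal.map_le_iff_le_comap]
    intro a ha
    rw [Ideal.mem_comap]
    have h1 : algebraMap P (Localization.Away (g₁ * g₂)) (g₂ * a) ∈
        (Ideal.ofList l₀).map (algebraMap P (Localization.Away (g₁ * g₂))) :=
      Ideal.mem_map_of_mem _ (hnak a ha)
    rw [map_mul] at h1
    have hu : IsUnit (algebraMap P (Localization.Away (g₁ * g₂)) g₂) := by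
      have h2 := IsLocalization.Away.algebraMap_isUnit (S := Localization.Away (g₁ * g₂)) (g₁ * g₂)
      rw [map_mul] at h2
      exact isUnit_of_mul_isUnit_right h2
    exact (Ideal.unit_mul_mem_iff_mem _ hu).mp h1
  · apply Ideal.map_mono
    rw [Ideal.ofList, Ideal.span_le]
    exact fun a ha => hl₀ a ha

end App

end Groth.Agent.Helper2.FCR
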