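import Mathlib

/-!
# The fibre of a polynomial presentation over a residue field
-/

set_option autoImplicit false
universe u

namespace Groth.Agent.Helper2.SyntLCI

open MvPolynomial TensorProduct

section Poly

variable {R : Type u} [CommRing R] (n : ℕ) (p : Ideal R) [hp : p.IsPrime]

/-- the reduction map `R[x] → κ(p)[x]` -/
noncomputable abbrev mu : MvPolynomial (Fin n) R →+* MvPolynomial (Fin n) p.ResidueField :=
  MvPolynomial.map (algebraMap R p.ResidueField)

theorem exists_field_denom (a : p.ResidueField) :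
    ∃ t, t ∉ p ∧ ∃ a₁ : R, algebraMap R p.ResidueField t * a = algebraMap R p.ResidueField a₁ := by
  obtain ⟨z, rfl⟩ := IsLocalRing.residue_surjective a
  obtain ⟨a₁, s, rfl⟩ := IsLocalization.exists_mk'_eq p.primeCompl z
  refine ⟨s.1, s.2, a₁, ?_⟩
  rw [IsScalarTower.algebraMap_apply R (Localization.AtPrime p) p.ResidueField,
    IsScalarTower.algebraMap_apply R (Localization.AtPrime p) p.ResidueField,
    IsLocalRing.ResidueField.algebraMap_eq, ← map_mul, IsLocalization.mk'_spec']

theorem exists_clear_denom (y : MvPolynomial (Fin n) p.ResidueField) :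
    ∃ t, t ∉ p ∧ ∃ Y : MvPolynomial (Fin n) R,
      C (algebraMap R p.ResidueField t) * y = mu n p Y := by
  induction y using MvPolynomial.induction_on with
  | C a =>
    obtain ⟨t, ht, a₁, e⟩ := exists_field_denom p a
    refine ⟨t, ht, C a₁, ?_⟩
    rw [← C_mul, e, map_C]
  | add y₁ y₂ h₁ h₂ =>
    obtain ⟨t₁, ht₁, Y₁, e₁⟩ := h₁
    obtain ⟨t₂, ht₂, Y₂, e₂⟩ := h₂
    refine ⟨t₁ * t₂, fun h => (hp.mem_or_mem h).elim ht₁ ht₂, C t₂ * Y₁ + C t₁ * Y₂, ?_⟩
    have h3 : mu n p (C t₂ * Y₁ + C t₁ * Y₂) =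
        C (algebraMap R p.ResidueField t₂) * mu n p Y₁ +
          C (algebraMap R p.ResidueField t₁) * mu n p Y₂ := by
      simp only [map_add, map_mul, map_C]
    rw [h3, ← e₁, ← e₂, map_mul, C_mul]
    ring
  | mul_X y i h =>
    obtain ⟨t, ht, Y, e⟩ := h
    refine ⟨t, ht, Y * X i, ?_⟩
    rw [map_mul, ← e, map_X, mul_assoc]

theorem mu_eq_zero_iff (Y : MvPolynomial (Fin n) R) :
    mu n p Y = 0 ↔ Y ∈ p.map (algebraMap R (MvPolynomial (Fin n) R)) := by
  rw [← RingHom.mem_ker, MvPolynomial.ker_map, Ideal.ker_algebraMap_residueField]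
  rfl

theorem isUnit_C_of_notMem (t : R) (ht : t ∉ p) :
    IsUnit (C (algebraMap R p.ResidueField t) : MvPolynomial (Fin n) p.ResidueField) := by
  apply IsUnit.map
  rw [isUnit_iff_ne_zero, ne_eq, Ideal.algebraMap_residueField_eq_zero]
  exact ht

end Poly

section Ker

variable {R S : Type u} [CommRing R] [CommRing S] [Algebra R S] (p : Ideal R) [hp : p.IsPrime]

/-- the kernel of `S → κ(p) ⊗ S` -/
theorem exists_of_one_tmul_eq_zero (s : S) (h : (1 : p.ResidueField) ⊗ₜ[R] s = 0) :
    ∃ t, t ∉ p ∧ algebraMap R S t * s ∈ p.map (algebraMap R S) := by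
  letI : Algebra S (p.Fiber S) := Algebra.TensorProduct.rightAlgebra
  let e := Ideal.Fiber.algEquivAux₁ (S := S) p
  have h1 : e (algebraMap S (p.Fiber S) s) = 0 := by
    have : algebraMap S (p.Fiber S) s = (1 : p.ResidueField) ⊗ₜ[R] s := rfl
    rw [this, h, map_zero]
  rw [e.commutes, IsScalarTower.algebraMap_apply S
      (Localization (Algebra.algebraMapSubmonoid S p.primeCompl)),
    Ideal.Quotient.algebraMap_eq, Ideal.Quotient.eq_zero_iff_mem,
    IsLocalization.algebraMap_mem_map_algebraMap_iff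
      (Algebra.algebraMapSubmonoid S p.primeCompl)] at h1
  obtain ⟨m, ⟨t, ht, rfl⟩, hm⟩ := h1
  exact ⟨t, ht, hm⟩

end Ker


section Pres

variable {R S : Type u} [CommRing R] [CommRing S] [Algebra R S] (n : ℕ)
  (φ : MvPolynomial (Fin n) R →ₐ[R] S) (p : Ideal R) [hp : p.IsPrime]

/-- the induced presentation of the fibre ring -/
noncomputable def phik : MvPolynomial (Fin n) p.ResidueField →ₐ[p.ResidueField] p.Fiber S :=
  MvPolynomial.aeval (fun i => (1 : p.ResidueField) ⊗ₜ[R] φ (X i))

theorem phik_mu (Y : MvPolynomial (Fin n) R) :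
    phik n φ p (mu n p Y) = (1 : p.ResidueField) ⊗ₜ[R] φ Y := by
  have h : ((phik n φ p).toRingHom.comp (mu n p)) =
      (Algebra.TensorProduct.includeRight (R := R) (A := p.ResidueField) (B := S)).toRingHom.comp
        φ.toRingHom := by
    apply MvPolynomial.ringHom_ext
    · intro r
      simp only [RingHom.comp_apply, AlgHom.toRingHom_eq_coe, RingHom.coe_coe, map_C, phik,
        aeval_C, Algebra.TensorProduct.includeRight_apply,
        Algebra.TensorProduct.algebraMap_apply]
      have h1 : φ (C r) = algebraMap R S r := φ.commutes r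
      rw [h1, Algebra.algebraMap_self, RingHom.id_apply, Algebra.algebraMap_eq_smul_one r,
        Algebra.algebraMap_eq_smul_one r, TensorProduct.tmul_smul, TensorProduct.smul_tmul']
    · intro i
      simp [phik]
  exact congrArg (fun f => f Y) h

end Pres


section Pres2

variable {R S : Type u} [CommRing R] [CommRing S] [Algebra R S] (n : ℕ)
  (φ : MvPolynomial (Fin n) R →ₐ[R] S) (hφ : Function.Surjective φ) (p : Ideal R) [hp : p.IsPrime]

theorem phik_C_mul_mu (a : p.ResidueField) (Y : MvPolynomial (Fin n) R) :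
    phik n φ p (C a * mu n p Y) = a ⊗ₜ[R] φ Y := by
  rw [map_mul, phik_mu]
  have h1 : phik n φ p (C a) = algebraMap p.ResidueField (p.Fiber S) a := by
    rw [← MvPolynomial.algebraMap_eq, AlgHom.commutes]
  rw [h1, Algebra.TensorProduct.algebraMap_apply, Algebra.TensorProduct.tmul_mul_tmul,
    Algebra.algebraMap_self, RingHom.id_apply, mul_one, one_mul]

include hφ in
theorem phik_surjective : Function.Surjective (phik n φ p) := by
  intro z
  induction z using TensorProduct.induction_on with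
  | zero => exact ⟨0, map_zero _⟩
  | tmul a s =>
    obtain ⟨Y, rfl⟩ := hφ s
    exact ⟨C a * mu n p Y, phik_C_mul_mu n φ p a Y⟩
  | add z₁ z₂ h₁ h₂ =>
    obtain ⟨y₁, rfl⟩ := h₁
    obtain ⟨y₂, rfl⟩ := h₂
    exact ⟨y₁ + y₂, map_add _ _ _⟩

include hφ in
/-- the kernel of the presentation of the fibre is the extension of the kernel -/
theorem ker_phik : RingHom.ker (phik n φ p).toRingHom = (RingHom.ker φ.toRingHom).map (mu n p) := by
  apply le_antisymm
  · intro y hy
    rw [RingHom.mem_ker] at hy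
    obtain ⟨t, ht, Y, e⟩ := exists_clear_denom n p y
    have h1 : (1 : p.ResidueField) ⊗ₜ[R] φ Y = 0 := by
      rw [← phik_mu, ← e]
      have : (phik n φ p) (C ((algebraMap R p.ResidueField) t) * y) =
          (phik n φ p) (C ((algebraMap R p.ResidueField) t)) * (phik n φ p).toRingHom y :=
        map_mul _ _ _
      rw [this, hy, mul_zero]
    obtain ⟨t', ht', hmem⟩ := exists_of_one_tmul_eq_zero p (φ Y) h1
    -- `t' • φ Y ∈ pS = φ(pP)`
    have h2 : φ (C t' * Y) ∈ (p.map (algebraMap R (MvPolynomial (Fin n) R))).map φ.toRingHom := by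
      rw [Ideal.map_map]
      have h3 : φ.toRingHom.comp (algebraMap R (MvPolynomial (Fin n) R)) = algebraMap R S := by
        ext r
        exact φ.commutes r
      rw [h3, map_mul]
      have h4 : φ (C t') = algebraMap R S t' := φ.commutes t'
      rw [h4]
      exact hmem
    rw [Ideal.mem_map_iff_of_surjective φ.toRingHom hφ] at h2
    obtain ⟨Z, hZ, hZe⟩ := h2
    have h5 : C t' * Y - Z ∈ RingHom.ker φ.toRingHom := by
      rw [RingHom.mem_ker, map_sub, sub_eq_zero]
      exact hZe.symm
    have h6 : mu n p (C t' * Y) ∈ (RingHom.ker φ.toRingHom).map (mu n p) := by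
      have h7 : mu n p (C t' * Y) = mu n p (C t' * Y - Z) := by
        rw [map_sub, (mu_eq_zero_iff n p Z).mpr hZ, sub_zero]
      rw [h7]
      exact Ideal.mem_map_of_mem _ h5
    rw [map_mul, ← e, map_C, ← mul_assoc] at h6
    exact (Ideal.unit_mul_mem_iff_mem _
      ((isUnit_C_of_notMem n p t' ht').mul (isUnit_C_of_notMem n p t ht))).mp h6
  · rw [Ideal.map_le_iff_le_comap]
    intro Y hY
    rw [Ideal.mem_comap, RingHom.mem_ker]
    have : (phik n φ p).toRingHom (mu n p Y) = (1 : p.ResidueField) ⊗ₜ[R] φ Y := phik_mu n φ p Y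
    rw [this]
    have hY0 : φ Y = 0 := hY
    rw [hY0, TensorProduct.tmul_zero]

end Pres2

end Groth.Agent.Helper2.SyntLCI
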