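import Mathlib
import Groth.Agent.Lib.Helper2.SyntLCI1
import Groth.Agent.Lib.Helper2.FCR6

/-!
# The local ring of the fibre of a polynomial ring as a `FibModel`
-/

set_option autoImplicit false
universe u

namespace Groth.Agent.Helper2.SyntLCI

open MvPolynomial Groth.Agent.Helper2.FCR

section Model

variable {R : Type u} [CommRing R] (n : ℕ) (p : Ideal R) [hp : p.IsPrime]
  (q' : Ideal (MvPolynomial (Fin n) p.ResidueField)) [hq' : q'.IsPrime]

theorem C_notMem (t : R) (ht : t ∉ p) :
    (C (algebraMap R p.ResidueField t) : MvPolynomial (Fin n) p.ResidueField) ∉ q' := by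
  intro h
  exact hq'.ne_top (Ideal.eq_top_of_isUnit_mem _ h (isUnit_C_of_notMem n p t ht))

theorem comap_comap_eq : (q'.comap (mu n p)).comap (algebraMap R (MvPolynomial (Fin n) R)) = p := by
  ext r
  rw [Ideal.mem_comap, Ideal.mem_comap, MvPolynomial.algebraMap_eq, map_C]
  constructor
  · intro h
    by_contra hr
    exact C_notMem n p q' r hr h
  · intro hr
    rw [Ideal.algebraMap_residueField_eq_zero.mpr hr, map_zero]
    exact q'.zero_mem

/-- the map `R[x] → κ(p)[x]_{q'}` -/
noncomputable abbrev psi : MvPolynomial (Fin n) R →+* Localization.AtPrime q' :=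
  (algebraMap (MvPolynomial (Fin n) p.ResidueField) (Localization.AtPrime q')).comp (mu n p)

theorem fibModel_psi : FibModel R (q'.comap (mu n p)) (psi n p q') := by
  have hpq := comap_comap_eq n p q'
  refine ⟨?_, ?_, ?_, ?_⟩
  · intro s hs
    exact IsLocalization.map_units (Localization.AtPrime q') (⟨mu n p s, hs⟩ : q'.primeCompl)
  · intro y
    obtain ⟨b, s', rfl⟩ := IsLocalization.exists_mk'_eq q'.primeCompl y
    obtain ⟨t₁, ht₁, B, eB⟩ := exists_clear_denom n p b
    obtain ⟨t₂, ht₂, S', eS⟩ := exists_clear_denom n p (s' : MvPolynomial (Fin n) p.ResidueField)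
    refine ⟨C t₁ * S', ?_, C t₂ * B, ?_⟩
    · intro hmem
      rw [Ideal.mem_comap, map_mul, map_C, ← eS] at hmem
      rcases hq'.mem_or_mem hmem with h | h
      · exact C_notMem n p q' t₁ ht₁ h
      · rcases hq'.mem_or_mem h with h | h
        · exact C_notMem n p q' t₂ ht₂ h
        · exact s'.2 h
    · simp only [psi, RingHom.comp_apply]
      rw [map_mul (mu n p), map_mul (mu n p), map_C, map_C, ← eS, ← eB]
      rw [map_mul, map_mul, map_mul, map_mul]
      have h1 : algebraMap (MvPolynomial (Fin n) p.ResidueField) (Localization.AtPrime q') s' *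
          IsLocalization.mk' (Localization.AtPrime q') b s' =
          algebraMap (MvPolynomial (Fin n) p.ResidueField) (Localization.AtPrime q') b :=
        IsLocalization.mk'_spec' _ _ _
      calc _ = algebraMap _ (Localization.AtPrime q') (C (algebraMap R p.ResidueField t₁)) *
            algebraMap _ (Localization.AtPrime q') (C (algebraMap R p.ResidueField t₂)) *
            (algebraMap (MvPolynomial (Fin n) p.ResidueField) (Localization.AtPrime q') s' *
              IsLocalization.mk' (Localization.AtPrime q') b s') := by ring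
        _ = _ := by rw [h1]; ring
  · intro x hx
    have hinj : Function.Injective
        (algebraMap (MvPolynomial (Fin n) p.ResidueField) (Localization.AtPrime q')) :=
      IsLocalization.injective _ (Ideal.primeCompl_le_nonZeroDivisors q')
    have h0 : mu n p x = 0 := by
      apply hinj
      rw [map_zero]
      exact hx
    refine ⟨1, ?_, ?_⟩
    · intro h1
      exact (Ideal.comap_isPrime (mu n p) q').ne_top ((Ideal.eq_top_iff_one _).mpr h1)
    · rw [one_mul, hpq]
      exact (mu_eq_zero_iff n p x).mp h0
  · intro x hx
    rw [hpq] at hx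
    simp only [psi, RingHom.comp_apply]
    rw [(mu_eq_zero_iff n p x).mpr hx, map_zero]

end Model

end Groth.Agent.Helper2.SyntLCI
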