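import Mathlib
import Groth.Prelude.Def_CInt
import Groth.Agent.Lib.Helper2.H1Desc2
import Groth.Agent.Lib.Helper21.KoszH1
import Groth.Agent.Lib.Helper21.KL5

/-!
# Koszul-regular sequences in Noetherian local rings are regular
-/

set_option autoImplicit false
universe u

namespace Groth.Agent.Helper2.SyntLCI

open Groth.Agent.Helper21.KL

section KRReg

variable {A : Type u} [CommRing A]

theorem koszulH1Zero_of_isH1Regular {c : ℕ} (f : Fin c → A) (h : CAlgX.IsH1Regular f) :
    CInt.KoszulH1Zero f A := by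
  classical
  intro m hm
  have hm' : ∑ i, m i * f i = 0 := by
    rw [← hm]
    exact Finset.sum_congr rfl fun i _ => by rw [smul_eq_mul, mul_comm]
  have h1 := h m hm'
  refine Submodule.span_le.mpr ?_ h1
  rintro v ⟨i, j, rfl⟩
  apply Submodule.subset_span
  refine ⟨i, j, 1, ?_⟩
  ext k
  simp only [Pi.sub_apply, Pi.smul_apply, smul_eq_mul, Pi.single_apply]
  split_ifs <;> simp

theorem isWeaklyRegular_of_kr_local [IsNoetherianRing A] [IsLocalRing A] (l : List A)
    (hl : ∀ a ∈ l, a ∈ IsLocalRing.maximalIdeal A) (h : LCI.IsKoszulRegularSeq A l) :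
    RingTheory.Sequence.IsWeaklyRegular A l := by
  have h1 : AcycAt l A (-1) := (isKoszulRegularSeq_iff l).mp h (-1) (by decide)
  have h2 : CAlgX.IsH1Regular l.get := (Groth.Agent.Helper2.H1Desc.h1_iff_acycAt l).mpr h1
  have h3 := koszulH1Zero_of_isH1Regular l.get h2
  have h4 := Groth.Agent.Helper21.KH1.main (IsLocalRing.maximalIdeal A) A
    (fun N N' => inferInstance) l.length l.get (fun i => hl _ (List.get_mem l i)) h3
  rwa [List.ofFn_get] at h4

end KRReg

end Groth.Agent.Helper2.SyntLCI
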