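import Mathlib
import Groth.Prelude.Def_CAlg
import Groth.Agent.Lib.Helper20.CMInf2
import Groth.Agent.S2680
import Groth.Agent.Lib.Helper14.RegularLocalization
import Groth.Agent.Lib.Lead.Depth12

set_option autoImplicit false
universe u

namespace Groth.Agent.Lib.Helper2.CMGlue

open LocCoh

section General

variable {R : Type*} [CommRing R]

theorem ringKrullDim_quotient_eq_coheight (p : PrimeSpectrum R) :
    ringKrullDim (R ⧸ p.asIdeal) = Order.coheight p := by
  rw [ringKrullDim_quotient, Order.coheight_eq_krullDim_Ici]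
  have : PrimeSpectrum.zeroLocus (p.asIdeal : Set R) = Set.Ici p := by
    ext q
    rw [PrimeSpectrum.mem_zeroLocus, Set.mem_Ici, ← PrimeSpectrum.asIdeal_le_asIdeal,
      SetLike.coe_subset_coe]
  rw [this]

theorem comap_strictMono {A B : Type*} [CommRing A] [CommRing B] (f : A →+* B)
    (hf : Function.Surjective f) : StrictMono (PrimeSpectrum.comap f) :=
  Monotone.strictMono_of_injective
    (fun _ _ h => Ideal.comap_mono h) (PrimeSpectrum.comap_injective_of_surjective f hf)

theorem height_le_height_comap {A B : Type*} [CommRing A] [CommRing B] (f : A →+* B)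
    (hf : Function.Surjective f) (q : Ideal B) [hq : q.IsPrime] :
    q.height ≤ (q.comap f).height := by
  have h1 := Order.height_le_height_apply_of_strictMono _ (comap_strictMono f hf)
    (⟨q, hq⟩ : PrimeSpectrum B)
  rw [← PrimeSpectrum.height_eq_orderHeight, ← PrimeSpectrum.height_eq_orderHeight] at h1
  exact h1

theorem height_add_coheight_le {α : Type*} [Preorder α] (a : α) :
    ((Order.height a + Order.coheight a : ℕ∞) : WithBot ℕ∞) ≤ Order.krullDim α := by
  haveI : Nonempty α := ⟨a⟩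
  rw [Order.krullDim_eq_iSup_height_add_coheight_of_nonempty, WithBot.coe_le_coe]
  exact le_iSup (fun a => Order.height a + Order.coheight a) a

/-- `ht p + dim R/p ≤ dim R` in numbers -/
theorem height_add_le (p : Ideal R) [hp : p.IsPrime] (e c : ℕ)
    (he : ringKrullDim R ≤ (e : WithBot ℕ∞)) (hc : ringKrullDim (R ⧸ p) = (c : WithBot ℕ∞)) :
    p.height + (c : ℕ∞) ≤ (e : ℕ∞) := by
  have h1 := height_add_coheight_le (⟨p, hp⟩ : PrimeSpectrum R)
  have h2 := ringKrullDim_quotient_eq_coheight (⟨p, hp⟩ : PrimeSpectrum R)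
  rw [hc] at h2
  have h3 : Order.coheight (⟨p, hp⟩ : PrimeSpectrum R) = (c : ℕ∞) := by
    have : ((c : ℕ∞) : WithBot ℕ∞) = ((Order.coheight (⟨p, hp⟩ : PrimeSpectrum R) : ℕ∞) :
        WithBot ℕ∞) := by exact_mod_cast h2
    exact (WithBot.coe_injective this).symm
  rw [h3, ← PrimeSpectrum.height_eq_orderHeight] at h1
  have h4 : ((p.height + (c : ℕ∞) : ℕ∞) : WithBot ℕ∞) ≤ ((e : ℕ∞) : WithBot ℕ∞) :=
    le_trans h1 (le_trans (le_of_eq rfl) (by exact_mod_cast he))
  exact WithBot.coe_le_coe.mp h4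

/-- The dimension of `A/J` is bounded by the dimensions of `A/q`, `q` minimal over `J`. -/
theorem ringKrullDim_quotient_le_of_minimalPrimes (J : Ideal R) (d : WithBot ℕ∞)
    (h : ∀ q ∈ J.minimalPrimes, ringKrullDim (R ⧸ q) ≤ d) : ringKrullDim (R ⧸ J) ≤ d := by
  rw [ringKrullDim_quotient]
  unfold Order.krullDim
  apply iSup_le
  intro l
  have hJle : J ≤ l.head.1.asIdeal := l.head.2
  obtain ⟨q, hq, hqle⟩ := Ideal.exists_minimalPrimes_le hJle
  have hmem : ∀ i, (l i).1 ∈ PrimeSpectrum.zeroLocus (q : Set R) := by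
    intro i
    have h1 : l.head ≤ l i := LTSeries.head_le l i
    have h2 : l.head.1.asIdeal ≤ (l i).1.asIdeal := h1
    exact (PrimeSpectrum.mem_zeroLocus _ _).mpr (hqle.trans h2)
  let l' : LTSeries (PrimeSpectrum.zeroLocus (q : Set R)) :=
    LTSeries.mk l.length (fun i => ⟨(l i).1, hmem i⟩) (fun i j hij => by
      have := l.strictMono hij
      exact this)
  have h3 : (l'.length : WithBot ℕ∞) ≤ Order.krullDim (PrimeSpectrum.zeroLocus (q : Set R)) :=
    Order.LTSeries.length_le_krullDim l'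
  rw [← ringKrullDim_quotient] at h3
  exact h3.trans (h q hq)

end General

section Affine

variable (K : Type u) [Field K] (S : Type u) [CommRing S] [Algebra K S] [Algebra.FiniteType K S]

include K

theorem exists_dim_nat [Nontrivial S] (q : Ideal S) [q.IsPrime] :
    ∃ c : ℕ, ringKrullDim (S ⧸ q) = (c : WithBot ℕ∞) := by
  obtain ⟨n, -, hn, -⟩ := Groth.Agent.S2680.result K (S ⧸ q)
  exact ⟨n, hn⟩

/-- dimension formula in an affine domain -/
theorem affine_height [IsDomain S] (q : Ideal S) [q.IsPrime] (e c : ℕ)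
    (he : ringKrullDim S = (e : WithBot ℕ∞)) (hc : ringKrullDim (S ⧸ q) = (c : WithBot ℕ∞)) :
    q.height + (c : ℕ∞) = (e : ℕ∞) := by
  haveI : IsNoetherianRing S := Algebra.FiniteType.isNoetherianRing K S
  obtain ⟨M, hM⟩ := Ideal.exists_maximal (S ⧸ q)
  haveI := hM
  haveI hM' : (M.comap (Ideal.Quotient.mk q)).IsMaximal :=
    Ideal.comap_isMaximal_of_surjective _ Ideal.Quotient.mk_surjective
  obtain ⟨n, -, hn, hmax⟩ := Groth.Agent.S2680.result K S
  obtain ⟨n', -, hn', hmax'⟩ := Groth.Agent.S2680.result K (S ⧸ q)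
  have e1 : n = e := by
    rw [he] at hn
    exact_mod_cast hn.symm
  have e2 : n' = c := by
    rw [hc] at hn'
    exact_mod_cast hn'.symm
  subst e1 e2
  have h1 : (M.comap (Ideal.Quotient.mk q)).height = (n : ℕ∞) := by
    have := hmax (M.comap (Ideal.Quotient.mk q))
    rw [IsLocalization.AtPrime.ringKrullDim_eq_height (M.comap (Ideal.Quotient.mk q))
      (Localization.AtPrime (M.comap (Ideal.Quotient.mk q)))] at this
    exact_mod_cast this
  have h2 : M.height = (n' : ℕ∞) := by
    have := hmax' M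
    rw [IsLocalization.AtPrime.ringKrullDim_eq_height M (Localization.AtPrime M)] at this
    exact_mod_cast this
  have hcat : CAlg.IsCatenary S :=
    (Groth.Agent.S2680.isUniversallyCatenary_field K).2 S inferInstance
  have h3 := Groth.Agent.Helper14.DimFormula.height_comap_eq_add hcat
    (Ideal.Quotient.mk q) Ideal.Quotient.mk_surjective M
  rw [Ideal.mk_ker, h1, h2] at h3
  exact h3.symm

/-- local dimension of an equidimensional quotient of an affine algebra -/
theorem local_height (X q : Ideal S) [hq : q.IsPrime] (hXq : X ≤ q) (e c : ℕ)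
    (hX : ∀ Q ∈ X.minimalPrimes, ringKrullDim (S ⧸ Q) = (e : WithBot ℕ∞))
    (hc : ringKrullDim (S ⧸ q) = (c : WithBot ℕ∞))
    [hqX : (q.map (Ideal.Quotient.mk X)).IsPrime] :
    (q.map (Ideal.Quotient.mk X)).height + (c : ℕ∞) = (e : ℕ∞) := by
  apply le_antisymm
  · apply height_add_le
    · apply ringKrullDim_quotient_le_of_minimalPrimes
      intro Q hQ
      exact le_of_eq (hX Q hQ)
    · rw [ringKrullDim_eq_of_ringEquiv (DoubleQuot.quotQuotEquivQuotOfLE hXq)]
      exact hc
  · obtain ⟨Q, hQ, hQq⟩ := Ideal.exists_minimalPrimes_le hXq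
    haveI hQp : Q.IsPrime := hQ.1.1
    have hXQ : X ≤ Q := hQ.1.2
    haveI hq' : (q.map (Ideal.Quotient.mk Q)).IsPrime :=
      Ideal.map_isPrime_of_surjective Ideal.Quotient.mk_surjective (by rw [Ideal.mk_ker]; exact hQq)
    have h1 := affine_height K (S ⧸ Q) (q.map (Ideal.Quotient.mk Q)) e c (hX Q hQ)
      (by rw [ringKrullDim_eq_of_ringEquiv (DoubleQuot.quotQuotEquivQuotOfLE hQq)]; exact hc)
    have hcomap : (q.map (Ideal.Quotient.mk Q)).comap (Ideal.Quotient.factor hXQ) =
        q.map (Ideal.Quotient.mk X) := by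
      apply Ideal.comap_injective_of_surjective (Ideal.Quotient.mk X) Ideal.Quotient.mk_surjective
      rw [Ideal.comap_comap, Ideal.Quotient.factor_comp_mk,
        Ideal.comap_map_of_surjective _ Ideal.Quotient.mk_surjective,
        Ideal.comap_map_of_surjective _ Ideal.Quotient.mk_surjective,
        ← RingHom.ker_eq_comap_bot, ← RingHom.ker_eq_comap_bot, Ideal.mk_ker, Ideal.mk_ker,
        sup_eq_left.mpr hQq, sup_eq_left.mpr hXq]
    have h2 := height_le_height_comap (Ideal.Quotient.factor hXQ)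
      (Ideal.Quotient.factor_surjective hXQ) (q.map (Ideal.Quotient.mk Q))
    rw [hcomap] at h2
    rw [← h1]
    exact add_le_add h2 le_rfl

/-- local dimension of `S_q / X S_q` -/
theorem local_dim (X q : Ideal S) [hq : q.IsPrime] (hXq : X ≤ q) (e c : ℕ)
    (hX : ∀ Q ∈ X.minimalPrimes, ringKrullDim (S ⧸ Q) = (e : WithBot ℕ∞))
    (hc : ringKrullDim (S ⧸ q) = (c : WithBot ℕ∞)) :
    ∃ e' : ℕ, e' + c = e ∧ ringKrullDim (Localization.AtPrime q ⧸
      X.map (algebraMap S (Localization.AtPrime q))) = (e' : WithBot ℕ∞) := by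
  haveI hqX : (q.map (Ideal.Quotient.mk X)).IsPrime :=
    Ideal.map_isPrime_of_surjective Ideal.Quotient.mk_surjective (by rw [Ideal.mk_ker]; exact hXq)
  obtain ⟨eqv⟩ := Groth.Agent.Helper20.CMInf.nonempty_quotLocEquiv' X q hXq
  have h1 := local_height K S X q hXq e c hX hc
  have hfin : (q.map (Ideal.Quotient.mk X)).height ≠ ⊤ := by
    intro htop
    rw [htop, top_add] at h1
    exact ENat.top_ne_natCast e h1
  obtain ⟨e', he'⟩ := ENat.ne_top_iff_exists.mp hfin
  refine ⟨e', ?_, ?_⟩
  · rw [← he'] at h1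
    exact_mod_cast h1
  · rw [← ringKrullDim_eq_of_ringEquiv eqv,
      IsLocalization.AtPrime.ringKrullDim_eq_height (q.map (Ideal.Quotient.mk X)), ← he']
    rfl

omit K [Algebra K S] [Algebra.FiniteType K S] in
/-- transfer of the CM property to `S_q / X S_q` -/
theorem cm_local (X q : Ideal S) [hq : q.IsPrime] (hXq : X ≤ q)
    (hcm : LocCoh.IsCohenMacaulayRing (S ⧸ X)) :
    LocCoh.IsCohenMacaulayLocalRing (Localization.AtPrime q ⧸
      X.map (algebraMap S (Localization.AtPrime q))) := by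
  haveI hqX : (q.map (Ideal.Quotient.mk X)).IsPrime :=
    Ideal.map_isPrime_of_surjective Ideal.Quotient.mk_surjective (by rw [Ideal.mk_ker]; exact hXq)
  obtain ⟨eqv⟩ := Groth.Agent.Helper20.CMInf.nonempty_quotLocEquiv' X q hXq
  haveI := hcm.isCohenMacaulayLocalRing_localization (q.map (Ideal.Quotient.mk X))
  exact Groth.Agent.Helper20.RE.isCohenMacaulayLocalRing_of_ringEquiv eqv

omit K [Algebra K S] [Algebra.FiniteType K S] in
/-- transfer back -/
theorem cm_local' (X q : Ideal S) [hq : q.IsPrime] (hXq : X ≤ q)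
    [hqX : (q.map (Ideal.Quotient.mk X)).IsPrime]
    (hcm : LocCoh.IsCohenMacaulayLocalRing (Localization.AtPrime q ⧸
      X.map (algebraMap S (Localization.AtPrime q)))) :
    LocCoh.IsCohenMacaulayLocalRing (Localization.AtPrime (q.map (Ideal.Quotient.mk X))) := by
  obtain ⟨eqv⟩ := Groth.Agent.Helper20.CMInf.nonempty_quotLocEquiv' X q hXq
  exact Groth.Agent.Helper20.RE.isCohenMacaulayLocalRing_of_ringEquiv eqv.symm

/-- gluing at a prime containing both ideals -/
theorem glue_at (I J q : Ideal S) [hq : q.IsPrime] (hIq : I ≤ q) (hJq : J ≤ q) (e : ℕ) (he : 1 ≤ e)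
    (hIcm : LocCoh.IsCohenMacaulayRing (S ⧸ I)) (hJcm : LocCoh.IsCohenMacaulayRing (S ⧸ J))
    (hIJcm : LocCoh.IsCohenMacaulayRing (S ⧸ (I ⊔ J)))
    (hI : ∀ Q ∈ I.minimalPrimes, ringKrullDim (S ⧸ Q) = (e : WithBot ℕ∞))
    (hJ : ∀ Q ∈ J.minimalPrimes, ringKrullDim (S ⧸ Q) = (e : WithBot ℕ∞))
    (hIJ : ∀ Q ∈ (I ⊔ J).minimalPrimes, ringKrullDim (S ⧸ Q) = ((e - 1 : ℕ) : WithBot ℕ∞))
    [hqX : (q.map (Ideal.Quotient.mk (I ⊓ J))).IsPrime] :
    LocCoh.IsCohenMacaulayLocalRing (Localization.AtPrime (q.map (Ideal.Quotient.mk (I ⊓ J)))) := by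
  haveI : Nontrivial S := ⟨⟨0, 1, fun h => hq.ne_top ((Ideal.eq_top_iff_one q).mpr (h ▸ q.zero_mem))⟩⟩
  haveI : IsNoetherianRing S := Algebra.FiniteType.isNoetherianRing K S
  obtain ⟨c, hc⟩ := exists_dim_nat K S q
  have hIJq : I ⊔ J ≤ q := sup_le hIq hJq
  obtain ⟨e1, he1, d1⟩ := local_dim K S I q hIq e c hI hc
  obtain ⟨e2, he2, d2⟩ := local_dim K S J q hJq e c hJ hc
  obtain ⟨e3, he3, d3⟩ := local_dim K S (I ⊔ J) q hIJq (e - 1) c hIJ hc
  have e12 : e2 = e1 := by omega
  have e13 : e3 = e1 - 1 := by omega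
  have he1' : 1 ≤ e1 := by omega
  subst e12 e13
  haveI c1 := cm_local S I q hIq hIcm
  haveI c2 := cm_local S J q hJq hJcm
  have c3 := cm_local S (I ⊔ J) q hIJq hIJcm
  rw [Ideal.map_sup] at c3 d3
  haveI := c3
  obtain ⟨c7, -⟩ := Groth.Agent.Helper20.CMInf.main
    (I.map (algebraMap S (Localization.AtPrime q))) (J.map (algebraMap S (Localization.AtPrime q)))
    e2 he1' d1 d2 d3
  rw [← IsLocalization.map_inf q.primeCompl] at c7
  exact cm_local' S (I ⊓ J) q (le_trans inf_le_left hIq) c7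

omit K [Algebra K S] [Algebra.FiniteType K S] in
/-- at a prime containing only one of the two ideals -/
theorem one_sided (I J q : Ideal S) [hq : q.IsPrime] (hIq : I ≤ q) (hJq : ¬ J ≤ q)
    (hIcm : LocCoh.IsCohenMacaulayRing (S ⧸ I))
    [hqX : (q.map (Ideal.Quotient.mk (I ⊓ J))).IsPrime] :
    LocCoh.IsCohenMacaulayLocalRing (Localization.AtPrime (q.map (Ideal.Quotient.mk (I ⊓ J)))) := by
  have c1 := cm_local S I q hIq hIcm
  have hJtop : J.map (algebraMap S (Localization.AtPrime q)) = ⊤ := by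
    by_contra hne
    have hne := (IsLocalization.map_algebraMap_ne_top_iff_disjoint q.primeCompl
      (S := Localization.AtPrime q) J).mp hne
    apply hJq
    intro x hx
    by_contra hxq
    exact Set.disjoint_left.mp hne hxq hx
  have heq : (I ⊓ J).map (algebraMap S (Localization.AtPrime q)) =
      I.map (algebraMap S (Localization.AtPrime q)) := by
    rw [IsLocalization.map_inf q.primeCompl, hJtop, inf_top_eq]
  apply cm_local' S (I ⊓ J) q (le_trans inf_le_left hIq)
  haveI := c1
  exact Groth.Agent.Helper20.RE.isCohenMacaulayLocalRing_of_ringEquiv (Ideal.quotEquivOfEq heq.symm)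

end Affine

section Good

variable {S : Type u} [CommRing S]

/-- equidimensional Cohen–Macaulay quotient -/
def Good (I : Ideal S) (e : ℕ) : Prop :=
  LocCoh.IsCohenMacaulayRing (S ⧸ I) ∧
    ∀ Q ∈ I.minimalPrimes, ringKrullDim (S ⧸ Q) = (e : WithBot ℕ∞)

theorem cm_of_subsingleton (R : Type u) [CommRing R] [Subsingleton R] :
    LocCoh.IsCohenMacaulayRing R := by
  haveI : IsNoetherianRing R := inferInstance
  refine { isCohenMacaulayLocalRing_localization := fun p hp => ?_ }
  exact absurd (Subsingleton.elim _ _) hp.ne_top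

theorem good_top [IsNoetherianRing S] (e : ℕ) : Good (⊤ : Ideal S) e := by
  constructor
  · haveI : Subsingleton (S ⧸ (⊤ : Ideal S)) := Ideal.Quotient.subsingleton_iff.mpr rfl
    exact cm_of_subsingleton _
  · intro Q hQ
    exact absurd (top_le_iff.mp hQ.1.2) hQ.1.1.ne_top

theorem minimalPrimes_inf (I J Q : Ideal S) (hQ : Q ∈ (I ⊓ J).minimalPrimes) :
    Q ∈ I.minimalPrimes ∨ Q ∈ J.minimalPrimes := by
  have hQp : Q.IsPrime := hQ.1.1
  rcases hQp.inf_le.mp hQ.1.2 with h | h
  · left
    refine ⟨⟨hQp, h⟩, ?_⟩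
    rintro Q' ⟨hQ'p, hQ'I⟩ hle
    exact hQ.2 ⟨hQ'p, le_trans inf_le_left hQ'I⟩ hle
  · right
    refine ⟨⟨hQp, h⟩, ?_⟩
    rintro Q' ⟨hQ'p, hQ'I⟩ hle
    exact hQ.2 ⟨hQ'p, le_trans inf_le_right hQ'I⟩ hle

variable (K : Type u) [Field K] [Algebra K S] [Algebra.FiniteType K S]

include K in
/-- the gluing lemma -/
theorem glue (I J : Ideal S) (e : ℕ) (he : 1 ≤ e) (hI : Good I e) (hJ : Good J e)
    (hIJ : Good (I ⊔ J) (e - 1)) : Good (I ⊓ J) e := by
  haveI : IsNoetherianRing S := Algebra.FiniteType.isNoetherianRing K S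
  constructor
  · refine { isCohenMacaulayLocalRing_localization := fun P hP => ?_ }
    haveI hq : (P.comap (Ideal.Quotient.mk (I ⊓ J))).IsPrime := Ideal.comap_isPrime _ _
    have hmap : (P.comap (Ideal.Quotient.mk (I ⊓ J))).map (Ideal.Quotient.mk (I ⊓ J)) = P :=
      Ideal.map_comap_of_surjective _ Ideal.Quotient.mk_surjective P
    haveI : ((P.comap (Ideal.Quotient.mk (I ⊓ J))).map (Ideal.Quotient.mk (I ⊓ J))).IsPrime := by
      rw [hmap]; exact hP
    have hle : I ⊓ J ≤ P.comap (Ideal.Quotient.mk (I ⊓ J)) := by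
      intro x hx
      rw [Ideal.mem_comap, Ideal.Quotient.eq_zero_iff_mem.mpr hx]
      exact Ideal.zero_mem _
    apply Groth.Agent.Helper20.RE.cm_localization_congr hmap
    by_cases h1 : I ≤ P.comap (Ideal.Quotient.mk (I ⊓ J))
    · by_cases h2 : J ≤ P.comap (Ideal.Quotient.mk (I ⊓ J))
      · exact glue_at K S I J _ h1 h2 e he hI.1 hJ.1 hIJ.1 hI.2 hJ.2 hIJ.2
      · exact one_sided S I J _ h1 h2 hI.1
    · have h2 : J ≤ P.comap (Ideal.Quotient.mk (I ⊓ J)) := by
        rcases hq.inf_le.mp hle with h | h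
        · exact absurd h h1
        · exact h
      have hcomm : J ⊓ I = I ⊓ J := inf_comm _ _
      have key : ∀ (X : Ideal S) (hX : X = I ⊓ J) (P' : Ideal (S ⧸ X)) [P'.IsPrime],
          (∀ [((P'.comap (Ideal.Quotient.mk X)).map (Ideal.Quotient.mk X)).IsPrime],
            J ≤ P'.comap (Ideal.Quotient.mk X) → ¬ I ≤ P'.comap (Ideal.Quotient.mk X) →
            LocCoh.IsCohenMacaulayLocalRing (Localization.AtPrime
              ((P'.comap (Ideal.Quotient.mk X)).map (Ideal.Quotient.mk X)))) := by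
        intro X hX P' hP' hP'' hJ' hI'
        have hX' : X = J ⊓ I := by rw [hX, inf_comm]
        subst hX'
        haveI : (P'.comap (Ideal.Quotient.mk (J ⊓ I))).IsPrime := Ideal.comap_isPrime _ _
        exact one_sided S J I _ hJ' hI' hJ.1
      exact key (I ⊓ J) rfl P h2 h1
  · intro Q hQ
    rcases minimalPrimes_inf I J Q hQ with h | h
    · exact hI.2 Q h
    · exact hJ.2 Q h

end Good

section Hyper

open Groth.Agent.Helper20.RE

/-- the Cohen–Macaulay property of rings is invariant under ring isomorphisms -/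
theorem cm_of_ringEquiv {B C : Type u} [CommRing B] [CommRing C] (e : B ≃+* C)
    (hB : LocCoh.IsCohenMacaulayRing B) : LocCoh.IsCohenMacaulayRing C := by
  haveI : IsNoetherianRing B := by haveI := hB; infer_instance
  haveI : IsNoetherianRing C := isNoetherianRing_of_ringEquiv B e
  refine { isCohenMacaulayLocalRing_localization := fun Q hQ => ?_ }
  haveI hP : (Q.comap (e : B →+* C)).IsPrime := Ideal.comap_isPrime _ _
  haveI := hB.isCohenMacaulayLocalRing_localization (Q.comap (e : B →+* C))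
  have H : (Q.comap (e : B →+* C)).primeCompl.map e.toMonoidHom = Q.primeCompl := by
    ext c
    rw [Submonoid.mem_map]
    constructor
    · rintro ⟨b, hb, rfl⟩
      exact hb
    · intro hc
      refine ⟨e.symm c, ?_, e.apply_symm_apply c⟩
      show e.symm c ∉ Q.comap (e : B →+* C)
      rw [Ideal.mem_comap]
      show ¬ (e (e.symm c) ∈ Q)
      rw [e.apply_symm_apply]
      exact hc
  exact isCohenMacaulayLocalRing_of_ringEquiv
    (IsLocalization.ringEquivOfRingEquiv (Localization.AtPrime (Q.comap (e : B →+* C)))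
      (Localization.AtPrime Q) e H)

/-- a Noetherian ring of dimension `≤ 0` is Cohen–Macaulay -/
theorem cm_of_dim_zero (R : Type u) [CommRing R] [IsNoetherianRing R]
    (h : ringKrullDim R ≤ 0) : LocCoh.IsCohenMacaulayRing R := by
  refine { isCohenMacaulayLocalRing_localization := fun p hp => ?_ }
  rw [isCohenMacaulayLocalRing_iff]
  have h1 : ringKrullDim (Localization.AtPrime p) ≤ 0 := by
    rw [IsLocalization.AtPrime.ringKrullDim_eq_height p (Localization.AtPrime p)]
    exact le_trans (Ideal.height_le_ringKrullDim_of_isPrime) h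
  have h2 : (0 : WithBot ℕ∞) ≤ ringKrullDim (Localization.AtPrime p) :=
    ringKrullDim_nonneg_of_nontrivial
  have h3 : ringKrullDim (Localization.AtPrime p) = 0 := le_antisymm h1 h2
  have h4 := Groth.Agent.Lead.Depth.depth_self_le_ringKrullDim (R := Localization.AtPrime p)
  rw [h3] at h4 ⊢
  have h5 : LocCoh.depth (Localization.AtPrime p) (Localization.AtPrime p) = 0 := by
    have : ((LocCoh.depth (Localization.AtPrime p) (Localization.AtPrime p) : ℕ∞) : WithBot ℕ∞) ≤
        ((0 : ℕ∞) : WithBot ℕ∞) := h4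
    exact le_antisymm (WithBot.coe_le_coe.mp this) zero_le
  rw [h5]
  rfl

/-- Cohen–Macaulayness from a hypersurface section and regularity away from it -/
theorem hypersurface {S : Type u} [CommRing S] [IsNoetherianRing S] (P : Ideal S) [hP : P.IsPrime]
    (x : S) (hx : x ∉ P) (hcm : LocCoh.IsCohenMacaulayRing (S ⧸ (P ⊔ Ideal.span {x})))
    (hreg : IsRegularRing (Localization.Away (Ideal.Quotient.mk P x))) :
    LocCoh.IsCohenMacaulayRing (S ⧸ P) := by
  set a := Ideal.Quotient.mk P x with ha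
  have ha0 : a ≠ 0 := by
    rw [ha, Ne, Ideal.Quotient.eq_zero_iff_mem]
    exact hx
  have hnzd : a ∈ nonZeroDivisors (S ⧸ P) := mem_nonZeroDivisors_of_ne_zero ha0
  have hspan : Ideal.span {a} = (Ideal.span {x}).map (Ideal.Quotient.mk P) := by
    rw [Ideal.map_span, Set.image_singleton]
  have hcm' : LocCoh.IsCohenMacaulayRing ((S ⧸ P) ⧸ Ideal.span {a}) :=
    cm_of_ringEquiv ((Ideal.quotEquivOfEq hspan).trans (DoubleQuot.quotQuotEquivQuotSup _ _)).symm hcm
  refine { isCohenMacaulayLocalRing_localization := fun 𝔭 h𝔭 => ?_ }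
  by_cases ha𝔭 : a ∈ 𝔭
  · haveI : (𝔭.map (Ideal.Quotient.mk (Ideal.span {a}))).IsPrime :=
      Ideal.map_isPrime_of_surjective Ideal.Quotient.mk_surjective (by
        rw [Ideal.mk_ker, Ideal.span_singleton_le_iff_mem]; exact ha𝔭)
    exact (cm_quotient_localization_iff a hnzd 𝔭 ha𝔭).mp
      (hcm'.isCohenMacaulayLocalRing_localization _)
  · -- regular locus
    have hdisj : Disjoint (Submonoid.powers a : Set (S ⧸ P)) (𝔭 : Set (S ⧸ P)) := by
      rw [Set.disjoint_left]
      rintro _ ⟨k, rfl⟩ hk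
      exact ha𝔭 (h𝔭.mem_of_pow_mem k hk)
    haveI h𝔭' : (𝔭.map (algebraMap (S ⧸ P) (Localization.Away a))).IsPrime :=
      IsLocalization.isPrime_of_isPrime_disjoint (Submonoid.powers a) _ 𝔭 h𝔭 hdisj
    have hcomap : (𝔭.map (algebraMap (S ⧸ P) (Localization.Away a))).comap
        (algebraMap (S ⧸ P) (Localization.Away a)) = 𝔭 :=
      IsLocalization.comap_map_of_isPrime_disjoint (Submonoid.powers a) _ h𝔭 hdisj
    haveI : IsRegularLocalRing (Localization.AtPrime
        (𝔭.map (algebraMap (S ⧸ P) (Localization.Away a)))) :=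
      hreg.isRegularLocalRing_localization _
    haveI : IsLocalization.AtPrime (Localization.AtPrime
        (𝔭.map (algebraMap (S ⧸ P) (Localization.Away a))))
        ((𝔭.map (algebraMap (S ⧸ P) (Localization.Away a))).comap
          (algebraMap (S ⧸ P) (Localization.Away a))) :=
      IsLocalization.isLocalization_isLocalization_atPrime_isLocalization (Submonoid.powers a)
        (Localization.AtPrime (𝔭.map (algebraMap (S ⧸ P) (Localization.Away a))))
        (𝔭.map (algebraMap (S ⧸ P) (Localization.Away a)))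
    have key : ∀ (𝔮 : Ideal (S ⧸ P)) [𝔮.IsPrime] (h𝔮 : 𝔮 = 𝔭)
        [IsLocalization.AtPrime (Localization.AtPrime
          (𝔭.map (algebraMap (S ⧸ P) (Localization.Away a)))) 𝔮],
        IsRegularLocalRing (Localization.AtPrime 𝔭) := by
      intro 𝔮 h𝔮p h𝔮 hloc
      subst h𝔮
      let e : Localization.AtPrime
          (𝔮.map (algebraMap (S ⧸ P) (Localization.Away a))) ≃ₐ[S ⧸ P] Localization.AtPrime 𝔮 :=
        IsLocalization.algEquiv 𝔮.primeCompl _ _
      exact IsRegularLocalRing.of_ringEquiv e.toRingEquiv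
    haveI := key _ hcomap
    exact Groth.Agent.Lead.Depth.isCohenMacaulayLocalRing_of_isRegularLocalRing

end Hyper

end Groth.Agent.Lib.Helper2.CMGlue
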