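import Mathlib
import Groth.Prelude.Def_RegImm
import Groth.Agent.Lib.Helper2.CMGlue
import Groth.Agent.Lib.Helper17.FA1
import Groth.Agent.S9141

set_option autoImplicit false
universe u

namespace Groth.Agent.Helper2.GCILoc

open MvPolynomial Groth.Agent.Lib.Helper2.CMGlue

section Numerics

variable (k : Type u) [Field k] (n : ℕ) (I : Ideal (MvPolynomial (Fin n) k))
  (q : Ideal (MvPolynomial (Fin n) k ⧸ I)) [hq : q.IsPrime]

include k in
/-- dimension formula for the prime `q'` of the polynomial ring above `q` -/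
theorem exists_delta : ∃ δ : ℕ, ringKrullDim ((MvPolynomial (Fin n) k ⧸ I) ⧸ q) = (δ : WithBot ℕ∞) ∧
    (q.comap (Ideal.Quotient.mk I)).height + (δ : ℕ∞) = (n : ℕ∞) ∧
    ∀ (m : Ideal (MvPolynomial (Fin n) k ⧸ I)) [m.IsMaximal], q ≤ m →
      q.height + (δ : ℕ∞) ≤ m.height := by
  haveI : IsDomain ((MvPolynomial (Fin n) k ⧸ I) ⧸ q) := Ideal.Quotient.isDomain q
  obtain ⟨δ, -, hδ, hmax⟩ := Groth.Agent.S2680.result k ((MvPolynomial (Fin n) k ⧸ I) ⧸ q)
  have hδ' : ringKrullDim ((MvPolynomial (Fin n) k ⧸ I) ⧸ q) = (δ : WithBot ℕ∞) := by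
    rw [hδ]
  refine ⟨δ, hδ', ?_, ?_⟩
  · set q' := q.comap (Ideal.Quotient.mk I) with hq'
    haveI : q'.IsPrime := Ideal.comap_isPrime _ _
    have hIq' : I ≤ q' := by
      intro x hx
      rw [hq', Ideal.mem_comap, Ideal.Quotient.eq_zero_iff_mem.mpr hx]
      exact q.zero_mem
    have hmap : q'.map (Ideal.Quotient.mk I) = q :=
      Ideal.map_comap_of_surjective _ Ideal.Quotient.mk_surjective q
    have e1 : ringKrullDim (MvPolynomial (Fin n) k ⧸ q') = (δ : WithBot ℕ∞) := by
      rw [← hδ', ← ringKrullDim_eq_of_ringEquiv (DoubleQuot.quotQuotEquivQuotOfLE hIq'), hmap]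
    exact affine_height k (MvPolynomial (Fin n) k) q' n δ
      (Groth.Agent.S9141.ringKrullDim_mvPolynomial n) e1
  · intro m hm hqm
    haveI : IsNoetherianRing (MvPolynomial (Fin n) k ⧸ I) := inferInstance
    have h1 := Groth.Agent.Helper17.FA.height_add_height_map_le q m hqm
    haveI hmm : (m.map (Ideal.Quotient.mk q)).IsMaximal := by
      refine (Ideal.map_eq_top_or_isMaximal_of_surjective (Ideal.Quotient.mk q)
        Ideal.Quotient.mk_surjective hm).resolve_left fun htop => ?_
      have h0 : (m.map (Ideal.Quotient.mk q)).comap (Ideal.Quotient.mk q) = m := by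
        rw [Ideal.comap_map_of_surjective _ Ideal.Quotient.mk_surjective,
          ← RingHom.ker_eq_comap_bot, Ideal.mk_ker, sup_eq_left.mpr hqm]
      rw [htop, Ideal.comap_top] at h0
      exact hm.ne_top h0.symm
    have h2 := hmax (m.map (Ideal.Quotient.mk q))
    rw [IsLocalization.AtPrime.ringKrullDim_eq_height (m.map (Ideal.Quotient.mk q))] at h2
    have h3 : (m.map (Ideal.Quotient.mk q)).height = (δ : ℕ∞) := by
      have : ((m.map (Ideal.Quotient.mk q)).height : WithBot ℕ∞) = ((δ : ℕ∞) : WithBot ℕ∞) := by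
        rw [h2]; rfl
      exact_mod_cast this
    rw [h3] at h1
    exact h1

include k in
/-- the numerical inequality `n - c ≤ dim S_g` -/
theorem numerics (c : ℕ) (hc : (c : ℕ∞) + q.height = (q.comap (Ideal.Quotient.mk I)).height)
    (g : MvPolynomial (Fin n) k ⧸ I) (hg : g ∉ q) (N C : ℕ) (hCN : C ≤ N)
    (hdim : ringKrullDim (Localization.Away g) = ((N - C : ℕ) : WithBot ℕ∞)) : C + n ≤ c + N := by
  obtain ⟨δ, hδ, hq', hmax⟩ := exists_delta k n I q
  -- a maximal ideal above `q` avoiding `g`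
  have hjac : q.jacobson = q := IsJacobsonRing.out' q hq.isRadical
  have hex : ∃ m : Ideal (MvPolynomial (Fin n) k ⧸ I), q ≤ m ∧ m.IsMaximal ∧ g ∉ m := by
    by_contra hcon
    push Not at hcon
    apply hg
    rw [← hjac, Ideal.jacobson, Ideal.mem_sInf]
    intro J hJ
    exact hcon J hJ.1 hJ.2
  obtain ⟨m, hqm, hm, hgm⟩ := hex
  haveI := hm
  have h1 := hmax m hqm
  have h2 := Groth.Agent.Helper17.FA.height_le_height_map_of_isLocalization (Submonoid.powers g)
    (Localization.Away g) m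
  have hdisj : Disjoint (Submonoid.powers g : Set (MvPolynomial (Fin n) k ⧸ I)) (m : Set _) := by
    rw [Set.disjoint_left]
    rintro x ⟨j, rfl⟩ hx
    exact hgm (hm.isPrime.mem_of_pow_mem j hx)
  have hprime : (m.map (algebraMap _ (Localization.Away g))).IsPrime :=
    IsLocalization.isPrime_of_isPrime_disjoint (Submonoid.powers g) _ m hm.isPrime hdisj
  have h3 : ((m.map (algebraMap _ (Localization.Away g))).height : WithBot ℕ∞) ≤
      ringKrullDim (Localization.Away g) :=
    Ideal.height_le_ringKrullDim_of_ne_top hprime.ne_top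
  rw [hdim] at h3
  have h4 : q.height + (δ : ℕ∞) ≤ ((N - C : ℕ) : ℕ∞) := by
    refine (h1.trans h2).trans ?_
    have h3' : ((m.map (algebraMap _ (Localization.Away g))).height : WithBot ℕ∞) ≤
        (((N - C : ℕ) : ℕ∞) : WithBot ℕ∞) := h3
    exact WithBot.coe_le_coe.mp h3'
  -- arithmetic
  have hfin : q.height ≠ ⊤ := by
    intro htop
    rw [htop, top_add] at h4
    exact absurd h4 (by simp)
  obtain ⟨η, hη⟩ := ENat.ne_top_iff_exists.mp hfin
  rw [← hη] at h4 hc
  rw [← hc] at hq'
  have e1 : c + η + δ = n := by exact_mod_cast hq'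
  have e2 : η + δ ≤ N - C := by exact_mod_cast h4
  omega

end Numerics

end Groth.Agent.Helper2.GCILoc
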