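import Mathlib
import Groth.Prelude.Def_RegImm
import Groth.Agent.Lib.Helper2.GCILocE1
import Groth.Agent.Lib.Lead.Conn3

set_option autoImplicit false
universe u

namespace Groth.Agent.Helper2.GCILoc

open MvPolynomial Groth.Agent.Lib.Helper2.CMGlue

section AwayEquiv

variable (k : Type*) [CommRing k] {P : Type*} [CommRing P] [Algebra k P]

/-- `(P/I₁)_g ≅ (P/I₂)_g` when `g I₂ ⊆ I₁ ⊆ I₂`. -/
theorem nonempty_away_equiv (I₁ I₂ : Ideal P) (hle : I₁ ≤ I₂) (gt : P)
    (hg : ∀ x ∈ I₂, gt * x ∈ I₁) :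
    Nonempty (Localization.Away (Ideal.Quotient.mk I₁ gt) ≃ₐ[k]
      Localization.Away (Ideal.Quotient.mk I₂ gt)) := by
  let f : P ⧸ I₁ →ₐ[k] P ⧸ I₂ := Ideal.Quotient.factorₐ k hle
  have hfmk : ∀ x, f (Ideal.Quotient.mk I₁ x) = Ideal.Quotient.mk I₂ x := fun x => rfl
  have hfsurj : Function.Surjective f := Ideal.Quotient.factor_surjective hle
  letI alg : Algebra (P ⧸ I₁) (Localization.Away (Ideal.Quotient.mk I₂ gt)) :=
    ((algebraMap (P ⧸ I₂) (Localization.Away (Ideal.Quotient.mk I₂ gt))).comp f.toRingHom).toAlgebra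
  have halg : ∀ x : P ⧸ I₁, algebraMap (P ⧸ I₁) (Localization.Away (Ideal.Quotient.mk I₂ gt)) x =
      algebraMap (P ⧸ I₂) _ (f x) := fun x => rfl
  haveI : IsScalarTower k (P ⧸ I₁) (Localization.Away (Ideal.Quotient.mk I₂ gt)) :=
    IsScalarTower.of_algebraMap_eq (fun x => by
      rw [halg, AlgHom.commutes]
      exact IsScalarTower.algebraMap_apply k (P ⧸ I₂) _ x)
  haveI : IsLocalization.Away (Ideal.Quotient.mk I₁ gt)
      (Localization.Away (Ideal.Quotient.mk I₂ gt)) := by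
    rw [IsLocalization.Away, isLocalization_iff]
    refine ⟨?_, ?_, ?_⟩
    · rintro ⟨_, j, rfl⟩
      rw [halg, map_pow, hfmk]
      exact IsLocalization.map_units _ (⟨_, j, rfl⟩ : Submonoid.powers (Ideal.Quotient.mk I₂ gt))
    · intro z
      obtain ⟨⟨y, ⟨_, j, rfl⟩⟩, hz⟩ := IsLocalization.surj (Submonoid.powers (Ideal.Quotient.mk I₂ gt)) z
      obtain ⟨y', rfl⟩ := hfsurj y
      refine ⟨⟨y', ⟨_, j, rfl⟩⟩, ?_⟩
      simp only at hz ⊢
      rw [halg, halg, map_pow, hfmk]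
      exact hz
    · intro x y hxy
      rw [halg, halg] at hxy
      obtain ⟨⟨_, j, rfl⟩, hc⟩ :=
        (IsLocalization.eq_iff_exists (Submonoid.powers (Ideal.Quotient.mk I₂ gt)) _).mp hxy
      simp only at hc
      obtain ⟨x', rfl⟩ := Ideal.Quotient.mk_surjective x
      obtain ⟨y', rfl⟩ := Ideal.Quotient.mk_surjective y
      rw [hfmk, hfmk, ← map_pow, ← map_mul, ← map_mul, Ideal.Quotient.eq] at hc
      refine ⟨⟨_, j + 1, rfl⟩, ?_⟩
      simp only
      rw [← map_pow, ← map_mul, ← map_mul, Ideal.Quotient.eq]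
      have := hg _ hc
      have e1 : gt ^ (j + 1) * x' - gt ^ (j + 1) * y' = gt * (gt ^ j * x' - gt ^ j * y') := by ring
      rw [e1]
      exact this
  exact ⟨(IsLocalization.algEquiv (Submonoid.powers (Ideal.Quotient.mk I₁ gt))
    (Localization.Away (Ideal.Quotient.mk I₁ gt))
    (Localization.Away (Ideal.Quotient.mk I₂ gt))).restrictScalars k⟩

end AwayEquiv

section DimGen

variable (k : Type u) [Field k] (S : Type u) [CommRing S] [Algebra k S] [Algebra.FiniteType k S]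

include k in
theorem dim_quot_le_gen (q p : Ideal S) [hq : q.IsPrime] [hp : p.IsPrime] (hpq : p ≤ q) (δ : ℕ)
    (hδ : ringKrullDim (S ⧸ q) = (δ : WithBot ℕ∞)) :
    ringKrullDim (S ⧸ p) ≤ ((q.height + (δ : ℕ∞) : ℕ∞) : WithBot ℕ∞) := by
  haveI : IsDomain (S ⧸ p) := Ideal.Quotient.isDomain p
  obtain ⟨e, -, he, -⟩ := Groth.Agent.S2680.result k (S ⧸ p)
  haveI hqbar : (q.map (Ideal.Quotient.mk p)).IsPrime :=
    Ideal.map_isPrime_of_surjective Ideal.Quotient.mk_surjective (by rw [Ideal.mk_ker]; exact hpq)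
  have h1 := affine_height k _ (q.map (Ideal.Quotient.mk p)) e δ he
    (by rw [ringKrullDim_eq_of_ringEquiv (DoubleQuot.quotQuotEquivQuotOfLE hpq)]; exact hδ)
  have h2 := height_le_height_comap (Ideal.Quotient.mk p) Ideal.Quotient.mk_surjective
    (q.map (Ideal.Quotient.mk p))
  rw [Ideal.comap_map_of_surjective _ Ideal.Quotient.mk_surjective,
    ← RingHom.ker_eq_comap_bot, Ideal.mk_ker, sup_eq_left.mpr hpq] at h2
  rw [he]
  have h3 : (e : ℕ∞) ≤ q.height + (δ : ℕ∞) := by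
    rw [← h1]
    exact add_le_add h2 le_rfl
  exact_mod_cast h3

end DimGen

section Dim

variable (k : Type u) [Field k] (n : ℕ) (I : Ideal (MvPolynomial (Fin n) k))
  (q : Ideal (MvPolynomial (Fin n) k ⧸ I)) [hq : q.IsPrime]

include k in
theorem dim_quot_le (c : ℕ) (hc : (c : ℕ∞) + q.height = (q.comap (Ideal.Quotient.mk I)).height)
    (p : Ideal (MvPolynomial (Fin n) k ⧸ I)) [hp : p.IsPrime] (hpq : p ≤ q) :
    ringKrullDim ((MvPolynomial (Fin n) k ⧸ I) ⧸ p) ≤ ((n - c : ℕ) : WithBot ℕ∞) := by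
  obtain ⟨δ, hδ, hq', -⟩ := exists_delta k n I q
  refine (dim_quot_le_gen k _ q p hpq δ hδ).trans ?_
  rw [← hc] at hq'
  have hfin : q.height ≠ ⊤ := by
    intro htop
    rw [htop, add_top, top_add] at hq'
    exact absurd hq' (by simp)
  obtain ⟨η, hη⟩ := ENat.ne_top_iff_exists.mp hfin
  rw [← hη] at hq' ⊢
  have e1 : c + η + δ = n := by exact_mod_cast hq'
  have e2 : ((η : ℕ∞) + (δ : ℕ∞)) ≤ ((n - c : ℕ) : ℕ∞) := by
    exact_mod_cast (by omega : η + δ ≤ n - c)
  exact WithBot.coe_le_coe.mpr e2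

include k in
theorem dim_away_le (c : ℕ) (hc : (c : ℕ∞) + q.height = (q.comap (Ideal.Quotient.mk I)).height)
    (g : MvPolynomial (Fin n) k ⧸ I)
    (hmin : ∀ p ∈ minimalPrimes (MvPolynomial (Fin n) k ⧸ I), ¬ p ≤ q → g ∈ p) :
    ringKrullDim (Localization.Away g) ≤ ((n - c : ℕ) : WithBot ℕ∞) := by
  apply Groth.Agent.Lead.Conn.ringKrullDim_le_of_forall_minimalPrimes
  intro 𝔓 h𝔓
  haveI h𝔓p : 𝔓.IsPrime := h𝔓.1.1
  set p := 𝔓.comap (algebraMap (MvPolynomial (Fin n) k ⧸ I) (Localization.Away g)) with hp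
  haveI hpp : p.IsPrime := Ideal.comap_isPrime _ _
  have hmapp : p.map (algebraMap _ (Localization.Away g)) = 𝔓 :=
    IsLocalization.map_under (Submonoid.powers g) _ 𝔓
  have hgp : g ∉ p := by
    intro hgp
    apply h𝔓p.ne_top
    exact Ideal.eq_top_of_isUnit_mem _ hgp
      (IsLocalization.map_units _ (⟨g, 1, pow_one g⟩ : Submonoid.powers g))
  have hpmin : p ∈ minimalPrimes (MvPolynomial (Fin n) k ⧸ I) := by
    obtain ⟨p', hp', hle⟩ := Ideal.exists_minimalPrimes_le (I := ⊥) (J := p) bot_le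
    haveI hp'p : p'.IsPrime := hp'.1.1
    have hdisj : Disjoint (Submonoid.powers g : Set (MvPolynomial (Fin n) k ⧸ I)) (p' : Set _) := by
      rw [Set.disjoint_left]
      rintro x ⟨j, rfl⟩ hx
      exact hgp (hle (hp'p.mem_of_pow_mem j hx))
    have h1 : (p'.map (algebraMap _ (Localization.Away g))).IsPrime :=
      IsLocalization.isPrime_of_isPrime_disjoint (Submonoid.powers g) _ p' hp'p hdisj
    have h2 : p'.map (algebraMap _ (Localization.Away g)) ≤ 𝔓 := by
      rw [← hmapp]; exact Ideal.map_mono hle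
    have h3 : 𝔓 ≤ p'.map (algebraMap _ (Localization.Away g)) := h𝔓.2 ⟨h1, bot_le⟩ h2
    have h4 : p ≤ p' := by
      rw [← IsLocalization.under_map_of_isPrime_disjoint (Submonoid.powers g)
        (Localization.Away g) hp'p hdisj]
      exact Ideal.comap_mono h3
    have : p = p' := le_antisymm h4 hle
    rw [this]; exact hp'
  have hpq : p ≤ q := by
    by_contra hcon
    exact hgp (hmin p hpmin hcon)
  refine le_trans ?_ (dim_quot_le k n I q c hc p hpq)
  have h1 := ringKrullDim_quotient_eq_coheight (⟨𝔓, h𝔓p⟩ : PrimeSpectrum (Localization.Away g))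
  have h2 := ringKrullDim_quotient_eq_coheight
    (⟨p, hpp⟩ : PrimeSpectrum (MvPolynomial (Fin n) k ⧸ I))
  simp only at h1 h2
  rw [h1, h2]
  have hsm : StrictMono (PrimeSpectrum.comap
      (algebraMap (MvPolynomial (Fin n) k ⧸ I) (Localization.Away g))) :=
    Monotone.strictMono_of_injective (fun _ _ h => Ideal.comap_mono h)
      (PrimeSpectrum.localization_comap_injective _ (Submonoid.powers g))
  have h3 := Order.coheight_le_coheight_apply_of_strictMono _ hsm
    (⟨𝔓, h𝔓p⟩ : PrimeSpectrum (Localization.Away g))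
  exact_mod_cast h3

end Dim

end Groth.Agent.Helper2.GCILoc
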