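import Mathlib

/-!
# Local generation of ideals (elementwise form)

`LocGen J q m`: the ideal `J` is generated by `m` of its elements locally at the prime `q`.
-/

namespace Groth.Agent.Helper2.LocGen

section Basic

variable {A : Type*} [CommRing A]

/-- `J` is generated by `m` of its elements locally at `q` (elementwise form). -/
def LocGen (J q : Ideal A) (m : ℕ) : Prop :=
  ∃ a : Fin m → A, (∀ i, a i ∈ J) ∧ ∀ x ∈ J, ∃ s, s ∉ q ∧ s * x ∈ Ideal.span (Set.range a)

theorem LocGen.mono {J q : Ideal A} {m m' : ℕ} (h : LocGen J q m) (hm : m ≤ m') :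
    LocGen J q m' := by
  obtain ⟨a, ha, hgen⟩ := h
  refine ⟨fun i => if hi : (i : ℕ) < m then a ⟨i, hi⟩ else 0, ?_, ?_⟩
  · intro i
    by_cases hi : (i : ℕ) < m
    · simp only [dif_pos hi]; exact ha _
    · simp only [dif_neg hi]; exact J.zero_mem
  · intro x hx
    obtain ⟨s, hs, hsx⟩ := hgen x hx
    refine ⟨s, hs, ?_⟩
    refine Ideal.span_mono ?_ hsx
    rintro _ ⟨i, rfl⟩
    refine ⟨⟨i, lt_of_lt_of_le i.2 hm⟩, ?_⟩
    simp only [dif_pos i.2]

end Basic

section Push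

variable {A B : Type*} [CommRing A] [CommRing B]

/-- pushing local generators along a surjection -/
theorem LocGen.push (σ : A →+* B) (hσ : Function.Surjective σ) (J₀ q₀ : Ideal B) (m : ℕ)
    (h : LocGen (J₀.comap σ) (q₀.comap σ) m) : LocGen J₀ q₀ m := by
  obtain ⟨a, ha, hgen⟩ := h
  refine ⟨fun i => σ (a i), fun i => ha i, ?_⟩
  intro x hx
  obtain ⟨y, rfl⟩ := hσ x
  obtain ⟨s, hs, hsx⟩ := hgen y hx
  refine ⟨σ s, hs, ?_⟩
  have h1 : σ (s * y) ∈ (Ideal.span (Set.range a)).map σ := Ideal.mem_map_of_mem σ hsx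
  rw [Ideal.map_span, ← Set.range_comp] at h1
  rw [← map_mul]
  exact h1

/-- lifting local generators along a surjection with principal kernel -/
theorem LocGen.up (σ : A →+* B) (hσ : Function.Surjective σ) (h : A)
    (hker : RingHom.ker σ ≤ Ideal.span {h}) (hh : σ h = 0) (J₀ q₀ : Ideal B) (m : ℕ)
    (hm : LocGen J₀ q₀ m) : LocGen (J₀.comap σ) (q₀.comap σ) (m + 1) := by
  obtain ⟨a₀, ha₀, hgen⟩ := hm
  choose a haσ using fun i => hσ (a₀ i)
  refine ⟨Fin.cons h a, ?_, ?_⟩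
  · intro i
    refine Fin.cases ?_ (fun j => ?_) i
    · rw [Fin.cons_zero, Ideal.mem_comap, hh]; exact J₀.zero_mem
    · rw [Fin.cons_succ, Ideal.mem_comap, haσ]; exact ha₀ j
  · intro x hx
    obtain ⟨s₀, hs₀, hsx⟩ := hgen (σ x) hx
    obtain ⟨s, rfl⟩ := hσ s₀
    refine ⟨s, hs₀, ?_⟩
    obtain ⟨e₀, he₀⟩ := (Ideal.mem_span_range_iff_exists_fun).mp hsx
    choose e heσ using fun i => hσ (e₀ i)
    have hk : s * x - ∑ i, e i * a i ∈ RingHom.ker σ := by
      rw [RingHom.mem_ker, map_sub, map_mul, map_sum, ← he₀, sub_eq_zero]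
      refine Finset.sum_congr rfl fun i _ => ?_
      rw [map_mul, heσ, haσ]
    have h1 : s * x - ∑ i, e i * a i ∈ Ideal.span (Set.range (Fin.cons h a : Fin (m + 1) → A)) := by
      refine Ideal.span_mono ?_ (hker hk)
      rintro _ rfl
      exact ⟨0, by rw [Fin.cons_zero]⟩
    have h2 : ∑ i, e i * a i ∈ Ideal.span (Set.range (Fin.cons h a : Fin (m + 1) → A)) := by
      refine Ideal.sum_mem _ fun i _ => Ideal.mul_mem_left _ _ (Ideal.subset_span ?_)
      exact ⟨i.succ, by rw [Fin.cons_succ]⟩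
    have : s * x = (s * x - ∑ i, e i * a i) + ∑ i, e i * a i := by ring
    rw [this]
    exact Ideal.add_mem _ h1 h2

/-- the key exchange step: removing a generator of the kernel -/
theorem LocGen.down (σ : A →+* B) (hσ : Function.Surjective σ) (h : A) (hh : σ h = 0)
    (J₀ q₀ : Ideal B) [hq₀ : q₀.IsPrime]
    (hstar : ∀ s, s * h ∈ (q₀.comap σ) * (J₀.comap σ) → s ∈ q₀.comap σ) (m : ℕ)
    (hm : LocGen (J₀.comap σ) (q₀.comap σ) (m + 1)) : LocGen J₀ q₀ m := by
  classical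
  obtain ⟨a, ha, hgen⟩ := hm
  have hhJ : h ∈ J₀.comap σ := by rw [Ideal.mem_comap, hh]; exact J₀.zero_mem
  obtain ⟨s, hs, hsh⟩ := hgen h hhJ
  obtain ⟨c, hc⟩ := (Ideal.mem_span_range_iff_exists_fun).mp hsh
  -- some coefficient is outside `q`
  have hex : ∃ i, c i ∉ q₀.comap σ := by
    by_contra hcon
    push_neg at hcon
    apply hs
    apply hstar
    rw [← hc]
    exact Ideal.sum_mem _ fun i _ => Ideal.mul_mem_mul (hcon i) (ha i)
  obtain ⟨i₀, hi₀⟩ := hex
  refine ⟨fun j => σ (a (i₀.succAbove j)), fun j => ha _, ?_⟩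
  intro x hx
  obtain ⟨y, rfl⟩ := hσ x
  obtain ⟨s₁, hs₁, hs₁y⟩ := hgen y hx
  obtain ⟨e, he⟩ := (Ideal.mem_span_range_iff_exists_fun).mp hs₁y
  refine ⟨σ (c i₀ * s₁), ?_, ?_⟩
  · intro hmem
    rw [map_mul] at hmem
    rcases hq₀.mem_or_mem hmem with h1 | h1
    · exact hi₀ h1
    · exact hs₁ h1
  · -- `c i₀ * s₁ * y = ∑_{i ≠ i₀} (c i₀ * e i - e i₀ * c i) * a i + e i₀ * (s * h)`
    have hsum : ∀ f : Fin (m + 1) → A, ∑ i, f i = f i₀ + ∑ j, f (i₀.succAbove j) :=
      fun f => Fin.sum_univ_succAbove f i₀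
    have h1 : c i₀ * s₁ * y =
        (∑ j : Fin m, (c i₀ * e (i₀.succAbove j) - e i₀ * c (i₀.succAbove j)) *
          a (i₀.succAbove j)) + e i₀ * (s * h) := by
      have e1 : s₁ * y = e i₀ * a i₀ + ∑ j, e (i₀.succAbove j) * a (i₀.succAbove j) := by
        rw [← he, hsum]
      have e2 : s * h = c i₀ * a i₀ + ∑ j, c (i₀.succAbove j) * a (i₀.succAbove j) := by
        rw [← hc, hsum]
      rw [mul_assoc, e1, e2]
      simp only [sub_mul, Finset.sum_sub_distrib, mul_add, Finset.mul_sum]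
      have e3 : ∀ j, c i₀ * (e (i₀.succAbove j) * a (i₀.succAbove j)) =
          c i₀ * e (i₀.succAbove j) * a (i₀.succAbove j) := fun j => by ring
      have e4 : ∀ j, e i₀ * (c (i₀.succAbove j) * a (i₀.succAbove j)) =
          e i₀ * c (i₀.succAbove j) * a (i₀.succAbove j) := fun j => by ring
      simp only [e3, e4]
      ring
    rw [← map_mul, h1, map_add, map_mul (f := σ) (e i₀), map_mul (f := σ) s, hh, mul_zero, mul_zero,
      add_zero, map_sum]
    refine Ideal.sum_mem _ fun j _ => ?_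
    rw [map_mul]
    exact Ideal.mul_mem_left _ _ (Ideal.subset_span ⟨j, rfl⟩)

end Push

end Groth.Agent.Helper2.LocGen
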