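import Mathlib
import Groth.Agent.Lib.Helper2.LocGen1

/-!
# Local generation of ideals: the polynomial steps
-/

namespace Groth.Agent.Helper2.LocGen

section Star

open Polynomial

variable {R B : Type*} [CommRing R] [CommRing B]

/-- the exchange condition for a quotient of a polynomial ring by one element -/
theorem star (σ : R[X] →+* B) (hσ : Function.Surjective σ) (h : R[X])
    (hker : RingHom.ker σ ≤ Ideal.span {h}) (q₀ : Ideal B) [hq₀ : q₀.IsPrime] (J₀ : Ideal B)
    (hJ₀ : J₀ ≤ ((q₀.comap (σ.comp C)).map (σ.comp C)))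
    (hh : h ∉ (q₀.comap (σ.comp C)).map (C : R →+* R[X])) :
    ∀ s, s * h ∈ (q₀.comap σ) * (J₀.comap σ) → s ∈ q₀.comap σ := by
  set 𝔭₀ := q₀.comap (σ.comp C) with h𝔭₀
  set 𝔓 := 𝔭₀.map (C : R →+* R[X]) with h𝔓
  haveI : 𝔭₀.IsPrime := Ideal.comap_isPrime _ _
  haveI h𝔓p : 𝔓.IsPrime := Ideal.isPrime_map_C_of_isPrime
  have h𝔓q : 𝔓 ≤ q₀.comap σ := by
    rw [h𝔓, Ideal.map_le_iff_le_comap, Ideal.comap_comap]
  have hJ : J₀.comap σ ≤ 𝔓 ⊔ Ideal.span {h} := by
    intro F hF
    have h1 : σ F ∈ 𝔓.map σ := by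
      rw [h𝔓, Ideal.map_map]
      exact hJ₀ hF
    obtain ⟨G, hG, hGF⟩ := (Ideal.mem_map_iff_of_surjective σ hσ).mp h1
    have h2 : F - G ∈ RingHom.ker σ := by
      rw [RingHom.mem_ker, map_sub, hGF, sub_self]
    have : F = G + (F - G) := by ring
    rw [this]
    exact Ideal.add_mem _ (Ideal.mem_sup_left hG) (Ideal.mem_sup_right (hker h2))
  intro s hs
  have h1 : (q₀.comap σ) * (J₀.comap σ) ≤ 𝔓 ⊔ Ideal.span {h} * (q₀.comap σ) := by
    refine (Ideal.mul_mono_right hJ).trans ?_
    rw [Ideal.mul_sup]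
    refine sup_le_sup Ideal.mul_le_right ?_
    rw [mul_comm]
  obtain ⟨α, hα, β', hβ', hsum⟩ := Submodule.mem_sup.mp (h1 hs)
  obtain ⟨β, hβ, rfl⟩ := Ideal.mem_span_singleton_mul.mp hβ'
  have h2 : (s - β) * h ∈ 𝔓 := by
    have : (s - β) * h = α := by
      rw [sub_mul, ← hsum]; ring
    rw [this]; exact hα
  rcases h𝔓p.mem_or_mem h2 with h3 | h3
  · have : s = (s - β) + β := by ring
    rw [this]
    exact Ideal.add_mem _ (h𝔓q h3) hβ
  · exact absurd h3 hh

end Star

section PolyStep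

open Polynomial

variable {R T : Type*} [CommRing R] [CommRing T]

/-- adding one polynomial variable (down) -/
theorem poly_down (π : R →+* T) (hπ : Function.Surjective π) (t : T) (qT : Ideal T) [hqT : qT.IsPrime]
    (m : ℕ)
    (h : LocGen (RingHom.ker (eval₂RingHom π t)) (qT.comap (eval₂RingHom π t)) (m + 1)) :
    LocGen (RingHom.ker π) (qT.comap π) m := by
  obtain ⟨b, rfl⟩ := hπ t
  have hcomp : eval₂RingHom π (π b) = π.comp (evalRingHom b) := by
    apply Polynomial.ringHom_ext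
    · intro a; simp
    · simp
  have hσ : Function.Surjective (evalRingHom b) := fun r => ⟨C r, by simp⟩
  haveI : (qT.comap π).IsPrime := Ideal.comap_isPrime _ _
  rw [hcomp, ← RingHom.comap_ker, ← Ideal.comap_comap] at h
  refine LocGen.down (evalRingHom b) hσ (X - C b) (by simp) (RingHom.ker π) (qT.comap π) ?_ m h
  have hC : (evalRingHom b).comp (C : R →+* R[X]) = RingHom.id R := by
    ext r; simp
  apply star (evalRingHom b) hσ (X - C b)
  · rw [Polynomial.ker_evalRingHom]
  · rw [hC, Ideal.comap_id, Ideal.map_id]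
    intro x hx
    rw [RingHom.mem_ker] at hx
    rw [Ideal.mem_comap, hx]
    exact qT.zero_mem
  · rw [hC, Ideal.comap_id, Ideal.mem_map_C_iff]
    intro hcon
    have h1 := hcon 1
    rw [coeff_sub, coeff_X_one, coeff_C_succ, sub_zero] at h1
    exact (Ideal.IsPrime.ne_top inferInstance) ((Ideal.eq_top_iff_one _).mpr h1)

/-- adding one polynomial variable (up) -/
theorem poly_up (π : R →+* T) (hπ : Function.Surjective π) (t : T) (qT : Ideal T) (m : ℕ)
    (h : LocGen (RingHom.ker π) (qT.comap π) m) :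
    LocGen (RingHom.ker (eval₂RingHom π t)) (qT.comap (eval₂RingHom π t)) (m + 1) := by
  obtain ⟨b, rfl⟩ := hπ t
  have hcomp : eval₂RingHom π (π b) = π.comp (evalRingHom b) := by
    apply Polynomial.ringHom_ext
    · intro a; simp
    · simp
  have hσ : Function.Surjective (evalRingHom b) := fun r => ⟨C r, by simp⟩
  rw [hcomp, ← RingHom.comap_ker, ← Ideal.comap_comap]
  exact LocGen.up (evalRingHom b) hσ (X - C b) (by rw [Polynomial.ker_evalRingHom]) (by simp)
    (RingHom.ker π) (qT.comap π) m h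

end PolyStep

end Groth.Agent.Helper2.LocGen
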