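import Mathlib
import Groth.Agent.Lib.Helper2.LocGen2

/-!
# Local generation of ideals: several polynomial variables
-/

namespace Groth.Agent.Helper2.LocGen

section Equiv

variable {A A' T : Type*} [CommRing A] [CommRing A'] [CommRing T]

theorem LocGen.comp_equiv (e : A ≃+* A') (π' : A' →+* T) (qT : Ideal T) (m : ℕ) :
    LocGen (RingHom.ker (π'.comp (e : A →+* A'))) (qT.comap (π'.comp (e : A →+* A'))) m ↔
      LocGen (RingHom.ker π') (qT.comap π') m := by
  constructor
  · intro h
    rw [← RingHom.comap_ker, ← Ideal.comap_comap] at h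
    exact LocGen.push (e : A →+* A') e.surjective _ _ m h
  · intro h
    have h1 : (π'.comp (e : A →+* A')).comp (e.symm : A' →+* A) = π' := by
      ext x; simp
    have h2 : LocGen ((RingHom.ker (π'.comp (e : A →+* A'))).comap (e.symm : A' →+* A))
        ((qT.comap (π'.comp (e : A →+* A'))).comap (e.symm : A' →+* A)) m := by
      rw [RingHom.comap_ker, Ideal.comap_comap, h1]
      exact h
    exact LocGen.push (e.symm : A' →+* A) e.symm.surjective _ _ m h2

end Equiv

section MvStep

open MvPolynomial

variable {R T : Type*} [CommRing R] [CommRing T]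

theorem mv_step (π : R →+* T) (hπ : Function.Surjective π) (qT : Ideal T) [hqT : qT.IsPrime] :
    ∀ (m' : ℕ) (t : Fin m' → T) (m : ℕ),
      LocGen (RingHom.ker (eval₂Hom π t)) (qT.comap (eval₂Hom π t)) (m + m') ↔
        LocGen (RingHom.ker π) (qT.comap π) m := by
  intro m'
  induction m' with
  | zero =>
    intro t m
    have h1 : (eval₂Hom π t).comp
        (((isEmptyRingEquiv R (Fin 0)).symm : R ≃+* MvPolynomial (Fin 0) R) :
          R →+* MvPolynomial (Fin 0) R) = π := by
      ext r; simp
    have h2 := LocGen.comp_equiv (isEmptyRingEquiv R (Fin 0)).symm (eval₂Hom π t) qT m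
    rw [h1] at h2
    rw [add_zero]
    exact h2.symm
  | succ m' ih =>
    intro t m
    have hsurj : Function.Surjective (eval₂Hom π (fun i : Fin m' => t i.succ)) := by
      intro x
      obtain ⟨r, rfl⟩ := hπ x
      exact ⟨C r, by simp⟩
    have h1 : (Polynomial.eval₂RingHom (eval₂Hom π (fun i : Fin m' => t i.succ)) (t 0)).comp
        (((finSuccEquiv R m').toRingEquiv : MvPolynomial (Fin (m' + 1)) R ≃+* _) :
          MvPolynomial (Fin (m' + 1)) R →+* _) = eval₂Hom π t := by
      apply MvPolynomial.ringHom_ext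
      · intro r
        simp [finSuccEquiv_apply]
      · intro i
        refine Fin.cases ?_ (fun j => ?_) i
        · simp [finSuccEquiv_X_zero]
        · simp [finSuccEquiv_X_succ]
    have h2 := LocGen.comp_equiv (finSuccEquiv R m').toRingEquiv
      (Polynomial.eval₂RingHom (eval₂Hom π (fun i : Fin m' => t i.succ)) (t 0)) qT (m + (m' + 1))
    rw [h1] at h2
    rw [h2, ← ih (fun i : Fin m' => t i.succ) m, ← add_assoc]
    constructor
    · exact poly_down _ hsurj (t 0) qT (m + m')
    · exact poly_up _ hsurj (t 0) qT (m + m')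

end MvStep

section Comm

open MvPolynomial

variable {k T : Type*} [CommRing k] [CommRing T]

/-- comparing two presentations by polynomial rings -/
theorem compare (N n₂ : ℕ) (φ : MvPolynomial (Fin N) k →+* T) (ψ : MvPolynomial (Fin n₂) k →+* T)
    (hφ : Function.Surjective φ) (hψ : Function.Surjective ψ)
    (hk : φ.comp C = ψ.comp C) (qT : Ideal T) [hqT : qT.IsPrime] (m₁ m₂ : ℕ)
    (hm : m₁ + n₂ ≤ m₂ + N)
    (h : LocGen (RingHom.ker φ) (qT.comap φ) m₁) : LocGen (RingHom.ker ψ) (qT.comap ψ) m₂ := by
  -- up to `MvPolynomial (Fin n₂) (MvPolynomial (Fin N) k)`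
  have h1 := (mv_step φ hφ qT n₂ (fun i => ψ (X i)) m₁).mpr h
  -- transport along the commutation isomorphism
  have hcomm : (eval₂Hom ψ (fun j => φ (X j))).comp
      (((commAlgEquiv k (Fin n₂) (Fin N)).toRingEquiv :
        MvPolynomial (Fin n₂) (MvPolynomial (Fin N) k) ≃+* _) :
          MvPolynomial (Fin n₂) (MvPolynomial (Fin N) k) →+* _) =
      eval₂Hom φ (fun i => ψ (X i)) := by
    apply MvPolynomial.ringHom_ext
    · intro p
      change eval₂Hom ψ (fun j => φ (X j)) (commAlgEquiv k (Fin n₂) (Fin N) (C p)) = _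
      rw [commAlgEquiv_C]
      simp only [eval₂Hom_C]
      induction p using MvPolynomial.induction_on with
      | C a =>
        simp only [map_C, eval₂Hom_C]
        exact (RingHom.congr_fun hk a).symm
      | add p q hp hq => simp only [map_add, hp, hq]
      | mul_X p i hp => simp only [map_mul, hp, map_X, eval₂Hom_X']
    · intro i
      change eval₂Hom ψ (fun j => φ (X j)) (commAlgEquiv k (Fin n₂) (Fin N) (X i)) = _
      rw [commAlgEquiv_X]
      simp
  have h2 := LocGen.comp_equiv (commAlgEquiv k (Fin n₂) (Fin N)).toRingEquiv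
    (eval₂Hom ψ (fun j => φ (X j))) qT (m₁ + n₂)
  rw [hcomm] at h2
  have h3 := (h2.mp h1).mono hm
  exact (mv_step ψ hψ qT N (fun j => φ (X j)) m₂).mp h3

end Comm

end Groth.Agent.Helper2.LocGen
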