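import Mathlib
import Groth.Agent.Lib.Helper2.LocGen3

/-!
# Local generation of ideals: comparison with localizations
-/

namespace Groth.Agent.Helper2.LocGen

section Loc

variable {B L : Type*} [CommRing B] [CommRing L]

/-- from the elementwise form to generators in a ring where the complement of `q₀` is inverted -/
theorem local_of_locGen (τ : B →+* L) (J₀ q₀ : Ideal B) (hτ : ∀ s, s ∉ q₀ → IsUnit (τ s)) (m : ℕ)
    (h : LocGen J₀ q₀ m) : ∃ f : Fin m → L, Ideal.span (Set.range f) = J₀.map τ := by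
  obtain ⟨a, ha, hgen⟩ := h
  refine ⟨fun i => τ (a i), le_antisymm ?_ ?_⟩
  · rw [Ideal.span_le]
    rintro _ ⟨i, rfl⟩
    exact Ideal.mem_map_of_mem τ (ha i)
  · rw [Ideal.map_le_iff_le_comap]
    intro x hx
    obtain ⟨s, hs, hsx⟩ := hgen x hx
    rw [Ideal.mem_comap]
    have h1 : τ (s * x) ∈ (Ideal.span (Set.range a)).map τ := Ideal.mem_map_of_mem τ hsx
    rw [Ideal.map_span, ← Set.range_comp, map_mul] at h1
    exact (Ideal.unit_mul_mem_iff_mem _ (hτ s hs)).mp h1

variable [Algebra B L]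

/-- from generators in the localization at `q₀` to the elementwise form -/
theorem locGen_of_local (J₀ q₀ : Ideal B) [hq₀ : q₀.IsPrime] [IsLocalization.AtPrime L q₀] (m : ℕ)
    (h : ∃ f : Fin m → L, Ideal.span (Set.range f) = J₀.map (algebraMap B L)) :
    LocGen J₀ q₀ m := by
  obtain ⟨f, hf⟩ := h
  have hfi : ∀ i, f i ∈ J₀.map (algebraMap B L) := fun i => by
    rw [← hf]; exact Ideal.subset_span ⟨i, rfl⟩
  have hex : ∀ i, ∃ a : B, a ∈ J₀ ∧ ∃ s : B, s ∉ q₀ ∧ f i * algebraMap B L s = algebraMap B L a := by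
    intro i
    obtain ⟨⟨⟨a, ha⟩, ⟨s, hs⟩⟩, hx⟩ :=
      (IsLocalization.mem_map_algebraMap_iff q₀.primeCompl L).mp (hfi i)
    exact ⟨a, ha, s, hs, hx⟩
  choose a ha s hs hfa using hex
  refine ⟨a, ha, ?_⟩
  intro x hx
  have hunit : ∀ i, IsUnit (algebraMap B L (s i)) := fun i =>
    IsLocalization.map_units L (⟨s i, hs i⟩ : q₀.primeCompl)
  have h1 : algebraMap B L x ∈ (Ideal.span (Set.range a)).map (algebraMap B L) := by
    have h2 : Ideal.span (Set.range f) ≤ (Ideal.span (Set.range a)).map (algebraMap B L) := by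
      rw [Ideal.span_le]
      rintro _ ⟨i, rfl⟩
      have h3 : f i * algebraMap B L (s i) ∈ (Ideal.span (Set.range a)).map (algebraMap B L) := by
        rw [hfa]
        exact Ideal.mem_map_of_mem _ (Ideal.subset_span ⟨i, rfl⟩)
      rw [mul_comm] at h3
      exact (Ideal.unit_mul_mem_iff_mem _ (hunit i)).mp h3
    apply h2
    rw [hf]
    exact Ideal.mem_map_of_mem _ hx
  obtain ⟨⟨⟨y, hy⟩, ⟨t, ht⟩⟩, hxy⟩ :=
    (IsLocalization.mem_map_algebraMap_iff q₀.primeCompl L).mp h1
  simp only at hxy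
  rw [← map_mul] at hxy
  obtain ⟨⟨u, hu⟩, huxy⟩ := (IsLocalization.eq_iff_exists q₀.primeCompl L).mp hxy
  simp only at huxy
  refine ⟨u * t, ?_, ?_⟩
  · intro hmem
    rcases hq₀.mem_or_mem hmem with h2 | h2
    · exact hu h2
    · exact ht h2
  · have : u * t * x = u * y := by
      rw [← huxy]; ring
    rw [this]
    exact Ideal.mul_mem_left _ _ hy

end Loc

end Groth.Agent.Helper2.LocGen
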