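import Mathlib
import Groth.Prelude.Def_RegImm
import Groth.Agent.Lib.Helper2.GCILocD1
import Groth.Agent.Lib.Helper2.LocGen4
import Groth.Agent.S9141

set_option autoImplicit false
universe u

namespace Groth.Agent.Helper2.GCILoc

open MvPolynomial Groth.Agent.Helper2.LocGen Groth.Agent.Helper26.GCI

section MainD

variable (k : Type u) [Field k] (n : ℕ) (I : Ideal (MvPolynomial (Fin n) k))
  (q : Ideal (MvPolynomial (Fin n) k ⧸ I)) [hq : q.IsPrime]

/-- generators ⇒ (1) -/
theorem globalCI_of_gens (c : ℕ)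
    (hc : (c : ℕ∞) + q.height = (q.comap (Ideal.Quotient.mk I)).height)
    (f : Fin c → Localization.AtPrime (q.comap (Ideal.Quotient.mk I)))
    (hf : Ideal.span (Set.range f) =
      I.map (algebraMap _ (Localization.AtPrime (q.comap (Ideal.Quotient.mk I))))) :
    ∃ g : MvPolynomial (Fin n) k ⧸ I, g ∉ q ∧ Synt.IsGlobalCI k (Localization.Away g) := by
  classical
  set q' := q.comap (Ideal.Quotient.mk I) with hq'
  haveI hq'p : q'.IsPrime := Ideal.comap_isPrime _ _
  obtain ⟨a, ha, hgen⟩ := locGen_of_local I q' c ⟨f, hf⟩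
  -- one denominator for all of `I`
  obtain ⟨E, hE⟩ := (IsNoetherian.noetherian I : I.FG)
  have hEI : ∀ e ∈ E, e ∈ I := fun e he => hE ▸ Ideal.subset_span he
  have hex : ∀ e : MvPolynomial (Fin n) k,
      ∃ s, e ∈ E → (s ∉ q' ∧ s * e ∈ Ideal.span (Set.range a)) := by
    intro e
    by_cases he : e ∈ E
    · obtain ⟨s, hs, hse⟩ := hgen e (hEI e he)
      exact ⟨s, fun _ => ⟨hs, hse⟩⟩
    · exact ⟨0, fun h => absurd h he⟩
  choose s hs using hex
  set g₁ := ∏ e ∈ E, s e with hg₁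
  have hg₁q : g₁ ∉ q' := by
    rw [hg₁, Ideal.IsPrime.prod_mem_iff]
    rintro ⟨e, he, hmem⟩
    exact (hs e he).1 hmem
  have hg₁E : ∀ e ∈ E, g₁ * e ∈ Ideal.span (Set.range a) := by
    intro e he
    rw [hg₁, ← Finset.prod_erase_mul E s he, mul_assoc]
    exact Ideal.mul_mem_left _ _ (hs e he).2
  have hg₁I : ∀ x ∈ I, g₁ * x ∈ Ideal.span (Set.range a) := by
    intro x hx
    rw [← hE] at hx
    refine Submodule.span_induction ?_ ?_ ?_ ?_ hx
    · intro e he; exact hg₁E e he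
    · rw [mul_zero]; exact zero_mem _
    · intro x y _ _ hx hy; rw [mul_add]; exact add_mem hx hy
    · intro r x _ hx; rw [smul_eq_mul, mul_left_comm]; exact Ideal.mul_mem_left _ _ hx
  -- avoid the minimal primes not below `q`
  have hfinmin : (minimalPrimes (MvPolynomial (Fin n) k ⧸ I)).Finite :=
    minimalPrimes.finite_of_isNoetherianRing _
  set M₀ : Finset (Ideal (MvPolynomial (Fin n) k ⧸ I)) :=
    hfinmin.toFinset.filter (fun p => ¬ p ≤ q) with hM₀
  have hexy : ∀ p : Ideal (MvPolynomial (Fin n) k ⧸ I), ∃ y, p ∈ M₀ → (y ∈ p ∧ y ∉ q) := by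
    intro p
    by_cases hp : p ∈ M₀
    · have hp' := hp
      rw [hM₀, Finset.mem_filter] at hp'
      obtain ⟨y, hyp, hyq⟩ := SetLike.not_le_iff_exists.mp hp'.2
      exact ⟨y, fun _ => ⟨hyp, hyq⟩⟩
    · exact ⟨0, fun h => absurd h hp⟩
  choose y hy using hexy
  set y₀ := ∏ p ∈ M₀, y p with hy₀
  have hy₀q : y₀ ∉ q := by
    rw [hy₀, Ideal.IsPrime.prod_mem_iff]
    rintro ⟨p, hp, hmem⟩
    exact (hy p hp).2 hmem
  have hy₀p : ∀ p ∈ minimalPrimes (MvPolynomial (Fin n) k ⧸ I), ¬ p ≤ q → y₀ ∈ p := by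
    intro p hp hpq
    have hpM : p ∈ M₀ := by
      rw [hM₀, Finset.mem_filter, Set.Finite.mem_toFinset]; exact ⟨hp, hpq⟩
    rw [hy₀, ← Finset.mul_prod_erase M₀ y hpM]
    exact Ideal.mul_mem_right _ _ (hy p hpM).1
  obtain ⟨g₀, hg₀⟩ := Ideal.Quotient.mk_surjective y₀
  set gt := g₁ * g₀ with hgt
  have hgmk : Ideal.Quotient.mk I gt = Ideal.Quotient.mk I g₁ * y₀ := by rw [hgt, map_mul, hg₀]
  have hgq : Ideal.Quotient.mk I gt ∉ q := by
    rw [hgmk]
    intro hmem
    rcases hq.mem_or_mem hmem with h | h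
    · exact hg₁q h
    · exact hy₀q h
  have hmin : ∀ p ∈ minimalPrimes (MvPolynomial (Fin n) k ⧸ I), ¬ p ≤ q →
      Ideal.Quotient.mk I gt ∈ p := by
    intro p hp hpq
    rw [hgmk]; exact Ideal.mul_mem_left _ _ (hy₀p p hp hpq)
  have hgtI : ∀ x ∈ I, gt * x ∈ Ideal.span (Set.range a) := by
    intro x hx
    rw [hgt, mul_comm g₁ g₀, mul_assoc]
    exact Ideal.mul_mem_left _ _ (hg₁I x hx)
  refine ⟨Ideal.Quotient.mk I gt, hgq, ?_⟩
  have hdimle := dim_away_le k n I q c hc (Ideal.Quotient.mk I gt) hmin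
  have hale : Ideal.span (Set.range a) ≤ I :=
    Ideal.span_le.mpr (by rintro _ ⟨i, rfl⟩; exact ha i)
  obtain ⟨e⟩ := nonempty_away_equiv k (Ideal.span (Set.range a)) I hale gt hgtI
  -- nontriviality
  have hdisj : Disjoint (Submonoid.powers (Ideal.Quotient.mk I gt) : Set (MvPolynomial (Fin n) k ⧸ I))
      (q : Set _) := by
    rw [Set.disjoint_left]
    rintro x ⟨j, rfl⟩ hx
    exact hgq (hq.mem_of_pow_mem j hx)
  have hqT : (q.map (algebraMap _ (Localization.Away (Ideal.Quotient.mk I gt)))).IsPrime :=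
    IsLocalization.isPrime_of_isPrime_disjoint (Submonoid.powers (Ideal.Quotient.mk I gt)) _ q hq hdisj
  haveI hnt : Nontrivial (Localization.Away (Ideal.Quotient.mk I gt)) := by
    by_contra hcon
    rw [not_nontrivial_iff_subsingleton] at hcon
    exact hqT.ne_top (Subsingleton.elim _ _)
  haveI hnt' : Nontrivial (Localization.Away
      (Ideal.Quotient.mk (Ideal.span (Set.range a)) gt)) := e.surjective.nontrivial
  -- `c ≤ n`
  have hcn : c ≤ n := by
    obtain ⟨δ, -, hq'δ, -⟩ := exists_delta k n I q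
    rw [← hc] at hq'δ
    have h1 : (c : ℕ∞) ≤ (n : ℕ∞) := by
      rw [← hq'δ, add_assoc]
      exact le_self_add
    exact_mod_cast h1
  apply isGlobalCI_of_goodAlg e
  let P₀ : Algebra.Presentation k (MvPolynomial (Fin n) k ⧸ Ideal.span (Set.range a))
    (Fin n) (Fin c) := Algebra.Presentation.naive
  let Q := Algebra.Presentation.localizationAway
    (Localization.Away (Ideal.Quotient.mk (Ideal.span (Set.range a)) gt))
    (Ideal.Quotient.mk (Ideal.span (Set.range a)) gt)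
  have e1 : Fintype.card (Unit ⊕ Fin n) = 1 + n := by simp
  have e2 : Fintype.card (Unit ⊕ Fin c) = 1 + c := by simp
  let P' : Algebra.Presentation k
      (Localization.Away (Ideal.Quotient.mk (Ideal.span (Set.range a)) gt))
      (Fin (1 + n)) (Fin (1 + c)) :=
    (Q.comp P₀).reindex (Fintype.equivFinOfCardEq e1).symm (Fintype.equivFinOfCardEq e2).symm
  refine ⟨1 + n, 1 + c, ⟨P'⟩, by omega, ?_⟩
  apply le_antisymm
  · rw [ringKrullDim_eq_of_ringEquiv e.toRingEquiv]
    refine hdimle.trans ?_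
    exact_mod_cast (by omega : n - c ≤ 1 + n - (1 + c))
  · exact Groth.Agent.S9141.le_dim_of_presentation (1 + n) (1 + c) P'

end MainD

end Groth.Agent.Helper2.GCILoc
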