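import Mathlib
import Groth.Prelude.Def_RegImm
import Groth.Agent.Lib.Helper2.GCILocE1
import Groth.Agent.Lib.Helper2.LocGen4

set_option autoImplicit false
universe u

namespace Groth.Agent.Helper2.GCILoc

open Groth.Agent.Helper2.LocGen

section Sigma

open Polynomial

variable {R : Type*} [CommRing R] (r : R)

/-- the surjection `R[X] → R_r` with kernel `(rX - 1)` -/
noncomputable def sigma : R[X] →+* Localization.Away r :=
  ((Localization.awayEquivAdjoin r).symm.toRingEquiv.toRingHom).comp (AdjoinRoot.mk (C r * X - 1))

theorem sigma_surjective : Function.Surjective (sigma r) := by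
  unfold sigma
  exact (Localization.awayEquivAdjoin r).symm.surjective.comp AdjoinRoot.mk_surjective

theorem sigma_self : sigma r (C r * X - 1) = 0 := by
  unfold sigma
  simp

theorem sigma_ker_le : RingHom.ker (sigma r) ≤ Ideal.span {C r * X - 1} := by
  intro x hx
  rw [RingHom.mem_ker] at hx
  unfold sigma at hx
  have h1 : (Localization.awayEquivAdjoin r).symm (AdjoinRoot.mk (C r * X - 1) x) = 0 := hx
  rw [map_eq_zero_iff _ (Localization.awayEquivAdjoin r).symm.injective,
    AdjoinRoot.mk_eq_zero] at h1
  exact Ideal.mem_span_singleton.mpr h1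

theorem sigma_comp_C : (sigma r).comp (C : R →+* R[X]) = algebraMap R (Localization.Away r) := by
  ext a
  unfold sigma
  have h1 : AdjoinRoot.mk (C r * X - 1) (C a) = algebraMap R (AdjoinRoot (C r * X - 1)) a := by
    rw [AdjoinRoot.algebraMap_eq]; rfl
  change (Localization.awayEquivAdjoin r).symm (AdjoinRoot.mk (C r * X - 1) (C a)) = _
  rw [h1, AlgEquiv.commutes]

end Sigma

section Tau

variable {P : Type*} [CommRing P] (I : Ideal P) (gt : P)

/-- the map `P_gt → (P/I)_g` -/
noncomputable def tau : Localization.Away gt →+* Localization.Away (Ideal.Quotient.mk I gt) :=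
  IsLocalization.Away.map (Localization.Away gt) (Localization.Away (Ideal.Quotient.mk I gt))
    (Ideal.Quotient.mk I) gt

theorem tau_comp : (tau I gt).comp (algebraMap P (Localization.Away gt)) =
    (algebraMap (P ⧸ I) (Localization.Away (Ideal.Quotient.mk I gt))).comp (Ideal.Quotient.mk I) := by
  unfold tau IsLocalization.Away.map
  exact IsLocalization.map_comp _

theorem tau_surjective : Function.Surjective (tau I gt) := by
  unfold tau IsLocalization.Away.map
  haveI : IsLocalization (Submonoid.map (Ideal.Quotient.mk I) (Submonoid.powers gt))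
      (Localization.Away (Ideal.Quotient.mk I gt)) := by
    rw [Submonoid.map_powers]
    infer_instance
  exact IsLocalization.map_surjective_of_surjective _ _ _ Ideal.Quotient.mk_surjective

theorem tau_ker : RingHom.ker (tau I gt) = I.map (algebraMap P (Localization.Away gt)) := by
  unfold tau IsLocalization.Away.map
  have h1 := IsLocalization.ker_map (S := Localization.Away gt)
    (Localization.Away (Ideal.Quotient.mk I gt)) (Ideal.Quotient.mk I)
    (M := Submonoid.powers gt) (T := Submonoid.powers (Ideal.Quotient.mk I gt))
    (Submonoid.map_powers _ _)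
  rw [Ideal.mk_ker] at h1
  exact h1

end Tau

end Groth.Agent.Helper2.GCILoc
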