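import Mathlib
import Groth.Prelude.Def_RegImm
import Groth.Agent.Lib.Helper2.GCILocE2

set_option autoImplicit false
universe u

namespace Groth.Agent.Helper2.GCILoc

open Groth.Agent.Helper2.LocGen MvPolynomial

section Main

variable (k : Type u) [Field k] (n : ℕ) (I : Ideal (MvPolynomial (Fin n) k))
  (q : Ideal (MvPolynomial (Fin n) k ⧸ I)) [hq : q.IsPrime]

/-- (1) ⇒ generators: if `S_g` is a global complete intersection, then `I` is locally generated by
`c` elements at `q'`. -/
theorem gens_of_globalCI (c : ℕ)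
    (hc : (c : ℕ∞) + q.height = (q.comap (Ideal.Quotient.mk I)).height)
    (gt : MvPolynomial (Fin n) k) (hg : Ideal.Quotient.mk I gt ∉ q)
    (hT : Synt.IsGlobalCI k (Localization.Away (Ideal.Quotient.mk I gt))) :
    ∃ f : Fin c → Localization.AtPrime (q.comap (Ideal.Quotient.mk I)),
      Ideal.span (Set.range f) =
        I.map (algebraMap _ (Localization.AtPrime (q.comap (Ideal.Quotient.mk I)))) := by
  classical
  have hdisj : Disjoint (Submonoid.powers (Ideal.Quotient.mk I gt) : Set (MvPolynomial (Fin n) k ⧸ I))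
      (q : Set _) := by
    rw [Set.disjoint_left]
    rintro x ⟨j, rfl⟩ hx
    exact hg (hq.mem_of_pow_mem j hx)
  set qT := q.map (algebraMap _ (Localization.Away (Ideal.Quotient.mk I gt))) with hqTdef
  haveI hqT : qT.IsPrime :=
    IsLocalization.isPrime_of_isPrime_disjoint (Submonoid.powers (Ideal.Quotient.mk I gt)) _ q hq hdisj
  have hqTcomap : qT.comap (algebraMap _ (Localization.Away (Ideal.Quotient.mk I gt))) = q :=
    IsLocalization.under_map_of_isPrime_disjoint (Submonoid.powers (Ideal.Quotient.mk I gt)) _ hq hdisj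
  rcases hT with hsub | ⟨N, Cn, hCN, φ, r, hφ, hker, hdim⟩
  · exfalso
    haveI := hsub
    exact hqT.ne_top (Subsingleton.elim _ _)
  have hnum := numerics k n I q c hc (Ideal.Quotient.mk I gt) hg N Cn hCN hdim
  -- the given presentation
  have h1 : LocGen (RingHom.ker φ.toRingHom) (qT.comap φ.toRingHom) Cn := by
    refine ⟨r, fun i => ?_, fun x hx => ⟨1, ?_, ?_⟩⟩
    · rw [hker]; exact Ideal.subset_span ⟨i, rfl⟩
    · intro h1
      exact (Ideal.comap_isPrime φ.toRingHom qT).ne_top ((Ideal.eq_top_iff_one _).mpr h1)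
    · rw [one_mul, ← hker]; exact hx
  -- the second presentation
  set ψ' : Polynomial (MvPolynomial (Fin n) k) →+* Localization.Away (Ideal.Quotient.mk I gt) :=
    (tau I gt).comp (sigma gt) with hψ'
  set ψ : MvPolynomial (Fin (n + 1)) k →+* Localization.Away (Ideal.Quotient.mk I gt) :=
    ψ'.comp ((finSuccEquiv k n).toRingEquiv : MvPolynomial (Fin (n + 1)) k →+* _) with hψ
  have hψ'surj : Function.Surjective ψ' := (tau_surjective I gt).comp (sigma_surjective gt)
  have hψsurj : Function.Surjective ψ := hψ'surj.comp (finSuccEquiv k n).surjective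
  have hk : φ.toRingHom.comp C = ψ.comp C := by
    ext a
    have e1 : φ.toRingHom (C a) = algebraMap k _ a := by
      change φ (C a) = _
      rw [← MvPolynomial.algebraMap_eq, AlgHom.commutes]
    have e2 : ψ (C a) = algebraMap k _ a := by
      change (tau I gt) ((sigma gt) (finSuccEquiv k n (C a))) = _
      have e3 : finSuccEquiv k n (C a) = Polynomial.C (C a) := by
        simp [finSuccEquiv_apply]
      rw [e3]
      have e4 := RingHom.congr_fun (sigma_comp_C gt) (C a)
      rw [RingHom.comp_apply] at e4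
      rw [e4]
      have e5 := RingHom.congr_fun (tau_comp I gt) (C a)
      rw [RingHom.comp_apply, RingHom.comp_apply] at e5
      rw [e5]
      rfl
    rw [RingHom.comp_apply, RingHom.comp_apply, e1, e2]
  have h2 : LocGen (RingHom.ker ψ) (qT.comap ψ) (c + 1) :=
    compare N (n + 1) φ.toRingHom ψ hφ hψsurj hk qT Cn (c + 1) (by omega) h1
  have h3 : LocGen (RingHom.ker ψ') (qT.comap ψ') (c + 1) :=
    (LocGen.comp_equiv (finSuccEquiv k n).toRingEquiv ψ' qT (c + 1)).mp h2
  -- eliminate the last variable
  set q₀ := qT.comap (tau I gt) with hq₀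
  haveI hq₀p : q₀.IsPrime := Ideal.comap_isPrime _ _
  set q' := q.comap (Ideal.Quotient.mk I) with hq'
  haveI hq'p : q'.IsPrime := Ideal.comap_isPrime _ _
  have hq₀comap : q₀.comap (algebraMap _ (Localization.Away gt)) = q' := by
    rw [hq₀, Ideal.comap_comap, tau_comp, ← Ideal.comap_comap, hqTcomap]
  have hIq' : I ≤ q' := by
    intro x hx
    rw [hq', Ideal.mem_comap, Ideal.Quotient.eq_zero_iff_mem.mpr hx]
    exact q.zero_mem
  have hgq' : gt ∉ q' := hg
  have h4 : LocGen (RingHom.ker (tau I gt)) q₀ c := by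
    rw [hψ', ← RingHom.comap_ker, ← Ideal.comap_comap] at h3
    refine LocGen.down (sigma gt) (sigma_surjective gt) _ (sigma_self gt) _ q₀ ?_ c h3
    apply star (sigma gt) (sigma_surjective gt) _ (sigma_ker_le gt)
    · rw [sigma_comp_C, hq₀comap, tau_ker]
      exact Ideal.map_mono hIq'
    · rw [sigma_comp_C, hq₀comap, Ideal.mem_map_C_iff]
      intro hcon
      have h5 := hcon 0
      rw [Polynomial.coeff_sub, Polynomial.mul_coeff_zero, Polynomial.coeff_X_zero, mul_zero,
        zero_sub, Polynomial.coeff_one_zero] at h5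
      apply hq'p.ne_top
      rw [Ideal.eq_top_iff_one]
      have := q'.neg_mem h5
      rwa [neg_neg] at this
  -- pass to the local ring
  have hunit : IsUnit (algebraMap (MvPolynomial (Fin n) k) (Localization.AtPrime q') gt) :=
    IsLocalization.map_units (Localization.AtPrime q') (⟨gt, hgq'⟩ : q'.primeCompl)
  set τL : Localization.Away gt →+* Localization.AtPrime q' :=
    IsLocalization.Away.lift gt hunit with hτL
  have hτLcomp : τL.comp (algebraMap _ (Localization.Away gt)) =
      algebraMap (MvPolynomial (Fin n) k) (Localization.AtPrime q') :=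
    IsLocalization.Away.lift_comp gt hunit
  have hτLunit : ∀ s, s ∉ q₀ → IsUnit (τL s) := by
    intro s hs
    obtain ⟨⟨a, ⟨_, j, rfl⟩⟩, hsa⟩ := IsLocalization.surj (Submonoid.powers gt) s
    simp only at hsa
    have ha : a ∉ q' := by
      intro ha
      rw [← hq₀comap, Ideal.mem_comap, ← hsa] at ha
      rcases hq₀p.mem_or_mem ha with h5 | h5
      · exact hs h5
      · rw [← Ideal.mem_comap, hq₀comap] at h5
        exact hgq' (hq'p.mem_of_pow_mem j h5)
    have h5 : IsUnit (τL (s * algebraMap _ _ (gt ^ j))) := by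
      rw [hsa]
      have := RingHom.congr_fun hτLcomp a
      rw [RingHom.comp_apply] at this
      rw [this]
      exact IsLocalization.map_units (Localization.AtPrime q') (⟨a, ha⟩ : q'.primeCompl)
    rw [map_mul] at h5
    exact isUnit_of_mul_isUnit_left h5
  obtain ⟨f, hf⟩ := local_of_locGen τL (RingHom.ker (tau I gt)) q₀ hτLunit c h4
  refine ⟨f, ?_⟩
  rw [hf, tau_ker, Ideal.map_map, hτLcomp]

end Main

end Groth.Agent.Helper2.GCILoc
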