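import Mathlib
import Groth.Prelude.Def_RegImm
import Groth.Agent.Lib.Helper2.SyntLCI2
import Groth.Agent.Lib.Helper2.SyntLCI3
import Groth.Agent.Lib.Helper26.SyntLoc
import Groth.Agent.S9171

/-!
# Syntomic ⇒ local complete intersection (the forward direction at a prime)
-/

set_option autoImplicit false
universe u

namespace Groth.Agent.Helper2.SyntLCI

open MvPolynomial Groth.Agent.Helper2.FCR TensorProduct

section Transport

variable {k : Type u} [Field k] {T₁ T₂ : Type u} [CommRing T₁] [CommRing T₂] [Algebra k T₁]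
  [Algebra k T₂]

theorem globalCI_away_equiv (e : T₁ ≃ₐ[k] T₂) (g : T₁)
    (h : Synt.IsGlobalCI k (Localization.Away g)) : Synt.IsGlobalCI k (Localization.Away (e g)) := by
  have H : Submonoid.map e (Submonoid.powers g) = Submonoid.powers (e g) := by
    rw [Submonoid.map_powers]
  exact Groth.Agent.Lib.Helper26.SyntLoc.isGlobalCI_of_algEquiv
    (IsLocalization.algEquivOfAlgEquiv (Localization.Away g) (Localization.Away (e g)) e H) h

end Transport

section ExistsC

variable (k : Type u) [Field k] (n : ℕ) (I : Ideal (MvPolynomial (Fin n) k))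
  (q : Ideal (MvPolynomial (Fin n) k ⧸ I)) [hq : q.IsPrime]

theorem exists_c : ∃ c : ℕ, (c : ℕ∞) + q.height = (q.comap (Ideal.Quotient.mk I)).height := by
  haveI hq'p : (q.comap (Ideal.Quotient.mk I)).IsPrime := Ideal.comap_isPrime _ _
  have hdq := Groth.Agent.S9171.dim_quot k n I q
  have hle := ringKrullDim_quotient_le
    (I.map (algebraMap _ (Localization.AtPrime (q.comap (Ideal.Quotient.mk I)))))
  have hL := IsLocalization.AtPrime.ringKrullDim_eq_height (q.comap (Ideal.Quotient.mk I))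
    (Localization.AtPrime (q.comap (Ideal.Quotient.mk I)))
  rw [hdq, hL] at hle
  have hle' : q.height ≤ (q.comap (Ideal.Quotient.mk I)).height := by exact_mod_cast hle
  have hfin : (q.comap (Ideal.Quotient.mk I)).height ≠ ⊤ := Ideal.height_ne_top_of_isPrime
  obtain ⟨a, ha⟩ := ENat.ne_top_iff_exists.mp hfin
  have hfin' : q.height ≠ ⊤ := fun h => hfin (top_le_iff.mp (h ▸ hle'))
  obtain ⟨b, hb⟩ := ENat.ne_top_iff_exists.mp hfin'
  rw [← ha, ← hb] at hle' ⊢
  have hba : b ≤ a := by exact_mod_cast hle'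
  refine ⟨a - b, ?_⟩
  exact_mod_cast Nat.sub_add_cancel hba

end ExistsC


section Forward

variable {R S : Type u} [CommRing R] [CommRing S] [Algebra R S] (n : ℕ)
  (φ : MvPolynomial (Fin n) R →ₐ[R] S) (hφ : Function.Surjective φ)

include hφ in
theorem forward_at [Module.Flat R S] (hfg : (RingHom.ker φ.toRingHom).FG)
    (𝔮 : Ideal (MvPolynomial (Fin n) R)) [h𝔮 : 𝔮.IsPrime] (hI𝔮 : RingHom.ker φ.toRingHom ≤ 𝔮)
    (p : Ideal R) [hp : p.IsPrime] (hp𝔮 : 𝔮.comap (algebraMap R (MvPolynomial (Fin n) R)) = p)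
    (hlci : Synt.IsLCIOver p.ResidueField (p.Fiber S)) :
    ∃ g, g ∉ 𝔮 ∧ ∃ l : List (Localization.Away g),
      LCI.IsKoszulRegularSeq (Localization.Away g) l ∧
      (RingHom.ker φ.toRingHom).map (algebraMap _ (Localization.Away g)) =
        Ideal.span {x | x ∈ l} := by
  -- the prime of `S`
  have hφ' : Function.Surjective φ.toRingHom := hφ
  haveI hqS : (𝔮.map φ.toRingHom).IsPrime := Ideal.map_isPrime_of_surjective hφ' hI𝔮
  have hqScomap : (𝔮.map φ.toRingHom).comap φ.toRingHom = 𝔮 := by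
    rw [Ideal.comap_map_of_surjective _ hφ', ← RingHom.ker_eq_comap_bot]
    exact sup_eq_left.mpr hI𝔮
  have halg : algebraMap R S = φ.toRingHom.comp (algebraMap R (MvPolynomial (Fin n) R)) := by
    ext r
    exact (φ.commutes r).symm
  haveI hlies : (𝔮.map φ.toRingHom).LiesOver p := by
    constructor
    rw [Ideal.under_def, halg, ← Ideal.comap_comap, hqScomap, hp𝔮]
  -- the prime of the fibre
  let Q' : PrimeSpectrum (p.Fiber S) :=
    PrimeSpectrum.primesOverOrderIsoFiber R S p ⟨𝔮.map φ.toRingHom, ⟨hqS, hlies⟩⟩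
  have hQ' : Q'.asIdeal.comap (Algebra.TensorProduct.includeRight (R := R) (A := p.ResidueField)
      (B := S)).toRingHom = 𝔮.map φ.toRingHom := by
    have h1 := (PrimeSpectrum.primesOverOrderIsoFiber R S p).symm_apply_apply
      ⟨𝔮.map φ.toRingHom, ⟨hqS, hlies⟩⟩
    have h2 := congrArg Subtype.val h1
    rw [PrimeSpectrum.coe_primesOverOrderIsoFiber_symm_apply] at h2
    exact h2
  obtain ⟨g, hg, hGCI⟩ := hlci.2 Q'
  -- the presentation of the fibre
  let e := Ideal.quotientKerAlgEquivOfSurjective (phik_surjective n φ hφ p)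
  have he : ∀ y, e (Ideal.Quotient.mk _ y) = phik n φ p y := fun y => rfl
  haveI hq : (Q'.asIdeal.comap e).IsPrime := Ideal.comap_isPrime _ _
  have hg' : e.symm g ∉ Q'.asIdeal.comap e := by
    intro hmem
    rw [Ideal.mem_comap] at hmem
    apply hg
    simpa using hmem
  have hGCI' := globalCI_away_equiv e.symm g hGCI
  obtain ⟨c, hc⟩ := exists_c p.ResidueField n (RingHom.ker (phik n φ p))
    (Q'.asIdeal.comap e)
  obtain ⟨rs, hreg, hrs⟩ := ((Groth.Agent.S9171.main p.ResidueField n (RingHom.ker (phik n φ p))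
    (Q'.asIdeal.comap e) c hc).2).mp ⟨e.symm g, hg', hGCI'⟩
  -- the prime of `κ(p)[x]`
  haveI hq'p : ((Q'.asIdeal.comap e).comap
      (Ideal.Quotient.mk (RingHom.ker (phik n φ p)))).IsPrime := Ideal.comap_isPrime _ _
  have h𝔮eq : ((Q'.asIdeal.comap e).comap
      (Ideal.Quotient.mk (RingHom.ker (phik n φ p)))).comap (mu n p) = 𝔮 := by
    ext x
    rw [Ideal.mem_comap, Ideal.mem_comap, Ideal.mem_comap]
    have h1 : e (Ideal.Quotient.mk _ (mu n p x)) =
        (1 : p.ResidueField) ⊗ₜ[R] φ x := by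
      rw [← phik_mu]
      exact he _
    rw [h1]
    have h2 : (1 : p.ResidueField) ⊗ₜ[R] φ x ∈ Q'.asIdeal ↔
        φ.toRingHom x ∈ Q'.asIdeal.comap (Algebra.TensorProduct.includeRight (R := R)
          (A := p.ResidueField) (B := S)).toRingHom := by
      rw [Ideal.mem_comap]
      rfl
    rw [h2, hQ', ← Ideal.mem_comap, hqScomap]
  have hM : FibModel R 𝔮 (psi n p ((Q'.asIdeal.comap e).comap
      (Ideal.Quotient.mk (RingHom.ker (phik n φ p))))) := by
    have := fibModel_psi n p ((Q'.asIdeal.comap e).comap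
      (Ideal.Quotient.mk (RingHom.ker (phik n φ p))))
    rwa [h𝔮eq] at this
  -- flatness
  haveI : Module.Flat R (MvPolynomial (Fin n) R ⧸ RingHom.ker φ.toRingHom) :=
    Module.Flat.of_linearEquiv (Ideal.quotientKerAlgEquivOfSurjective hφ).toLinearEquiv
  haveI : Module.Flat R (LocalizedModule 𝔮.primeCompl (MvPolynomial (Fin n) R)) :=
    Groth.Agent.Helper21.FL.flat_of_isLocalizedModule 𝔮.primeCompl
      (LocalizedModule.mkLinearMap 𝔮.primeCompl (MvPolynomial (Fin n) R))
  have hIrs : Ideal.ofList rs = (RingHom.ker φ.toRingHom).map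
      (psi n p ((Q'.asIdeal.comap e).comap
        (Ideal.Quotient.mk (RingHom.ker (phik n φ p))))) := by
    rw [hrs]
    have hk : RingHom.ker (phik n φ p) = (RingHom.ker φ.toRingHom).map (mu n p) :=
      ker_phik n φ hφ p
    have hgen : ∀ J : Ideal (MvPolynomial (Fin n) p.ResidueField),
        J = (RingHom.ker φ.toRingHom).map (mu n p) →
        J.map (algebraMap (MvPolynomial (Fin n) p.ResidueField)
          (Localization.AtPrime ((Q'.asIdeal.comap e).comap
            (Ideal.Quotient.mk (RingHom.ker (phik n φ p)))))) =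
        (RingHom.ker φ.toRingHom).map
          (psi n p ((Q'.asIdeal.comap e).comap
            (Ideal.Quotient.mk (RingHom.ker (phik n φ p))))) := by
      intro J hJ
      rw [hJ, Ideal.map_map]
    exact hgen _ hk
  exact fcr_app (R := R) (RingHom.ker φ.toRingHom) hfg 𝔮 _ hM rs hreg.toIsWeaklyRegular hIrs hI𝔮

end Forward

end Groth.Agent.Helper2.SyntLCI
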