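import Mathlib
import Groth.Prelude.Def_RegImm
import Groth.Agent.Lib.Helper2.CIField1
import Groth.Agent.Lib.Helper2.SyntLCI4
import Groth.Agent.S9171
import Groth.Agent.S9141

/-!
# Complete intersections over a field: local rings of finite type algebras (helper2)
-/

set_option autoImplicit false
universe u

namespace Groth.Agent.Helper2.CIField

open IsLocalRing RingTheory.Sequence

section Presentation

variable {k : Type u} [Field k] {S₀ : Type u} [CommRing S₀] [Algebra k S₀] (n : ℕ)
  (φ : MvPolynomial (Fin n) k →ₐ[k] S₀) (hφ : Function.Surjective φ)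
  (q : Ideal S₀) [hq : q.IsPrime] (q' : Ideal (MvPolynomial (Fin n) k)) [hq' : q'.IsPrime]
  (hqq : q' = q.comap φ)

instance isRegularLocalRing_atPrime_mvPolynomial :
    IsRegularLocalRing (Localization.AtPrime q') := by
  haveI : IsRegularRing (MvPolynomial (Fin n) k) := inferInstance
  exact isRegularRing_iff.mp inferInstance q'

include hφ in
theorem localAlgHom_surjective :
    Function.Surjective (Localization.localAlgHom q' q φ hqq) := by
  intro x
  subst hqq
  exact RingHom.surjective_localRingHom_of_surjective φ.toRingHom hφ q x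

include hφ in
theorem ker_localAlgHom :
    RingHom.ker (Localization.localAlgHom q' q φ hqq).toRingHom =
      (RingHom.ker φ.toRingHom).map (algebraMap _ (Localization.AtPrime q')) :=
  Groth.Agent.Helper3.RegSec.ker_localRingHom φ.toRingHom hφ q q' hqq

include hφ hqq in
theorem isCIOver_atPrime_iff_regular :
    Synt.IsCIOver k (Localization.AtPrime q) ↔
      ∃ rs : List (Localization.AtPrime q'), IsRegular (Localization.AtPrime q') rs ∧
        Ideal.ofList rs = (RingHom.ker φ.toRingHom).map (algebraMap _ (Localization.AtPrime q')) := by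
  rw [isCIOver_iff_of_surjective (Localization.AtPrime q') inferInstance
    (Localization.localAlgHom q' q φ hqq) (localAlgHom_surjective n φ hφ q q' hqq),
    ker_localAlgHom n φ hφ q q' hqq]
  constructor
  · rintro ⟨rs, h1, h2⟩
    exact ⟨rs, h1, h2.symm⟩
  · rintro ⟨rs, h1, h2⟩
    exact ⟨rs, h1, h2.symm⟩

end Presentation

section Quot

variable (k : Type u) [Field k] (n : ℕ) (I : Ideal (MvPolynomial (Fin n) k))
  (q : Ideal (MvPolynomial (Fin n) k ⧸ I)) [hq : q.IsPrime]

theorem isCIOver_quot_iff :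
    Synt.IsCIOver k (Localization.AtPrime q) ↔
      ∃ g : MvPolynomial (Fin n) k ⧸ I, g ∉ q ∧ Synt.IsGlobalCI k (Localization.Away g) := by
  haveI : (q.comap (Ideal.Quotient.mk I)).IsPrime := Ideal.comap_isPrime _ _
  obtain ⟨c, hc⟩ := Groth.Agent.Helper2.SyntLCI.exists_c k n I q
  rw [(Groth.Agent.S9171.main k n I q c hc).2,
    isCIOver_atPrime_iff_regular n (Ideal.Quotient.mkₐ k I) (Ideal.Quotient.mkₐ_surjective k I) q
      (q.comap (Ideal.Quotient.mk I)) rfl]
  have hker : RingHom.ker (Ideal.Quotient.mkₐ k I).toRingHom = I := Ideal.mk_ker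
  rw [hker]

end Quot

section FT

variable (k : Type u) [Field k] (S₀ : Type u) [CommRing S₀] [Algebra k S₀]
  [Algebra.FiniteType k S₀] (q : Ideal S₀) [hq : q.IsPrime]

/-- second half of S9144 -/
theorem isCIOver_atPrime_iff_globalCI :
    Synt.IsCIOver k (Localization.AtPrime q) ↔
      ∃ g : S₀, g ∉ q ∧ Synt.IsGlobalCI k (Localization.Away g) := by
  obtain ⟨n, φ, hφ⟩ := Algebra.FiniteType.iff_quotient_mvPolynomial''.mp
    (inferInstance : Algebra.FiniteType k S₀)
  let e : (MvPolynomial (Fin n) k ⧸ RingHom.ker φ.toRingHom) ≃ₐ[k] S₀ :=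
    Ideal.quotientKerAlgEquivOfSurjective hφ
  haveI hq₁ : (q.comap e).IsPrime := Ideal.comap_isPrime _ _
  let E : Localization.AtPrime (q.comap e) ≃ₐ[k] Localization.AtPrime q :=
    Localization.localAlgEquiv (q.comap e) q e rfl
  have h1 : Synt.IsCIOver k (Localization.AtPrime q) ↔
      Synt.IsCIOver k (Localization.AtPrime (q.comap e)) :=
    ⟨isCIOver_of_algEquiv E.symm, isCIOver_of_algEquiv E⟩
  rw [h1, isCIOver_quot_iff k n (RingHom.ker φ.toRingHom) (q.comap e)]
  constructor
  · rintro ⟨g, hg, hG⟩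
    exact ⟨e g, hg, Groth.Agent.Helper2.SyntLCI.globalCI_away_equiv e g hG⟩
  · rintro ⟨g, hg, hG⟩
    refine ⟨e.symm g, ?_, ?_⟩
    · rw [Ideal.mem_comap]
      have : e (e.symm g) = g := e.apply_symm_apply g
      show ¬ (e (e.symm g) ∈ q)
      rw [this]
      exact hg
    · exact Groth.Agent.Helper2.SyntLCI.globalCI_away_equiv e.symm g hG

end FT

section LCI

variable (k : Type u) [Field k]

theorem lciOver_of_globalCI (T : Type u) [CommRing T] [Algebra k T] [Algebra.FiniteType k T]
    (h : Synt.IsGlobalCI k T) : Synt.IsLCIOver k T :=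
  ⟨inferInstance, fun p => ⟨1, fun h1 => p.isPrime.ne_top ((Ideal.eq_top_iff_one _).mpr h1),
    Groth.Agent.S9141.globalCI_away (1 : T) h⟩⟩

variable (S₀ : Type u) [CommRing S₀] [Algebra k S₀] [Algebra.FiniteType k S₀]

theorem isCIOver_atPrime_of_lciOver (h : Synt.IsLCIOver k S₀) (q : Ideal S₀) [hq : q.IsPrime] :
    Synt.IsCIOver k (Localization.AtPrime q) := by
  obtain ⟨g, hg, hG⟩ := h.2 ⟨q, hq⟩
  exact (isCIOver_atPrime_iff_globalCI k S₀ q).mpr ⟨g, hg, hG⟩

/-- localizing at a prime of a basic open -/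
theorem isCIOver_atPrime_of_away (q : Ideal S₀) [hq : q.IsPrime] (g : S₀) (hg : g ∉ q)
    (h : Synt.IsLCIOver k (Localization.Away g)) :
    Synt.IsCIOver k (Localization.AtPrime q) := by
  have hdisj : Disjoint (Submonoid.powers g : Set S₀) (q : Set S₀) := by
    rw [Set.disjoint_left]
    rintro x ⟨m, rfl⟩ hx
    exact hg (hq.mem_of_pow_mem m hx)
  haveI hqT : (q.map (algebraMap S₀ (Localization.Away g))).IsPrime :=
    IsLocalization.isPrime_of_isPrime_disjoint (Submonoid.powers g) _ q hq hdisj
  have hcomap : (q.map (algebraMap S₀ (Localization.Away g))).comap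
      (algebraMap S₀ (Localization.Away g)) = q :=
    IsLocalization.comap_map_of_isPrime_disjoint (Submonoid.powers g) _ hq hdisj
  haveI := h.1
  have h1 := isCIOver_atPrime_of_lciOver k (Localization.Away g) h
    (q.map (algebraMap S₀ (Localization.Away g)))
  let E₁ := (IsLocalization.localizationLocalizationAtPrimeIsoLocalization (Submonoid.powers g)
    (q.map (algebraMap S₀ (Localization.Away g)))).restrictScalars k
  have h2 := isCIOver_of_algEquiv E₁.symm h1
  have hIJ : (q.map (algebraMap S₀ (Localization.Away g))).comap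
      (algebraMap S₀ (Localization (Submonoid.powers g))) =
      q.comap (AlgEquiv.refl : S₀ ≃ₐ[k] S₀) := by
    rw [hcomap]
    ext x
    rfl
  let E₂ := Localization.localAlgEquiv _ q (AlgEquiv.refl : S₀ ≃ₐ[k] S₀) hIJ
  exact isCIOver_of_algEquiv E₂ h2

/-- first half of S9144 -/
theorem isCIOver_atPrime_iff_lciOver (q : Ideal S₀) [hq : q.IsPrime] :
    Synt.IsCIOver k (Localization.AtPrime q) ↔
      ∃ g : S₀, g ∉ q ∧ Synt.IsLCIOver k (Localization.Away g) := by
  constructor
  · intro h
    obtain ⟨g, hg, hG⟩ := (isCIOver_atPrime_iff_globalCI k S₀ q).mp h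
    exact ⟨g, hg, lciOver_of_globalCI k _ hG⟩
  · rintro ⟨g, hg, hL⟩
    exact isCIOver_atPrime_of_away k S₀ q g hg hL

end LCI

end Groth.Agent.Helper2.CIField
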