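import Mathlib
import Groth.Prelude.Def_RegImm
import Groth.Agent.Lib.Helper2.CIField2
import Groth.Agent.Lib.Helper3.CT6

/-!
# Complete intersections over a field: local algebras essentially of finite type (helper2)
-/

set_option autoImplicit false
universe u

namespace Groth.Agent.Helper2.CIField

open IsLocalRing RingTheory.Sequence

section Step0

variable (k : Type u) [Field k] (S : Type u) [CommRing S] [IsLocalRing S] [Algebra k S]
  [Algebra.EssFiniteType k S]

/-- a local algebra essentially of finite type is the local ring of a finite type algebra -/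
theorem exists_finiteType_atPrime :
    ∃ (S₀ : Type u) (_ : CommRing S₀) (_ : Algebra k S₀) (_ : Algebra.FiniteType k S₀)
      (q : Ideal S₀) (_ : q.IsPrime), Nonempty (S ≃ₐ[k] Localization.AtPrime q) := by
  let S₀ := Algebra.EssFiniteType.subalgebra k S
  let q : Ideal S₀ := (maximalIdeal S).comap (algebraMap S₀ S)
  haveI hq : q.IsPrime := Ideal.comap_isPrime _ _
  have hM : Algebra.EssFiniteType.submonoid k S = q.primeCompl := by
    ext x
    show IsUnit (algebraMap S₀ S x) ↔ x ∉ q
    rw [Ideal.mem_comap, mem_maximalIdeal, mem_nonunits_iff, not_not]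
  haveI hloc : IsLocalization q.primeCompl S := by
    rw [← hM]
    infer_instance
  exact ⟨S₀, inferInstance, inferInstance, inferInstance, q, hq,
    ⟨((IsLocalization.algEquiv q.primeCompl (Localization.AtPrime q) S).restrictScalars k).symm⟩⟩

end Step0

section Away

variable (k : Type u) [Field k] (S₀ : Type u) [CommRing S₀] [Algebra k S₀]

theorem exists_atPrime_away_equiv (q : Ideal S₀) [hq : q.IsPrime] (g : S₀) (hg : g ∉ q) :
    ∃ (a : Ideal (Localization.Away g)) (_ : a.IsPrime),
      Nonempty (Localization.AtPrime q ≃ₐ[k] Localization.AtPrime a) := by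
  have hdisj : Disjoint (Submonoid.powers g : Set S₀) (q : Set S₀) := by
    rw [Set.disjoint_left]
    rintro x ⟨m, rfl⟩ hx
    exact hg (hq.mem_of_pow_mem m hx)
  haveI hqT : (q.map (algebraMap S₀ (Localization.Away g))).IsPrime :=
    IsLocalization.isPrime_of_isPrime_disjoint (Submonoid.powers g) _ q hq hdisj
  have hcomap : (q.map (algebraMap S₀ (Localization.Away g))).comap
      (algebraMap S₀ (Localization.Away g)) = q :=
    IsLocalization.under_map_of_isPrime_disjoint (Submonoid.powers g) _ hq hdisj
  let E₁ := (IsLocalization.localizationLocalizationAtPrimeIsoLocalization (Submonoid.powers g)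
    (q.map (algebraMap S₀ (Localization.Away g)))).restrictScalars k
  have hIJ : (q.map (algebraMap S₀ (Localization.Away g))).comap
      (algebraMap S₀ (Localization (Submonoid.powers g))) =
      q.comap (AlgEquiv.refl : S₀ ≃ₐ[k] S₀) := by
    rw [hcomap]
    ext x
    rfl
  let E₂ := Localization.localAlgEquiv _ q (AlgEquiv.refl : S₀ ≃ₐ[k] S₀) hIJ
  exact ⟨_, hqT, ⟨E₂.symm.trans E₁⟩⟩

end Away

end Groth.Agent.Helper2.CIField
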