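import Mathlib
import Groth.Prelude.Def_RegImm
import Groth.Prelude.Def_Pi1
import Groth.Agent.Lib.Helper2.CIField3
import Groth.Agent.Lib.Helper3.ComplIso
import Groth.Agent.S2166
import Groth.Agent.S9143

/-!
# Complete intersections: the completion-based notion vs. the notion over a field (helper2)
-/

set_option autoImplicit false
universe u

namespace Groth.Agent.Helper2.CIPi1

open IsLocalRing RingTheory.Sequence Groth.Agent.Helper2.CIField

section Transfer

variable {A A' : Type u} [CommRing A] [CommRing A'] [IsLocalRing A] [IsLocalRing A']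

theorem map_maximalIdeal (e : A ≃+* A') :
    (maximalIdeal A).map (e : A →+* A') = maximalIdeal A' := by
  apply le_antisymm
  · rw [Ideal.map_le_iff_le_comap]
    intro x hx
    rw [Ideal.mem_comap, mem_maximalIdeal, mem_nonunits_iff] at *
    intro hu
    apply hx
    have := hu.map (e.symm : A' →+* A)
    simpa using this
  · intro y hy
    have h1 : e.symm y ∈ maximalIdeal A := by
      rw [mem_maximalIdeal, mem_nonunits_iff] at *
      intro hu
      apply hy
      have := hu.map (e : A →+* A')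
      simpa using this
    have h2 := Ideal.mem_map_of_mem (e : A →+* A') h1
    simpa using h2

theorem nonempty_adicCompletion_equiv (e : A ≃+* A') :
    Nonempty (AdicCompletion (maximalIdeal A) A ≃+* AdicCompletion (maximalIdeal A') A') := by
  have hg : (maximalIdeal A).map (e : A →+* A') ≤ maximalIdeal A' := (map_maximalIdeal e).le
  refine Groth.Agent.Helper3.ComplIso.nonempty_ringEquiv (maximalIdeal A) (maximalIdeal A')
    (e : A →+* A') hg (fun k => ⟨?_, ?_⟩)
  · rw [injective_iff_map_eq_zero]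
    intro x hx
    obtain ⟨a, rfl⟩ := Ideal.Quotient.mk_surjective x
    rw [Ideal.quotientMap_mk, Ideal.Quotient.eq_zero_iff_mem] at hx
    rw [Ideal.Quotient.eq_zero_iff_mem]
    rw [← map_maximalIdeal e, ← Ideal.map_pow] at hx
    have h1 := Ideal.mem_map_of_mem (e.symm : A' →+* A) hx
    rw [Ideal.map_map] at h1
    have h2 : (e.symm : A' →+* A).comp (e : A →+* A') = RingHom.id A := by
      ext x
      simp
    rw [h2, Ideal.map_id] at h1
    simpa using h1
  · intro y
    obtain ⟨b, rfl⟩ := Ideal.Quotient.mk_surjective y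
    refine ⟨Ideal.Quotient.mk _ (e.symm b), ?_⟩
    rw [Ideal.quotientMap_mk]
    simp

theorem isCI_of_ringEquiv (e : A ≃+* A') (h : Pi1.IsCompleteIntersection A) :
    Pi1.IsCompleteIntersection A' := by
  obtain ⟨B, i1, i2, rs, hmem, hreg, ⟨ψ⟩⟩ := h
  obtain ⟨E⟩ := nonempty_adicCompletion_equiv e
  exact ⟨B, i1, i2, rs, hmem, hreg, ⟨E.symm.trans ψ⟩⟩

end Transfer

section Bridge

variable (k : Type u) [Field k] (A : Type u) [CommRing A] [IsLocalRing A] [Algebra k A]

theorem isCI_of_isCIOver (h : Synt.IsCIOver k A) : Pi1.IsCompleteIntersection A := by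
  obtain ⟨R, i1, i2, i3, hess, rs, hmem, hreg, ⟨ψ⟩⟩ := h
  have hne : Ideal.ofList rs ≠ ⊤ := by
    intro htop
    have : (1 : R) ∈ maximalIdeal R := by
      have h1 : Ideal.ofList rs ≤ maximalIdeal R := Ideal.span_le.mpr hmem
      exact h1 (htop ▸ Submodule.mem_top)
    exact (Ideal.ne_top_iff_one _).mp (Ideal.IsPrime.ne_top inferInstance) this
  haveI : Nontrivial (R ⧸ Ideal.ofList rs) := Ideal.Quotient.nontrivial_iff.mpr hne
  haveI : IsLocalRing (R ⧸ Ideal.ofList rs) :=
    IsLocalRing.of_surjective' (Ideal.Quotient.mk _) Ideal.Quotient.mk_surjective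
  have h1 : Pi1.IsCompleteIntersection (R ⧸ Ideal.ofList rs) :=
    (Groth.Agent.S2166.result (Ideal.ofList rs) hne).mpr ⟨rs, rfl, hreg⟩
  exact isCI_of_ringEquiv ψ.symm.toRingEquiv h1

theorem isCIOver_of_isCI [Algebra.EssFiniteType k A] (h : Pi1.IsCompleteIntersection A) :
    Synt.IsCIOver k A := by
  obtain ⟨R, _, _, _, hR, π, hπ⟩ := Groth.Agent.S9143.exists_regular_surjection k A
  let e : (R ⧸ RingHom.ker π.toRingHom) ≃+* A := RingHom.quotientKerEquivOfSurjective hπ
  haveI : IsLocalRing (R ⧸ RingHom.ker π.toRingHom) := e.symm.isLocalRing  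
  have h1 := isCI_of_ringEquiv e.symm h
  obtain ⟨rs, hrs, hreg⟩ := (Groth.Agent.S2166.result (RingHom.ker π.toRingHom)
    (RingHom.ker_ne_top _)).mp h1
  exact (isCIOver_iff_of_surjective R hR π hπ).mpr ⟨rs, hreg, hrs.symm⟩

end Bridge

end Groth.Agent.Helper2.CIPi1
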