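import Mathlib
import Groth.Agent.Lib.Helper16.Alg.SliceSeq1
import Groth.Agent.S5068

/-!
# Spreading out a fibrewise regular generating sequence of an ideal (helper2)

`R → C` of finite presentation, `Q` a prime of `C`, `L = C_Q` flat over `R`, `J ≤ Q` a finitely
generated ideal with `C/J` flat over `R`.  If the image of `J` in the fibre local ring `L / 𝔭L` is
generated by a (weakly) regular sequence, then on a principal open neighbourhood `D(h)` of `Q` the
ideal `J` is generated by a weakly regular sequence.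
-/

set_option autoImplicit false
universe u

namespace Groth.Agent.Helper2.RegNbhd

section

open RingTheory.Sequence Groth.Agent.Helper16.SliceSeq TensorProduct

/-- unit scaling preserves `RegOn`. -/
theorem regOn_of_forall₂ {A : Type*} [CommRing A] {as js : List A}
    (h : List.Forall₂ (fun (a j : A) => ∃ u : Aˣ, a = (u : A) * j) as js) :
    ∀ I : Ideal A, RegOn I js → RegOn I as := by
  induction h with
  | nil => intro I _; trivial
  | @cons a j as js hab _ ih =>
    intro I hreg
    obtain ⟨u, rfl⟩ := hab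
    rw [regOn_cons] at hreg ⊢
    have hspan : Ideal.span {(u : A) * j} = Ideal.span {j} :=
      Ideal.span_singleton_mul_left_unit u.isUnit j
    refine ⟨fun x hx => hreg.1 x ?_, ?_⟩
    · have h1 := I.mul_mem_left ((u⁻¹ : Aˣ) : A) hx
      have h2 : ((u⁻¹ : Aˣ) : A) * ((u : A) * j * x) = j * x := by
        rw [← mul_assoc, ← mul_assoc, Units.inv_mul, one_mul]
      rwa [h2] at h1
    · rw [hspan]
      exact ih _ hreg.2

/-- unit scaling preserves the generated ideal. -/
theorem ofList_eq_of_forall₂ {A : Type*} [CommRing A] {as js : List A}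
    (h : List.Forall₂ (fun (a j : A) => ∃ u : Aˣ, a = (u : A) * j) as js) :
    Ideal.ofList as = Ideal.ofList js := by
  induction h with
  | nil => rfl
  | @cons a j as js hab _ ih =>
    obtain ⟨u, rfl⟩ := hab
    rw [Ideal.ofList_cons, Ideal.ofList_cons, ih,
      Ideal.span_singleton_mul_left_unit u.isUnit j]

/-- lifting a list of elements of `J L` to elements of `J`, up to units. -/
theorem exists_lift_units {C : Type*} [CommRing C] (Q : Ideal C) [Q.IsPrime] (L : Type*)
    [CommRing L] [Algebra C L] [IsLocalization.AtPrime L Q] (J : Ideal C) (js : List L)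
    (hjs : ∀ j ∈ js, j ∈ J.map (algebraMap C L)) :
    ∃ as : List C, (∀ a ∈ as, a ∈ J) ∧
      List.Forall₂ (fun (a j : L) => ∃ u : Lˣ, a = (u : L) * j) (as.map (algebraMap C L)) js := by
  induction js with
  | nil => exact ⟨[], by simp, by simp⟩
  | cons j js ih =>
    obtain ⟨as, has, hF⟩ := ih (fun x hx => hjs x (List.mem_cons_of_mem _ hx))
    obtain ⟨⟨a, s⟩, hjs'⟩ := (IsLocalization.mem_map_algebraMap_iff Q.primeCompl L).mp
      (hjs j List.mem_cons_self)
    have hu : IsUnit (algebraMap C L (s : C)) := IsLocalization.map_units L s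
    refine ⟨(a : C) :: as, ?_, ?_⟩
    · intro x hx
      rcases List.mem_cons.mp hx with rfl | hx
      · exact a.2
      · exact has x hx
    · rw [List.map_cons]
      refine List.Forall₂.cons ⟨hu.unit, ?_⟩ hF
      rw [IsUnit.unit_spec, mul_comm]
      exact hjs'.symm

variable {R C : Type u} [CommRing R] [CommRing C] [Algebra R C]

/-- flatness of `C/J` passes to the localisation `L / J L`. -/
theorem flat_quot_map (J : Ideal C) [Module.Flat R (C ⧸ J)] (L : Type u) [CommRing L]
    [Algebra C L] [Module.Flat C L] [Algebra R L] [IsScalarTower R C L] :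
    Module.Flat R (L ⧸ J.map (algebraMap C L)) := by
  haveI : Module.Flat (C ⧸ J) ((C ⧸ J) ⊗[C] L) := inferInstance
  haveI : Module.Flat R ((C ⧸ J) ⊗[C] L) := Module.Flat.trans R (C ⧸ J) ((C ⧸ J) ⊗[C] L)
  let e1 : ((C ⧸ J) ⊗[C] L) ≃ₗ[C] L ⧸ (J • ⊤ : Submodule C L) :=
    TensorProduct.quotTensorEquivQuotSMul L J
  let e2 : (L ⧸ (J • ⊤ : Submodule C L)) ≃ₗ[C]
      L ⧸ (J.map (algebraMap C L)).restrictScalars C :=
    Submodule.quotEquivOfEq _ _ (Ideal.smul_top_eq_map J)
  let e3 : (L ⧸ (J.map (algebraMap C L)).restrictScalars C) ≃ₗ[C] L ⧸ J.map (algebraMap C L) :=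
    Submodule.Quotient.restrictScalarsEquiv C (J.map (algebraMap C L))
  exact Module.Flat.of_linearEquiv (((e1 ≪≫ₗ e2) ≪≫ₗ e3).restrictScalars R).symm

/-- **The ring core**: spreading a fibrewise regular generating sequence of `J`. -/
theorem core [Algebra.FinitePresentation R C]
    (Q : Ideal C) [Q.IsPrime] (L : Type u) [CommRing L] [Algebra C L] [IsLocalization.AtPrime L Q]
    [Algebra R L] [IsScalarTower R C L] [Module.Flat R L]
    (J : Ideal C) (hJfg : J.FG) (hJQ : J ≤ Q) [Module.Flat R (C ⧸ J)]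
    (IX : Ideal L) (hIX : IX = (Q.comap (algebraMap R C)).map (algebraMap R L))
    (rs : List (L ⧸ IX)) (hreg : IsWeaklyRegular (L ⧸ IX) rs)
    (hgen : Ideal.ofList rs = (J.map (algebraMap C L)).map (Ideal.Quotient.mk IX)) :
    ∃ h : C, h ∉ Q ∧ ∃ as : List C, (∀ a ∈ as, a ∈ J) ∧
      ∀ (Ch : Type u) [CommRing Ch] [Algebra C Ch] [IsLocalization.Away h Ch],
        IsWeaklyRegular Ch (as.map (algebraMap C Ch)) ∧
          Ideal.ofList (as.map (algebraMap C Ch)) = J.map (algebraMap C Ch) := by
  classical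
  haveI : IsLocalRing L := IsLocalization.AtPrime.isLocalRing L Q
  haveI : Module.Flat C L := IsLocalization.flat L Q.primeCompl
  haveI hflatL : Module.Flat R (L ⧸ J.map (algebraMap C L)) := flat_quot_map J L
  -- Step 1: lift `rs` to `js ⊆ J L`
  obtain ⟨js, hjsmap, hjsmem⟩ := Groth.Agent.S5068.exists_lift L (J.map (algebraMap C L)) IX rs
    (fun r hr => by
      have : r ∈ Ideal.ofList rs := Ideal.subset_span hr
      rwa [hgen] at this)
  have hjsreg : IsWeaklyRegular (L ⧸ IX) js := by
    rw [← isWeaklyRegular_map_algebraMap_iff (L ⧸ IX) (L ⧸ IX) js]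
    have : js.map (algebraMap L (L ⧸ IX)) = rs := hjsmap
    rw [this]
    exact hreg
  have hjsRegOn : RegOn IX js := regOn_of_isWeaklyRegular js IX hjsreg
  -- Step 2: scale into `C`
  obtain ⟨as, hasJ, hF⟩ := exists_lift_units Q L J js hjsmem
  have hasRegOn : RegOn IX (as.map (algebraMap C L)) := regOn_of_forall₂ hF IX hjsRegOn
  have hof : Ideal.ofList (as.map (algebraMap C L)) = Ideal.ofList js := ofList_eq_of_forall₂ hF
  -- Step 3: slice
  obtain ⟨g, hgQ, hslice⟩ := slice_seq Q (LX := L) as IX hIX (fun a ha => hJQ (hasJ a ha)) hasRegOn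
  -- Step 4: Nakayama
  have hKle : Ideal.ofList (as.map (algebraMap C L)) ≤ J.map (algebraMap C L) := by
    rw [← Ideal.map_ofList]
    exact Ideal.map_mono (Ideal.span_le.mpr hasJ)
  have hIXmap : IX = (Q.comap (algebraMap R C)).map (algebraMap R L) := hIX
  have hJLle : J.map (algebraMap C L) ≤ Ideal.ofList (as.map (algebraMap C L)) := by
    have hinf := Groth.Agent.S5068.inf_le_mul_of_flat (A := R) (C := L) (J.map (algebraMap C L))
      (Q.comap (algebraMap R C))
    rw [← hIXmap] at hinf
    have hIXjac : IX ≤ Ideal.jacobson ⊥ := by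
      rw [IsLocalRing.jacobson_eq_maximalIdeal ⊥ bot_ne_top, hIXmap, Ideal.map_le_iff_le_comap]
      intro r hr
      rw [Ideal.mem_comap, IsScalarTower.algebraMap_apply R C L,
        IsLocalization.AtPrime.to_map_mem_maximal_iff L Q]
      exact hr
    refine Submodule.le_of_le_smul_of_le_jacobson_bot (I := IX) (Ideal.FG.map hJfg _) hIXjac ?_
    intro x hx
    have h1 : Ideal.Quotient.mk IX x ∈ (Ideal.ofList js).map (Ideal.Quotient.mk IX) := by
      rw [Ideal.map_ofList, hjsmap, hgen]
      exact Ideal.mem_map_of_mem _ hx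
    obtain ⟨y, hy, hyx⟩ := (Ideal.mem_map_iff_of_surjective _ Ideal.Quotient.mk_surjective).mp h1
    have h2 : x - y ∈ IX := by
      rw [← Ideal.Quotient.eq, hyx]
    have hy' : y ∈ Ideal.ofList (as.map (algebraMap C L)) := hof ▸ hy
    have h3 : x - y ∈ J.map (algebraMap C L) := Ideal.sub_mem _ hx (hKle hy')
    have h4 := hinf ⟨h3, h2⟩
    have : x = y + (x - y) := by ring
    rw [this]
    exact Submodule.add_mem_sup hy' h4
  have hK : J.map (algebraMap C L) = (Ideal.ofList as).map (algebraMap C L) := by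
    rw [Ideal.map_ofList]
    exact le_antisymm hJLle hKle
  -- Step 5: spread out the equality
  obtain ⟨T, hT⟩ := hJfg
  have hspread : ∀ T' : Finset C, (∀ b ∈ T', b ∈ J) →
      ∃ g' : C, g' ∉ Q ∧ ∀ b ∈ T', g' * b ∈ Ideal.ofList as := by
    intro T'
    induction T' using Finset.induction_on with
    | empty => exact fun _ => ⟨1, (Ideal.ne_top_iff_one Q).mp Ideal.IsPrime.ne_top', by simp⟩
    | insert b T' _ ih =>
      intro hb
      obtain ⟨g', hg', hg'mem⟩ := ih (fun c hc => hb c (Finset.mem_insert_of_mem hc))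
      have hbJ : b ∈ J := hb b (Finset.mem_insert_self b T')
      have h1 : algebraMap C L b ∈ (Ideal.ofList as).map (algebraMap C L) :=
        hK ▸ Ideal.mem_map_of_mem _ hbJ
      obtain ⟨m, hm, hmb⟩ :=
        (IsLocalization.algebraMap_mem_map_algebraMap_iff Q.primeCompl L _ b).mp h1
      refine ⟨m * g', ?_, ?_⟩
      · intro hmem
        rcases Ideal.IsPrime.mem_or_mem inferInstance hmem with h | h
        · exact hm h
        · exact hg' h
      · intro c hc
        rcases Finset.mem_insert.mp hc with rfl | hc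
        · rw [mul_comm m g', mul_assoc]
          exact Ideal.mul_mem_left _ _ hmb
        · rw [mul_assoc]
          exact Ideal.mul_mem_left _ _ (hg'mem c hc)
  obtain ⟨g', hg'Q, hg'⟩ := hspread T (fun b hb => hT ▸ Ideal.subset_span hb)
  refine ⟨g * g', ?_, as.reverse, ?_, ?_⟩
  · intro hmem
    rcases Ideal.IsPrime.mem_or_mem inferInstance hmem with h | h
    · exact hgQ h
    · exact hg'Q h
  · intro a ha
    exact hasJ a (List.mem_reverse.mp ha)
  · intro Ch _ _ _
    letI : Algebra R Ch := ((algebraMap C Ch).comp (algebraMap R C)).toAlgebra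
    haveI : IsScalarTower R C Ch := IsScalarTower.of_algebraMap_eq (fun _ => rfl)
    obtain ⟨hwr, -⟩ := hslice g' Ch
    refine ⟨by rw [List.map_reverse]; exact hwr, ?_⟩
    rw [List.map_reverse, ofList_reverse, ← Ideal.map_ofList]
    refine le_antisymm (Ideal.map_mono (Ideal.span_le.mpr hasJ)) ?_
    rw [← hT, Ideal.map_span, Ideal.span_le]
    rintro _ ⟨b, hb, rfl⟩
    have hu : IsUnit (algebraMap C Ch g') := by
      have h1 : IsUnit (algebraMap C Ch (g * g')) := IsLocalization.Away.algebraMap_isUnit (g * g')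
      rw [map_mul] at h1
      exact isUnit_of_mul_isUnit_right h1
    have h2 : algebraMap C Ch (g' * b) ∈ (Ideal.ofList as).map (algebraMap C Ch) :=
      Ideal.mem_map_of_mem _ (hg' b hb)
    rw [map_mul] at h2
    exact (Ideal.unit_mul_mem_iff_mem _ hu).mp h2

end

end Groth.Agent.Helper2.RegNbhd
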