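import Mathlib
import Groth.Prelude.Def_RegImm
import Groth.Agent.Lib.Helper2.RegNbhd1

/-!
# Transversally regular slicing (helper2)

`R → C` of finite presentation, `Q` a prime of `C`, `L = C_Q` flat over `R`, with Noetherian fibre
local ring `L / 𝔭L`.  If a sequence `as` of elements of `Q` is regular on `L / 𝔭L`, then on a
principal open neighbourhood `D(g)` of `Q` it is regular, in the given order, and all the partial
quotients are flat over `R` (it is transversally regular relative to `R`).
-/

set_option autoImplicit false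
universe u

namespace Groth.Agent.Helper2.RegNbhd

section

open RingTheory.Sequence Groth.Agent.Helper16.SliceSeq TensorProduct

/-- a quotient ring which is Noetherian is a Noetherian module over the ring. -/
theorem isNoetherian_quot {A : Type*} [CommRing A] (I : Ideal A) [IsNoetherianRing (A ⧸ I)] :
    IsNoetherian A (A ⧸ I) := by
  rw [isNoetherian_def]
  intro N
  let N' : Submodule (A ⧸ I) (A ⧸ I) :=
    { carrier := N
      add_mem' := N.add_mem
      zero_mem' := N.zero_mem
      smul_mem' := by
        intro c x hx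
        obtain ⟨a, rfl⟩ := Ideal.Quotient.mk_surjective c
        exact N.smul_mem a hx }
  have h1 : N'.FG := IsNoetherian.noetherian N'
  have h2 := h1.restrictScalars_of_surjective (R := A) Ideal.Quotient.mk_surjective
  have h3 : N'.restrictScalars A = N := by
    ext x
    rfl
  rwa [h3] at h2

theorem isWeaklyRegular_take {A M : Type*} [CommRing A] [AddCommGroup M] [Module A M]
    (rs : List A) (h : IsWeaklyRegular M rs) (j : ℕ) : IsWeaklyRegular M (rs.take j) := by
  have h1 : IsWeaklyRegular M (rs.take j ++ rs.drop j) := by rwa [List.take_append_drop]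
  exact ((isWeaklyRegular_append_iff M _ _).mp h1).1

variable {R C : Type u} [CommRing R] [CommRing C] [Algebra R C]

/-- **transversally regular slicing**. -/
theorem trans_slice [Algebra.FinitePresentation R C]
    (Q : Ideal C) [Q.IsPrime] (L : Type u) [CommRing L] [Algebra C L] [IsLocalization.AtPrime L Q]
    [Algebra R L] [IsScalarTower R C L] [Module.Flat R L]
    (IX : Ideal L) (hIX : IX = (Q.comap (algebraMap R C)).map (algebraMap R L))
    [IsNoetherianRing (L ⧸ IX)]
    (as : List C) (hasQ : ∀ a ∈ as, a ∈ Q)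
    (hreg : IsWeaklyRegular (L ⧸ IX) (as.map (algebraMap C L))) :
    ∃ g : C, g ∉ Q ∧ ∀ (g' : C) (Cg : Type u) [CommRing Cg] [Algebra C Cg]
      [IsLocalization.Away (g * g') Cg] [Algebra R Cg] [IsScalarTower R C Cg],
      RegImm.IsTransRegularSeq R Cg (as.map (algebraMap C Cg)) := by
  classical
  haveI : IsLocalRing L := IsLocalization.AtPrime.isLocalRing L Q
  haveI : IsNoetherian L (L ⧸ IX) := isNoetherian_quot IX
  have hmax : ∀ r ∈ as.map (algebraMap C L), r ∈ IsLocalRing.maximalIdeal L := by
    intro r hr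
    obtain ⟨a, ha, rfl⟩ := List.mem_map.mp hr
    exact (IsLocalization.AtPrime.to_map_mem_maximal_iff L Q a).mpr (hasQ a ha)
  -- for each `j`, slice the reversed prefix
  have hj : ∀ j : ℕ, ∃ g : C, g ∉ Q ∧ ∀ (g' : C) (Cg : Type u) [CommRing Cg] [Algebra C Cg]
      [IsLocalization.Away (g * g') Cg] [Algebra R Cg] [IsScalarTower R C Cg],
      IsWeaklyRegular Cg ((as.take j).map (algebraMap C Cg)) ∧
        Module.Flat R (Cg ⧸ Ideal.ofList ((as.take j).map (algebraMap C Cg))) := by
    intro j
    have h1 : IsWeaklyRegular (L ⧸ IX) ((as.take j).map (algebraMap C L)) := by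
      rw [List.map_take]
      exact isWeaklyRegular_take _ hreg j
    have h2 : IsWeaklyRegular (L ⧸ IX) (((as.take j).reverse).map (algebraMap C L)) := by
      rw [List.map_reverse]
      refine IsLocalRing.isWeaklyRegular_of_perm_of_subset_maximalIdeal h1
        (List.reverse_perm _).symm ?_
      intro r hr
      rw [List.map_take] at hr
      exact hmax r (List.mem_of_mem_take hr)
    have h3 : RegOn IX (((as.take j).reverse).map (algebraMap C L)) :=
      regOn_of_isWeaklyRegular _ IX h2
    obtain ⟨g, hg, hslice⟩ := slice_seq Q (LX := L) (as.take j).reverse IX hIX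
      (fun a ha => hasQ a (List.mem_of_mem_take (List.mem_reverse.mp ha))) h3
    refine ⟨g, hg, fun g' Cg _ _ _ _ _ => ?_⟩
    obtain ⟨hw, hf⟩ := hslice g' Cg
    rw [List.map_reverse, List.reverse_reverse] at hw
    rw [List.map_reverse, ofList_reverse] at hf
    exact ⟨hw, hf⟩
  choose gj hgjQ hgj using hj
  let n := as.length
  refine ⟨∏ j ∈ Finset.range (n + 1), gj j, ?_, ?_⟩
  · intro hmem
    obtain ⟨j, -, hj'⟩ := (Ideal.IsPrime.prod_mem_iff (hp := inferInstance)).mp hmem
    exact hgjQ j hj'
  · intro g' Cg _ _ hloc _ _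
    have key : ∀ j ∈ Finset.range (n + 1),
        IsWeaklyRegular Cg ((as.take j).map (algebraMap C Cg)) ∧
        Module.Flat R (Cg ⧸ Ideal.ofList ((as.take j).map (algebraMap C Cg))) := by
      intro j hjr
      have heq : (∏ i ∈ Finset.range (n + 1), gj i) * g' =
          gj j * ((∏ i ∈ (Finset.range (n + 1)).erase j, gj i) * g') := by
        rw [← mul_assoc, Finset.mul_prod_erase _ _ hjr]
      haveI : IsLocalization.Away (gj j * ((∏ i ∈ (Finset.range (n + 1)).erase j, gj i) * g')) Cg :=
        heq ▸ hloc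
      exact hgj j ((∏ i ∈ (Finset.range (n + 1)).erase j, gj i) * g') Cg
    refine ⟨?_, fun j _ => ?_⟩
    · have := (key n (Finset.mem_range.mpr (Nat.lt_succ_self n))).1
      rwa [List.take_length] at this
    · by_cases hjn : j ≤ n
      · have := (key j (Finset.mem_range.mpr (Nat.lt_succ_of_le hjn))).2
        rwa [List.map_take] at this
      · have := (key n (Finset.mem_range.mpr (Nat.lt_succ_self n))).2
        rw [List.take_length] at this
        rwa [List.take_of_length_le (by rw [List.length_map]; omega)]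

/-- `RegOn I as` gives weak regularity on `A/I`. -/
theorem isWeaklyRegular_of_regOn {A : Type*} [CommRing A] (as : List A) :
    ∀ (I : Ideal A), RegOn I as → IsWeaklyRegular (A ⧸ I) as := by
  induction as with
  | nil => intro I _; exact IsWeaklyRegular.nil _ _
  | cons a as ih =>
    intro I h
    rw [regOn_cons] at h
    rw [isWeaklyRegular_cons_iff]
    refine ⟨?_, ?_⟩
    · intro x y hxy
      obtain ⟨x, rfl⟩ := Ideal.Quotient.mk_surjective x
      obtain ⟨y, rfl⟩ := Ideal.Quotient.mk_surjective y
      have h1 : Ideal.Quotient.mk I (a * x) = Ideal.Quotient.mk I (a * y) := hxy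
      rw [Ideal.Quotient.eq, ← mul_sub] at h1
      exact Ideal.Quotient.eq.mpr (h.1 _ h1)
    · exact ((quotSMulTopEquiv I a).isWeaklyRegular_congr as).mpr (ih _ h.2)

/-- **The ring core, transversal form**: spreading a fibrewise regular generating sequence of `J`
to a transversally regular generating sequence on a principal open. -/
theorem core_trans [Algebra.FinitePresentation R C]
    (Q : Ideal C) [Q.IsPrime] (L : Type u) [CommRing L] [Algebra C L] [IsLocalization.AtPrime L Q]
    [Algebra R L] [IsScalarTower R C L] [Module.Flat R L]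
    (J : Ideal C) (hJfg : J.FG) (hJQ : J ≤ Q) [Module.Flat R (C ⧸ J)]
    (IX : Ideal L) (hIX : IX = (Q.comap (algebraMap R C)).map (algebraMap R L))
    [IsNoetherianRing (L ⧸ IX)]
    (rs : List (L ⧸ IX)) (hreg : IsWeaklyRegular (L ⧸ IX) rs)
    (hgen : Ideal.ofList rs = (J.map (algebraMap C L)).map (Ideal.Quotient.mk IX)) :
    ∃ h : C, h ∉ Q ∧ ∃ as : List C, (∀ a ∈ as, a ∈ J) ∧
      ∀ (Ch : Type u) [CommRing Ch] [Algebra C Ch] [IsLocalization.Away h Ch] [Algebra R Ch]
        [IsScalarTower R C Ch],
        RegImm.IsTransRegularSeq R Ch (as.map (algebraMap C Ch)) ∧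
          Ideal.ofList (as.map (algebraMap C Ch)) = J.map (algebraMap C Ch) := by
  classical
  haveI : IsLocalRing L := IsLocalization.AtPrime.isLocalRing L Q
  haveI : Module.Flat C L := IsLocalization.flat L Q.primeCompl
  haveI hflatL : Module.Flat R (L ⧸ J.map (algebraMap C L)) := flat_quot_map J L
  obtain ⟨js, hjsmap, hjsmem⟩ := Groth.Agent.S5068.exists_lift L (J.map (algebraMap C L)) IX rs
    (fun r hr => by
      have : r ∈ Ideal.ofList rs := Ideal.subset_span hr
      rwa [hgen] at this)
  have hjsreg : IsWeaklyRegular (L ⧸ IX) js := by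
    rw [← isWeaklyRegular_map_algebraMap_iff (L ⧸ IX) (L ⧸ IX) js]
    have : js.map (algebraMap L (L ⧸ IX)) = rs := hjsmap
    rw [this]
    exact hreg
  have hjsRegOn : RegOn IX js := regOn_of_isWeaklyRegular js IX hjsreg
  obtain ⟨as, hasJ, hF⟩ := exists_lift_units Q L J js hjsmem
  have hasRegOn : RegOn IX (as.map (algebraMap C L)) := regOn_of_forall₂ hF IX hjsRegOn
  have hof : Ideal.ofList (as.map (algebraMap C L)) = Ideal.ofList js := ofList_eq_of_forall₂ hF
  obtain ⟨g, hgQ, hslice⟩ := trans_slice Q L IX hIX as (fun a ha => hJQ (hasJ a ha))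
    (isWeaklyRegular_of_regOn _ IX hasRegOn)
  have hKle : Ideal.ofList (as.map (algebraMap C L)) ≤ J.map (algebraMap C L) := by
    rw [← Ideal.map_ofList]
    exact Ideal.map_mono (Ideal.span_le.mpr hasJ)
  have hIXmap : IX = (Q.comap (algebraMap R C)).map (algebraMap R L) := hIX
  have hJLle : J.map (algebraMap C L) ≤ Ideal.ofList (as.map (algebraMap C L)) := by
    have hinf := Groth.Agent.S5068.inf_le_mul_of_flat (A := R) (C := L) (J.map (algebraMap C L))
      (Q.comap (algebraMap R C))
    rw [← hIXmap] at hinf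
    have hIXjac : IX ≤ Ideal.jacobson ⊥ := by
      rw [IsLocalRing.jacobson_eq_maximalIdeal ⊥ bot_ne_top, hIXmap, Ideal.map_le_iff_le_comap]
      intro r hr
      rw [Ideal.mem_comap, IsScalarTower.algebraMap_apply R C L,
        IsLocalization.AtPrime.to_map_mem_maximal_iff L Q]
      exact hr
    refine Submodule.le_of_le_smul_of_le_jacobson_bot (I := IX) (Ideal.FG.map hJfg _) hIXjac ?_
    intro x hx
    have h1 : Ideal.Quotient.mk IX x ∈ (Ideal.ofList js).map (Ideal.Quotient.mk IX) := by
      rw [Ideal.map_ofList, hjsmap, hgen]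
      exact Ideal.mem_map_of_mem _ hx
    obtain ⟨y, hy, hyx⟩ := (Ideal.mem_map_iff_of_surjective _ Ideal.Quotient.mk_surjective).mp h1
    have h2 : x - y ∈ IX := by
      rw [← Ideal.Quotient.eq, hyx]
    have hy' : y ∈ Ideal.ofList (as.map (algebraMap C L)) := hof ▸ hy
    have h3 : x - y ∈ J.map (algebraMap C L) := Ideal.sub_mem _ hx (hKle hy')
    have h4 := hinf ⟨h3, h2⟩
    have : x = y + (x - y) := by ring
    rw [this]
    exact Submodule.add_mem_sup hy' h4
  have hK : J.map (algebraMap C L) = (Ideal.ofList as).map (algebraMap C L) := by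
    rw [Ideal.map_ofList]
    exact le_antisymm hJLle hKle
  obtain ⟨T, hT⟩ := hJfg
  have hspread : ∀ T' : Finset C, (∀ b ∈ T', b ∈ J) →
      ∃ g' : C, g' ∉ Q ∧ ∀ b ∈ T', g' * b ∈ Ideal.ofList as := by
    intro T'
    induction T' using Finset.induction_on with
    | empty => exact fun _ => ⟨1, (Ideal.ne_top_iff_one Q).mp Ideal.IsPrime.ne_top', by simp⟩
    | insert b T' _ ih =>
      intro hb
      obtain ⟨g', hg', hg'mem⟩ := ih (fun c hc => hb c (Finset.mem_insert_of_mem hc))
      have hbJ : b ∈ J := hb b (Finset.mem_insert_self b T')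
      have h1 : algebraMap C L b ∈ (Ideal.ofList as).map (algebraMap C L) :=
        hK ▸ Ideal.mem_map_of_mem _ hbJ
      obtain ⟨m, hm, hmb⟩ :=
        (IsLocalization.algebraMap_mem_map_algebraMap_iff Q.primeCompl L _ b).mp h1
      refine ⟨m * g', ?_, ?_⟩
      · intro hmem
        rcases Ideal.IsPrime.mem_or_mem inferInstance hmem with h | h
        · exact hm h
        · exact hg' h
      · intro c hc
        rcases Finset.mem_insert.mp hc with rfl | hc
        · rw [mul_comm m g', mul_assoc]
          exact Ideal.mul_mem_left _ _ hmb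
        · rw [mul_assoc]
          exact Ideal.mul_mem_left _ _ (hg'mem c hc)
  obtain ⟨g', hg'Q, hg'⟩ := hspread T (fun b hb => hT ▸ Ideal.subset_span hb)
  refine ⟨g * g', ?_, as, hasJ, ?_⟩
  · intro hmem
    rcases Ideal.IsPrime.mem_or_mem inferInstance hmem with h | h
    · exact hgQ h
    · exact hg'Q h
  · intro Ch _ _ _ _ _
    refine ⟨hslice g' Ch, ?_⟩
    rw [← Ideal.map_ofList]
    refine le_antisymm (Ideal.map_mono (Ideal.span_le.mpr hasJ)) ?_
    rw [← hT, Ideal.map_span, Ideal.span_le]
    rintro _ ⟨b, hb, rfl⟩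
    have hu : IsUnit (algebraMap C Ch g') := by
      have h1 : IsUnit (algebraMap C Ch (g * g')) := IsLocalization.Away.algebraMap_isUnit (g * g')
      rw [map_mul] at h1
      exact isUnit_of_mul_isUnit_right h1
    have h2 : algebraMap C Ch (g' * b) ∈ (Ideal.ofList as).map (algebraMap C Ch) :=
      Ideal.mem_map_of_mem _ (hg' b hb)
    rw [map_mul] at h2
    exact (Ideal.unit_mul_mem_iff_mem _ hu).mp h2

end

end Groth.Agent.Helper2.RegNbhd
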