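import Mathlib
import Groth.Prelude.Def_RegImm
import Groth.Agent.Lib.Helper2.RegNbhd3
import Groth.Agent.Lib.Helper2.LciLoc3

/-!
# Base change of transversally regular immersions along arbitrary morphisms of the base (helper2)
-/

set_option autoImplicit false
universe u

open CategoryTheory CategoryTheory.Limits AlgebraicGeometry TopologicalSpace TensorProduct

namespace Groth.Agent.Helper2.RegNbhd

section

open RingTheory.Sequence Groth.Agent.Helper28 Groth.Agent.Helper28.RegBC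

/-- ring-level pushout form of the base change of transversally regular sequences. -/
theorem wrSeq_of_isPushout {A B A' C : Type u} [CommRing A] [CommRing B] [CommRing A']
    [CommRing C] [Algebra A B] [Algebra A A'] (inl : B →+* C) (inr : A' →+* C)
    (hP : IsPushout (CommRingCat.ofHom (algebraMap A B)) (CommRingCat.ofHom (algebraMap A A'))
      (CommRingCat.ofHom inl) (CommRingCat.ofHom inr))
    (rs : List B) (hrs : RegImm.IsTransRegularSeq A B rs) :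
    IsWeaklyRegular C (rs.map inl) := by
  have hT := CommRingCat.isPushout_tensorProduct A A' B
  let e : A' ⊗[A] B ≃+* C := (hT.isoIsPushout _ _ hP.flip).commRingCatIsoToRingEquiv
  have he : ∀ b : B, e ((1 : A') ⊗ₜ[A] b) = inl b := by
    intro b
    have h := hT.inr_isoIsPushout_hom _ _ hP.flip
    have h2 : (CommRingCat.ofHom (S := A' ⊗[A] B)
        (Algebra.TensorProduct.includeRight (R := A) (A := A') (B := B)).toRingHom ≫
        (hT.isoIsPushout _ _ hP.flip).hom).hom b = inl b := by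
      rw [h]; rfl
    exact h2
  obtain ⟨hwr, hfl⟩ := hrs
  have h1 : IsWeaklyRegular (B ⊗[A] A') rs :=
    Groth.Agent.S5068.isWeaklyRegular_tensor_of_trans A' rs B hwr (fun j hj => by
      have h0 : (Ideal.ofList (rs.take j) • ⊤ : Submodule B B) = Ideal.ofList (rs.take j) := by
        rw [smul_eq_mul, Ideal.mul_top]
      haveI := hfl j hj
      exact Module.Flat.of_linearEquiv ((Submodule.quotEquivOfEq _ _ h0).restrictScalars A))
  have h2 : IsWeaklyRegular (B ⊗[A] A')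
      (rs.map (algebraMap B (B ⊗[A] A'))) :=
    (isWeaklyRegular_map_algebraMap_iff (B ⊗[A] A') (B ⊗[A] A') rs).mpr h1
  let c : B ⊗[A] A' ≃+* A' ⊗[A] B := (Algebra.TensorProduct.comm A B A').toRingEquiv
  letI : Algebra (B ⊗[A] A') C := ((c.trans e) : B ⊗[A] A' →+* C).toAlgebra
  haveI : Module.Flat (B ⊗[A] A') C :=
    RingHom.Flat.of_bijective (f := ((c.trans e) : B ⊗[A] A' →+* C)) (c.trans e).bijective
  have h3 := h2.of_flat (S := C)
  rw [List.map_map] at h3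
  have h4 : (algebraMap (B ⊗[A] A') C) ∘ (algebraMap B (B ⊗[A] A')) = inl := by
    funext b
    show e (c (b ⊗ₜ[A] (1 : A'))) = inl b
    rw [← he b]
    rfl
  rw [h4] at h3
  exact h3

/-- base change of a transversally regular presentation along an arbitrary morphism of the
base. -/
theorem regAt_of_trans_baseChange {Z X S S' X' Z' : Scheme.{u}} (f : X ⟶ S) (i : Z ⟶ X)
    (g : S' ⟶ S) (p : X' ⟶ X) (q : X' ⟶ S') (hsqX : IsPullback p q f g)
    (g' : Z' ⟶ Z) (i' : Z' ⟶ X') (hsqZ : IsPullback g' i' i p)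
    (U : X.Opens) (hU : IsAffineOpen U) (V : S.Opens) (hV : IsAffineOpen V) (hUV : U ≤ f ⁻¹ᵁ V)
    [IsClosedImmersion (i ∣_ U)] (rs : List Γ(X, U))
    (hrs : letI := (f.appLE V U hUV).hom.toAlgebra
      RegImm.IsTransRegularSeq Γ(S, V) Γ(X, U) rs)
    (hker : RingHom.ker (i.app U).hom = Ideal.ofList rs)
    (z' : Z') (hz' : p (i' z') ∈ U) : RegImm.IsRegularImmersionAt .regular i' z' := by
  have hcondX : f (p (i' z')) = g (q (i' z')) := by
    have := congrArg (fun t : X' ⟶ S => t (i' z')) hsqX.w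
    simpa using this
  have hs' : q (i' z') ∈ g ⁻¹ᵁ V := by
    show g (q (i' z')) ∈ V
    rw [← hcondX]; exact hUV hz'
  obtain ⟨V', hV', hsV', hV'le⟩ : ∃ V' : S'.Opens, IsAffineOpen V' ∧ q (i' z') ∈ V' ∧
      V' ≤ g ⁻¹ᵁ V := by
    obtain ⟨_, ⟨W, hW, rfl⟩, hzW, hWle⟩ :=
      (S'.isBasis_affineOpens).exists_subset_of_mem_open hs' (g ⁻¹ᵁ V).isOpen
    exact ⟨W, hW, hzW, hWle⟩
  have hU'aff : IsAffineOpen (p ⁻¹ᵁ U ⊓ q ⁻¹ᵁ V') := by
    haveI : IsAffine V := hV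
    haveI : IsAffine V' := hV'
    haveI : IsAffine U := hU
    exact .of_isIso (Scheme.Hom.isPullback_resLE hsqX hV'le hUV rfl).isoPullback.hom
  have hz'U' : i' z' ∈ p ⁻¹ᵁ U ⊓ q ⁻¹ᵁ V' := ⟨hz', hsV'⟩
  have hU'le : p ⁻¹ᵁ U ⊓ q ⁻¹ᵁ V' ≤ p ⁻¹ᵁ U := inf_le_left
  obtain ⟨hcl', hker'⟩ := ker_of_isPullback i p i' g' hsqZ U hU _ hU'aff hU'le
  have hiso := isIso_pushoutSection_of_isAffineOpen hsqX hV'le hUV
    (rfl : p ⁻¹ᵁ U ⊓ q ⁻¹ᵁ V' = _) hV hV' hU
  have hpo := (isIso_pushoutSection_iff hsqX hV'le hUV rfl).1 hiso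
  letI : Algebra Γ(S, V) Γ(X, U) := (f.appLE V U hUV).hom.toAlgebra
  letI : Algebra Γ(S, V) Γ(S', V') := (g.appLE V V' hV'le).hom.toAlgebra
  have hseq := wrSeq_of_isPushout (A := Γ(S, V)) (B := Γ(X, U)) (A' := Γ(S', V'))
    (p.appLE U _ hU'le).hom (q.appLE V' (p ⁻¹ᵁ U ⊓ q ⁻¹ᵁ V') inf_le_right).hom hpo rs hrs
  have hkerEq : RingHom.ker (i'.app (p ⁻¹ᵁ U ⊓ q ⁻¹ᵁ V')).hom =
      Ideal.ofList (rs.map (p.appLE U _ hU'le).hom) := by
    rw [hker', hker, Ideal.map_ofList]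
  refine ⟨⟨_, hU'aff⟩, hz'U', hcl', rs.map (p.appLE U _ hU'le).hom, ⟨hseq, fun htop => ?_⟩,
    hkerEq⟩
  have h1 : Ideal.ofList (rs.map (p.appLE U _ hU'le).hom) = ⊤ := by
    rw [smul_eq_mul, Ideal.mul_top] at htop
    exact htop.symm
  rw [← hkerEq] at h1
  have hne : Nonempty (i' ⁻¹ᵁ (p ⁻¹ᵁ U ⊓ q ⁻¹ᵁ V') : Z'.Opens) := ⟨⟨z', hz'U'⟩⟩
  have h2 : (1 : Γ(X', p ⁻¹ᵁ U ⊓ q ⁻¹ᵁ V')) ∈
      RingHom.ker (i'.app (p ⁻¹ᵁ U ⊓ q ⁻¹ᵁ V')).hom := h1 ▸ Submodule.mem_top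
  rw [RingHom.mem_ker, map_one] at h2
  exact one_ne_zero h2

end

end Groth.Agent.Helper2.RegNbhd
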