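import Mathlib
import Groth.Prelude.Def_Mor2
import Groth.Prelude.Def_CInt
import Groth.Agent.Lib.Helper2.RegNbhd1
import Groth.Agent.Lib.Helper2.CIPi1
import Groth.Agent.Lib.Helper16.Sch.FibMod3
import Groth.Agent.Lib.Helper3.RegImm2
import Groth.Agent.S2166

/-!
# Regular immersions near a point via the fibres (helper2)
-/

set_option autoImplicit false
universe u

namespace Groth.Agent.Helper2.RegNbhd

section

open AlgebraicGeometry CategoryTheory IsLocalRing RingTheory.Sequence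
  Groth.Agent.Helper16.FibStalk Groth.Agent.Helper16.FibMod

variable {X Y S : Scheme.{u}}

/-- **stalk level**: if the fibre local ring of `X` at `f y` is regular and that of `Y` at `y`
is a complete intersection, the image of the ideal of `Y` in the fibre local ring of `X` is
generated by a regular sequence. -/
theorem exists_fibre_seq (g : X ⟶ S) (f : Y ⟶ X) [IsClosedImmersion f] (y : Y)
    [IsRegularLocalRing (X.presheaf.stalk (f y) ⧸ fibIdeal g (f y))]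
    (hCI : Pi1.IsCompleteIntersection (CInt.fiberStalk (f ≫ g) y)) :
    ∃ rs : List (X.presheaf.stalk (f y) ⧸ fibIdeal g (f y)),
      IsWeaklyRegular (X.presheaf.stalk (f y) ⧸ fibIdeal g (f y)) rs ∧
      Ideal.ofList rs =
        (RingHom.ker (f.stalkMap y).hom).map (Ideal.Quotient.mk (fibIdeal g (f y))) := by
  letI : Algebra (S.presheaf.stalk (g (f y))) (X.presheaf.stalk (f y)) :=
    (g.stalkMap (f y)).hom.toAlgebra
  letI : Algebra (X.presheaf.stalk (f y)) (Y.presheaf.stalk y) := (f.stalkMap y).hom.toAlgebra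
  letI : Algebra (S.presheaf.stalk (g (f y))) (Y.presheaf.stalk y) :=
    ((f ≫ g).stalkMap y).hom.toAlgebra
  haveI : IsScalarTower (S.presheaf.stalk (g (f y))) (X.presheaf.stalk (f y))
      (Y.presheaf.stalk y) := IsScalarTower.of_algebraMap_eq (fun a => by
    change ((f ≫ g).stalkMap y).hom a = (f.stalkMap y).hom ((g.stalkMap (f y)).hom a)
    rw [Scheme.Hom.stalkMap_comp]
    rfl)
  haveI : IsLocalHom (algebraMap (S.presheaf.stalk (g (f y))) (X.presheaf.stalk (f y))) :=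
    inferInstanceAs (IsLocalHom (g.stalkMap (f y)).hom)
  haveI : IsLocalHom (algebraMap (S.presheaf.stalk (g (f y))) (Y.presheaf.stalk y)) :=
    inferInstanceAs (IsLocalHom ((f ≫ g).stalkMap y).hom)
  have hsurj : Function.Surjective (algebraMap (X.presheaf.stalk (f y)) (Y.presheaf.stalk y)) :=
    f.stalkMap_surjective y
  obtain ⟨e⟩ := Groth.Agent.S5068.nonempty_fib_equiv (S.presheaf.stalk (g (f y)))
    (X.presheaf.stalk (f y)) (Y.presheaf.stalk y) hsurj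
  have hJ0 := Groth.Agent.S5068.J0_ne_top (S.presheaf.stalk (g (f y)))
    (X.presheaf.stalk (f y)) (Y.presheaf.stalk y) hsurj
  haveI : Nontrivial (EGA4.FibRing (S.presheaf.stalk (g (f y))) (X.presheaf.stalk (f y)) ⧸
      Groth.Agent.S5068.J0 (S.presheaf.stalk (g (f y))) (X.presheaf.stalk (f y))
        (Y.presheaf.stalk y)) := Ideal.Quotient.nontrivial_iff.mpr hJ0
  haveI : IsLocalRing (EGA4.FibRing (S.presheaf.stalk (g (f y))) (X.presheaf.stalk (f y)) ⧸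
      Groth.Agent.S5068.J0 (S.presheaf.stalk (g (f y))) (X.presheaf.stalk (f y))
        (Y.presheaf.stalk y)) :=
    IsLocalRing.of_surjective' (Ideal.Quotient.mk _) Ideal.Quotient.mk_surjective
  haveI : IsRegularLocalRing (EGA4.FibRing (S.presheaf.stalk (g (f y)))
      (X.presheaf.stalk (f y))) := ‹IsRegularLocalRing (X.presheaf.stalk (f y) ⧸ fibIdeal g (f y))›
  have hS := Groth.Agent.S2166.result
    (R := EGA4.FibRing (S.presheaf.stalk (g (f y))) (X.presheaf.stalk (f y)))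
    (Groth.Agent.S5068.J0 (S.presheaf.stalk (g (f y))) (X.presheaf.stalk (f y))
      (Y.presheaf.stalk y)) hJ0
  have hCI2 : Pi1.IsCompleteIntersection
      (EGA4.FibRing (S.presheaf.stalk (g (f y))) (Y.presheaf.stalk y)) :=
    Groth.Agent.Helper2.CIPi1.isCI_of_ringEquiv (fibStalkEquiv (f ≫ g) y).symm hCI
  obtain ⟨rs, hrs, hreg⟩ := hS.mp (Groth.Agent.Helper2.CIPi1.isCI_of_ringEquiv e.symm hCI2)
  exact ⟨rs, hreg.toIsWeaklyRegular, hrs⟩

theorem mem_basicOpen_of_notMem {U : X.Opens} (hU : IsAffineOpen U)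
    (x : X) (hxU : x ∈ U) (r : Γ(X, U)) (hrx : r ∉ (hU.primeIdealOf ⟨x, hxU⟩).asIdeal) :
    x ∈ X.basicOpen r := by
  have h1 : hU.primeIdealOf ⟨x, hxU⟩ ∈ (PrimeSpectrum.basicOpen r : Set _) := hrx
  have h2 : hU.primeIdealOf ⟨x, hxU⟩ ∈ hU.fromSpec ⁻¹ᵁ X.basicOpen r := by
    rw [hU.fromSpec_preimage_basicOpen]
    exact h1
  have h3 : hU.fromSpec (hU.primeIdealOf ⟨x, hxU⟩) ∈ X.basicOpen r := h2
  rwa [hU.fromSpec_primeIdealOf] at h3

/-- **regular immersion near a point from the fibres**. -/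
theorem exists_restrict_regular (g : X ⟶ S) [Flat g] [LocallyOfFinitePresentation g]
    (f : Y ⟶ X) [IsClosedImmersion f] [Flat (f ≫ g)] [LocallyOfFinitePresentation (f ≫ g)] (y : Y)
    [IsRegularLocalRing (X.presheaf.stalk (f y) ⧸ fibIdeal g (f y))]
    (hCI : Pi1.IsCompleteIntersection (CInt.fiberStalk (f ≫ g) y)) :
    ∃ V : X.Opens, f y ∈ V ∧ Mor2.IsRegularClosedImmersion (f ∣_ V) := by
  obtain ⟨rs, hreg, hgen⟩ := exists_fibre_seq g f y hCI
  obtain ⟨_, ⟨W, hW, rfl⟩, hsW, -⟩ := S.isBasis_affineOpens.exists_subset_of_mem_open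
    (Set.mem_univ (g (f y))) isOpen_univ
  obtain ⟨_, ⟨V, hV, rfl⟩, hxV, hVW⟩ := X.isBasis_affineOpens.exists_subset_of_mem_open
    (show f y ∈ ((g ⁻¹ᵁ W : X.Opens) : Set X) from hsW) (g ⁻¹ᵁ W).2
  have e : V ≤ g ⁻¹ᵁ W := hVW
  have e' : f ⁻¹ᵁ V ≤ (f ≫ g) ⁻¹ᵁ W := fun z hz => e hz
  have hV' : IsAffineOpen (f ⁻¹ᵁ V) := hV.preimage f
  letI alg : Algebra Γ(S, W) Γ(X, V) := (g.appLE W V e).hom.toAlgebra
  haveI : Module.Flat Γ(S, W) Γ(X, V) := Flat.flat_appLE g hW hV e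
  haveI : Algebra.FinitePresentation Γ(S, W) Γ(X, V) :=
    LocallyOfFinitePresentation.finitePresentation_appLE g hW hV e
  letI alg' : Algebra Γ(S, W) Γ(Y, f ⁻¹ᵁ V) := ((f ≫ g).appLE W (f ⁻¹ᵁ V) e').hom.toAlgebra
  haveI : Module.Flat Γ(S, W) Γ(Y, f ⁻¹ᵁ V) := Flat.flat_appLE (f ≫ g) hW hV' e'
  haveI : Algebra.FinitePresentation Γ(S, W) Γ(Y, f ⁻¹ᵁ V) :=
    LocallyOfFinitePresentation.finitePresentation_appLE (f ≫ g) hW hV' e'
  letI : Algebra Γ(X, V) (X.presheaf.stalk (f y)) := X.presheaf.algebra_section_stalk ⟨f y, hxV⟩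
  haveI : IsLocalization.AtPrime (X.presheaf.stalk (f y)) (hV.primeIdealOf ⟨f y, hxV⟩).asIdeal :=
    hV.isLocalization_stalk ⟨f y, hxV⟩
  letI : Algebra Γ(S, W) (X.presheaf.stalk (f y)) :=
    ((algebraMap Γ(X, V) (X.presheaf.stalk (f y))).comp (algebraMap Γ(S, W) Γ(X, V))).toAlgebra
  haveI : IsScalarTower Γ(S, W) Γ(X, V) (X.presheaf.stalk (f y)) :=
    IsScalarTower.of_algebraMap_eq (fun _ => rfl)
  haveI : Module.Flat Γ(X, V) (X.presheaf.stalk (f y)) :=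
    IsLocalization.flat _ (hV.primeIdealOf ⟨f y, hxV⟩).asIdeal.primeCompl
  haveI : Module.Flat Γ(S, W) (X.presheaf.stalk (f y)) :=
    Module.Flat.trans Γ(S, W) Γ(X, V) (X.presheaf.stalk (f y))
  -- the algebra map `Γ(X, V) → Γ(Y, f⁻¹ V)`
  let φ : Γ(X, V) →ₐ[Γ(S, W)] Γ(Y, f ⁻¹ᵁ V) :=
    { (f.app V).hom with
      commutes' := fun r => by
        change (f.app V).hom ((g.appLE W V e).hom r) = ((f ≫ g).appLE W (f ⁻¹ᵁ V) e').hom r
        rw [← CommRingCat.comp_apply, Scheme.Hom.app_eq_appLE, Scheme.Hom.appLE_comp_appLE] }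
  have hφ : Function.Surjective φ := f.app_surjective V hV
  have hJ : f.ker.ideal ⟨V, hV⟩ = RingHom.ker (φ : Γ(X, V) →+* Γ(Y, f ⁻¹ᵁ V)) :=
    Scheme.Hom.ker_apply f ⟨V, hV⟩
  have hJfg : (RingHom.ker (φ : Γ(X, V) →+* Γ(Y, f ⁻¹ᵁ V))).FG :=
    Algebra.FinitePresentation.ker_fG_of_surjective φ hφ
  haveI : Module.Flat Γ(S, W) (Γ(X, V) ⧸ RingHom.ker (φ : Γ(X, V) →+* Γ(Y, f ⁻¹ᵁ V))) :=
    Module.Flat.of_linearEquiv (Ideal.quotientKerAlgEquivOfSurjective hφ).toLinearEquiv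
  have hker := Groth.Agent.Helper3.RegImm2.ker_stalkMap_closedImmersion f y ⟨V, hV⟩ hxV
  have hkerL : RingHom.ker (f.stalkMap y).hom =
      (RingHom.ker (φ : Γ(X, V) →+* Γ(Y, f ⁻¹ᵁ V))).map
        (algebraMap Γ(X, V) (X.presheaf.stalk (f y))) := by
    rw [hker, hJ]
    rfl
  have hJQ : RingHom.ker (φ : Γ(X, V) →+* Γ(Y, f ⁻¹ᵁ V)) ≤
      (hV.primeIdealOf ⟨f y, hxV⟩).asIdeal := by
    intro a ha
    rw [← IsLocalization.AtPrime.to_map_mem_maximal_iff (X.presheaf.stalk (f y))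
      (hV.primeIdealOf ⟨f y, hxV⟩).asIdeal a, mem_maximalIdeal, mem_nonunits_iff]
    intro hu
    have h1 : algebraMap Γ(X, V) (X.presheaf.stalk (f y)) a ∈ RingHom.ker (f.stalkMap y).hom := by
      rw [hkerL]
      exact Ideal.mem_map_of_mem _ ha
    have h2 := hu.map (f.stalkMap y).hom
    rw [RingHom.mem_ker.mp h1] at h2
    exact not_isUnit_zero h2
  have hIX : fibIdeal g (f y) =
      ((hV.primeIdealOf ⟨f y, hxV⟩).asIdeal.comap (algebraMap Γ(S, W) Γ(X, V))).map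
        (algebraMap Γ(S, W) (X.presheaf.stalk (f y))) := by
    have h1 := fibIdeal_chart g hV hW e ⟨f y, hxV⟩
    rw [Ideal.map_map] at h1
    exact h1
  rw [hkerL] at hgen
  obtain ⟨h, hhQ, as, hasJ, hcore⟩ := core (hV.primeIdealOf ⟨f y, hxV⟩).asIdeal
    (X.presheaf.stalk (f y)) (RingHom.ker (φ : Γ(X, V) →+* Γ(Y, f ⁻¹ᵁ V))) hJfg hJQ
    (fibIdeal g (f y)) hIX rs hreg hgen
  refine ⟨X.basicOpen h, mem_basicOpen_of_notMem hV (f y) hxV h hhQ, ?_⟩
  haveI := hV.isLocalization_basicOpen h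
  obtain ⟨hwr, hof⟩ := hcore Γ(X, X.basicOpen h)
  refine Groth.Agent.Helper3.RegImm2.restrict_of_presentation f (X.basicOpen h) (hV.basicOpen h)
    (as.map (algebraMap Γ(X, V) Γ(X, X.basicOpen h))) hwr ?_
  rw [hof, ← hJ]
  exact (f.ker.map_ideal (U := ⟨X.basicOpen h, hV.basicOpen h⟩) (V := ⟨V, hV⟩)
    (X.basicOpen_le h)).symm

end

end Groth.Agent.Helper2.RegNbhd
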