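import Mathlib
import Groth.Agent.Lib.Helper2.FCR4
import Groth.Agent.Lib.Helper21.FL9

/-!
# Fibre criterion: flatness of the quotient by a fibrewise regular sequence
-/

set_option autoImplicit false
universe u

namespace Groth.Agent.Helper2.FCR

open Groth.Agent.Helper21.FL

section T0

variable {R E F' : Type u} [CommRing R] [CommRing E] [CommRing F'] [Algebra R E] [Algebra R F']

/-- transport of flatness of a localization along an isomorphism of `R`-algebras -/
theorem flat_of_algEquiv (e : E ≃ₐ[R] F') (Q_F : Ideal F') [Q_F.IsPrime] (Q : Ideal E) [Q.IsPrime]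
    (hQ : Q = Q_F.comap (e : E →+* F')) [hfl : Module.Flat R (LocalizedModule Q.primeCompl E)] :
    Module.Flat R (LocalizedModule Q_F.primeCompl F') := by
  have hcomp : algebraMap R F' = (e : E →+* F').comp (algebraMap R E) := by
    ext r
    simp
  have hp' : Q.comap (algebraMap R E) = Q_F.comap (algebraMap R F') := by
    rw [hQ, hcomp, Ideal.comap_comap]
  rw [← flat_localRingHom_iff (Q.comap (algebraMap R E)) Q_F hp']
  have h1 := (flat_localRingHom_iff (Q.comap (algebraMap R E)) Q rfl).mpr hfl
  have key : Localization.localRingHom (Q.comap (algebraMap R E)) Q_F (algebraMap R F') hp' =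
      (Localization.localRingHom Q Q_F (e : E →+* F') hQ).comp
        (Localization.localRingHom (Q.comap (algebraMap R E)) Q (algebraMap R E) rfl) := by
    apply Localization.localRingHom_unique
    intro r
    rw [RingHom.comp_apply, Localization.localRingHom_to_map, Localization.localRingHom_to_map,
      hcomp]
    rfl
  rw [key]
  refine RingHom.Flat.comp h1 (RingHom.Flat.of_bijective ?_)
  have hQ' : Q = Q_F.comap (e.toRingEquiv : E ≃+* F') := hQ
  exact (Localization.localRingEquiv Q Q_F e.toRingEquiv hQ').bijective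

end T0

section FlatQuot

variable (R : Type u) [CommRing R]

/-- flatness at `Q` of every quotient of `E` by `(l)` -/
def FlatQuot {E : Type u} [CommRing E] [Algebra R E] (Q : Ideal E) (l : List E) : Prop :=
  ∀ (F' : Type u) [CommRing F'] [Algebra R F'] (ρ : E →ₐ[R] F'), Function.Surjective ρ →
    RingHom.ker ρ.toRingHom = Ideal.ofList l → ∀ (Q_F : Ideal F') [Q_F.IsPrime],
    Q_F.comap ρ.toRingHom = Q → Module.Flat R (LocalizedModule Q_F.primeCompl F')

variable {R}

theorem flatQuot_of_hFib : ∀ (n : ℕ) (E : Type u) [CommRing E] [Algebra R E]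
    [Algebra.FinitePresentation R E] (Q : Ideal E) [Q.IsPrime]
    [Module.Flat R (LocalizedModule Q.primeCompl E)] (l : List E), l.length = n →
    (∀ a ∈ l, a ∈ Q) → HFib R Q l → FlatQuot R Q l := by
  intro n
  induction n with
  | zero =>
    intro E _ _ _ Q hQ _ l hl _ _ F' _ _ ρ hρ hker Q_F _ hQF
    rw [List.length_eq_zero_iff] at hl
    subst hl
    have hinj : Function.Injective ρ := by
      rw [← RingHom.coe_coe, RingHom.injective_iff_ker_eq_bot]
      rw [Ideal.ofList_nil] at hker
      exact hker
    exact flat_of_algEquiv (AlgEquiv.ofBijective ρ ⟨hinj, hρ⟩) Q_F Q hQF.symm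
  | succ n ih =>
    intro E _ _ _ Q hQ _ l hl hlQ H F' _ _ ρ hρ hker Q_F _ hQF
    obtain ⟨a, l', rfl⟩ := List.exists_cons_of_length_eq_add_one hl
    have haQ : a ∈ Q := hlQ a (by simp)
    obtain ⟨-, hflat⟩ := step (R := R) Q a haQ (fibNZD_of_hFib Q a l' H)
    have hle : ∀ x ∈ Ideal.span {a}, ρ x = 0 := by
      intro x hx
      have : x ∈ RingHom.ker ρ.toRingHom := by
        rw [hker, Ideal.ofList_cons]
        exact Ideal.mem_sup_left hx
      exact this
    let ρ' : (E ⧸ Ideal.span {a}) →ₐ[R] F' := Ideal.Quotient.liftₐ (Ideal.span {a}) ρ hle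
    have hρ'mk : ∀ x, ρ' (Ideal.Quotient.mk _ x) = ρ x := fun x => rfl
    have hρ' : Function.Surjective ρ' := by
      intro y
      obtain ⟨x, rfl⟩ := hρ y
      exact ⟨Ideal.Quotient.mk _ x, rfl⟩
    have hker' : RingHom.ker ρ'.toRingHom =
        Ideal.ofList (l'.map (Ideal.Quotient.mk (Ideal.span {a}))) := by
      have h1 : RingHom.ker ρ'.toRingHom =
          (RingHom.ker ρ.toRingHom).map (Ideal.Quotient.mk (Ideal.span {a})) := by
        ext y
        obtain ⟨x, rfl⟩ := Ideal.Quotient.mk_surjective y
        rw [RingHom.mem_ker, Ideal.mem_map_iff_of_surjective _ Ideal.Quotient.mk_surjective]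
        constructor
        · intro h
          exact ⟨x, h, rfl⟩
        · rintro ⟨x', hx', hxx'⟩
          have h2 : ρ'.toRingHom (Ideal.Quotient.mk _ x) = ρ'.toRingHom (Ideal.Quotient.mk _ x') := by
            rw [hxx']
          rw [h2]
          exact hx'
      rw [h1, hker, Ideal.ofList_cons, Ideal.map_sup, Ideal.map_ofList, Ideal.map_quotient_self,
        bot_sup_eq]
    haveI hQb : (Q_F.comap ρ'.toRingHom).IsPrime := Ideal.comap_isPrime _ _
    have hcomap : (Q_F.comap ρ'.toRingHom).comap (Ideal.Quotient.mk (Ideal.span {a})) = Q := by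
      rw [← hQF, Ideal.comap_comap]
      rfl
    haveI := hflat (Q_F.comap ρ'.toRingHom) hcomap
    haveI : Algebra.FinitePresentation R (E ⧸ Ideal.span {a}) :=
      Algebra.FinitePresentation.quotient ⟨{a}, by simp⟩
    have H' := hFib_quot (R := R) Q a l' H (Q_F.comap ρ'.toRingHom) hcomap
    have hmem : ∀ b ∈ l'.map (Ideal.Quotient.mk (Ideal.span {a})), b ∈ Q_F.comap ρ'.toRingHom := by
      intro b hb
      obtain ⟨b₀, hb₀, rfl⟩ := List.mem_map.mp hb
      have : b₀ ∈ (Q_F.comap ρ'.toRingHom).comap (Ideal.Quotient.mk (Ideal.span {a})) := by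
        rw [hcomap]
        exact hlQ b₀ (by simp [hb₀])
      exact this
    exact ih (E ⧸ Ideal.span {a}) (Q_F.comap ρ'.toRingHom)
      (l'.map (Ideal.Quotient.mk (Ideal.span {a}))) (by simpa using hl) hmem H'
      F' ρ' hρ' hker' Q_F rfl

end FlatQuot

end Groth.Agent.Helper2.FCR
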