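import Mathlib
import Groth.Prelude.Def_RegImm
import Groth.Agent.Lib.Helper2.SyntLCI4
import Groth.Agent.Lib.Helper2.FCR7

/-!
# Relative global complete intersections: the defining sequence is fibrewise regular
-/

set_option autoImplicit false
universe u

namespace Groth.Agent.Helper2.RelGCI

open MvPolynomial Groth.Agent.Helper2.FCR Groth.Agent.Helper2.SyntLCI TensorProduct
  Groth.Agent.Helper2.GCILoc IsLocalRing

section Field

variable (k : Type u) [Field k] (n c : ℕ) (I : Ideal (MvPolynomial (Fin n) k))
  (f : Fin c → MvPolynomial (Fin n) k) (hI : I = Ideal.span (Set.range f))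
  (hcn : c ≤ n) (hdim : ringKrullDim (MvPolynomial (Fin n) k ⧸ I) = ((n - c : ℕ) : WithBot ℕ∞))
  (q : Ideal (MvPolynomial (Fin n) k ⧸ I)) [hq : q.IsPrime]

include hI hcn hdim in
theorem hc_of_dim : (c : ℕ∞) + q.height = (q.comap (Ideal.Quotient.mk I)).height := by
  classical
  haveI hq'p : (q.comap (Ideal.Quotient.mk I)).IsPrime := Ideal.comap_isPrime _ _
  obtain ⟨δ, -, hq'δ, hmax⟩ := exists_delta k n I q
  obtain ⟨m, hm, hqm⟩ := Ideal.exists_le_maximal q hq.ne_top
  haveI := hm
  have h1 := hmax m hqm
  have h2 : (m.height : WithBot ℕ∞) ≤ ringKrullDim (MvPolynomial (Fin n) k ⧸ I) :=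
    Ideal.height_le_ringKrullDim_of_ne_top hm.ne_top
  rw [hdim] at h2
  have h2' : m.height ≤ ((n - c : ℕ) : ℕ∞) := by
    have : (m.height : WithBot ℕ∞) ≤ (((n - c : ℕ) : ℕ∞) : WithBot ℕ∞) := h2
    exact WithBot.coe_le_coe.mp this
  have h3 : q.height + (δ : ℕ∞) ≤ ((n - c : ℕ) : ℕ∞) := h1.trans h2'
  -- the upper bound
  have hIq' : I ≤ q.comap (Ideal.Quotient.mk I) := by
    intro x hx
    rw [Ideal.mem_comap, Ideal.Quotient.eq_zero_iff_mem.mpr hx]
    exact q.zero_mem
  have hIm : I.map (algebraMap _ (Localization.AtPrime (q.comap (Ideal.Quotient.mk I)))) ≤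
      maximalIdeal (Localization.AtPrime (q.comap (Ideal.Quotient.mk I))) := by
    rw [← IsLocalization.AtPrime.map_eq_maximalIdeal (q.comap (Ideal.Quotient.mk I))
      (Localization.AtPrime (q.comap (Ideal.Quotient.mk I)))]
    exact Ideal.map_mono hIq'
  let g : Fin c → Localization.AtPrime (q.comap (Ideal.Quotient.mk I)) :=
    fun i => algebraMap _ _ (f i)
  have hcoe : ((Finset.univ.image g : Finset _) : Set
      (Localization.AtPrime (q.comap (Ideal.Quotient.mk I)))) = Set.range g := by
    rw [Finset.coe_image, Finset.coe_univ, Set.image_univ]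
  have hg : Ideal.span (Set.range g) =
      I.map (algebraMap _ (Localization.AtPrime (q.comap (Ideal.Quotient.mk I)))) := by
    have h := congrArg (Ideal.map (algebraMap (MvPolynomial (Fin n) k)
      (Localization.AtPrime (q.comap (Ideal.Quotient.mk I))))) hI
    rw [h, Ideal.map_span, ← Set.range_comp]
    rfl
  have h4 := ringKrullDim_le_ringKrullDim_quotient_add_card
    (R := Localization.AtPrime (q.comap (Ideal.Quotient.mk I)))
    (Finset.univ.image g) (by
      rw [hcoe, IsLocalRing.ringJacobson_eq_maximalIdeal]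
      rintro _ ⟨i, rfl⟩
      exact hIm (hg ▸ Ideal.subset_span ⟨i, rfl⟩))
  have hdq := Groth.Agent.S9171.dim_quot k n I q
  have hL := IsLocalization.AtPrime.ringKrullDim_eq_height (q.comap (Ideal.Quotient.mk I))
    (Localization.AtPrime (q.comap (Ideal.Quotient.mk I)))
  rw [hcoe, hg, hdq, hL] at h4
  have hcard : (Finset.univ.image g).card ≤ c := (Finset.card_image_le).trans (by simp)
  -- arithmetic
  have hfin : q.height ≠ ⊤ := by
    intro htop
    rw [htop, top_add] at h3
    exact absurd h3 (by simp)
  obtain ⟨η, hη⟩ := ENat.ne_top_iff_exists.mp hfin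
  have hfin' : (q.comap (Ideal.Quotient.mk I)).height ≠ ⊤ := Ideal.height_ne_top_of_isPrime
  obtain ⟨a, ha⟩ := ENat.ne_top_iff_exists.mp hfin'
  rw [← hη] at h3 h4 ⊢
  rw [← ha] at hq'δ h4 ⊢
  have e1 : a + δ = n := by exact_mod_cast hq'δ
  have e2 : η + δ ≤ n - c := by exact_mod_cast h3
  have e3 : a ≤ η + (Finset.univ.image g).card := by exact_mod_cast h4
  have : c + η = a := by omega
  exact_mod_cast this

include hI hcn hdim in
/-- the defining equations of a global complete intersection over a field form a regular sequence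
in every local ring of the polynomial ring at a point of the complete intersection -/
theorem regular_of_dim :
    RingTheory.Sequence.IsRegular (Localization.AtPrime (q.comap (Ideal.Quotient.mk I)))
      (List.ofFn (fun i => algebraMap _ (Localization.AtPrime (q.comap (Ideal.Quotient.mk I)))
        (f i))) := by
  classical
  haveI hq'p : (q.comap (Ideal.Quotient.mk I)).IsPrime := Ideal.comap_isPrime _ _
  haveI hCMP : LocCoh.IsCohenMacaulayRing (MvPolynomial (Fin n) k) :=
    Groth.Agent.Helper7.CplFlat.isCohenMacaulayRing_of_isRegularRing _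
  haveI hCM : LocCoh.IsCohenMacaulayLocalRing
      (Localization.AtPrime (q.comap (Ideal.Quotient.mk I))) :=
    hCMP.isCohenMacaulayLocalRing_localization _
  have hc := hc_of_dim k n c I f hI hcn hdim q
  have hd := Groth.Agent.S9171.dim_eq k n I q c hc
  have hIq' : I ≤ q.comap (Ideal.Quotient.mk I) := by
    intro x hx
    rw [Ideal.mem_comap, Ideal.Quotient.eq_zero_iff_mem.mpr hx]
    exact q.zero_mem
  have hIm : I.map (algebraMap _ (Localization.AtPrime (q.comap (Ideal.Quotient.mk I)))) ≤
      maximalIdeal (Localization.AtPrime (q.comap (Ideal.Quotient.mk I))) := by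
    rw [← IsLocalization.AtPrime.map_eq_maximalIdeal (q.comap (Ideal.Quotient.mk I))
      (Localization.AtPrime (q.comap (Ideal.Quotient.mk I)))]
    exact Ideal.map_mono hIq'
  have hofl : Ideal.ofList (List.ofFn (fun i => algebraMap _
      (Localization.AtPrime (q.comap (Ideal.Quotient.mk I))) (f i))) =
      I.map (algebraMap _ (Localization.AtPrime (q.comap (Ideal.Quotient.mk I)))) := by
    have h := congrArg (Ideal.map (algebraMap (MvPolynomial (Fin n) k)
      (Localization.AtPrime (q.comap (Ideal.Quotient.mk I))))) hI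
    rw [h, Ideal.map_span, ← Set.range_comp]
    unfold Ideal.ofList
    congr 1
    ext r
    simp [List.mem_ofFn]
  apply Groth.Agent.S12082.reg_of_dim
  · intro x hx
    apply hIm
    rw [← hofl]
    exact Ideal.subset_span hx
  · rw [hofl, List.length_ofFn]
    exact hd

end Field

end Groth.Agent.Helper2.RelGCI
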