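import Mathlib
import Groth.Prelude.Def_RegImm
import Groth.Agent.Lib.Helper2.RelGCI1

/-!
# Relative global complete intersections: the defining sequence is fibrewise regular (II)
-/

set_option autoImplicit false
universe u

namespace Groth.Agent.Helper2.RelGCI

open MvPolynomial Groth.Agent.Helper2.FCR Groth.Agent.Helper2.SyntLCI TensorProduct

section HFib

variable (R : Type u) [CommRing R] (n c : ℕ) (F : Fin c → MvPolynomial (Fin n) R)

theorem ofList_ofFn {A : Type u} [CommRing A] {c : ℕ} (f : Fin c → A) :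
    Ideal.ofList (List.ofFn f) = Ideal.span (Set.range f) := by
  unfold Ideal.ofList
  congr 1
  ext r
  simp [List.mem_ofFn]

/-- the defining equations of a relative global complete intersection form a fibrewise regular
sequence at every prime of the polynomial ring containing them; moreover `c ≤ n` -/
theorem hFib_of_relGCI (h : Synt.IsRelGCI R n c F) (𝔮 : Ideal (MvPolynomial (Fin n) R))
    [h𝔮 : 𝔮.IsPrime] (hI𝔮 : Ideal.span (Set.range F) ≤ 𝔮) :
    c ≤ n ∧ HFib R 𝔮 (List.ofFn F) := by
  let φ : MvPolynomial (Fin n) R →ₐ[R] Synt.RelGCIRing R n c F :=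
    Ideal.Quotient.mkₐ R (Ideal.span (Set.range F))
  have hφ : Function.Surjective φ := Ideal.Quotient.mk_surjective
  have hker : RingHom.ker φ.toRingHom = Ideal.span (Set.range F) := Ideal.mk_ker
  have hI𝔮' : RingHom.ker φ.toRingHom ≤ 𝔮 := by
    rw [hker]
    exact hI𝔮
  let p : Ideal R := 𝔮.comap (algebraMap R (MvPolynomial (Fin n) R))
  haveI hp : p.IsPrime := Ideal.comap_isPrime _ _
  -- the prime of `S`
  have hφ' : Function.Surjective φ.toRingHom := hφ
  haveI hqS : (𝔮.map φ.toRingHom).IsPrime := Ideal.map_isPrime_of_surjective hφ' hI𝔮'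
  have hqScomap : (𝔮.map φ.toRingHom).comap φ.toRingHom = 𝔮 := by
    rw [Ideal.comap_map_of_surjective _ hφ', ← RingHom.ker_eq_comap_bot]
    exact sup_eq_left.mpr hI𝔮'
  have halg : algebraMap R (Synt.RelGCIRing R n c F) =
      φ.toRingHom.comp (algebraMap R (MvPolynomial (Fin n) R)) := by
    ext r
    exact (φ.commutes r).symm
  haveI hlies : (𝔮.map φ.toRingHom).LiesOver p := by
    constructor
    rw [Ideal.under_def, halg, ← Ideal.comap_comap, hqScomap]
  -- the prime of the fibre
  let Q' : PrimeSpectrum (p.Fiber (Synt.RelGCIRing R n c F)) :=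
    PrimeSpectrum.primesOverOrderIsoFiber R (Synt.RelGCIRing R n c F) p
      ⟨𝔮.map φ.toRingHom, ⟨hqS, hlies⟩⟩
  have hQ' : Q'.asIdeal.comap (Algebra.TensorProduct.includeRight (R := R) (A := p.ResidueField)
      (B := Synt.RelGCIRing R n c F)).toRingHom = 𝔮.map φ.toRingHom := by
    have h1 := (PrimeSpectrum.primesOverOrderIsoFiber R (Synt.RelGCIRing R n c F) p).symm_apply_apply
      ⟨𝔮.map φ.toRingHom, ⟨hqS, hlies⟩⟩
    have h2 := congrArg Subtype.val h1
    rw [PrimeSpectrum.coe_primesOverOrderIsoFiber_symm_apply] at h2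
    exact h2
  haveI hnt : Nontrivial (p.Fiber (Synt.RelGCIRing R n c F)) :=
    ⟨⟨0, 1, fun h01 => Q'.isPrime.ne_top
      ((Ideal.eq_top_iff_one _).mpr (h01 ▸ Q'.asIdeal.zero_mem))⟩⟩
  obtain ⟨hcn, hdim⟩ := h ⟨p, hp⟩ hnt
  refine ⟨hcn, ?_⟩
  -- the presentation of the fibre
  let e := Ideal.quotientKerAlgEquivOfSurjective (phik_surjective n φ hφ p)
  have he : ∀ y, e (Ideal.Quotient.mk _ y) = phik n φ p y := fun y => rfl
  haveI hq : (Q'.asIdeal.comap e).IsPrime := Ideal.comap_isPrime _ _
  haveI hq'p : ((Q'.asIdeal.comap e).comap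
      (Ideal.Quotient.mk (RingHom.ker (phik n φ p)))).IsPrime := Ideal.comap_isPrime _ _
  have h𝔮eq : ((Q'.asIdeal.comap e).comap
      (Ideal.Quotient.mk (RingHom.ker (phik n φ p)))).comap (mu n p) = 𝔮 := by
    ext x
    rw [Ideal.mem_comap, Ideal.mem_comap, Ideal.mem_comap]
    have h1 : e (Ideal.Quotient.mk _ (mu n p x)) =
        (1 : p.ResidueField) ⊗ₜ[R] φ x := by
      rw [← phik_mu]
      exact he _
    rw [h1]
    have h2 : (1 : p.ResidueField) ⊗ₜ[R] φ x ∈ Q'.asIdeal ↔
        φ.toRingHom x ∈ Q'.asIdeal.comap (Algebra.TensorProduct.includeRight (R := R)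
          (A := p.ResidueField) (B := Synt.RelGCIRing R n c F)).toRingHom := by
      rw [Ideal.mem_comap]
      rfl
    rw [h2, hQ', ← Ideal.mem_comap, hqScomap]
  have hM : FibModel R 𝔮 (psi n p ((Q'.asIdeal.comap e).comap
      (Ideal.Quotient.mk (RingHom.ker (phik n φ p))))) := by
    have := fibModel_psi n p ((Q'.asIdeal.comap e).comap
      (Ideal.Quotient.mk (RingHom.ker (phik n φ p))))
    rwa [h𝔮eq] at this
  -- the regular sequence
  have hk : RingHom.ker (phik n φ p) = Ideal.span (Set.range (fun i => mu n p (F i))) := by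
    have h1 : RingHom.ker (phik n φ p) = (RingHom.ker φ.toRingHom).map (mu n p) :=
      ker_phik n φ hφ p
    rw [h1, hker, Ideal.map_span, ← Set.range_comp]
    rfl
  have hdim' : ringKrullDim (MvPolynomial (Fin n) p.ResidueField ⧸ RingHom.ker (phik n φ p)) =
      ((n - c : ℕ) : WithBot ℕ∞) := by
    rw [← hdim]
    exact ringKrullDim_eq_of_ringEquiv e.toRingEquiv
  have hreg := regular_of_dim p.ResidueField n c (RingHom.ker (phik n φ p))
    (fun i => mu n p (F i)) hk hcn hdim' (Q'.asIdeal.comap e)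
  refine hM.hFib_of_lifts (rs := List.ofFn (fun i => algebraMap _ (Localization.AtPrime
    ((Q'.asIdeal.comap e).comap (Ideal.Quotient.mk (RingHom.ker (phik n φ p)))))
      (mu n p (F i)))) ?_ hreg.toIsWeaklyRegular
  rw [List.forall₂_iff_get]
  refine ⟨by simp, ?_⟩
  intro i h1 h2
  refine ⟨1, fun h => h𝔮.ne_top ((Ideal.eq_top_iff_one _).mpr h), ?_⟩
  rw [map_one, one_mul]
  simp only [List.get_eq_getElem, List.getElem_ofFn]
  rfl

end HFib

end Groth.Agent.Helper2.RelGCI
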