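import Mathlib
import Groth.Prelude.Def_RegImm
import Groth.Agent.Lib.Helper2.RelGCI2
import Groth.Agent.Lib.Helper2.KosDescent2

/-!
# Relative global complete intersections: Koszul regularity of the defining sequence
-/

set_option autoImplicit false
universe u

namespace Groth.Agent.Helper2.RelGCI

open MvPolynomial Groth.Agent.Helper2.FCR Groth.Agent.Helper2.SyntLCI TensorProduct
  Groth.Agent.Helper21.KL Groth.Agent.Helper2.KosDescent Groth.Agent.Helper2.KosReg

section LocalGlobal

variable {A : Type u} [CommRing A]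

/-- acyclicity of a Koszul complex can be checked on a cover by basic opens -/
theorem acycAt_of_local (xs : List A) (i : ℤ)
    (h : ∀ 𝔮 : Ideal A, 𝔮.IsPrime → ∃ g : A, g ∉ 𝔮 ∧
      AcycAt (xs.map (algebraMap A (Localization.Away g))) (Localization.Away g) i) :
    AcycAt xs A i := by
  have hsub : Subsingleton ((CohIII.koszulCx (ModuleCat.of A A) xs).homology i) := by
    refine ⟨fun a b => ?_⟩
    suffices hz : ∀ z : ((CohIII.koszulCx (ModuleCat.of A A) xs).homology i), z = 0 by
      rw [hz a, hz b]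
    intro z
    obtain ⟨N, hN⟩ := pow_smul_eq_zero_of_charts (A := A) (B := A)
      ((CohIII.koszulCx (ModuleCat.of A A) xs).homology i) 1 (fun 𝔮' h𝔮' _ => by
        obtain ⟨g', hg', hac⟩ := h 𝔮' h𝔮'
        refine ⟨g', hg', ?_⟩
        rw [acycAt_restrict_iff (algebraMap A (Localization.Away g')) (Localization.Away g')
          (fun b m => Algebra.smul_def b m)] at hac
        have hac' := AcycAt.of_linearEquiv (TensorProduct.rid A (Localization.Away g')).symm hac
        rw [acycAt_tensor_iff] at hac'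
        exact hac') z
    rwa [one_pow, one_smul] at hN
  unfold AcycAt
  exact ModuleCat.isZero_of_subsingleton _

end LocalGlobal

section KR

variable (R : Type u) [CommRing R] (n c : ℕ) (F : Fin c → MvPolynomial (Fin n) R)

theorem kr_of_relGCI (h : Synt.IsRelGCI R n c F) :
    LCI.IsKoszulRegularSeq (MvPolynomial (Fin n) R) (List.ofFn F) := by
  rw [isKoszulRegularSeq_iff]
  intro i hi
  apply acycAt_of_local
  intro 𝔮 h𝔮
  by_cases hle : Ideal.span (Set.range F) ≤ 𝔮
  · obtain ⟨-, hH⟩ := hFib_of_relGCI R n c F h 𝔮 hle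
    haveI : Module.Flat R (LocalizedModule 𝔮.primeCompl (MvPolynomial (Fin n) R)) :=
      Groth.Agent.Helper21.FL.flat_of_isLocalizedModule 𝔮.primeCompl
        (LocalizedModule.mkLinearMap 𝔮.primeCompl (MvPolynomial (Fin n) R))
    obtain ⟨g, hg, hwr⟩ := exists_wr (R := R) c (MvPolynomial (Fin n) R) 𝔮 (List.ofFn F)
      (List.length_ofFn) (fun a ha => by
        obtain ⟨j, rfl⟩ := List.mem_ofFn.mp ha
        exact hle (Ideal.subset_span ⟨j, rfl⟩)) hH
    exact ⟨g, hg, (isKoszulRegularSeq_iff _).mp (krSeq_of_wr _ _ hwr) i hi⟩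
  · obtain ⟨j, hj⟩ : ∃ j, F j ∉ 𝔮 := by
      by_contra hcon
      push Not at hcon
      apply hle
      rw [Ideal.span_le]
      rintro _ ⟨j, rfl⟩
      exact hcon j
    refine ⟨F j, hj, acycAt_of_span_eq_top _ ?_ _ i⟩
    apply Ideal.eq_top_of_isUnit_mem _ _ (IsLocalization.Away.algebraMap_isUnit (F j))
    apply Ideal.subset_span
    exact List.mem_map.mpr ⟨F j, List.mem_ofFn.mpr ⟨j, rfl⟩, rfl⟩

end KR

end Groth.Agent.Helper2.RelGCI
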