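import Mathlib
import Groth.Prelude.Def_RegImm
import Groth.Agent.Lib.Helper2.RelGCI3

/-!
# Relative global complete intersections: flatness and the Koszul-regular ideal
-/

set_option autoImplicit false
universe u

namespace Groth.Agent.Helper2.RelGCI

open MvPolynomial Groth.Agent.Helper2.FCR Groth.Agent.Helper2.SyntLCI TensorProduct
  Groth.Agent.Helper21.KL Groth.Agent.Helper2.KosDescent Groth.Agent.Helper2.KosReg

section KRI

variable (R : Type u) [CommRing R] (n c : ℕ) (F : Fin c → MvPolynomial (Fin n) R)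

theorem krIdeal_of_relGCI (h : Synt.IsRelGCI R n c F) :
    LCI.IsKoszulRegularIdeal (Ideal.span (Set.range F)) := by
  intro 𝔮 hle
  haveI h𝔮 : 𝔮.asIdeal.IsPrime := 𝔮.isPrime
  obtain ⟨-, hH⟩ := hFib_of_relGCI R n c F h 𝔮.asIdeal hle
  haveI : Module.Flat R (LocalizedModule 𝔮.asIdeal.primeCompl (MvPolynomial (Fin n) R)) :=
    Groth.Agent.Helper21.FL.flat_of_isLocalizedModule 𝔮.asIdeal.primeCompl
      (LocalizedModule.mkLinearMap 𝔮.asIdeal.primeCompl (MvPolynomial (Fin n) R))
  obtain ⟨g, hg, hwr⟩ := exists_wr (R := R) c (MvPolynomial (Fin n) R) 𝔮.asIdeal (List.ofFn F)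
    (List.length_ofFn) (fun a ha => by
      obtain ⟨j, rfl⟩ := List.mem_ofFn.mp ha
      exact hle (Ideal.subset_span ⟨j, rfl⟩)) hH
  refine ⟨g, hg, _, krSeq_of_wr _ _ hwr, ?_⟩
  rw [Ideal.map_span]
  congr 1
  ext x
  simp only [Set.mem_image, Set.mem_range, Set.mem_ofPred_eq, List.mem_map, List.mem_ofFn]

theorem flat_of_relGCI (h : Synt.IsRelGCI R n c F) :
    Module.Flat R (Synt.RelGCIRing R n c F) := by
  apply Module.flat_of_isLocalized_maximal (Synt.RelGCIRing R n c F) (Synt.RelGCIRing R n c F)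
    (fun P _ => LocalizedModule P.primeCompl (Synt.RelGCIRing R n c F))
    (fun P _ => LocalizedModule.mkLinearMap P.primeCompl (Synt.RelGCIRing R n c F))
  intro Q_F hmax
  haveI hQ : (Q_F.comap (Ideal.Quotient.mkₐ R (Ideal.span (Set.range F))).toRingHom).IsPrime :=
    Ideal.comap_isPrime _ _
  have hle : Ideal.span (Set.range F) ≤
      Q_F.comap (Ideal.Quotient.mkₐ R (Ideal.span (Set.range F))).toRingHom := by
    intro x hx
    rw [Ideal.mem_comap]
    have : (Ideal.Quotient.mkₐ R (Ideal.span (Set.range F))).toRingHom x = 0 :=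
      Ideal.Quotient.eq_zero_iff_mem.mpr hx
    rw [this]
    exact Q_F.zero_mem
  obtain ⟨-, hH⟩ := hFib_of_relGCI R n c F h _ hle
  haveI : Module.Flat R (LocalizedModule
      (Q_F.comap (Ideal.Quotient.mkₐ R (Ideal.span (Set.range F))).toRingHom).primeCompl
      (MvPolynomial (Fin n) R)) :=
    Groth.Agent.Helper21.FL.flat_of_isLocalizedModule
      (Q_F.comap (Ideal.Quotient.mkₐ R (Ideal.span (Set.range F))).toRingHom).primeCompl
      (LocalizedModule.mkLinearMap _ (MvPolynomial (Fin n) R))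
  exact flatQuot_of_hFib (R := R) c (MvPolynomial (Fin n) R) _ (List.ofFn F)
    (List.length_ofFn) (fun a ha => by
      obtain ⟨j, rfl⟩ := List.mem_ofFn.mp ha
      exact hle (Ideal.subset_span ⟨j, rfl⟩)) hH (Synt.RelGCIRing R n c F)
    (Ideal.Quotient.mkₐ R (Ideal.span (Set.range F))) Ideal.Quotient.mk_surjective
    (by rw [ofList_ofFn]; exact Ideal.mk_ker) Q_F rfl

end KRI

end Groth.Agent.Helper2.RelGCI
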