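import Mathlib
import Groth.Prelude.Def_RegImm
import Groth.Agent.Lib.Helper2.RelGCI4
import Groth.Agent.Lib.Helper2.H1Desc3
import Groth.Agent.Lib.Helper26.H1QR1
import Groth.Agent.Lib.Helper6.QRegGen2
import Groth.Agent.Lib.Lead.Depth20

/-!
# Relative global complete intersections: local regularity, flat partial quotients, conormal module
-/

set_option autoImplicit false
universe u

namespace Groth.Agent.Helper2.RelGCI

open MvPolynomial Groth.Agent.Helper2.FCR Groth.Agent.Helper2.SyntLCI TensorProduct
  Groth.Agent.Helper21.KL Groth.Agent.Helper2.KosDescent Groth.Agent.Helper2.KosReg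

section Take

variable {R : Type u} [CommRing R] {E : Type u} [CommRing E] [Algebra R E]

theorem hFib_take (Q : Ideal E) (l : List E) (H : HFib R Q l) (i : ℕ) : HFib R Q (l.take i) := by
  intro j hj x hx
  have hji : j < i := by
    rw [List.length_take] at hj
    exact lt_of_lt_of_le hj (min_le_left _ _)
  have hjl : j < l.length := by
    rw [List.length_take] at hj
    exact lt_of_lt_of_le hj (min_le_right _ _)
  have e2 : (l.take i).take j = l.take j := by
    rw [List.take_take, min_eq_left hji.le]
  have e1 : (l.take i)[j] = l[j] := List.getElem_take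
  rw [e2] at hx ⊢
  rw [e1] at hx
  exact H j hjl x hx

end Take

section Reg

variable {E : Type u} [CommRing E]

/-- a sequence weakly regular on a basic open neighbourhood of `Q` is regular in the local ring
at `Q` -/
theorem regular_localization (Q : Ideal E) [hQ : Q.IsPrime] (g : E) (hg : g ∉ Q) (l : List E)
    (hl : ∀ a ∈ l, a ∈ Q) (hwr : WR g l) :
    RingTheory.Sequence.IsRegular (Localization.AtPrime Q)
      (l.map (algebraMap E (Localization.AtPrime Q))) := by
  have hu : IsUnit (algebraMap E (Localization.AtPrime Q) g) :=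
    IsLocalization.map_units (Localization.AtPrime Q) (⟨g, hg⟩ : Q.primeCompl)
  letI alg : Algebra (Localization.Away g) (Localization.AtPrime Q) :=
    (IsLocalization.Away.lift g hu).toAlgebra
  haveI tower : IsScalarTower E (Localization.Away g) (Localization.AtPrime Q) :=
    IsScalarTower.of_algebraMap_eq (fun a => (IsLocalization.Away.lift_eq g hu a).symm)
  have hpow : Submonoid.powers g ≤ Q.primeCompl := by
    rintro _ ⟨m, rfl⟩
    exact fun h => hg (hQ.mem_of_pow_mem m h)
  haveI hloc : IsLocalization (Q.primeCompl.map (algebraMap E (Localization.Away g)))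
      (Localization.AtPrime Q) :=
    IsLocalization.isLocalization_of_submonoid_le (Localization.Away g) (Localization.AtPrime Q)
      (Submonoid.powers g) Q.primeCompl hpow
  haveI hflat : Module.Flat (Localization.Away g) (Localization.AtPrime Q) :=
    IsLocalization.flat _ (Q.primeCompl.map (algebraMap E (Localization.Away g)))
  have hw1 := isWeaklyRegular_of_wr g l hwr
  have hw2 := RingTheory.Sequence.IsWeaklyRegular.of_flat (S := Localization.AtPrime Q) hw1
  rw [List.map_map, ← RingHom.coe_comp, ← IsScalarTower.algebraMap_eq] at hw2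
  refine RingTheory.Sequence.IsRegular.of_isWeaklyRegular_of_mem_maximalIdeal _ ?_ hw2
  intro r hr
  obtain ⟨a, ha, rfl⟩ := List.mem_map.mp hr
  rw [IsLocalization.AtPrime.to_map_mem_maximal_iff (Localization.AtPrime Q) Q]
  exact hl a ha

end Reg

section FlatLoc

variable {R : Type u} [CommRing R] {E : Type u} [CommRing E] [Algebra R E]

/-- flatness of the local ring of the quotient, in the form `E_Q/(l)` -/
theorem flat_quot_localization (Q : Ideal E) [hQ : Q.IsPrime] (l : List E)
    (hl : ∀ a ∈ l, a ∈ Q) (hfq : FlatQuot R Q l) :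
    Module.Flat R (Localization.AtPrime Q ⧸
      Ideal.ofList (l.map (algebraMap E (Localization.AtPrime Q)))) := by
  have hIQ : Ideal.ofList l ≤ Q := by
    rw [Ideal.ofList, Ideal.span_le]
    exact fun a ha => hl a ha
  have hmap : (Q.map (Ideal.Quotient.mk (Ideal.ofList l))).comap
      (Ideal.Quotient.mk (Ideal.ofList l)) = Q := by
    rw [Ideal.comap_map_of_surjective _ Ideal.Quotient.mk_surjective,
      ← RingHom.ker_eq_comap_bot, Ideal.mk_ker]
    exact sup_eq_left.mpr hIQ
  haveI hQF : (Q.map (Ideal.Quotient.mk (Ideal.ofList l))).IsPrime :=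
    Ideal.map_isPrime_of_surjective Ideal.Quotient.mk_surjective
      (by rw [Ideal.mk_ker]; exact hIQ)
  haveI hfl : Module.Flat R (LocalizedModule
      (Q.map (Ideal.Quotient.mk (Ideal.ofList l))).primeCompl (E ⧸ Ideal.ofList l)) :=
    hfq (E ⧸ Ideal.ofList l) (Ideal.Quotient.mkₐ R (Ideal.ofList l)) Ideal.Quotient.mk_surjective
      Ideal.mk_ker (Q.map (Ideal.Quotient.mk (Ideal.ofList l))) hmap
  have hgen : ∀ J : Ideal (Localization.AtPrime Q),
      J = (Ideal.ofList l).map (algebraMap E (Localization.AtPrime Q)) →
      Module.Flat R (Localization.AtPrime Q ⧸ J) := by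
    rintro J rfl
    have h1 : IsLocalization (Algebra.algebraMapSubmonoid (E ⧸ Ideal.ofList l) Q.primeCompl)
        (Localization.AtPrime Q ⧸ (Ideal.ofList l).map (algebraMap _ (Localization.AtPrime Q))) :=
      inferInstance
    rw [Groth.Agent.Lead.Depth.algebraMapSubmonoid_quotient_primeCompl (Ideal.ofList l) Q hIQ] at h1
    haveI : IsLocalizedModule (Q.map (Ideal.Quotient.mk (Ideal.ofList l))).primeCompl
        (Algebra.linearMap (E ⧸ Ideal.ofList l)
          (Localization.AtPrime Q ⧸ (Ideal.ofList l).map (algebraMap _ (Localization.AtPrime Q)))) :=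
      (isLocalizedModule_iff_isLocalization' _ _).mpr h1
    haveI : IsScalarTower R (E ⧸ Ideal.ofList l)
        (Localization.AtPrime Q ⧸ (Ideal.ofList l).map (algebraMap _ (Localization.AtPrime Q))) :=
      IsScalarTower.of_algebraMap_eq (fun r => rfl)
    let e := IsLocalizedModule.iso (Q.map (Ideal.Quotient.mk (Ideal.ofList l))).primeCompl
      (Algebra.linearMap (E ⧸ Ideal.ofList l)
        (Localization.AtPrime Q ⧸ (Ideal.ofList l).map (algebraMap _ (Localization.AtPrime Q))))
    exact Module.Flat.of_linearEquiv (e.restrictScalars R).symm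
  exact hgen _ (Ideal.map_ofList _ _).symm

end FlatLoc

section Conormal

variable {A : Type u} [CommRing A] {c : ℕ} (F : Fin c → A)

theorem conormal_basis (hKR : LCI.IsKoszulRegularSeq A (List.ofFn F)) :
    LinearIndependent (A ⧸ Ideal.span (Set.range F))
        (fun i : Fin c => (Ideal.span (Set.range F)).toCotangent
          ⟨F i, Ideal.subset_span (Set.mem_range_self i)⟩) ∧
      Submodule.span (A ⧸ Ideal.span (Set.range F)) (Set.range
        (fun i : Fin c => (Ideal.span (Set.range F)).toCotangent
          ⟨F i, Ideal.subset_span (Set.mem_range_self i)⟩)) = ⊤ := by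
  have hac : AcycAt (List.ofFn F) A (-1) := (isKoszulRegularSeq_iff _).mp hKR (-1) (by decide)
  have hH1 : CAlgX.IsH1Regular F := (Groth.Agent.Helper2.H1Desc.h1_iff_acycAt_ofFn F).mpr hac
  have hqr := Groth.Agent.Helper26.H1QR.qr_of_h1 (Groth.Agent.Helper26.H1QR.h1_of_isH1Regular hH1)
  exact Groth.Agent.Helper6.QRegGen.basis_of_quasiRegular (Ideal.span (Set.range F))
    (fun i => ⟨F i, Ideal.subset_span (Set.mem_range_self i)⟩) hqr rfl

end Conormal

end Groth.Agent.Helper2.RelGCI
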