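import Mathlib
import Groth.Prelude.Def_RegImm
import Groth.Prelude.Def_Flat
import Groth.Agent.Lib.Helper2.RelGCI2
import Groth.Agent.Lib.Helper14.LocalDimSpec
import Groth.Agent.Lib.Helper16.Sch.RingFibDim
import Groth.Agent.S2680

/-!
# Relative global complete intersections: the local fibre dimension
-/

set_option autoImplicit false
universe u

namespace Groth.Agent.Helper2.RelGCI

open MvPolynomial Groth.Agent.Helper2.FCR Groth.Agent.Helper2.SyntLCI TensorProduct
  Groth.Agent.Helper2.GCILoc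

section Field

variable (k : Type u) [Field k] (n c : ℕ) (I : Ideal (MvPolynomial (Fin n) k))
  (f : Fin c → MvPolynomial (Fin n) k) (hI : I = Ideal.span (Set.range f))
  (hcn : c ≤ n) (hdim : ringKrullDim (MvPolynomial (Fin n) k ⧸ I) = ((n - c : ℕ) : WithBot ℕ∞))
  (q : Ideal (MvPolynomial (Fin n) k ⧸ I)) [hq : q.IsPrime]

include hI hcn hdim in
/-- a global complete intersection over a field has local dimension `n - c` at every point -/
theorem localDim_gci :
    FlatMor.localDim (PrimeSpectrum (MvPolynomial (Fin n) k ⧸ I)) ⟨q, hq⟩ =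
      ((n - c : ℕ) : WithBot ℕ∞) := by
  haveI hq'p : (q.comap (Ideal.Quotient.mk I)).IsPrime := Ideal.comap_isPrime _ _
  obtain ⟨δ, hδ, hq'δ, -⟩ := exists_delta k n I q
  have hc := hc_of_dim k n c I f hI hcn hdim q
  haveI : IsDomain ((MvPolynomial (Fin n) k ⧸ I) ⧸ q) := Ideal.Quotient.isDomain q
  obtain ⟨m, hm1, hm2, -⟩ := Groth.Agent.S2680.result k ((MvPolynomial (Fin n) k ⧸ I) ⧸ q)
  have hmδ : m = δ := by
    rw [hδ] at hm2
    exact_mod_cast hm2.symm
  have htr : Algebra.trdeg k ((MvPolynomial (Fin n) k ⧸ I) ⧸ q) = δ := by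
    haveI : Algebra.IsAlgebraic ((MvPolynomial (Fin n) k ⧸ I) ⧸ q)
        (FractionRing ((MvPolynomial (Fin n) k ⧸ I) ⧸ q)) :=
      IsLocalization.isAlgebraic _ (nonZeroDivisors ((MvPolynomial (Fin n) k ⧸ I) ⧸ q))
    have t1 := _root_.trdeg_add_eq k ((MvPolynomial (Fin n) k ⧸ I) ⧸ q)
      (A := FractionRing ((MvPolynomial (Fin n) k ⧸ I) ⧸ q))
    have t2 : Algebra.trdeg ((MvPolynomial (Fin n) k ⧸ I) ⧸ q)
        (FractionRing ((MvPolynomial (Fin n) k ⧸ I) ⧸ q)) = 0 := _root_.trdeg_eq_zero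
    rw [t2, add_zero] at t1
    rw [t1, hm1, hmδ]
  rw [Groth.Agent.Helper14.LocalDimSpec.localDim_eq k _ q δ htr]
  -- arithmetic
  have hfin' : (q.comap (Ideal.Quotient.mk I)).height ≠ ⊤ := Ideal.height_ne_top_of_isPrime
  obtain ⟨a, ha⟩ := ENat.ne_top_iff_exists.mp hfin'
  have hfin : q.height ≠ ⊤ := by
    intro htop
    rw [htop, add_top] at hc
    exact hfin' hc.symm
  obtain ⟨η, hη⟩ := ENat.ne_top_iff_exists.mp hfin
  rw [← hη] at hc ⊢
  rw [← ha] at hc hq'δ
  have e1 : a + δ = n := by exact_mod_cast hq'δ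
  have e2 : c + η = a := by exact_mod_cast hc
  have : η + δ = n - c := by omega
  rw [← this]
  push_cast
  rfl

end Field

section Rel

open AlgebraicGeometry CategoryTheory Groth.Agent.Helper16.RingFibDim

variable (R : Type u) [CommRing R] (n c : ℕ) (F : Fin c → MvPolynomial (Fin n) R)

theorem fibreDimAt_relGCI (hF : Synt.IsRelGCI R n c F)
    (x : ↑(Spec (CommRingCat.of (Synt.RelGCIRing R n c F)))) :
    FlatMor.fibreDimAt (Spec.map (CommRingCat.ofHom (algebraMap R (Synt.RelGCIRing R n c F)))) x =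
      ((n - c : ℕ) : WithBot ℕ∞) := by
  let φ : MvPolynomial (Fin n) R →ₐ[R] Synt.RelGCIRing R n c F :=
    Ideal.Quotient.mkₐ R (Ideal.span (Set.range F))
  have hφ : Function.Surjective φ := Ideal.Quotient.mk_surjective
  have hker : RingHom.ker φ.toRingHom = Ideal.span (Set.range F) := Ideal.mk_ker
  let xP : PrimeSpectrum (Synt.RelGCIRing R n c F) := x
  let pP : PrimeSpectrum R := PrimeSpectrum.comap (algebraMap R (Synt.RelGCIRing R n c F)) xP
  let Q₀ : PrimeSpectrum (pP.asIdeal.Fiber (Synt.RelGCIRing R n c F)) :=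
    PrimeSpectrum.preimageHomeomorphFiber R (Synt.RelGCIRing R n c F) pP ⟨xP, rfl⟩
  have hQ₀ : Q₀.asIdeal.comap (Algebra.TensorProduct.includeRight.toRingHom) = xP.asIdeal := by
    have := (PrimeSpectrum.preimageHomeomorphFiber R (Synt.RelGCIRing R n c F) pP).symm_apply_apply
      ⟨xP, rfl⟩
    exact congrArg (fun z => z.1.asIdeal) this
  have h1 := localDim_eq_fibreDimAt R (Synt.RelGCIRing R n c F) xP Q₀ hQ₀
  refine h1.symm.trans ?_
  -- the fibre ring is a global complete intersection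
  haveI hnt : Nontrivial (pP.asIdeal.Fiber (Synt.RelGCIRing R n c F)) :=
    ⟨⟨0, 1, fun h01 => Q₀.isPrime.ne_top
      ((Ideal.eq_top_iff_one _).mpr (h01 ▸ Q₀.asIdeal.zero_mem))⟩⟩
  obtain ⟨hcn, hdim⟩ := hF pP hnt
  let e := Ideal.quotientKerAlgEquivOfSurjective (phik_surjective n φ hφ pP.asIdeal)
  have hk : RingHom.ker (phik n φ pP.asIdeal) =
      Ideal.span (Set.range (fun i => mu n pP.asIdeal (F i))) := by
    have h1 : RingHom.ker (phik n φ pP.asIdeal) = (RingHom.ker φ.toRingHom).map (mu n pP.asIdeal) :=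
      ker_phik n φ hφ pP.asIdeal
    rw [h1, hker, Ideal.map_span, ← Set.range_comp]
    rfl
  have hdim' : ringKrullDim (MvPolynomial (Fin n) pP.asIdeal.ResidueField ⧸
      RingHom.ker (phik n φ pP.asIdeal)) = ((n - c : ℕ) : WithBot ℕ∞) := by
    rw [← hdim]
    exact ringKrullDim_eq_of_ringEquiv e.toRingEquiv
  let j := (PrimeSpectrum.homeomorphOfRingEquiv
    (R := MvPolynomial (Fin n) pP.asIdeal.ResidueField ⧸ RingHom.ker (phik n φ pP.asIdeal))
    (S := pP.asIdeal.Fiber (Synt.RelGCIRing R n c F)) e.toRingEquiv).symm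
  have h2 := Groth.Agent.Helper14.FibreChart.localDim_openEmbedding j j.isOpenEmbedding Q₀
  rw [← h2]
  haveI hq : (j Q₀).asIdeal.IsPrime := (j Q₀).isPrime
  exact localDim_gci pP.asIdeal.ResidueField n c (RingHom.ker (phik n φ pP.asIdeal))
    (fun i => mu n pP.asIdeal (F i)) hk hcn hdim' (j Q₀).asIdeal

end Rel

end Groth.Agent.Helper2.RelGCI
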