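import Mathlib
import Groth.Prelude.Def_RegImm
import Groth.Prelude.Def_Flat
import Groth.Agent.Lib.Helper2.RelGCI6
import Groth.Agent.Lib.Helper14.QuasiSection
import Groth.Agent.Lib.Helper16.Sch.ConsFD2
import Groth.Agent.Lib.Helper9.TopDim

/-!
# Tools on local fibre dimensions
-/

set_option autoImplicit false
universe u

namespace Groth.Agent.Helper2.RelGCI

open MvPolynomial Groth.Agent.Helper2.FCR Groth.Agent.Helper2.SyntLCI TensorProduct
  Groth.Agent.Helper2.GCILoc IsLocalRing

section Sch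

open AlgebraicGeometry CategoryTheory Groth.Agent.Helper16.RingFibDim

/-- local fibre dimension is insensitive to open immersions of the source -/
theorem fibreDimAt_openImmersion {X' X Y : Scheme.{u}} (j : X' ⟶ X) [IsOpenImmersion j]
    (f : X ⟶ Y) [LocallyOfFiniteType f] (z : X') :
    FlatMor.fibreDimAt (j ≫ f) z = FlatMor.fibreDimAt f (j z) := by
  have h1 : j ≫ f = j.isoOpensRange.hom ≫ (j.opensRange.ι ≫ f) := by
    rw [← Category.assoc, Scheme.Hom.isoOpensRange_hom_ι]
  rw [h1, Groth.Agent.Helper16.ConsFD.fibreDimAt_iso_comp j.isoOpensRange.hom (j.opensRange.ι ≫ f) z,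
    Groth.Agent.Helper14.QuasiSection.fibreDimAt_opens f j.opensRange (j.isoOpensRange.hom z)]
  congr 1
  have h2 : j z = (j.isoOpensRange.hom ≫ j.opensRange.ι) z := by
    rw [Scheme.Hom.isoOpensRange_hom_ι]
  rw [h2, Scheme.Hom.comp_apply]
  rfl

variable (R S : Type u) [CommRing R] [CommRing S] [Algebra R S]

/-- the local dimension of a fibre ring at a prime is the local fibre dimension at its
contraction -/
theorem localDim_fibre_eq (P : Ideal R) [hP : P.IsPrime] (Q : PrimeSpectrum (P.Fiber S)) :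
    FlatMor.localDim (PrimeSpectrum (P.Fiber S)) Q =
      FlatMor.fibreDimAt (specMap R S)
        (⟨Q.asIdeal.comap (Algebra.TensorProduct.includeRight (R := R) (A := P.ResidueField)
          (B := S)).toRingHom, Ideal.comap_isPrime _ _⟩ : PrimeSpectrum S) := by
  have key : ∀ (q : PrimeSpectrum S) (P' : PrimeSpectrum R)
      (_ : P' = PrimeSpectrum.comap (algebraMap R S) q)
      (Q' : PrimeSpectrum (P'.asIdeal.Fiber S)),
      Q'.asIdeal.comap (Algebra.TensorProduct.includeRight.toRingHom) = q.asIdeal →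
      FlatMor.localDim (PrimeSpectrum (P'.asIdeal.Fiber S)) Q' =
        FlatMor.fibreDimAt (specMap R S) q := by
    rintro q P' rfl Q' hQ'
    exact localDim_eq_fibreDimAt R S q Q' hQ'
  refine key _ ⟨P, hP⟩ ?_ Q rfl
  have h1 := ((PrimeSpectrum.primesOverOrderIsoFiber R S P).symm Q).2.2
  have h2 : ((PrimeSpectrum.primesOverOrderIsoFiber R S P).symm Q).1 =
      Q.asIdeal.comap (Algebra.TensorProduct.includeRight (R := R) (A := P.ResidueField)
        (B := S)).toRingHom := PrimeSpectrum.coe_primesOverOrderIsoFiber_symm_apply P Q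
  apply PrimeSpectrum.ext
  have h3 : P = Ideal.comap (algebraMap R S)
      ((PrimeSpectrum.primesOverOrderIsoFiber R S P).symm Q).1 := h1.over
  rw [h2] at h3
  exact h3

end Sch

section Krull

variable (k : Type u) [Field k] (n c : ℕ) (I : Ideal (MvPolynomial (Fin n) k))
  (f : Fin c → MvPolynomial (Fin n) k) (hI : I = Ideal.span (Set.range f))
  (q : Ideal (MvPolynomial (Fin n) k ⧸ I)) [hq : q.IsPrime]

include hI in
theorem height_comap_le : (q.comap (Ideal.Quotient.mk I)).height ≤ q.height + (c : ℕ∞) := by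
  classical
  haveI hq'p : (q.comap (Ideal.Quotient.mk I)).IsPrime := Ideal.comap_isPrime _ _
  have hIq' : I ≤ q.comap (Ideal.Quotient.mk I) := by
    intro x hx
    rw [Ideal.mem_comap, Ideal.Quotient.eq_zero_iff_mem.mpr hx]
    exact q.zero_mem
  have hIm : I.map (algebraMap _ (Localization.AtPrime (q.comap (Ideal.Quotient.mk I)))) ≤
      maximalIdeal (Localization.AtPrime (q.comap (Ideal.Quotient.mk I))) := by
    rw [← IsLocalization.AtPrime.map_eq_maximalIdeal (q.comap (Ideal.Quotient.mk I))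
      (Localization.AtPrime (q.comap (Ideal.Quotient.mk I)))]
    exact Ideal.map_mono hIq'
  let g : Fin c → Localization.AtPrime (q.comap (Ideal.Quotient.mk I)) :=
    fun i => algebraMap _ _ (f i)
  have hcoe : ((Finset.univ.image g : Finset _) : Set
      (Localization.AtPrime (q.comap (Ideal.Quotient.mk I)))) = Set.range g := by
    rw [Finset.coe_image, Finset.coe_univ, Set.image_univ]
  have hg : Ideal.span (Set.range g) =
      I.map (algebraMap _ (Localization.AtPrime (q.comap (Ideal.Quotient.mk I)))) := by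
    have h := congrArg (Ideal.map (algebraMap (MvPolynomial (Fin n) k)
      (Localization.AtPrime (q.comap (Ideal.Quotient.mk I))))) hI
    rw [h, Ideal.map_span, ← Set.range_comp]
    rfl
  have h4 := ringKrullDim_le_ringKrullDim_quotient_add_card
    (R := Localization.AtPrime (q.comap (Ideal.Quotient.mk I)))
    (Finset.univ.image g) (by
      rw [hcoe, IsLocalRing.ringJacobson_eq_maximalIdeal]
      rintro _ ⟨i, rfl⟩
      exact hIm (hg ▸ Ideal.subset_span ⟨i, rfl⟩))
  have hdq := Groth.Agent.S9171.dim_quot k n I q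
  have hL := IsLocalization.AtPrime.ringKrullDim_eq_height (q.comap (Ideal.Quotient.mk I))
    (Localization.AtPrime (q.comap (Ideal.Quotient.mk I)))
  rw [hcoe, hg, hdq, hL] at h4
  have hcard : (Finset.univ.image g).card ≤ c := (Finset.card_image_le).trans (by simp)
  have h5 : ((q.comap (Ideal.Quotient.mk I)).height : WithBot ℕ∞) ≤
      ((q.height + (c : ℕ∞) : ℕ∞) : WithBot ℕ∞) := by
    refine h4.trans ?_
    push_cast
    gcongr
  exact WithBot.coe_le_coe.mp h5

include hI in
/-- Krull's bound: `k[x_1, …, x_n]/(f_1, …, f_c)` has local dimension at least `n - c` everywhere -/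
theorem le_localDim :
    ((n - c : ℕ) : WithBot ℕ∞) ≤
      FlatMor.localDim (PrimeSpectrum (MvPolynomial (Fin n) k ⧸ I)) ⟨q, hq⟩ := by
  haveI hq'p : (q.comap (Ideal.Quotient.mk I)).IsPrime := Ideal.comap_isPrime _ _
  obtain ⟨δ, hδ, hq'δ, -⟩ := exists_delta k n I q
  have hle := height_comap_le k n c I f hI q
  haveI : IsDomain ((MvPolynomial (Fin n) k ⧸ I) ⧸ q) := Ideal.Quotient.isDomain q
  obtain ⟨m, hm1, hm2, -⟩ := Groth.Agent.S2680.result k ((MvPolynomial (Fin n) k ⧸ I) ⧸ q)
  have hmδ : m = δ := by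
    rw [hδ] at hm2
    exact_mod_cast hm2.symm
  have htr : Algebra.trdeg k ((MvPolynomial (Fin n) k ⧸ I) ⧸ q) = δ := by
    haveI : Algebra.IsAlgebraic ((MvPolynomial (Fin n) k ⧸ I) ⧸ q)
        (FractionRing ((MvPolynomial (Fin n) k ⧸ I) ⧸ q)) :=
      IsLocalization.isAlgebraic _ (nonZeroDivisors ((MvPolynomial (Fin n) k ⧸ I) ⧸ q))
    have t1 := _root_.trdeg_add_eq k ((MvPolynomial (Fin n) k ⧸ I) ⧸ q)
      (A := FractionRing ((MvPolynomial (Fin n) k ⧸ I) ⧸ q))
    have t2 : Algebra.trdeg ((MvPolynomial (Fin n) k ⧸ I) ⧸ q)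
        (FractionRing ((MvPolynomial (Fin n) k ⧸ I) ⧸ q)) = 0 := _root_.trdeg_eq_zero
    rw [t2, add_zero] at t1
    rw [t1, hm1, hmδ]
  rw [Groth.Agent.Helper14.LocalDimSpec.localDim_eq k _ q δ htr]
  have hfin' : (q.comap (Ideal.Quotient.mk I)).height ≠ ⊤ := Ideal.height_ne_top_of_isPrime
  obtain ⟨a, ha⟩ := ENat.ne_top_iff_exists.mp hfin'
  rw [← ha] at hq'δ hle
  have e1 : a + δ = n := by exact_mod_cast hq'δ
  by_cases hfin : q.height = ⊤
  · rw [hfin]
    exact le_of_le_of_eq le_top (by rfl)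
  · obtain ⟨η, hη⟩ := ENat.ne_top_iff_exists.mp hfin
    rw [← hη] at hle ⊢
    have e2 : a ≤ η + c := by exact_mod_cast hle
    have : n - c ≤ η + δ := by omega
    have h6 : ((n - c : ℕ) : WithBot ℕ∞) ≤ ((η + δ : ℕ) : WithBot ℕ∞) := by exact_mod_cast this
    refine h6.trans (le_of_eq ?_)
    push_cast
    rfl

end Krull

end Groth.Agent.Helper2.RelGCI
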