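import Mathlib
import Groth.Prelude.Def_LCI2
import Groth.Agent.Lib.Helper2.KosIdeal
import Groth.Agent.Lib.Helper2.KosIdeal2
import Groth.Agent.Lib.Helper2.KosDescent
import Groth.Agent.Lib.Helper2.KosComp

/-!
# Koszul-regular ideals: preimage under a surjection with Koszul-regular kernel
-/

set_option autoImplicit false
universe u

namespace Groth.Agent.Helper2.LCIComp

open Groth.Agent.Helper2.KosIdeal Groth.Agent.Helper2.KosReg Groth.Agent.Helper2.KosComp
  Groth.Agent.Helper2.KosDescent

section

variable {Q Q' : Type u} [CommRing Q] [CommRing Q'] (π : Q →+* Q') (hπ : Function.Surjective π)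

include hπ in
/-- preimages commute with localisation at an element -/
theorem comap_awayMap (g : Q) (J : Ideal Q') :
    (J.map (algebraMap Q' (Localization.Away (π g)))).comap
      (IsLocalization.Away.map (Localization.Away g) (Localization.Away (π g)) π g) =
    (J.comap π).map (algebraMap Q (Localization.Away g)) := by
  set πg := IsLocalization.Away.map (Localization.Away g) (Localization.Away (π g)) π g with hπg
  have hsurj : Function.Surjective πg :=
    awayMap_surjective π hπ g (Localization.Away g) (Localization.Away (π g))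
  have hcomp : πg.comp (algebraMap Q (Localization.Away g)) =
      (algebraMap Q' (Localization.Away (π g))).comp π :=
    awayMap_comp π g (Localization.Away g) (Localization.Away (π g))
  have hker : RingHom.ker πg = (RingHom.ker π).map (algebraMap Q (Localization.Away g)) :=
    IsLocalization.ker_map (S := Localization.Away g) (Localization.Away (π g)) π
      (Submonoid.map_powers π g)
  refine eq_of_map_eq πg hsurj ?_ ?_ ?_
  · intro x hx
    rw [Ideal.mem_comap, (RingHom.mem_ker).mp hx]
    exact Ideal.zero_mem _
  · rw [hker]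
    apply Ideal.map_mono
    intro x hx
    rw [Ideal.mem_comap, (RingHom.mem_ker).mp hx]
    exact Ideal.zero_mem _
  · rw [Ideal.map_comap_of_surjective πg hsurj, Ideal.map_map, hcomp, ← Ideal.map_map,
      Ideal.map_comap_of_surjective π hπ]

include hπ in
/-- the preimage of a Koszul-regular ideal under a surjection whose kernel is generated by a
Koszul-regular sequence is Koszul-regular -/
theorem kr_comap_of_list (rs : List Q) (hrs : LCI.IsKoszulRegularSeq Q rs)
    (hker : RingHom.ker π = Ideal.ofList rs) (J : Ideal Q')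
    (hJ : LCI.IsKoszulRegularIdeal J) : LCI.IsKoszulRegularIdeal (J.comap π) := by
  intro 𝔭 h𝔭
  have hK𝔭 : RingHom.ker π ≤ 𝔭.asIdeal := by
    intro x hx
    apply h𝔭
    rw [Ideal.mem_comap, (RingHom.mem_ker).mp hx]
    exact Ideal.zero_mem _
  haveI hprime : (𝔭.asIdeal.map π).IsPrime := Ideal.map_isPrime_of_surjective hπ hK𝔭
  have hJ𝔮 : J ≤ 𝔭.asIdeal.map π := by
    rw [← Ideal.map_comap_of_surjective π hπ J]
    exact Ideal.map_mono h𝔭
  obtain ⟨h, hh, l₂, hl₂, hJl₂⟩ := hJ ⟨_, hprime⟩ hJ𝔮
  obtain ⟨g, rfl⟩ := hπ h
  have hg : g ∉ 𝔭.asIdeal := fun hmem => hh (Ideal.mem_map_of_mem π hmem)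
  refine ⟨g, hg, ?_⟩
  set πg := IsLocalization.Away.map (Localization.Away g) (Localization.Away (π g)) π g with hπg
  have hsurj : Function.Surjective πg :=
    awayMap_surjective π hπ g (Localization.Away g) (Localization.Away (π g))
  have hkerg : RingHom.ker πg = Ideal.ofList (rs.map (algebraMap Q (Localization.Away g))) := by
    have h1 : RingHom.ker πg = (RingHom.ker π).map (algebraMap Q (Localization.Away g)) :=
      IsLocalization.ker_map (S := Localization.Away g) (Localization.Away (π g)) π
        (Submonoid.map_powers π g)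
    rw [h1, hker, Ideal.map_ofList]
  obtain ⟨qs, -, hqs, hqsI⟩ := kr_comap πg hsurj (rs.map (algebraMap Q (Localization.Away g)))
    hkerg (isKoszulRegularSeq_baseChange (Localization.Away g) rs hrs) l₂ hl₂
  refine ⟨qs, hqs, ?_⟩
  rw [← comap_awayMap π hπ g J, hJl₂]
  exact hqsI.symm

include hπ in
/-- the preimage of a Koszul-regular ideal under a surjection with Koszul-regular kernel is
Koszul-regular -/
theorem kr_comap_of_kr (hK : LCI.IsKoszulRegularIdeal (RingHom.ker π)) (J : Ideal Q')
    (hJ : LCI.IsKoszulRegularIdeal J) : LCI.IsKoszulRegularIdeal (J.comap π) := by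
  intro 𝔭 h𝔭
  have hK𝔭 : RingHom.ker π ≤ 𝔭.asIdeal := by
    intro x hx
    apply h𝔭
    rw [Ideal.mem_comap, (RingHom.mem_ker).mp hx]
    exact Ideal.zero_mem _
  obtain ⟨g, hg, l₁, hl₁, hKl₁⟩ := hK 𝔭 hK𝔭
  set πg := IsLocalization.Away.map (Localization.Away g) (Localization.Away (π g)) π g with hπg
  have hsurj : Function.Surjective πg :=
    awayMap_surjective π hπ g (Localization.Away g) (Localization.Away (π g))
  have hkerg : RingHom.ker πg = Ideal.ofList l₁ := by
    have h1 : RingHom.ker πg = (RingHom.ker π).map (algebraMap Q (Localization.Away g)) :=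
      IsLocalization.ker_map (S := Localization.Away g) (Localization.Away (π g)) π
        (Submonoid.map_powers π g)
    rw [h1, hKl₁]
  have h2 := kr_comap_of_list πg hsurj l₁ hl₁ hkerg _
    (kr_map_of_flat (B'' := Localization.Away (π g)) J hJ)
  rw [comap_awayMap π hπ g J] at h2
  exact kr_at_of_away (J.comap π) g h2 𝔭 h𝔭 hg

end

end Groth.Agent.Helper2.LCIComp
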