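import Mathlib
import Groth.Prelude.Def_LCI2
import Groth.Agent.Lib.Helper2.LCIComp1

/-!
# Composition of local complete intersection ring maps
-/

set_option autoImplicit false
universe u

namespace Groth.Agent.Helper2.LCIComp

open Groth.Agent.Helper2.KosIdeal Groth.Agent.Helper2.KosReg Groth.Agent.Helper2.KosComp
  Groth.Agent.Helper2.KosDescent

section

variable (A B D : Type u) [CommRing A] [CommRing B] [CommRing D] [Algebra A B] [Algebra B D]
  [Algebra A D] [IsScalarTower A B D]

/-- a composition of local complete intersection ring maps is a local complete intersection -/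
theorem isLCI_trans (h1 : LCI.IsLCI A B) (h2 : LCI.IsLCI B D) : LCI.IsLCI A D := by
  obtain ⟨hft1, n, φ, hφ, hKφ⟩ := h1
  obtain ⟨hft2, m, ψ, hψ, hKψ⟩ := h2
  refine ⟨Algebra.FiniteType.trans hft1 hft2, m + n, ?_⟩
  -- the intermediate surjection
  let π : MvPolynomial (Fin m) (MvPolynomial (Fin n) A) →+* MvPolynomial (Fin m) B :=
    MvPolynomial.map φ.toRingHom
  have hπ : Function.Surjective π := MvPolynomial.map_surjective φ.toRingHom hφ
  have hkerπ : LCI.IsKoszulRegularIdeal (RingHom.ker π) := by
    have h1 : RingHom.ker π = (RingHom.ker φ.toRingHom).map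
        (algebraMap (MvPolynomial (Fin n) A) (MvPolynomial (Fin m) (MvPolynomial (Fin n) A))) :=
      MvPolynomial.ker_map φ.toRingHom
    rw [h1]
    exact kr_map_of_flat _ hKφ
  have hΘ := kr_comap_of_kr π hπ hkerπ _ hKψ
  -- the composite as an algebra map
  let Θ : MvPolynomial (Fin m) (MvPolynomial (Fin n) A) →ₐ[A] D :=
    { toRingHom := ψ.toRingHom.comp π
      commutes' := fun a => by
        show ψ (π (algebraMap A _ a)) = _
        have e1 : algebraMap A (MvPolynomial (Fin m) (MvPolynomial (Fin n) A)) a =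
            MvPolynomial.C (MvPolynomial.C a) := rfl
        have e2 : π (MvPolynomial.C (MvPolynomial.C a)) =
            MvPolynomial.C (φ (MvPolynomial.C a)) := MvPolynomial.map_C _ _
        rw [e1, e2]
        have e3 : φ (MvPolynomial.C a) = algebraMap A B a := by
          rw [← MvPolynomial.algebraMap_eq, AlgHom.commutes]
        rw [e3, ← MvPolynomial.algebraMap_eq, AlgHom.commutes,
          ← IsScalarTower.algebraMap_apply] }
  have hΘsurj : Function.Surjective Θ := hψ.comp hπ
  have hΘker : RingHom.ker Θ.toRingHom = (RingHom.ker ψ.toRingHom).comap π := by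
    ext x
    rw [Ideal.mem_comap, RingHom.mem_ker, RingHom.mem_ker]
    rfl
  let e : MvPolynomial (Fin (m + n)) A ≃ₐ[A] MvPolynomial (Fin m) (MvPolynomial (Fin n) A) :=
    (MvPolynomial.renameEquiv A finSumFinEquiv).symm.trans
      (MvPolynomial.sumAlgEquiv A (Fin m) (Fin n))
  refine ⟨Θ.comp (e : _ →ₐ[A] _), fun d => ?_, ?_⟩
  · obtain ⟨q, rfl⟩ := hΘsurj d
    exact ⟨e.symm q, by show Θ (e (e.symm q)) = _; rw [e.apply_symm_apply]⟩
  have hker : RingHom.ker (Θ.comp (e : _ →ₐ[A] _)).toRingHom =
      (RingHom.ker Θ.toRingHom).map (e.symm.toRingEquiv : MvPolynomial (Fin m) (MvPolynomial (Fin n) A) →+*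
        MvPolynomial (Fin (m + n)) A) := by
    ext x
    rw [RingHom.mem_ker]
    constructor
    · intro hx
      have h3 : x = e.symm (e x) := (e.symm_apply_apply x).symm
      rw [h3]
      exact Ideal.mem_map_of_mem _ ((RingHom.mem_ker).mpr hx)
    · intro hx
      have h4 : (RingHom.ker Θ.toRingHom).map (e.symm.toRingEquiv : MvPolynomial (Fin m) (MvPolynomial (Fin n) A) →+*
        MvPolynomial (Fin (m + n)) A) ≤
          RingHom.ker (Θ.comp (e : _ →ₐ[A] _)).toRingHom := by
        rw [Ideal.map_le_iff_le_comap]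
        intro y hy
        rw [Ideal.mem_comap, RingHom.mem_ker]
        show Θ (e (e.symm y)) = 0
        rw [e.apply_symm_apply]
        exact (RingHom.mem_ker).mp hy
      exact (RingHom.mem_ker).mp (h4 hx)
  rw [hker]
  apply kr_ringEquiv
  rw [hΘker]
  exact hΘ

end

end Groth.Agent.Helper2.LCIComp
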