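import Mathlib
import Groth.Prelude.Def_RegImm

/-!
# Syntomic algebras over a field are local complete intersections; semilinear transport
-/

set_option autoImplicit false
universe u

namespace Groth.Agent.Helper2.SyntFib

open MvPolynomial TensorProduct

section Transport

variable {k k' A A' : Type u} [Field k] [Field k'] [CommRing A] [CommRing A'] [Algebra k A]
  [Algebra k' A']

/-- semilinear transport of global complete intersections -/
theorem isGlobalCI_transport (σ : k ≃+* k') (lam : A ≃+* A')
    (hc : ∀ a, lam (algebraMap k A a) = algebraMap k' A' (σ a)) (h : Synt.IsGlobalCI k' A') :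
    Synt.IsGlobalCI k A := by
  rcases h with hs | ⟨n, c, hcn, φ', r', hφ', hker', hdim'⟩
  · exact Or.inl lam.toEquiv.subsingleton
  · let E : MvPolynomial (Fin n) k ≃+* MvPolynomial (Fin n) k' := MvPolynomial.mapEquiv (Fin n) σ
    let φ : MvPolynomial (Fin n) k →ₐ[k] A := MvPolynomial.aeval fun i => lam.symm (φ' (X i))
    have hcomm : ∀ q : MvPolynomial (Fin n) k, lam (φ q) = φ' (E q) := by
      intro q
      have : ((lam : A →+* A').comp (φ : MvPolynomial (Fin n) k →+* A)) =
          ((φ' : MvPolynomial (Fin n) k' →+* A').comp (E : _ →+* _)) := by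
        apply MvPolynomial.ringHom_ext
        · intro a
          simp only [RingHom.comp_apply, RingHom.coe_coe, E, MvPolynomial.mapEquiv_apply,
            MvPolynomial.map_C, φ, MvPolynomial.aeval_C]
          rw [hc]
          exact (φ'.commutes (σ a)).symm
        · intro i
          simp only [RingHom.comp_apply, RingHom.coe_coe, E, MvPolynomial.mapEquiv_apply,
            MvPolynomial.map_X, φ, MvPolynomial.aeval_X, RingEquiv.apply_symm_apply]
      exact congrArg (fun ψ : MvPolynomial (Fin n) k →+* A' => ψ q) this
    refine Or.inr ⟨n, c, hcn, φ, fun j => E.symm (r' j), ?_, ?_, ?_⟩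
    · intro a
      obtain ⟨q', hq'⟩ := hφ' (lam a)
      refine ⟨E.symm q', lam.injective ?_⟩
      rw [hcomm, RingEquiv.apply_symm_apply, hq']
    · have hker : RingHom.ker φ.toRingHom = (RingHom.ker φ'.toRingHom).comap (E : _ →+* _) := by
        ext q
        rw [Ideal.mem_comap, RingHom.mem_ker, RingHom.mem_ker]
        show φ q = 0 ↔ φ' (E q) = 0
        rw [← hcomm]
        exact ⟨fun h0 => by rw [h0, map_zero], fun h0 => lam.injective (by rw [h0, map_zero])⟩
      rw [hker, hker']
      apply le_antisymm
      · intro q hq
        rw [Ideal.mem_comap] at hq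
        have h1 := Ideal.mem_map_of_mem (E.symm : MvPolynomial (Fin n) k' →+* MvPolynomial (Fin n) k) hq
        rw [Ideal.map_span, ← Set.range_comp] at h1
        have h2 : (E.symm : MvPolynomial (Fin n) k' →+* MvPolynomial (Fin n) k) (E q) = q :=
          E.symm_apply_apply q
        exact h2 ▸ h1
      · rw [Ideal.span_le]
        rintro _ ⟨j, rfl⟩
        rw [SetLike.mem_coe, Ideal.mem_comap]
        show E (E.symm (r' j)) ∈ _
        rw [E.apply_symm_apply]
        exact Ideal.subset_span ⟨j, rfl⟩
    · rw [ringKrullDim_eq_of_ringEquiv lam]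
      exact hdim'

/-- semilinear transport of local complete intersections over a field -/
theorem isLCIOver_transport {T T' : Type u} [CommRing T] [CommRing T'] [Algebra k T]
    [Algebra k' T'] (σ : k ≃+* k') (τ : T ≃+* T')
    (hc : ∀ a, τ (algebraMap k T a) = algebraMap k' T' (σ a)) (h : Synt.IsLCIOver k' T') :
    Synt.IsLCIOver k T := by
  obtain ⟨hft, hloc⟩ := h
  have hmap : algebraMap k T =
      ((τ.symm : T' →+* T).comp (algebraMap k' T')).comp (σ : k →+* k') := by
    refine RingHom.ext fun a => ?_
    simp only [RingHom.comp_apply, RingEquiv.coe_toRingHom]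
    rw [← hc, RingEquiv.symm_apply_apply]
  refine ⟨?_, fun P => ?_⟩
  · rw [← RingHom.finiteType_algebraMap, hmap]
    refine RingHom.FiniteType.comp ?_ (RingHom.FiniteType.of_surjective _ σ.surjective)
    exact RingHom.FiniteType.comp (RingHom.FiniteType.of_surjective _ τ.symm.surjective)
      (RingHom.finiteType_algebraMap.mpr hft)
  · haveI : (P.asIdeal.comap (τ.symm : T' →+* T)).IsPrime := Ideal.comap_isPrime _ _
    obtain ⟨g', hg', hG⟩ := hloc ⟨P.asIdeal.comap (τ.symm : T' →+* T), inferInstance⟩
    refine ⟨τ.symm g', hg', ?_⟩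
    have H : Submonoid.map (τ : T →+* T').toMonoidHom (Submonoid.powers (τ.symm g')) =
        Submonoid.powers g' := by
      rw [Submonoid.map_powers]
      simp
    let lam : Localization.Away (τ.symm g') ≃+* Localization.Away g' :=
      IsLocalization.ringEquivOfRingEquiv (Localization.Away (τ.symm g')) (Localization.Away g') τ H
    refine isGlobalCI_transport σ lam ?_ hG
    intro a
    rw [IsScalarTower.algebraMap_apply k T (Localization.Away (τ.symm g')),
      IsScalarTower.algebraMap_apply k' T' (Localization.Away g'), ← hc]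
    exact IsLocalization.ringEquivOfRingEquiv_eq ..

end Transport

section Field

variable (k T : Type u) [Field k] [CommRing T] [Algebra k T]

/-- a syntomic algebra over a field is a local complete intersection over that field -/
theorem isLCIOver_of_isSyntomic (h : Synt.IsSyntomic k T) : Synt.IsLCIOver k T := by
  haveI hp : (⊥ : Ideal k).IsPrime := Ideal.isPrime_bot
  have H := h.2.2 ⟨⊥, hp⟩
  let ε : k ≃ₐ[k] (⊥ : Ideal k).ResidueField := Ideal.algEquivResidueFieldOfField ⊥
  let τ : T ≃ₐ[k] (⊥ : Ideal k).Fiber T :=
    (Algebra.TensorProduct.lid k T).symm.trans (Algebra.TensorProduct.congr ε AlgEquiv.refl)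
  refine isLCIOver_transport ε.toRingEquiv τ.toRingEquiv ?_ H
  intro a
  show τ (algebraMap k T a) = _
  rw [τ.commutes]
  show algebraMap k ((⊥ : Ideal k).ResidueField ⊗[k] T) a = _
  rw [Algebra.TensorProduct.algebraMap_apply, Algebra.TensorProduct.algebraMap_apply]
  rfl

end Field

end Groth.Agent.Helper2.SyntFib
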