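import Mathlib
import Groth.Prelude.Def_RegImm
import Groth.Agent.Lib.Helper2.SyntLCI4
import Groth.Agent.Lib.Helper2.SyntLCI5
import Groth.Agent.Lib.Helper6.LciBCA
import Groth.Agent.Lib.Helper2.KosDescent

/-!
# Flat local complete intersection ⇒ syntomic (the backward direction)
-/

set_option autoImplicit false
universe u

namespace Groth.Agent.Helper2.SyntLCI

open MvPolynomial TensorProduct

section Backward

variable {R S : Type u} [CommRing R] [CommRing S] [Algebra R S] (n : ℕ)
  (φ : MvPolynomial (Fin n) R →ₐ[R] S) (hφ : Function.Surjective φ)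

include hφ in
/-- the extension of the kernel to `κ(p)[x]` is Koszul-regular -/
theorem kr_map_mu [Module.Flat R S]
    (hKR : LCI.IsKoszulRegularIdeal (RingHom.ker φ.toRingHom)) (p : Ideal R) [p.IsPrime] :
    LCI.IsKoszulRegularIdeal ((RingHom.ker φ.toRingHom).map (mu n p)) := by
  haveI : Module.Flat R (MvPolynomial (Fin n) R ⧸ RingHom.ker φ.toRingHom) :=
    Module.Flat.of_linearEquiv (Ideal.quotientKerAlgEquivOfSurjective hφ).toLinearEquiv
  have h1 := Groth.Agent.Helper6.LciBC.kr_tensor (A := R) (RingHom.ker φ.toRingHom) hKR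
    p.ResidueField
  let ε : MvPolynomial (Fin n) R ⊗[R] p.ResidueField ≃+* MvPolynomial (Fin n) p.ResidueField :=
    (Algebra.TensorProduct.comm R (MvPolynomial (Fin n) R) p.ResidueField).toRingEquiv.trans
      (MvPolynomial.algebraTensorAlgEquiv R p.ResidueField).toRingEquiv
  have h2 := Groth.Agent.Helper2.KosIdeal.kr_ringEquiv ε _ h1
  rw [Ideal.map_map] at h2
  have h3 : (ε : _ →+* MvPolynomial (Fin n) p.ResidueField).comp
      (Algebra.TensorProduct.includeLeftRingHom :
        MvPolynomial (Fin n) R →+* MvPolynomial (Fin n) R ⊗[R] p.ResidueField) = mu n p := by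
    ext Y
    · simp [ε]
    · simp [ε]
  rwa [h3] at h2

end Backward


section Backward2

variable {R S : Type u} [CommRing R] [CommRing S] [Algebra R S] (n : ℕ)
  (φ : MvPolynomial (Fin n) R →ₐ[R] S) (hφ : Function.Surjective φ)

include hφ in
theorem backward_at [Module.Flat R S]
    (hKR : LCI.IsKoszulRegularIdeal (RingHom.ker φ.toRingHom)) (p : Ideal R) [p.IsPrime]
    (Q' : PrimeSpectrum (p.Fiber S)) :
    ∃ g : p.Fiber S, g ∉ Q'.asIdeal ∧ Synt.IsGlobalCI p.ResidueField (Localization.Away g) := by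
  let e := Ideal.quotientKerAlgEquivOfSurjective (phik_surjective n φ hφ p)
  haveI hq : (Q'.asIdeal.comap e).IsPrime := Ideal.comap_isPrime _ _
  haveI hq'p : ((Q'.asIdeal.comap e).comap
      (Ideal.Quotient.mk (RingHom.ker (phik n φ p)))).IsPrime := Ideal.comap_isPrime _ _
  have hk : RingHom.ker (phik n φ p) = (RingHom.ker φ.toRingHom).map (mu n p) :=
    ker_phik n φ hφ p
  have hKRk : LCI.IsKoszulRegularIdeal (RingHom.ker (phik n φ p)) := by
    rw [hk]
    exact kr_map_mu n φ hφ hKR p
  have hle : RingHom.ker (phik n φ p) ≤ (Q'.asIdeal.comap e).comap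
      (Ideal.Quotient.mk (RingHom.ker (phik n φ p))) := by
    intro x hx
    rw [Ideal.mem_comap, Ideal.Quotient.eq_zero_iff_mem.mpr hx]
    exact Ideal.zero_mem _
  obtain ⟨rs, hreg, hofl⟩ := exists_regular_of_kr (RingHom.ker (phik n φ p)) hKRk
    ((Q'.asIdeal.comap e).comap (Ideal.Quotient.mk (RingHom.ker (phik n φ p)))) hle
  obtain ⟨c, hc⟩ := exists_c p.ResidueField n (RingHom.ker (phik n φ p)) (Q'.asIdeal.comap e)
  obtain ⟨g', hg', hG⟩ := ((Groth.Agent.S9171.main p.ResidueField n (RingHom.ker (phik n φ p))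
    (Q'.asIdeal.comap e) c hc).2).mpr ⟨rs, hreg, hofl⟩
  exact ⟨e g', fun h => hg' h, globalCI_away_equiv e g' hG⟩

/-- kernels of Koszul-regular presentations are finitely generated -/
theorem fg_of_kr {D : Type u} [CommRing D] (K : Ideal D) (hK : LCI.IsKoszulRegularIdeal K) :
    K.FG := by
  classical
  apply Groth.Agent.Helper2.KosDescent.fg_of_local
  intro P hP
  by_cases hle : K ≤ P
  · obtain ⟨g, hg, l, -, hIl⟩ := hK ⟨P, hP⟩ hle
    refine ⟨g, hg, ?_⟩
    rw [hIl]
    exact ⟨l.toFinset, by congr 1; ext x; simp⟩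
  · obtain ⟨g, hgK, hgP⟩ := Set.not_subset.mp hle
    refine ⟨g, hgP, ?_⟩
    have htop : K.map (algebraMap D (Localization.Away g)) = ⊤ :=
      Ideal.eq_top_of_isUnit_mem _ (Ideal.mem_map_of_mem _ hgK)
        (IsLocalization.Away.algebraMap_isUnit g)
    rw [htop]
    exact ⟨{1}, by simp⟩

end Backward2

end Groth.Agent.Helper2.SyntLCI
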