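import Mathlib
import Groth.Prelude.Def_RegImm
import Groth.Agent.S9287
import Groth.Agent.S9363
import Groth.Agent.Lib.Helper2.KosIdeal
import Groth.Agent.Lib.Helper2.KosBridge3

/-!
# Syntomic morphisms: scheme-level plumbing (I)
-/

set_option autoImplicit false
universe u

namespace Groth.Agent.Helper2.SyntSch

section Transport

open MvPolynomial

/-- transport of syntomic ring maps along a commutative square of ring isomorphisms -/
theorem isSyntomic_of_ringEquiv {R S R' S' : Type u} [CommRing R] [CommRing S] [CommRing R']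
    [CommRing S'] [Algebra R S] [Algebra R' S'] (σ : R ≃+* R') (τ : S ≃+* S')
    (h : ∀ r, τ (algebraMap R S r) = algebraMap R' S' (σ r)) (hs : Synt.IsSyntomic R S) :
    Synt.IsSyntomic R' S' := by
  have hflat : Module.Flat R S := hs.1
  obtain ⟨hft, n, φ, hφ, hkr⟩ := Groth.Agent.S9287.forward R S hs
  have hmap : algebraMap R' S' =
      ((τ : S →+* S').comp (algebraMap R S)).comp (σ.symm : R' →+* R) := by
    refine RingHom.ext fun r' => ?_
    simp only [RingHom.comp_apply, RingEquiv.coe_toRingHom]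
    rw [h, RingEquiv.apply_symm_apply]
  apply Groth.Agent.S9287.backward
  · -- flatness
    rw [← RingHom.flat_algebraMap_iff, hmap]
    refine RingHom.Flat.comp (RingHom.Flat.of_bijective σ.symm.bijective) ?_
    exact RingHom.Flat.comp (RingHom.flat_algebraMap_iff.mpr hflat)
      (RingHom.Flat.of_bijective τ.bijective)
  · have hft' : Algebra.FiniteType R' S' := by
      rw [← RingHom.finiteType_algebraMap, hmap]
      refine RingHom.FiniteType.comp ?_ (RingHom.FiniteType.of_surjective _ σ.symm.surjective)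
      exact RingHom.FiniteType.comp (RingHom.FiniteType.of_surjective _ τ.surjective)
        (RingHom.finiteType_algebraMap.mpr hft)
    let E : MvPolynomial (Fin n) R ≃+* MvPolynomial (Fin n) R' := MvPolynomial.mapEquiv (Fin n) σ
    let φ' : MvPolynomial (Fin n) R' →ₐ[R'] S' := MvPolynomial.aeval fun i => τ (φ (X i))
    have hcomm : ∀ p : MvPolynomial (Fin n) R, φ' (E p) = τ (φ p) := by
      intro p
      have : ((φ' : MvPolynomial (Fin n) R' →+* S').comp (E : _ →+* _)) =
          ((τ : S →+* S').comp (φ : MvPolynomial (Fin n) R →+* S)) := by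
        apply MvPolynomial.ringHom_ext
        · intro r
          simp only [RingHom.comp_apply, RingHom.coe_coe, E,
            MvPolynomial.mapEquiv_apply, MvPolynomial.map_C, φ', MvPolynomial.aeval_C]
          rw [← h]
          congr 1
          exact (φ.commutes r).symm
        · intro i
          simp only [RingHom.comp_apply, RingHom.coe_coe, E,
            MvPolynomial.mapEquiv_apply, MvPolynomial.map_X, φ', MvPolynomial.aeval_X]
      exact congrArg (fun ψ : MvPolynomial (Fin n) R →+* S' => ψ p) this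
    refine ⟨hft', n, φ', ?_, ?_⟩
    · intro s'
      obtain ⟨p, hp⟩ := hφ (τ.symm s')
      refine ⟨E p, ?_⟩
      rw [hcomm, hp, RingEquiv.apply_symm_apply]
    · have hker : RingHom.ker φ'.toRingHom = (RingHom.ker φ.toRingHom).map (E : _ →+* _) := by
        ext q
        rw [Ideal.map_comap_of_equiv, Ideal.mem_comap, RingHom.mem_ker, RingHom.mem_ker]
        obtain ⟨p, rfl⟩ := E.surjective q
        show φ' (E p) = 0 ↔ φ (E.symm (E p)) = 0
        rw [hcomm, RingEquiv.symm_apply_apply]
        exact ⟨fun h0 => τ.injective (by rw [h0, map_zero]), fun h0 => by rw [h0, map_zero]⟩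
      rw [hker]
      exact Groth.Agent.Helper2.KosIdeal.kr_ringEquiv E _ hkr

end Transport

section Scheme

open AlgebraicGeometry CategoryTheory Groth.Agent.Helper2.KosBridge

/-- the chart of `f.resLE` on affine opens is `Spec` of `f.appLE` -/
theorem resLE_isoSpec {X S : Scheme.{u}} (f : X ⟶ S) {U : X.Opens} {V : S.Opens}
    (hU : IsAffineOpen U) (hV : IsAffineOpen V) (e : U ≤ f ⁻¹ᵁ V) :
    hU.isoSpec.hom ≫ Spec.map (f.appLE V U e) = f.resLE V U e ≫ hV.isoSpec.hom := by
  rw [← cancel_mono hV.isoSpec.inv, Category.assoc, Category.assoc, Iso.hom_inv_id,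
    Category.comp_id, ← cancel_mono V.ι, Category.assoc, Category.assoc,
    Scheme.Hom.resLE_comp_ι, IsAffineOpen.isoSpec_inv_ι, IsAffineOpen.SpecMap_appLE_fromSpec]
  show hU.isoSpec.hom ≫ (hU.isoSpec.inv ≫ U.ι) ≫ f = U.ι ≫ f
  rw [Category.assoc, Iso.hom_inv_id_assoc]

/-- if `f` has a syntomic chart `(U₀, V₀)`, then `U₀.ι ≫ f` is a syntomic morphism -/
theorem isSyntomicMor_ι_comp {X S : Scheme.{u}} (f : X ⟶ S) (U₀ : X.affineOpens)
    (V₀ : S.affineOpens) (e₀ : U₀.1 ≤ f ⁻¹ᵁ V₀.1)
    (hsyn : letI := (f.appLE V₀.1 U₀.1 e₀).hom.toAlgebra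
      Synt.IsSyntomic Γ(S, V₀.1) Γ(X, U₀.1)) :
    Synt.IsSyntomicMor (U₀.1.ι ≫ f) := by
  apply (Groth.Agent.S9758.main _).mp
  constructor
  · have hflat' : (f.appLE V₀.1 U₀.1 e₀).hom.Flat := hsyn.1
    have h1 : Flat (Spec.map (f.appLE V₀.1 U₀.1 e₀)) :=
      (HasRingHomProperty.Spec_iff (P := @Flat)).mpr hflat'
    have h2 : f.resLE V₀.1 U₀.1 e₀ =
        U₀.2.isoSpec.hom ≫ Spec.map (f.appLE V₀.1 U₀.1 e₀) ≫ V₀.2.isoSpec.inv := by
      rw [← Category.assoc, resLE_isoSpec f U₀.2 V₀.2 e₀, Category.assoc, Iso.hom_inv_id,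
        Category.comp_id]
    have h3 : Flat (f.resLE V₀.1 U₀.1 e₀) := by
      rw [h2]
      infer_instance
    have h4 : U₀.1.ι ≫ f = f.resLE V₀.1 U₀.1 e₀ ≫ V₀.1.ι := (Scheme.Hom.resLE_comp_ι f e₀).symm
    rw [h4]
    infer_instance
  · intro y
    letI := (f.appLE V₀.1 U₀.1 e₀).hom.toAlgebra
    have h1 := isKoszulAt_of_isLCI f U₀.1 V₀.1 U₀.2 V₀.2 e₀
      (Groth.Agent.S9287.forward _ _ hsyn) y.1 y.2
    exact isKoszulAt_ι_comp f U₀.1 y.1 y.2 h1

end Scheme

end Groth.Agent.Helper2.SyntSch
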