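import Mathlib
import Groth.Prelude.Def_RegImm
import Groth.Agent.Lib.Helper2.SyntSch1
import Groth.Agent.Lib.Helper12.FibSrc
import Groth.Agent.S9363

/-!
# Fibres of morphisms and syntomic ring maps: plumbing
-/

set_option autoImplicit false
universe u

namespace Groth.Agent.Helper2.SyntFib

open AlgebraicGeometry CategoryTheory Limits Groth.Agent.Helper2.SyntSch

section SpecTransport

variable {R₁ B₁ R₂ B₂ : Type u} [CommRing R₁] [CommRing B₁] [CommRing R₂] [CommRing B₂]
  [Algebra R₁ B₁] [Algebra R₂ B₂]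

/-- transport of syntomic ring maps along an isomorphism of the associated arrows of spectra -/
theorem isSyntomic_of_spec_iso
    (a : Spec (CommRingCat.of B₁) ≅ Spec (CommRingCat.of B₂))
    (b : Spec (CommRingCat.of R₁) ≅ Spec (CommRingCat.of R₂))
    (hab : Spec.map (CommRingCat.ofHom (algebraMap R₁ B₁)) ≫ b.hom =
      a.hom ≫ Spec.map (CommRingCat.ofHom (algebraMap R₂ B₂)))
    (h : Synt.IsSyntomic R₂ B₂) : Synt.IsSyntomic R₁ B₁ := by
  have hα1 : Spec.preimage a.hom ≫ Spec.preimage a.inv = 𝟙 _ := by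
    apply Spec.map_injective
    rw [Spec.map_comp, Spec.map_preimage, Spec.map_preimage, Iso.inv_hom_id, Spec.map_id]
  have hα2 : Spec.preimage a.inv ≫ Spec.preimage a.hom = 𝟙 _ := by
    apply Spec.map_injective
    rw [Spec.map_comp, Spec.map_preimage, Spec.map_preimage, Iso.hom_inv_id, Spec.map_id]
  have hβ1 : Spec.preimage b.hom ≫ Spec.preimage b.inv = 𝟙 _ := by
    apply Spec.map_injective
    rw [Spec.map_comp, Spec.map_preimage, Spec.map_preimage, Iso.inv_hom_id, Spec.map_id]
  have hβ2 : Spec.preimage b.inv ≫ Spec.preimage b.hom = 𝟙 _ := by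
    apply Spec.map_injective
    rw [Spec.map_comp, Spec.map_preimage, Spec.map_preimage, Iso.hom_inv_id, Spec.map_id]
  let αi : CommRingCat.of B₂ ≅ CommRingCat.of B₁ :=
    ⟨Spec.preimage a.hom, Spec.preimage a.inv, hα1, hα2⟩
  let βi : CommRingCat.of R₂ ≅ CommRingCat.of R₁ :=
    ⟨Spec.preimage b.hom, Spec.preimage b.inv, hβ1, hβ2⟩
  have hsq : Spec.preimage b.hom ≫ CommRingCat.ofHom (algebraMap R₁ B₁) =
      CommRingCat.ofHom (algebraMap R₂ B₂) ≫ Spec.preimage a.hom := by
    apply Spec.map_injective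
    rw [Spec.map_comp, Spec.map_comp, Spec.map_preimage, Spec.map_preimage]
    exact hab
  refine isSyntomic_of_ringEquiv βi.commRingCatIsoToRingEquiv αi.commRingCatIsoToRingEquiv ?_ h
  intro r
  have := congrArg (fun ψ : CommRingCat.of R₂ ⟶ CommRingCat.of B₁ => ψ.hom r) hsq
  exact this.symm

end SpecTransport

section Fibre

variable {X S S' Y : Scheme.{u}}

/-- the fibre of an open part of a base change along an open immersion, inside the fibre -/
theorem exists_fibre_openImmersion (f : X ⟶ S) (g : S' ⟶ S) [IsOpenImmersion g]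
    (h' : Y ⟶ S') (j : Y ⟶ pullback f g) [IsOpenImmersion j] (hj : j ≫ pullback.snd f g = h')
    (p : S') :
    ∃ J : h'.fiber p ⟶ f.fiber (g p), IsOpenImmersion J ∧
      J ≫ f.fiberToSpecResidueField (g p) =
        h'.fiberToSpecResidueField p ≫ Spec.map (g.residueFieldMap p) := by
  subst hj
  obtain ⟨m, hpb⟩ : ∃ m : (pullback.snd f g).fiber p ⟶ f.fiber (g p),
      IsPullback m ((pullback.snd f g).fiberToSpecResidueField p)
        (f.fiberToSpecResidueField (g p)) (Spec.map (g.residueFieldMap p)) :=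
    ⟨_, isPullback_fiberToSpecResidueField_of_isPullback (IsPullback.of_hasPullback f g) p⟩
  have hfm := Groth.Agent.Helper12.FibSrc.fibMap_isPullback (pullback.snd f g) j p
  haveI h1 : IsOpenImmersion (Groth.Agent.Helper12.FibSrc.fibMap (pullback.snd f g) j p) :=
    MorphismProperty.of_isPullback (P := @IsOpenImmersion) hfm.flip inferInstance
  haveI h2 : IsOpenImmersion m :=
    MorphismProperty.of_isPullback (P := @IsOpenImmersion) hpb.flip inferInstance
  refine ⟨Groth.Agent.Helper12.FibSrc.fibMap (pullback.snd f g) j p ≫ m, inferInstance, ?_⟩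
  rw [Category.assoc, hpb.w, ← Category.assoc]
  congr 1
  exact pullback.lift_snd _ _ _

end Fibre

section OpenChart

variable {Z : Scheme.{u}} {K : CommRingCat.{u}} {k T : Type u} [CommRing k] [CommRing T]
  [Algebra k T]

/-- a syntomic morphism to an affine scheme, restricted to an affine open chart, gives a
syntomic ring map -/
theorem isSyntomic_of_openImmersion (q : Z ⟶ Spec K) (hq : Synt.IsSyntomicMor q)
    (J : Spec (CommRingCat.of T) ⟶ Z) [IsOpenImmersion J]
    (β : Spec (CommRingCat.of k) ≅ Spec K)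
    (hcomm : J ≫ q = Spec.map (CommRingCat.ofHom (algebraMap k T)) ≫ β.hom) :
    Synt.IsSyntomic k T := by
  have hW : IsAffineOpen J.opensRange := isAffineOpen_opensRange J
  have htop : IsAffineOpen (⊤ : (Spec K).Opens) := isAffineOpen_top _
  have e : J.opensRange ≤ q ⁻¹ᵁ (⊤ : (Spec K).Opens) := le_top
  have hsyn := (Groth.Agent.S9363.main q).mp hq ⟨J.opensRange, hW⟩ ⟨⊤, htop⟩ e
  refine @isSyntomic_of_spec_iso k T Γ(Spec K, ⊤) Γ(Z, J.opensRange) _ _ _ _ _
    ((q.appLE ⊤ J.opensRange e).hom.toAlgebra) (J.isoOpensRange ≪≫ hW.isoSpec)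
    (β ≪≫ (Scheme.topIso (Spec K)).symm ≪≫ htop.isoSpec) ?_ hsyn
  show Spec.map (CommRingCat.ofHom (algebraMap k T)) ≫ β.hom ≫ (Scheme.topIso (Spec K)).inv ≫
      htop.isoSpec.hom = (J.isoOpensRange.hom ≫ hW.isoSpec.hom) ≫
      Spec.map (q.appLE ⊤ J.opensRange e)
  rw [Category.assoc, resLE_isoSpec q hW htop e, ← Category.assoc, ← Category.assoc,
    ← Category.assoc, ← hcomm]
  congr 1
  rw [← cancel_mono (Scheme.topIso (Spec K)).hom, Category.assoc, Category.assoc, Iso.inv_hom_id,
    Category.comp_id, Scheme.topIso_hom, Category.assoc, Scheme.Hom.resLE_comp_ι,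
    ← Category.assoc, Scheme.Hom.isoOpensRange_hom_ι]

end OpenChart

end Groth.Agent.Helper2.SyntFib
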