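import Mathlib
import Groth.Prelude.Def_RegImm
import Groth.Agent.Lib.Helper2.SyntFib1

/-!
# Syntomic algebras over a field are the local complete intersections (helper2)
-/

set_option autoImplicit false
universe u

namespace Groth.Agent.Helper2.CIField

open TensorProduct

section

variable (k T : Type u) [Field k] [CommRing T] [Algebra k T]

theorem isSyntomic_of_isLCIOver (h : Synt.IsLCIOver k T) : Synt.IsSyntomic k T := by
  haveI := h.1
  refine ⟨inferInstance, (Algebra.FinitePresentation.of_finiteType).mp h.1, fun p => ?_⟩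
  haveI := p.isPrime
  let ε : k ≃ₐ[k] p.asIdeal.ResidueField := Ideal.algEquivResidueFieldOfField p.asIdeal
  let τ : T ≃ₐ[k] p.asIdeal.Fiber T :=
    (Algebra.TensorProduct.lid k T).symm.trans (Algebra.TensorProduct.congr ε AlgEquiv.refl)
  refine Groth.Agent.Helper2.SyntFib.isLCIOver_transport ε.symm.toRingEquiv τ.symm.toRingEquiv ?_ h
  intro a
  show τ.symm (algebraMap p.asIdeal.ResidueField (p.asIdeal.Fiber T) a) = algebraMap k T (ε.symm a)
  rw [AlgEquiv.symm_apply_eq, τ.commutes]
  show _ = algebraMap k (p.asIdeal.ResidueField ⊗[k] T) (ε.symm a)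
  rw [Algebra.TensorProduct.algebraMap_apply, Algebra.TensorProduct.algebraMap_apply]
  have h1 : algebraMap k p.asIdeal.ResidueField (ε.symm a) = a := ε.apply_symm_apply a
  rw [h1]
  rfl

theorem isSyntomic_iff_isLCIOver : Synt.IsSyntomic k T ↔ Synt.IsLCIOver k T :=
  ⟨Groth.Agent.Helper2.SyntFib.isLCIOver_of_isSyntomic k T, isSyntomic_of_isLCIOver k T⟩

end

end Groth.Agent.Helper2.CIField
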