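import Mathlib
import Groth.Prelude.Def_RegImm
import Groth.Prelude.Def_Pi1
import Groth.Prelude.Def_CInt
import Groth.Agent.Lib.Helper2.CIPi1
import Groth.Agent.Lib.Helper2.LciLoc3
import Groth.Agent.S9368
import Groth.Agent.S9365
import Groth.Agent.S9758
import Groth.Agent.S9862

/-!
# Complete intersection morphisms are the syntomic morphisms (helper2)
-/

set_option autoImplicit false
universe u

namespace Groth.Agent.Helper2.CIPi2

open AlgebraicGeometry CategoryTheory Limits Groth.Agent.Helper2.CIPi1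

section BaseChange

/-- syntomic morphisms are stable under base change -/
theorem isSyntomicMor_of_isPullback {X S S' X' : Scheme.{u}} (f : X ⟶ S) (h : S' ⟶ S)
    (gX : X' ⟶ X) (f' : X' ⟶ S') (hsq : IsPullback gX f' f h) (hf : Synt.IsSyntomicMor f) :
    Synt.IsSyntomicMor f' := by
  obtain ⟨hfl, hK⟩ := (Groth.Agent.S9758.main f).mpr hf
  apply (Groth.Agent.S9758.main f').mp
  refine ⟨MorphismProperty.of_isPullback hsq hfl, fun x' => ?_⟩
  haveI : Flat (f ≫ 𝟙 S) := by rw [Category.comp_id]; exact hfl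
  have hY : IsPullback h (𝟙 S') (𝟙 S) h := IsPullback.of_vert_isIso ⟨by simp⟩
  have hX : IsPullback gX (f' ≫ 𝟙 S') (f ≫ 𝟙 S) h := by
    rw [Category.comp_id, Category.comp_id]
    exact hsq
  exact Groth.Agent.Helper2.LciLoc.isKoszulAt_baseChange f (𝟙 S) h h (𝟙 S') hY gX f' hX hsq.w x'
    (hK _)

end BaseChange

section Bridge

variable {X S : Scheme.{u}} (f : X ⟶ S)

theorem isCIMorphism_of_isSyntomicMor (hf : Synt.IsSyntomicMor f) : CInt.IsCIMorphism f := by
  haveI hlfp := Groth.Agent.S9862.lfp_of_syn f hf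
  refine ⟨Groth.Agent.S9862.flat_of_syn f hf, hlfp, fun x => ?_⟩
  have hfib : Synt.IsSyntomicMor (f.fiberToSpecResidueField (f x)) :=
    isSyntomicMor_of_isPullback f (S.fromSpecResidueField (f x)) (f.fiberι _)
      (f.fiberToSpecResidueField _) (IsPullback.of_hasPullback _ _) hf
  haveI : LocallyOfFiniteType (f.fiberToSpecResidueField (f x)) :=
    MorphismProperty.pullback_snd _ _ inferInstance
  have h3 := Groth.Agent.S9368.two_to_three (S.residueField (f x)) (f.fiber (f x))
    (f.fiberToSpecResidueField (f x))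
    (fun y => Groth.Agent.S9368.one_to_two (S.residueField (f x)) (f.fiber (f x))
      (f.fiberToSpecResidueField (f x)) hfib y) (f.asFiber x)
  exact @isCI_of_isCIOver (S.residueField (f x)) _ _ _ _
    (Groth.Agent.S9368.algStalk (S.residueField (f x)) (f.fiber (f x))
      (f.fiberToSpecResidueField (f x)) (f.asFiber x)) h3

end Bridge

section Ess

variable (k : Type u) [Field k] (X : Scheme.{u}) (p : X ⟶ Spec (CommRingCat.of k))

theorem essFiniteType_stalk [LocallyOfFiniteType p] (x : X) :
    letI := Groth.Agent.S9368.algStalk k X p x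
    Algebra.EssFiniteType k (X.presheaf.stalk x) := by
  obtain ⟨_, ⟨U, hU, rfl⟩, hxU, -⟩ := X.isBasis_affineOpens.exists_subset_of_mem_open
    (Set.mem_univ x) isOpen_univ
  letI := Groth.Agent.S9368.algU k X p U
  letI := Groth.Agent.S9368.algStalk k X p x
  haveI := Groth.Agent.S9368.finiteType_sections k X p ⟨U, hU⟩
  obtain ⟨E⟩ := Groth.Agent.S9368.nonempty_atPrime_equiv k X p ⟨U, hU⟩ x hxU
  exact (Algebra.EssFiniteType.iff_of_algEquiv E).mp inferInstance

end Ess

section Bridge2

variable {X S : Scheme.{u}} (f : X ⟶ S)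

theorem isSyntomicMor_of_isCIMorphism (h : CInt.IsCIMorphism f) : Synt.IsSyntomicMor f := by
  obtain ⟨hfl, hlfp, hci⟩ := h
  haveI := hfl
  haveI := hlfp
  apply Groth.Agent.S9365.result f
  intro s
  haveI : LocallyOfFiniteType (f.fiberToSpecResidueField s) :=
    MorphismProperty.pullback_snd _ _ inferInstance
  apply Groth.Agent.S9368.three_to_one (S.residueField s) (f.fiber s) (f.fiberToSpecResidueField s)
  intro x'
  obtain ⟨⟨x, hx⟩, rfl⟩ : ∃ y, (f.fiberHomeo s).symm y = x' :=
    ⟨f.fiberHomeo s x', (f.fiberHomeo s).symm_apply_apply x'⟩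
  have hx' : f x = s := hx
  subst hx'
  have hA : Pi1.IsCompleteIntersection (CInt.fiberStalk f x) := hci x
  letI := Groth.Agent.S9368.algStalk (S.residueField (f x)) (f.fiber (f x))
    (f.fiberToSpecResidueField (f x)) ((f.fiberHomeo (f x)).symm ⟨x, hx⟩)
  haveI := essFiniteType_stalk (S.residueField (f x)) (f.fiber (f x))
    (f.fiberToSpecResidueField (f x)) ((f.fiberHomeo (f x)).symm ⟨x, hx⟩)
  exact isCIOver_of_isCI (S.residueField (f x)) _ hA

theorem isCIMorphism_iff_isSyntomicMor : CInt.IsCIMorphism f ↔ Synt.IsSyntomicMor f :=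
  ⟨isSyntomicMor_of_isCIMorphism f, isCIMorphism_of_isSyntomicMor f⟩

end Bridge2

end Groth.Agent.Helper2.CIPi2
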