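import Mathlib
import Groth.Prelude.Def_RegImm

/-!
# The presentation `S_g = R[x_1, …, x_{n+1}]/(F_1, …, F_c, h x_{n+1} - 1)`
-/

set_option autoImplicit false
universe u

namespace Groth.Agent.Helper2.AwayIso

open MvPolynomial

section

variable (R : Type u) [CommRing R] (n c : ℕ) (F : Fin c → MvPolynomial (Fin n) R)
  (h : MvPolynomial (Fin n) R)

/-- the extended system of equations -/
noncomputable abbrev F' : Fin (c + 1) → MvPolynomial (Fin (n + 1)) R :=
  Fin.snoc (fun i => rename Fin.castSucc (F i)) (rename Fin.castSucc h * X (Fin.last n) - 1)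

/-- the element we invert -/
noncomputable abbrev gEl : Synt.RelGCIRing R n c F := Ideal.Quotient.mk (Ideal.span (Set.range F)) h

theorem rename_mem (a : MvPolynomial (Fin n) R) (ha : a ∈ Ideal.span (Set.range F)) :
    rename Fin.castSucc a ∈ Ideal.span (Set.range (F' R n c F h)) := by
  have hle : Ideal.span (Set.range F) ≤
      (Ideal.span (Set.range (F' R n c F h))).comap
        (rename Fin.castSucc : MvPolynomial (Fin n) R →ₐ[R] MvPolynomial (Fin (n + 1)) R).toRingHom := by
    rw [Ideal.span_le]
    rintro _ ⟨i, rfl⟩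
    rw [SetLike.mem_coe, Ideal.mem_comap]
    apply Ideal.subset_span
    exact ⟨Fin.castSucc i, by simp [F']⟩
  exact hle ha

/-- `S → S'` -/
noncomputable def alpha0 : Synt.RelGCIRing R n c F →ₐ[R] Synt.RelGCIRing R (n + 1) (c + 1) (F' R n c F h) :=
  Ideal.Quotient.liftₐ (Ideal.span (Set.range F))
    ((Ideal.Quotient.mkₐ R (Ideal.span (Set.range (F' R n c F h)))).comp
      (rename Fin.castSucc : MvPolynomial (Fin n) R →ₐ[R] MvPolynomial (Fin (n + 1)) R))
    (fun a ha => by
      rw [AlgHom.comp_apply, Ideal.Quotient.mkₐ_eq_mk]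
      exact Ideal.Quotient.eq_zero_iff_mem.mpr (rename_mem R n c F h a ha))

theorem alpha0_mk (a : MvPolynomial (Fin n) R) :
    alpha0 R n c F h (Ideal.Quotient.mk _ a) =
      Ideal.Quotient.mk (Ideal.span (Set.range (F' R n c F h))) (rename Fin.castSucc a) := rfl

theorem alpha0_g_mul :
    alpha0 R n c F h (gEl R n c F h) *
      Ideal.Quotient.mk (Ideal.span (Set.range (F' R n c F h))) (X (Fin.last n)) = 1 := by
  rw [gEl, alpha0_mk, ← map_mul, ← sub_eq_zero, ← map_one (Ideal.Quotient.mk _), ← map_sub]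
  apply Ideal.Quotient.eq_zero_iff_mem.mpr
  apply Ideal.subset_span
  exact ⟨Fin.last c, by simp [F']⟩

theorem isUnit_alpha0 (y : Submonoid.powers (gEl R n c F h)) : IsUnit (alpha0 R n c F h y) := by
  obtain ⟨_, m, rfl⟩ := y
  rw [map_pow]
  exact (isUnit_iff_exists_inv.mpr ⟨_, alpha0_g_mul R n c F h⟩).pow m

/-- `S_g → S'` -/
noncomputable def alpha : Localization.Away (gEl R n c F h) →ₐ[R]
    Synt.RelGCIRing R (n + 1) (c + 1) (F' R n c F h) :=
  IsLocalization.liftAlgHom (M := Submonoid.powers (gEl R n c F h)) (f := alpha0 R n c F h)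
    (isUnit_alpha0 R n c F h)

theorem alpha_algebraMap (s : Synt.RelGCIRing R n c F) :
    alpha R n c F h (algebraMap _ _ s) = alpha0 R n c F h s := by
  rw [alpha, IsLocalization.liftAlgHom_apply, IsLocalization.lift_eq]
  rfl

/-- `R[x, y] → S_g` -/
noncomputable def beta0 : MvPolynomial (Fin (n + 1)) R →ₐ[R] Localization.Away (gEl R n c F h) :=
  aeval (Fin.snoc (fun i => algebraMap (Synt.RelGCIRing R n c F) _
      (Ideal.Quotient.mk (Ideal.span (Set.range F)) (X i)))
    (IsLocalization.Away.invSelf (gEl R n c F h)))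

theorem beta0_rename (a : MvPolynomial (Fin n) R) :
    beta0 R n c F h (rename Fin.castSucc a) =
      algebraMap (Synt.RelGCIRing R n c F) _ (Ideal.Quotient.mk (Ideal.span (Set.range F)) a) := by
  rw [beta0, aeval_rename, Fin.snoc_comp_castSucc]
  have h1 : (aeval (fun i => algebraMap (Synt.RelGCIRing R n c F)
      (Localization.Away (gEl R n c F h)) (Ideal.Quotient.mk (Ideal.span (Set.range F)) (X i))) :
      MvPolynomial (Fin n) R →ₐ[R] _) =
      (IsScalarTower.toAlgHom R (Synt.RelGCIRing R n c F) (Localization.Away (gEl R n c F h))).comp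
        (Ideal.Quotient.mkₐ R (Ideal.span (Set.range F))) := by
    apply MvPolynomial.algHom_ext
    intro i
    rw [aeval_X]
    rfl
  rw [h1]
  rfl

theorem beta0_last : beta0 R n c F h (X (Fin.last n)) =
    IsLocalization.Away.invSelf (gEl R n c F h) := by
  rw [beta0, aeval_X, Fin.snoc_last]

theorem beta0_mem (a : MvPolynomial (Fin (n + 1)) R)
    (ha : a ∈ Ideal.span (Set.range (F' R n c F h))) : beta0 R n c F h a = 0 := by
  have hle : Ideal.span (Set.range (F' R n c F h)) ≤ RingHom.ker (beta0 R n c F h).toRingHom := by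
    rw [Ideal.span_le]
    rintro _ ⟨j, rfl⟩
    rw [SetLike.mem_coe, RingHom.mem_ker]
    show beta0 R n c F h (F' R n c F h j) = 0
    refine Fin.lastCases ?_ (fun i => ?_) j
    · rw [F', Fin.snoc_last, map_sub, map_mul, map_one, beta0_rename, beta0_last,
        IsLocalization.Away.mul_invSelf, sub_self]
    · rw [F', Fin.snoc_castSucc, beta0_rename]
      have : Ideal.Quotient.mk (Ideal.span (Set.range F)) (F i) = 0 :=
        Ideal.Quotient.eq_zero_iff_mem.mpr (Ideal.subset_span ⟨i, rfl⟩)
      rw [this, map_zero]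
  exact hle ha

/-- `S' → S_g` -/
noncomputable def beta : Synt.RelGCIRing R (n + 1) (c + 1) (F' R n c F h) →ₐ[R]
    Localization.Away (gEl R n c F h) :=
  Ideal.Quotient.liftₐ (Ideal.span (Set.range (F' R n c F h))) (beta0 R n c F h)
    (beta0_mem R n c F h)

theorem beta_mk (a : MvPolynomial (Fin (n + 1)) R) :
    beta R n c F h (Ideal.Quotient.mk _ a) = beta0 R n c F h a := rfl

theorem beta_alpha : (beta R n c F h).comp (alpha R n c F h) = AlgHom.id R _ := by
  apply AlgHom.coe_ringHom_injective
  apply IsLocalization.ringHom_ext (Submonoid.powers (gEl R n c F h))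
  refine RingHom.ext fun s => ?_
  obtain ⟨a, rfl⟩ := Ideal.Quotient.mk_surjective s
  simp only [RingHom.comp_apply, AlgHom.coe_toRingHom, AlgHom.comp_apply, AlgHom.id_apply,
    RingHom.coe_coe]
  rw [alpha_algebraMap, alpha0_mk, beta_mk, beta0_rename]

theorem alpha_invSelf : alpha R n c F h (IsLocalization.Away.invSelf (gEl R n c F h)) =
    Ideal.Quotient.mk (Ideal.span (Set.range (F' R n c F h))) (X (Fin.last n)) := by
  have h1 := alpha0_g_mul R n c F h
  have h2 : alpha R n c F h (algebraMap _ _ (gEl R n c F h)) *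
      alpha R n c F h (IsLocalization.Away.invSelf (gEl R n c F h)) = 1 := by
    rw [← map_mul, IsLocalization.Away.mul_invSelf, map_one]
  rw [alpha_algebraMap] at h2
  calc alpha R n c F h (IsLocalization.Away.invSelf (gEl R n c F h))
      = (alpha0 R n c F h (gEl R n c F h) *
          Ideal.Quotient.mk (Ideal.span (Set.range (F' R n c F h))) (X (Fin.last n))) *
          alpha R n c F h (IsLocalization.Away.invSelf (gEl R n c F h)) := by rw [h1, one_mul]
    _ = Ideal.Quotient.mk (Ideal.span (Set.range (F' R n c F h))) (X (Fin.last n)) *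
          (alpha0 R n c F h (gEl R n c F h) *
            alpha R n c F h (IsLocalization.Away.invSelf (gEl R n c F h))) := by ring
    _ = _ := by rw [h2, mul_one]

theorem alpha_beta : (alpha R n c F h).comp (beta R n c F h) = AlgHom.id R _ := by
  apply Ideal.Quotient.algHom_ext
  apply MvPolynomial.algHom_ext
  intro j
  simp only [AlgHom.comp_apply, AlgHom.id_apply, Ideal.Quotient.mkₐ_eq_mk]
  rw [beta_mk]
  refine Fin.lastCases ?_ (fun i => ?_) j
  · rw [beta0_last, alpha_invSelf]
  · have : (X (Fin.castSucc i) : MvPolynomial (Fin (n + 1)) R) = rename Fin.castSucc (X i) := by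
      rw [rename_X]
    rw [this, beta0_rename, alpha_algebraMap, alpha0_mk]

/-- **The presentation of `S_g`.** -/
noncomputable def awayEquiv : Localization.Away (gEl R n c F h) ≃ₐ[R]
    Synt.RelGCIRing R (n + 1) (c + 1) (F' R n c F h) :=
  AlgEquiv.ofAlgHom (alpha R n c F h) (beta R n c F h) (alpha_beta R n c F h) (beta_alpha R n c F h)

theorem awayEquiv_algebraMap (s : Synt.RelGCIRing R n c F) :
    awayEquiv R n c F h (algebraMap _ _ s) = alpha0 R n c F h s :=
  alpha_algebraMap R n c F h s

end

end Groth.Agent.Helper2.AwayIso
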