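import Mathlib
import Groth.Prelude.Def_RegImm
import Groth.Prelude.Def_Flat
import Groth.Agent.Lib.Helper2.RelGCI7
import Groth.Agent.Lib.Helper2.AwayIso
import Groth.Agent.Lib.Helper16.Sch.SpecFib

/-!
# A basic open of `Spec R[x]/(F)` on which the fibres have dimension `n - c` is a relative global
complete intersection
-/

set_option autoImplicit false
universe u

namespace Groth.Agent.Helper2.RelGCI

open MvPolynomial Groth.Agent.Helper2.FCR Groth.Agent.Helper2.SyntLCI TensorProduct
  Groth.Agent.Helper2.GCILoc IsLocalRing Groth.Agent.Helper2.AwayIso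

section

open AlgebraicGeometry CategoryTheory Groth.Agent.Helper16.RingFibDim

variable (R : Type u) [CommRing R] (n c : ℕ) (F : Fin c → MvPolynomial (Fin n) R)
  (h : MvPolynomial (Fin n) R)

instance isOpenImmersion_alpha0 :
    IsOpenImmersion (Spec.map (CommRingCat.ofHom (alpha0 R n c F h).toRingHom)) := by
  have h1 : (alpha0 R n c F h).toRingHom =
      ((awayEquiv R n c F h).toAlgHom.toRingHom).comp
        (algebraMap (Synt.RelGCIRing R n c F) (Localization.Away (gEl R n c F h))) := by
    refine RingHom.ext fun s => ?_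
    exact (awayEquiv_algebraMap R n c F h s).symm
  rw [h1, CommRingCat.ofHom_comp, Spec.map_comp]
  haveI : IsIso (CommRingCat.ofHom (awayEquiv R n c F h).toAlgHom.toRingHom) :=
    (awayEquiv R n c F h).toRingEquiv.toCommRingCatIso.isIso_hom
  infer_instance

theorem isRelGCI_away (hcn : c ≤ n)
    (hW : ∀ q : PrimeSpectrum (Synt.RelGCIRing R n c F), gEl R n c F h ∉ q.asIdeal →
      FlatMor.fibreDimAt (specMap R (Synt.RelGCIRing R n c F)) q ≤ ((n - c : ℕ) : WithBot ℕ∞)) :
    Synt.IsRelGCI R (n + 1) (c + 1) (F' R n c F h) := by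
  intro p' hnt
  refine ⟨by omega, ?_⟩
  let φ' : MvPolynomial (Fin (n + 1)) R →ₐ[R] Synt.RelGCIRing R (n + 1) (c + 1) (F' R n c F h) :=
    Ideal.Quotient.mkₐ R (Ideal.span (Set.range (F' R n c F h)))
  have hφ' : Function.Surjective φ' := Ideal.Quotient.mk_surjective
  have hker' : RingHom.ker φ'.toRingHom = Ideal.span (Set.range (F' R n c F h)) := Ideal.mk_ker
  let e' := Ideal.quotientKerAlgEquivOfSurjective (phik_surjective (n + 1) φ' hφ' p'.asIdeal)
  have hk' : RingHom.ker (phik (n + 1) φ' p'.asIdeal) =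
      Ideal.span (Set.range (fun i => mu (n + 1) p'.asIdeal (F' R n c F h i))) := by
    have h1 : RingHom.ker (phik (n + 1) φ' p'.asIdeal) =
        (RingHom.ker φ'.toRingHom).map (mu (n + 1) p'.asIdeal) :=
      ker_phik (n + 1) φ' hφ' p'.asIdeal
    rw [h1, hker', Ideal.map_span, ← Set.range_comp]
    rfl
  rw [← ringKrullDim_eq_of_ringEquiv e'.toRingEquiv,
    ← PrimeSpectrum.topologicalKrullDim_eq_ringKrullDim,
    Groth.Agent.Helper9.TopDim.dim_eq_iSup_localDim]
  haveI := hnt
  haveI : Nontrivial (MvPolynomial (Fin (n + 1)) p'.asIdeal.ResidueField ⧸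
      RingHom.ker (phik (n + 1) φ' p'.asIdeal)) := e'.symm.toRingEquiv.injective.nontrivial
  have hconst : ∀ x : PrimeSpectrum (MvPolynomial (Fin (n + 1)) p'.asIdeal.ResidueField ⧸
      RingHom.ker (phik (n + 1) φ' p'.asIdeal)),
      FlatMor.localDim _ x = ((n + 1 - (c + 1) : ℕ) : WithBot ℕ∞) := by
    intro x
    apply le_antisymm
    · let j := PrimeSpectrum.homeomorphOfRingEquiv
        (R := MvPolynomial (Fin (n + 1)) p'.asIdeal.ResidueField ⧸
          RingHom.ker (phik (n + 1) φ' p'.asIdeal))
        (S := p'.asIdeal.Fiber (Synt.RelGCIRing R (n + 1) (c + 1) (F' R n c F h))) e'.toRingEquiv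
      have h2 := Groth.Agent.Helper14.FibreChart.localDim_openEmbedding j j.isOpenEmbedding x
      rw [← h2, localDim_fibre_eq R _ p'.asIdeal (j x)]
      have hspec : specMap R (Synt.RelGCIRing R (n + 1) (c + 1) (F' R n c F h)) =
          Spec.map (CommRingCat.ofHom (alpha0 R n c F h).toRingHom) ≫
            specMap R (Synt.RelGCIRing R n c F) := by
        rw [← Spec.map_comp, ← CommRingCat.ofHom_comp]
        show Spec.map (CommRingCat.ofHom (algebraMap R
          (Synt.RelGCIRing R (n + 1) (c + 1) (F' R n c F h)))) = _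
        rw [← (alpha0 R n c F h).comp_algebraMap]
        rfl
      rw [hspec, fibreDimAt_openImmersion]
      have h3 : n + 1 - (c + 1) = n - c := by omega
      rw [h3]
      apply hW
      intro hmem
      have hmem' : alpha0 R n c F h (gEl R n c F h) ∈
          (j x).asIdeal.comap (Algebra.TensorProduct.includeRight (R := R)
            (A := p'.asIdeal.ResidueField)
            (B := Synt.RelGCIRing R (n + 1) (c + 1) (F' R n c F h))).toRingHom := hmem
      have hprime : ((j x).asIdeal.comap (Algebra.TensorProduct.includeRight (R := R)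
          (A := p'.asIdeal.ResidueField)
          (B := Synt.RelGCIRing R (n + 1) (c + 1) (F' R n c F h))).toRingHom).IsPrime :=
        Ideal.comap_isPrime _ _
      exact hprime.ne_top (Ideal.eq_top_of_isUnit_mem _ hmem'
        (isUnit_iff_exists_inv.mpr ⟨_, alpha0_g_mul R n c F h⟩))
    · haveI := x.isPrime
      exact le_localDim p'.asIdeal.ResidueField (n + 1) (c + 1) _ _ hk' x.asIdeal
  simp_rw [hconst]
  exact ciSup_const

end

end Groth.Agent.Helper2.RelGCI
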