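import Mathlib
import Groth.Prelude.Def_RegImm
import Groth.Prelude.Def_Flat
import Groth.Agent.Lib.Helper2.RelGCI8
import Groth.Agent.S0402

/-!
# Shrinking to a relative global complete intersection around a fibre of the right dimension
-/

set_option autoImplicit false
universe u

namespace Groth.Agent.Helper2.RelGCI

open MvPolynomial Groth.Agent.Helper2.FCR Groth.Agent.Helper2.SyntLCI TensorProduct
  Groth.Agent.Helper2.GCILoc IsLocalRing Groth.Agent.Helper2.AwayIso

theorem isUnit_smul_one {k A : Type*} [Field k] [CommRing A] [Algebra k A] (a : k) (ha : a ≠ 0) :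
    IsUnit (a • (1 : A)) := by
  rw [← Algebra.algebraMap_eq_smul_one]
  exact (isUnit_iff_ne_zero.mpr ha).map _

section Denoms

variable {R S : Type u} [CommRing R] [CommRing S] [Algebra R S] (p : Ideal R) [hp : p.IsPrime]

/-- clearing denominators in the fibre ring -/
theorem exists_clear_fibre (b : p.Fiber S) :
    ∃ t, t ∉ p ∧ ∃ s : S, algebraMap R p.ResidueField t • b = (1 : p.ResidueField) ⊗ₜ[R] s := by
  induction b using TensorProduct.induction_on with
  | zero =>
    exact ⟨1, fun h => hp.ne_top ((Ideal.eq_top_iff_one _).mpr h), 0, by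
      rw [smul_zero, TensorProduct.tmul_zero]⟩
  | tmul a s =>
    obtain ⟨t, ht, a₁, e⟩ := exists_field_denom p a
    refine ⟨t, ht, a₁ • s, ?_⟩
    rw [TensorProduct.smul_tmul', smul_eq_mul, e, TensorProduct.tmul_smul,
      TensorProduct.smul_tmul', Algebra.smul_def, mul_one]
  | add b₁ b₂ h₁ h₂ =>
    obtain ⟨t₁, ht₁, s₁, e₁⟩ := h₁
    obtain ⟨t₂, ht₂, s₂, e₂⟩ := h₂
    refine ⟨t₁ * t₂, fun h => (hp.mem_or_mem h).elim ht₁ ht₂, t₂ • s₁ + t₁ • s₂, ?_⟩
    rw [smul_add, map_mul, TensorProduct.tmul_add]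
    congr 1
    · rw [mul_comm, mul_smul, e₁, TensorProduct.tmul_smul, algebraMap_smul]
    · rw [mul_smul, e₂, TensorProduct.tmul_smul, algebraMap_smul]

/-- an element of an extended ideal of the fibre ring comes from the ideal up to a unit -/
theorem exists_mem_of_mem_map (J : Ideal S) (z : p.Fiber S)
    (hz : z ∈ J.map (Algebra.TensorProduct.includeRight (R := R) (A := p.ResidueField)
      (B := S)).toRingHom) :
    ∃ t, t ∉ p ∧ ∃ g ∈ J, algebraMap R p.ResidueField t • z = (1 : p.ResidueField) ⊗ₜ[R] g := by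
  have h1 : (1 : R) ∉ p := fun h => hp.ne_top ((Ideal.eq_top_iff_one _).mpr h)
  rw [Ideal.map, Ideal.span] at hz
  induction hz using Submodule.span_induction with
  | mem z hz =>
    obtain ⟨g, hg, rfl⟩ := hz
    exact ⟨1, h1, g, hg, by rw [map_one, one_smul]; rfl⟩
  | zero => exact ⟨1, h1, 0, J.zero_mem, by rw [smul_zero, TensorProduct.tmul_zero]⟩
  | add z₁ z₂ _ _ h₁ h₂ =>
    obtain ⟨t₁, ht₁, g₁, hg₁, e₁⟩ := h₁
    obtain ⟨t₂, ht₂, g₂, hg₂, e₂⟩ := h₂
    refine ⟨t₁ * t₂, fun h => (hp.mem_or_mem h).elim ht₁ ht₂, t₂ • g₁ + t₁ • g₂,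
      J.add_mem (Submodule.smul_of_tower_mem J t₂ hg₁) (Submodule.smul_of_tower_mem J t₁ hg₂), ?_⟩
    rw [smul_add, map_mul, TensorProduct.tmul_add]
    congr 1
    · rw [mul_comm, mul_smul, e₁, TensorProduct.tmul_smul, algebraMap_smul]
    · rw [mul_smul, e₂, TensorProduct.tmul_smul, algebraMap_smul]
  | smul b z _ h₁ =>
    obtain ⟨t₁, ht₁, g₁, hg₁, e₁⟩ := h₁
    obtain ⟨t₂, ht₂, s₂, e₂⟩ := exists_clear_fibre p b
    refine ⟨t₂ * t₁, fun h => (hp.mem_or_mem h).elim ht₂ ht₁, s₂ * g₁, J.mul_mem_left _ hg₁, ?_⟩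
    rw [smul_eq_mul, map_mul, mul_smul_mul_comm, e₁, e₂, Algebra.TensorProduct.tmul_mul_tmul,
      mul_one]

end Denoms

section Shrink

open AlgebraicGeometry CategoryTheory Groth.Agent.Helper16.RingFibDim

variable (R : Type u) [CommRing R] (n c : ℕ) (F : Fin c → MvPolynomial (Fin n) R)

/-- the closed set of points of `Spec S` where the fibre dimension exceeds `n - c` -/
theorem exists_ideal_bad : ∃ J : Ideal (Synt.RelGCIRing R n c F),
    ∀ q : PrimeSpectrum (Synt.RelGCIRing R n c F),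
      ¬ J ≤ q.asIdeal ↔
        FlatMor.fibreDimAt (specMap R (Synt.RelGCIRing R n c F)) q ≤ ((n - c : ℕ) : WithBot ℕ∞) := by
  have hopen := Groth.Agent.S0402.result (specMap R (Synt.RelGCIRing R n c F)) (n - c)
  have hcl : IsClosed ({q : PrimeSpectrum (Synt.RelGCIRing R n c F) |
      FlatMor.fibreDimAt (specMap R (Synt.RelGCIRing R n c F)) q ≤ ((n - c : ℕ) : WithBot ℕ∞)}ᶜ) :=
    isClosed_compl_iff.mpr hopen
  obtain ⟨J, hJ⟩ := (PrimeSpectrum.isClosed_iff_zeroLocus_ideal _).mp hcl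
  refine ⟨J, fun q => ?_⟩
  have h1 : q ∈ PrimeSpectrum.zeroLocus (J : Set (Synt.RelGCIRing R n c F)) ↔ J ≤ q.asIdeal :=
    PrimeSpectrum.mem_zeroLocus _ _
  rw [← h1, ← hJ, Set.mem_compl_iff, not_not]
  rfl

/-- **Shrinking around a fibre.** -/
theorem exists_away_of_fibre_dim (p : Ideal R) [hp : p.IsPrime]
    (hdim : c ≤ n ∧ ringKrullDim (p.Fiber (Synt.RelGCIRing R n c F)) = ((n - c : ℕ) : WithBot ℕ∞)) :
    ∃ h : MvPolynomial (Fin n) R,
      IsUnit ((1 : p.ResidueField) ⊗ₜ[R] (Ideal.Quotient.mk (Ideal.span (Set.range F)) h) :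
        p.Fiber (Synt.RelGCIRing R n c F)) ∧
      Synt.IsRelGCI R (n + 1) (c + 1) (F' R n c F h) ∧
      Nonempty (Localization.Away (Ideal.Quotient.mk (Ideal.span (Set.range F)) h) ≃ₐ[R]
        Synt.RelGCIRing R (n + 1) (c + 1) (F' R n c F h)) := by
  obtain ⟨hcn, hd⟩ := hdim
  obtain ⟨J, hJ⟩ := exists_ideal_bad R n c F
  -- the extension of `J` to the fibre ring is the unit ideal
  have htop : J.map (Algebra.TensorProduct.includeRight (R := R) (A := p.ResidueField)
      (B := Synt.RelGCIRing R n c F)).toRingHom = ⊤ := by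
    by_contra hne
    obtain ⟨Q, hQmax, hJQ⟩ := Ideal.exists_le_maximal _ hne
    have hQp : Q.IsPrime := @Ideal.IsMaximal.isPrime _
      (inferInstance : CommSemiring (p.Fiber (Synt.RelGCIRing R n c F))) Q hQmax
    let Qs : PrimeSpectrum (p.Fiber (Synt.RelGCIRing R n c F)) := ⟨Q, hQp⟩
    have h1 := localDim_fibre_eq R (Synt.RelGCIRing R n c F) p Qs
    have h2 : FlatMor.localDim (PrimeSpectrum (p.Fiber (Synt.RelGCIRing R n c F))) Qs ≤
        ((n - c : ℕ) : WithBot ℕ∞) := by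
      refine (Groth.Agent.Helper9.TopDim.localDim_le_dim Qs).trans ?_
      rw [PrimeSpectrum.topologicalKrullDim_eq_ringKrullDim, hd]
    rw [h1] at h2
    have h3 := (hJ _).mpr h2
    apply h3
    intro x hx
    show x ∈ Q.comap _
    exact hJQ (Ideal.mem_map_of_mem _ hx)
  obtain ⟨t, ht, g, hg, e⟩ := exists_mem_of_mem_map p J 1 (by rw [htop]; trivial)
  obtain ⟨h, rfl⟩ := Ideal.Quotient.mk_surjective g
  refine ⟨h, ?_, ?_, ⟨awayEquiv R n c F h⟩⟩
  · rw [← e]
    have hu : IsUnit (algebraMap R p.ResidueField t) := by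
      rw [isUnit_iff_ne_zero, ne_eq, Ideal.algebraMap_residueField_eq_zero]
      exact ht
    exact isUnit_smul_one (A := p.Fiber (Synt.RelGCIRing R n c F)) _ hu.ne_zero
  · apply isRelGCI_away R n c F h hcn
    intro q hq
    apply (hJ q).mp
    intro hle
    exact hq (hle hg)

end Shrink

end Groth.Agent.Helper2.RelGCI
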