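import Mathlib
import Groth.Prelude.Def_RegImm
import Groth.Prelude.Def_Flat
import Groth.Agent.Lib.Helper2.RelGCI9

/-!
# Lifting a relative global complete intersection modulo an ideal
-/

set_option autoImplicit false
universe u

namespace Groth.Agent.Helper2.RelGCI

open MvPolynomial Groth.Agent.Helper2.FCR Groth.Agent.Helper2.SyntLCI TensorProduct
  Groth.Agent.Helper2.GCILoc IsLocalRing Groth.Agent.Helper2.AwayIso

section Transfer

variable (R : Type u) [CommRing R] (n c : ℕ) (F : Fin c → MvPolynomial (Fin n) R) (I : Ideal R)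

/-- the reduced system of equations -/
noncomputable abbrev Fbar : Fin c → MvPolynomial (Fin n) (R ⧸ I) :=
  fun i => MvPolynomial.map (Ideal.Quotient.mk I) (F i)

/-- the fibre rings of `R[x]/(F)` and of its reduction modulo `I` over corresponding primes are
isomorphic -/
theorem nonempty_fibre_ringEquiv (p : Ideal R) [hp : p.IsPrime] (pb : Ideal (R ⧸ I)) [hpb : pb.IsPrime]
    (hpp : p = pb.comap (Ideal.Quotient.mk I)) :
    ringKrullDim (p.Fiber (Synt.RelGCIRing R n c F)) =
        ringKrullDim (pb.Fiber (Synt.RelGCIRing (R ⧸ I) n c (Fbar R n c F I))) ∧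
      (Nontrivial (p.Fiber (Synt.RelGCIRing R n c F)) →
        Nontrivial (pb.Fiber (Synt.RelGCIRing (R ⧸ I) n c (Fbar R n c F I)))) := by
  let φ : MvPolynomial (Fin n) R →ₐ[R] Synt.RelGCIRing R n c F :=
    Ideal.Quotient.mkₐ R (Ideal.span (Set.range F))
  have hφ : Function.Surjective φ := Ideal.Quotient.mk_surjective
  have hker : RingHom.ker φ.toRingHom = Ideal.span (Set.range F) := Ideal.mk_ker
  let φb : MvPolynomial (Fin n) (R ⧸ I) →ₐ[R ⧸ I] Synt.RelGCIRing (R ⧸ I) n c (Fbar R n c F I) :=
    Ideal.Quotient.mkₐ (R ⧸ I) (Ideal.span (Set.range (Fbar R n c F I)))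
  have hφb : Function.Surjective φb := Ideal.Quotient.mk_surjective
  have hkerb : RingHom.ker φb.toRingHom = Ideal.span (Set.range (Fbar R n c F I)) := Ideal.mk_ker
  let e := Ideal.quotientKerAlgEquivOfSurjective (phik_surjective n φ hφ p)
  let eb := Ideal.quotientKerAlgEquivOfSurjective (phik_surjective n φb hφb pb)
  have hk : RingHom.ker (phik n φ p) = Ideal.span (Set.range (fun i => mu n p (F i))) := by
    have h1 : RingHom.ker (phik n φ p) = (RingHom.ker φ.toRingHom).map (mu n p) :=
      ker_phik n φ hφ p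
    rw [h1, hker, Ideal.map_span, ← Set.range_comp]
    rfl
  have hkb : RingHom.ker (phik n φb pb) =
      Ideal.span (Set.range (fun i => mu n pb (Fbar R n c F I i))) := by
    have h1 : RingHom.ker (phik n φb pb) = (RingHom.ker φb.toRingHom).map (mu n pb) :=
      ker_phik n φb hφb pb
    rw [h1, hkerb, Ideal.map_span, ← Set.range_comp]
    rfl
  -- the residue fields
  have hbij := RingHom.SurjectiveOnStalks.residueFieldMap_bijective
    (RingHom.surjectiveOnStalks_of_surjective (Ideal.Quotient.mk_surjective (I := I))) p pb hpp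
  let σ : p.ResidueField ≃+* pb.ResidueField := RingEquiv.ofBijective _ hbij
  have hσ : ∀ r : R, σ (algebraMap R p.ResidueField r) =
      algebraMap (R ⧸ I) pb.ResidueField (Ideal.Quotient.mk I r) := fun r =>
    Ideal.ResidueField.map_algebraMap p pb (Ideal.Quotient.mk I) hpp r
  have hJ : RingHom.ker (phik n φb pb) =
      (RingHom.ker (phik n φ p)).map ((mapEquiv (Fin n) σ : MvPolynomial (Fin n) p.ResidueField ≃+*
        MvPolynomial (Fin n) pb.ResidueField) : MvPolynomial (Fin n) p.ResidueField →+*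
        MvPolynomial (Fin n) pb.ResidueField) := by
    have hgen : ∀ J : Ideal (MvPolynomial (Fin n) p.ResidueField),
        J = Ideal.span (Set.range (fun i => mu n p (F i))) →
        Ideal.span (Set.range (fun i => mu n pb (Fbar R n c F I i))) =
        J.map ((mapEquiv (Fin n) σ : MvPolynomial (Fin n) p.ResidueField ≃+*
          MvPolynomial (Fin n) pb.ResidueField) : MvPolynomial (Fin n) p.ResidueField →+*
          MvPolynomial (Fin n) pb.ResidueField) := by
      rintro J rfl
      rw [Ideal.map_span, ← Set.range_comp]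
      congr 2
      funext i
      simp only [Function.comp_apply, RingEquiv.coe_toRingHom, mapEquiv_apply]
      have hc : (algebraMap (R ⧸ I) pb.ResidueField).comp (Ideal.Quotient.mk I) =
          (σ : p.ResidueField →+* pb.ResidueField).comp (algebraMap R p.ResidueField) :=
        RingHom.ext fun r => (hσ r).symm
      show MvPolynomial.map (algebraMap (R ⧸ I) pb.ResidueField)
        (MvPolynomial.map (Ideal.Quotient.mk I) (F i)) =
        MvPolynomial.map (σ : p.ResidueField →+* pb.ResidueField)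
          (MvPolynomial.map (algebraMap R p.ResidueField) (F i))
      rw [MvPolynomial.map_map, MvPolynomial.map_map, hc]
    rw [hkb]
    exact hgen _ hk
  refine ⟨?_, fun hnt => ?_⟩
  · exact ((ringKrullDim_eq_of_ringEquiv e.toRingEquiv).symm.trans
      (ringKrullDim_eq_of_ringEquiv (Ideal.quotientEquiv _ _ (mapEquiv (Fin n) σ) hJ))).trans
      (ringKrullDim_eq_of_ringEquiv eb.toRingEquiv)
  · haveI := hnt
    haveI h1 : Nontrivial (MvPolynomial (Fin n) p.ResidueField ⧸ RingHom.ker (phik n φ p)) :=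
      e.symm.toRingEquiv.injective.nontrivial
    haveI h2 : Nontrivial (MvPolynomial (Fin n) pb.ResidueField ⧸ RingHom.ker (phik n φb pb)) :=
      (Ideal.quotientEquiv _ _ (mapEquiv (Fin n) σ) hJ).injective.nontrivial
    exact eb.toRingEquiv.injective.nontrivial

end Transfer

section Lift

open AlgebraicGeometry CategoryTheory Groth.Agent.Helper16.RingFibDim

variable (R : Type u) [CommRing R] (n c : ℕ) (F : Fin c → MvPolynomial (Fin n) R) (I : Ideal R)

/-- at the points of `V(IS)` the fibre dimension is `n - c` -/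
theorem fibreDimAt_le_of_mod (hI : Synt.IsRelGCI (R ⧸ I) n c (Fbar R n c F I))
    (q : PrimeSpectrum (Synt.RelGCIRing R n c F))
    (hq : I.map (algebraMap R (Synt.RelGCIRing R n c F)) ≤ q.asIdeal) :
    c ≤ n ∧ FlatMor.fibreDimAt (specMap R (Synt.RelGCIRing R n c F)) q ≤
      ((n - c : ℕ) : WithBot ℕ∞) := by
  let pP : PrimeSpectrum R := PrimeSpectrum.comap (algebraMap R (Synt.RelGCIRing R n c F)) q
  let Q₀ : PrimeSpectrum (pP.asIdeal.Fiber (Synt.RelGCIRing R n c F)) :=
    PrimeSpectrum.preimageHomeomorphFiber R (Synt.RelGCIRing R n c F) pP ⟨q, rfl⟩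
  have hQ₀ : Q₀.asIdeal.comap (Algebra.TensorProduct.includeRight.toRingHom) = q.asIdeal := by
    have := (PrimeSpectrum.preimageHomeomorphFiber R (Synt.RelGCIRing R n c F) pP).symm_apply_apply
      ⟨q, rfl⟩
    exact congrArg (fun z => z.1.asIdeal) this
  have h1 := localDim_eq_fibreDimAt R (Synt.RelGCIRing R n c F) q Q₀ hQ₀
  haveI hnt : Nontrivial (pP.asIdeal.Fiber (Synt.RelGCIRing R n c F)) :=
    ⟨⟨0, 1, fun h01 => Q₀.isPrime.ne_top
      ((Ideal.eq_top_iff_one _).mpr (h01 ▸ Q₀.asIdeal.zero_mem))⟩⟩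
  have hIp : I ≤ pP.asIdeal := by
    intro r hr
    show algebraMap R (Synt.RelGCIRing R n c F) r ∈ q.asIdeal
    exact hq (Ideal.mem_map_of_mem _ hr)
  haveI hpb : (pP.asIdeal.map (Ideal.Quotient.mk I)).IsPrime :=
    Ideal.map_isPrime_of_surjective Ideal.Quotient.mk_surjective (by rw [Ideal.mk_ker]; exact hIp)
  have hpp : pP.asIdeal = (pP.asIdeal.map (Ideal.Quotient.mk I)).comap (Ideal.Quotient.mk I) := by
    rw [Ideal.comap_map_of_surjective _ Ideal.Quotient.mk_surjective,
      ← RingHom.ker_eq_comap_bot, Ideal.mk_ker]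
    exact (sup_eq_left.mpr hIp).symm
  obtain ⟨hε, hε'⟩ := nonempty_fibre_ringEquiv R n c F I pP.asIdeal
    (pP.asIdeal.map (Ideal.Quotient.mk I)) hpp
  haveI hnt' : Nontrivial ((pP.asIdeal.map (Ideal.Quotient.mk I)).Fiber
      (Synt.RelGCIRing (R ⧸ I) n c (Fbar R n c F I))) := hε' hnt
  obtain ⟨hcn, hdim⟩ := hI ⟨_, hpb⟩ hnt'
  refine ⟨hcn, ?_⟩
  rw [← h1]
  refine (Groth.Agent.Helper9.TopDim.localDim_le_dim Q₀).trans ?_
  rw [PrimeSpectrum.topologicalKrullDim_eq_ringKrullDim, hε, hdim]

/-- **Lifting a relative global complete intersection modulo `I`.** -/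
theorem exists_away_of_mod (hI : Synt.IsRelGCI (R ⧸ I) n c (Fbar R n c F I)) :
    ∃ h : MvPolynomial (Fin n) R,
      Ideal.Quotient.mk (I.map (algebraMap R (Synt.RelGCIRing R n c F)))
        (Ideal.Quotient.mk (Ideal.span (Set.range F)) h) = 1 ∧
      Synt.IsRelGCI R (n + 1) (c + 1) (F' R n c F h) ∧
      Nonempty (Localization.Away (Ideal.Quotient.mk (Ideal.span (Set.range F)) h) ≃ₐ[R]
        Synt.RelGCIRing R (n + 1) (c + 1) (F' R n c F h)) := by
  obtain ⟨J, hJ⟩ := exists_ideal_bad R n c F
  by_cases htop : I.map (algebraMap R (Synt.RelGCIRing R n c F)) = ⊤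
  · -- the reduction is the zero ring
    refine ⟨0, ?_, ?_, ⟨awayEquiv R n c F 0⟩⟩
    · haveI : Subsingleton (Synt.RelGCIRing R n c F ⧸
          I.map (algebraMap R (Synt.RelGCIRing R n c F))) :=
        Ideal.Quotient.subsingleton_iff.mpr htop
      exact Subsingleton.elim _ _
    · intro p' hnt
      exfalso
      haveI : Subsingleton (Localization.Away (gEl R n c F 0)) :=
        IsLocalization.subsingleton (M := Submonoid.powers (gEl R n c F 0))
          (by rw [gEl, map_zero]; exact Submonoid.mem_powers _)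
      haveI : Subsingleton (Synt.RelGCIRing R (n + 1) (c + 1) (F' R n c F 0)) :=
        (awayEquiv R n c F 0).symm.injective.subsingleton
      haveI : Subsingleton (p'.asIdeal.Fiber (Synt.RelGCIRing R (n + 1) (c + 1) (F' R n c F 0))) := by
        refine ⟨fun a b => ?_⟩
        suffices hz : ∀ z : p'.asIdeal.Fiber (Synt.RelGCIRing R (n + 1) (c + 1) (F' R n c F 0)),
            z = 0 by rw [hz a, hz b]
        intro z
        induction z using TensorProduct.induction_on with
        | zero => rfl
        | tmul a s => rw [Subsingleton.elim s 0, TensorProduct.tmul_zero]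
        | add z₁ z₂ h₁ h₂ => rw [h₁, h₂, add_zero]
      exact not_subsingleton _ ‹_›
  · -- the main case
    have hsup : J ⊔ I.map (algebraMap R (Synt.RelGCIRing R n c F)) = ⊤ := by
      by_contra hne
      obtain ⟨Q, hQmax, hle⟩ := Ideal.exists_le_maximal _ hne
      let q : PrimeSpectrum (Synt.RelGCIRing R n c F) := ⟨Q, hQmax.isPrime⟩
      obtain ⟨-, h2⟩ := fibreDimAt_le_of_mod R n c F I hI q (le_sup_right.trans hle)
      exact (hJ q).mpr h2 (le_sup_left.trans hle)
    obtain ⟨q₀, hq₀max, hq₀⟩ := Ideal.exists_le_maximal _ htop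
    obtain ⟨hcn, -⟩ := fibreDimAt_le_of_mod R n c F I hI ⟨q₀, hq₀max.isPrime⟩ hq₀
    have h1 : (1 : Synt.RelGCIRing R n c F) ∈
        J ⊔ I.map (algebraMap R (Synt.RelGCIRing R n c F)) := by
      rw [hsup]; trivial
    obtain ⟨g, hg, y, hy, hgy⟩ := Submodule.mem_sup.mp h1
    obtain ⟨h, rfl⟩ := Ideal.Quotient.mk_surjective g
    refine ⟨h, ?_, ?_, ⟨awayEquiv R n c F h⟩⟩
    · have h2 : Ideal.Quotient.mk (I.map (algebraMap R (Synt.RelGCIRing R n c F)))
          (Ideal.Quotient.mk (Ideal.span (Set.range F)) h + y) = 1 := by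
        rw [hgy, map_one]
      rwa [map_add, Ideal.Quotient.eq_zero_iff_mem.mpr hy, add_zero] at h2
    · apply isRelGCI_away R n c F h hcn
      intro q hq
      apply (hJ q).mp
      intro hle
      exact hq (hle hg)

end Lift

end Groth.Agent.Helper2.RelGCI
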