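import Mathlib
import Groth.Prelude.Def_RegImm
import Groth.Prelude.Def_Flat
import Groth.Agent.Lib.Helper2.RelGCI10

/-!
# Syntomic algebras are locally relative global complete intersections (I)
-/

set_option autoImplicit false
universe u

namespace Groth.Agent.Helper2.SyntRel

open MvPolynomial Groth.Agent.Helper2.FCR Groth.Agent.Helper2.SyntLCI TensorProduct
  Groth.Agent.Helper2.GCILoc IsLocalRing Groth.Agent.Helper2.AwayIso Groth.Agent.Helper2.RelGCI

section Field

variable (k : Type u) [Field k] (n : ℕ) (I : Ideal (MvPolynomial (Fin n) k))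
  (q : Ideal (MvPolynomial (Fin n) k ⧸ I)) [hq : q.IsPrime]

include k in
/-- the local dimension of `Spec k[x]/I` at `q` is `ht q + δ` where `ht q' + δ = n` -/
theorem exists_localDim_eq : ∃ δ : ℕ,
    FlatMor.localDim (PrimeSpectrum (MvPolynomial (Fin n) k ⧸ I)) ⟨q, hq⟩ =
      ((q.height : ℕ∞) : WithBot ℕ∞) + (δ : WithBot ℕ∞) ∧
    (q.comap (Ideal.Quotient.mk I)).height + (δ : ℕ∞) = (n : ℕ∞) := by
  obtain ⟨δ, hδ, hq'δ, -⟩ := exists_delta k n I q
  haveI : IsDomain ((MvPolynomial (Fin n) k ⧸ I) ⧸ q) := Ideal.Quotient.isDomain q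
  obtain ⟨m, hm1, hm2, -⟩ := Groth.Agent.S2680.result k ((MvPolynomial (Fin n) k ⧸ I) ⧸ q)
  have hmδ : m = δ := by
    rw [hδ] at hm2
    exact_mod_cast hm2.symm
  have htr : Algebra.trdeg k ((MvPolynomial (Fin n) k ⧸ I) ⧸ q) = δ := by
    haveI : Algebra.IsAlgebraic ((MvPolynomial (Fin n) k ⧸ I) ⧸ q)
        (FractionRing ((MvPolynomial (Fin n) k ⧸ I) ⧸ q)) :=
      IsLocalization.isAlgebraic _ (nonZeroDivisors ((MvPolynomial (Fin n) k ⧸ I) ⧸ q))
    have t1 := _root_.trdeg_add_eq k ((MvPolynomial (Fin n) k ⧸ I) ⧸ q)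
      (A := FractionRing ((MvPolynomial (Fin n) k ⧸ I) ⧸ q))
    have t2 : Algebra.trdeg ((MvPolynomial (Fin n) k ⧸ I) ⧸ q)
        (FractionRing ((MvPolynomial (Fin n) k ⧸ I) ⧸ q)) = 0 := _root_.trdeg_eq_zero
    rw [t2, add_zero] at t1
    rw [t1, hm1, hmδ]
  exact ⟨δ, Groth.Agent.Helper14.LocalDimSpec.localDim_eq k _ q δ htr, hq'δ⟩

/-- if `I` is generated near `q'` by a regular sequence of length `c`, the local dimension at `q`
is `n - c` -/
theorem localDim_of_regular (c : ℕ)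
    (rs : List (Localization.AtPrime (q.comap (Ideal.Quotient.mk I))))
    (hreg : RingTheory.Sequence.IsRegular (Localization.AtPrime (q.comap (Ideal.Quotient.mk I))) rs)
    (hlen : rs.length = c)
    (hrs : Ideal.ofList rs =
      I.map (algebraMap _ (Localization.AtPrime (q.comap (Ideal.Quotient.mk I))))) :
    c ≤ n ∧ FlatMor.localDim (PrimeSpectrum (MvPolynomial (Fin n) k ⧸ I)) ⟨q, hq⟩ =
      ((n - c : ℕ) : WithBot ℕ∞) := by
  haveI hq'p : (q.comap (Ideal.Quotient.mk I)).IsPrime := Ideal.comap_isPrime _ _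
  obtain ⟨δ, hloc, hq'δ⟩ := exists_localDim_eq k n I q
  have hdq := Groth.Agent.S9171.dim_quot k n I q
  have hL := IsLocalization.AtPrime.ringKrullDim_eq_height (q.comap (Ideal.Quotient.mk I))
    (Localization.AtPrime (q.comap (Ideal.Quotient.mk I)))
  have h1 := ringKrullDim_add_length_eq_ringKrullDim_of_isRegular rs hreg
  rw [hrs, hdq, hL, hlen] at h1
  have hfin' : (q.comap (Ideal.Quotient.mk I)).height ≠ ⊤ := Ideal.height_ne_top_of_isPrime
  obtain ⟨a, ha⟩ := ENat.ne_top_iff_exists.mp hfin'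
  rw [← ha] at h1 hq'δ
  have hfin : q.height ≠ ⊤ := by
    intro htop
    rw [htop] at h1
    exact absurd h1 (by
      intro h
      have : ((⊤ : ℕ∞) : WithBot ℕ∞) + (c : WithBot ℕ∞) = ((⊤ : ℕ∞) : WithBot ℕ∞) := by
        rw [← WithBot.coe_natCast, ← WithBot.coe_add, top_add]
      rw [this] at h
      exact absurd (WithBot.coe_injective h) (by simp))
  obtain ⟨η, hη⟩ := ENat.ne_top_iff_exists.mp hfin
  rw [hloc, ← hη]
  rw [← hη] at h1
  have e1 : a + δ = n := by exact_mod_cast hq'δ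
  have e2 : η + c = a := by exact_mod_cast h1
  refine ⟨by omega, ?_⟩
  have : η + δ = n - c := by omega
  rw [← this]
  push_cast
  rfl

end Field

end Groth.Agent.Helper2.SyntRel
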