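import Mathlib
import Groth.Prelude.Def_RegImm
import Groth.Prelude.Def_Flat
import Groth.Agent.Lib.Helper2.SyntRel1

/-!
# Syntomic algebras are locally relative global complete intersections (II): the fibre dimension
of the algebra cut out by lifts of a regular sequence of the fibre
-/

set_option autoImplicit false
universe u

namespace Groth.Agent.Helper2.SyntRel

open MvPolynomial Groth.Agent.Helper2.FCR Groth.Agent.Helper2.SyntLCI TensorProduct
  Groth.Agent.Helper2.GCILoc IsLocalRing Groth.Agent.Helper2.AwayIso Groth.Agent.Helper2.RelGCI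

section Stage2

open AlgebraicGeometry CategoryTheory Groth.Agent.Helper16.RingFibDim

variable {R : Type u} [CommRing R] (n : ℕ) (p : Ideal R) [hp : p.IsPrime]
  (q' : Ideal (MvPolynomial (Fin n) p.ResidueField)) [hq' : q'.IsPrime]

theorem span_range_get {A : Type u} [CommRing A] (l : List A) :
    Ideal.span (Set.range l.get) = Ideal.ofList l := by
  rw [Set.range_list_get]

theorem stage2 (l₀ : List (MvPolynomial (Fin n) R)) (rs : List (Localization.AtPrime q'))
    (hreg : RingTheory.Sequence.IsRegular (Localization.AtPrime q') rs)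
    (hfa : List.Forall₂ (fun a r => ∃ s, s ∉ q'.comap (mu n p) ∧
      psi n p q' a = psi n p q' s * r) l₀ rs) :
    l₀.length ≤ n ∧ ∀ q₁ : PrimeSpectrum (Synt.RelGCIRing R n l₀.length l₀.get),
      q₁.asIdeal.comap (Ideal.Quotient.mk (Ideal.span (Set.range l₀.get))) = q'.comap (mu n p) →
      FlatMor.fibreDimAt (specMap R (Synt.RelGCIRing R n l₀.length l₀.get)) q₁ ≤
        ((n - l₀.length : ℕ) : WithBot ℕ∞) := by
  haveI h𝔮 : (q'.comap (mu n p)).IsPrime := Ideal.comap_isPrime _ _
  have hM := fibModel_psi n p q'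
  have hmap := hM.map_ofList_eq hfa
  let φ₁ : MvPolynomial (Fin n) R →ₐ[R] Synt.RelGCIRing R n l₀.length l₀.get :=
    Ideal.Quotient.mkₐ R (Ideal.span (Set.range l₀.get))
  have hφ₁ : Function.Surjective φ₁ := Ideal.Quotient.mk_surjective
  have hker₁ : RingHom.ker φ₁.toRingHom = Ideal.ofList l₀ := by
    rw [← span_range_get]
    exact Ideal.mk_ker
  let e₁ := Ideal.quotientKerAlgEquivOfSurjective (phik_surjective n φ₁ hφ₁ p)
  have he₁ : ∀ y, e₁ (Ideal.Quotient.mk _ y) = phik n φ₁ p y := fun y => rfl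
  have hJ₁ : RingHom.ker (phik n φ₁ p) = (Ideal.ofList l₀).map (mu n p) := by
    have h1 : RingHom.ker (phik n φ₁ p) = (RingHom.ker φ₁.toRingHom).map (mu n p) :=
      ker_phik n φ₁ hφ₁ p
    rw [h1, hker₁]
  -- the regular sequence lies in the maximal ideal
  have hrsm : Ideal.ofList rs ≤ maximalIdeal (Localization.AtPrime q') := by
    apply IsLocalRing.le_maximalIdeal
    intro htop
    exact hreg.2 (by rw [htop, Submodule.top_smul])
  have hl₀ : Ideal.ofList l₀ ≤ q'.comap (mu n p) := by
    intro a ha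
    rw [Ideal.mem_comap]
    have h1 : psi n p q' a ∈ Ideal.ofList rs := by
      rw [← hmap]
      exact Ideal.mem_map_of_mem _ ha
    have h2 := hrsm h1
    exact (IsLocalization.AtPrime.to_map_mem_maximal_iff (Localization.AtPrime q') q' _).mp h2
  have hJ₁q' : RingHom.ker (phik n φ₁ p) ≤ q' := by
    rw [hJ₁, Ideal.map_le_iff_le_comap]
    exact hl₀
  -- the prime of the fibre
  haveI hQ₁ : (q'.map (Ideal.Quotient.mk (RingHom.ker (phik n φ₁ p)))).IsPrime :=
    Ideal.map_isPrime_of_surjective Ideal.Quotient.mk_surjective (by rw [Ideal.mk_ker]; exact hJ₁q')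
  have hQ₁c : (q'.map (Ideal.Quotient.mk (RingHom.ker (phik n φ₁ p)))).comap
      (Ideal.Quotient.mk (RingHom.ker (phik n φ₁ p))) = q' := by
    rw [Ideal.comap_map_of_surjective _ Ideal.Quotient.mk_surjective,
      ← RingHom.ker_eq_comap_bot, Ideal.mk_ker]
    exact sup_eq_left.mpr hJ₁q'
  -- transport of the regular sequence
  have key : ∀ (q'' : Ideal (MvPolynomial (Fin n) p.ResidueField)) [q''.IsPrime], q'' = q' →
      ∃ rs'' : List (Localization.AtPrime q''),
        RingTheory.Sequence.IsRegular (Localization.AtPrime q'') rs'' ∧ rs''.length = l₀.length ∧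
        Ideal.ofList rs'' = (RingHom.ker (phik n φ₁ p)).map (algebraMap _ (Localization.AtPrime q'')) := by
    rintro q'' _ rfl
    refine ⟨rs, hreg, hfa.length_eq.symm, ?_⟩
    have hgen : ∀ J : Ideal (MvPolynomial (Fin n) p.ResidueField),
        J = (Ideal.ofList l₀).map (mu n p) →
        Ideal.ofList rs = J.map (algebraMap _ (Localization.AtPrime q'')) := by
      rintro J rfl
      rw [Ideal.map_map]
      exact hmap.symm
    exact hgen _ hJ₁
  obtain ⟨rs'', hreg'', hlen'', hrs''⟩ := key _ hQ₁c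
  obtain ⟨hcn, hloc⟩ := localDim_of_regular p.ResidueField n (RingHom.ker (phik n φ₁ p))
    (q'.map (Ideal.Quotient.mk (RingHom.ker (phik n φ₁ p)))) l₀.length rs'' hreg'' hlen'' hrs''
  refine ⟨hcn, fun q₁ hq₁ => ?_⟩
  let x : PrimeSpectrum (MvPolynomial (Fin n) p.ResidueField ⧸ RingHom.ker (phik n φ₁ p)) :=
    ⟨q'.map (Ideal.Quotient.mk (RingHom.ker (phik n φ₁ p))), hQ₁⟩
  let j := PrimeSpectrum.homeomorphOfRingEquiv
    (R := MvPolynomial (Fin n) p.ResidueField ⧸ RingHom.ker (phik n φ₁ p))
    (S := p.Fiber (Synt.RelGCIRing R n l₀.length l₀.get)) e₁.toRingEquiv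
  have h2 := Groth.Agent.Helper14.FibreChart.localDim_openEmbedding j j.isOpenEmbedding x
  have h3 := localDim_fibre_eq R (Synt.RelGCIRing R n l₀.length l₀.get) p (j x)
  have hq₁eq : q₁ = ⟨(j x).asIdeal.comap (Algebra.TensorProduct.includeRight (R := R)
      (A := p.ResidueField) (B := Synt.RelGCIRing R n l₀.length l₀.get)).toRingHom,
      Ideal.comap_isPrime _ _⟩ := by
    apply PrimeSpectrum.ext
    apply Ideal.comap_injective_of_surjective (Ideal.Quotient.mk (Ideal.span (Set.range l₀.get)))
      Ideal.Quotient.mk_surjective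
    rw [hq₁]
    ext a
    rw [Ideal.mem_comap, Ideal.mem_comap, Ideal.mem_comap]
    have h4 : (Algebra.TensorProduct.includeRight (R := R) (A := p.ResidueField)
        (B := Synt.RelGCIRing R n l₀.length l₀.get)).toRingHom
        (Ideal.Quotient.mk (Ideal.span (Set.range l₀.get)) a) =
        e₁ (Ideal.Quotient.mk _ (mu n p a)) := by
      rw [he₁, phik_mu]
      rfl
    rw [h4]
    have h6 : e₁.toRingEquiv.symm (e₁ (Ideal.Quotient.mk _ (mu n p a))) =
        Ideal.Quotient.mk _ (mu n p a) := e₁.symm_apply_apply _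
    constructor
    · intro h
      show e₁.toRingEquiv.symm (e₁ (Ideal.Quotient.mk _ (mu n p a))) ∈ x.asIdeal
      rw [h6]
      exact Ideal.mem_map_of_mem _ h
    · intro h
      have h7 : mu n p a ∈ (q'.map (Ideal.Quotient.mk (RingHom.ker (phik n φ₁ p)))).comap
          (Ideal.Quotient.mk (RingHom.ker (phik n φ₁ p))) := by
        rw [Ideal.mem_comap, ← h6]
        exact h
      rwa [hQ₁c] at h7
  rw [hq₁eq, ← h3, h2, hloc]

end Stage2

end Groth.Agent.Helper2.SyntRel
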