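import Mathlib
import Groth.Prelude.Def_RegImm
import Groth.Prelude.Def_Flat
import Groth.Agent.Lib.Helper2.SyntRel2

/-!
# Syntomic algebras are locally relative global complete intersections (III)
-/

set_option autoImplicit false
universe u

namespace Groth.Agent.Helper2.SyntRel

open MvPolynomial Groth.Agent.Helper2.FCR Groth.Agent.Helper2.SyntLCI TensorProduct
  Groth.Agent.Helper2.GCILoc IsLocalRing Groth.Agent.Helper2.AwayIso Groth.Agent.Helper2.RelGCI

section Stage4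

variable {R P T : Type u} [CommRing R] [CommRing P] [CommRing T] [Algebra R P] [Algebra R T]

theorem nonempty_away_equiv_of_le (φ : P →ₐ[R] T) (hφ : Function.Surjective φ) (I₁ : Ideal P)
    (hle : I₁ ≤ RingHom.ker φ.toRingHom) (h : P)
    (hK : ∀ a ∈ RingHom.ker φ.toRingHom, h * a ∈ I₁) :
    Nonempty (Localization.Away (φ h) ≃ₐ[R] Localization.Away (Ideal.Quotient.mk I₁ h)) := by
  let ψ : P ⧸ I₁ →ₐ[R] T := Ideal.Quotient.liftₐ I₁ φ (fun a ha => hle ha)
  have hψ : ∀ a, ψ (Ideal.Quotient.mk I₁ a) = φ a := fun a => rfl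
  have hinj : Function.Injective (Localization.awayMap ψ.toRingHom (Ideal.Quotient.mk I₁ h)) := by
    rw [Localization.awayMap_injective_iff]
    intro a ha
    obtain ⟨a', rfl⟩ := Ideal.Quotient.mk_surjective a
    refine ⟨1, ?_⟩
    rw [pow_one, ← map_mul]
    exact Ideal.Quotient.eq_zero_iff_mem.mpr (hK a' ha)
  have hsurj : Function.Surjective (Localization.awayMap ψ.toRingHom (Ideal.Quotient.mk I₁ h)) := by
    rw [Localization.awayMap_surjective_iff]
    intro a
    obtain ⟨a', rfl⟩ := hφ a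
    exact ⟨Ideal.Quotient.mk I₁ a', 0, by rw [pow_zero, one_mul]; rfl⟩
  have e : Localization.Away (Ideal.Quotient.mk I₁ h) ≃ₐ[R]
      Localization.Away (ψ (Ideal.Quotient.mk I₁ h)) :=
    AlgEquiv.ofBijective (Localization.awayMapₐ ψ (Ideal.Quotient.mk I₁ h)) ⟨hinj, hsurj⟩
  exact ⟨e.symm⟩

end Stage4

section Core

open AlgebraicGeometry CategoryTheory Groth.Agent.Helper16.RingFibDim

variable {R T : Type u} [CommRing R] [CommRing T] [Algebra R T]

theorem core_aux [Module.Flat R T] (n : ℕ) (φ : MvPolynomial (Fin n) R →ₐ[R] T)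
    (hφ : Function.Surjective φ) (hfg : (RingHom.ker φ.toRingHom).FG)
    (𝔮T : Ideal T) [h𝔮T : 𝔮T.IsPrime] (p : Ideal R) [hp : p.IsPrime]
    (q' : Ideal (MvPolynomial (Fin n) p.ResidueField)) [hq' : q'.IsPrime]
    (h𝔮eq : q'.comap (mu n p) = 𝔮T.comap φ.toRingHom)
    (rs : List (Localization.AtPrime q'))
    (hreg : RingTheory.Sequence.IsRegular (Localization.AtPrime q') rs)
    (hrs : Ideal.ofList rs = (RingHom.ker (phik n φ p)).map
      (algebraMap _ (Localization.AtPrime q'))) :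
    ∃ t : T, t ∉ 𝔮T ∧ ∃ (n c : ℕ) (F : Fin c → MvPolynomial (Fin n) R), Synt.IsRelGCI R n c F ∧
      Nonempty (Localization.Away t ≃ₐ[R] Synt.RelGCIRing R n c F) := by
  haveI h𝔮' : (q'.comap (mu n p)).IsPrime := Ideal.comap_isPrime _ _
  have hM' := fibModel_psi n p q'
  have hk : RingHom.ker (phik n φ p) = (RingHom.ker φ.toRingHom).map (mu n p) :=
    ker_phik n φ hφ p
  have hIrs : Ideal.ofList rs = (RingHom.ker φ.toRingHom).map (psi n p q') := by
    rw [hrs]
    have hgen : ∀ J : Ideal (MvPolynomial (Fin n) p.ResidueField),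
        J = (RingHom.ker φ.toRingHom).map (mu n p) →
        J.map (algebraMap (MvPolynomial (Fin n) p.ResidueField) (Localization.AtPrime q')) =
        (RingHom.ker φ.toRingHom).map (psi n p q') := by
      intro J hJ
      rw [hJ, Ideal.map_map]
    exact hgen _ hk
  have hrs' : ∀ r ∈ rs, r ∈ (RingHom.ker φ.toRingHom).map (psi n p q') := by
    intro r hr
    rw [← hIrs]
    exact Ideal.subset_span hr
  obtain ⟨l₀, hl₀, hfa⟩ := hM'.exists_lifts (RingHom.ker φ.toRingHom) rs hrs'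
  have hcont : ∀ a ∈ RingHom.ker φ.toRingHom, ∃ s, s ∉ q'.comap (mu n p) ∧
      s * a ∈ ((q'.comap (mu n p)).comap (algebraMap R (MvPolynomial (Fin n) R))).map
        (algebraMap R (MvPolynomial (Fin n) R)) ⊔ Ideal.ofList l₀ := by
    intro a ha
    apply hM'.pullback_mem
    rw [hM'.map_ofList_eq hfa, hIrs]
    exact Ideal.mem_map_of_mem _ ha
  have hK𝔮 : RingHom.ker φ.toRingHom ≤ q'.comap (mu n p) := by
    rw [h𝔮eq]
    intro a ha
    rw [Ideal.mem_comap, RingHom.mem_ker.mp ha]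
    exact 𝔮T.zero_mem
  haveI : Module.Flat R (MvPolynomial (Fin n) R ⧸ RingHom.ker φ.toRingHom) :=
    Module.Flat.of_linearEquiv (Ideal.quotientKerAlgEquivOfSurjective hφ).toLinearEquiv
  obtain ⟨g₂, hg₂, hnak⟩ := nak_step (R := R) (RingHom.ker φ.toRingHom) hfg (q'.comap (mu n p))
    l₀ hl₀ (fun a ha => by
      obtain ⟨s, hs, h⟩ := hcont a ha
      exact ⟨s, hs, h⟩)
  obtain ⟨hcn, hfd⟩ := stage2 n p q' l₀ rs hreg hfa
  have hF : Ideal.span (Set.range l₀.get) = Ideal.ofList l₀ := span_range_get l₀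
  have hFK : Ideal.span (Set.range l₀.get) ≤ RingHom.ker φ.toRingHom := by
    rw [hF, Ideal.ofList, Ideal.span_le]
    exact fun a ha => hl₀ a ha
  haveI hq₁p : ((q'.comap (mu n p)).map (Ideal.Quotient.mk (Ideal.span (Set.range l₀.get)))).IsPrime :=
    Ideal.map_isPrime_of_surjective Ideal.Quotient.mk_surjective
      (by rw [Ideal.mk_ker]; exact hFK.trans hK𝔮)
  have hq₁c : ((q'.comap (mu n p)).map (Ideal.Quotient.mk (Ideal.span (Set.range l₀.get)))).comap
      (Ideal.Quotient.mk (Ideal.span (Set.range l₀.get))) = q'.comap (mu n p) := by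
    rw [Ideal.comap_map_of_surjective _ Ideal.Quotient.mk_surjective,
      ← RingHom.ker_eq_comap_bot, Ideal.mk_ker]
    exact sup_eq_left.mpr (hFK.trans hK𝔮)
  obtain ⟨J, hJ⟩ := exists_ideal_bad R n l₀.length l₀.get
  have hnot : ¬ J ≤ (q'.comap (mu n p)).map (Ideal.Quotient.mk (Ideal.span (Set.range l₀.get))) :=
    (hJ ⟨_, hq₁p⟩).mpr (hfd ⟨_, hq₁p⟩ hq₁c)
  obtain ⟨g₃, hg₃J, hg₃⟩ := SetLike.not_le_iff_exists.mp hnot
  obtain ⟨h₃, rfl⟩ := Ideal.Quotient.mk_surjective g₃
  have hh₃ : h₃ ∉ q'.comap (mu n p) := fun hmem => hg₃ (Ideal.mem_map_of_mem _ hmem)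
  have hh : g₂ * h₃ ∉ q'.comap (mu n p) := fun hmem => (h𝔮'.mem_or_mem hmem).elim hg₂ hh₃
  have hrel := isRelGCI_away R n l₀.length l₀.get (g₂ * h₃) hcn (fun q hq => by
    apply (hJ q).mp
    intro hle
    apply hq
    rw [gEl, map_mul]
    exact Ideal.mul_mem_left _ _ (hle hg₃J))
  obtain ⟨iso₂⟩ := nonempty_away_equiv_of_le φ hφ (Ideal.span (Set.range l₀.get)) hFK (g₂ * h₃)
    (fun a ha => by
      rw [hF]
      have h1 := hnak a ha
      have h2 : g₂ * h₃ * a = h₃ * (g₂ * a) := by ring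
      rw [h2]
      exact Ideal.mul_mem_left _ _ h1)
  refine ⟨φ (g₂ * h₃), ?_, n + 1, l₀.length + 1, F' R n l₀.length l₀.get (g₂ * h₃), hrel,
    ⟨iso₂.trans (awayEquiv R n l₀.length l₀.get (g₂ * h₃))⟩⟩
  intro hmem
  apply hh
  rw [h𝔮eq]
  exact hmem

/-- **A syntomic algebra is locally a relative global complete intersection.** -/
theorem exists_away_relGCI (hsy : Synt.IsSyntomic R T) (𝔮T : Ideal T) [h𝔮T : 𝔮T.IsPrime] :
    ∃ t : T, t ∉ 𝔮T ∧ ∃ (n c : ℕ) (F : Fin c → MvPolynomial (Fin n) R), Synt.IsRelGCI R n c F ∧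
      Nonempty (Localization.Away t ≃ₐ[R] Synt.RelGCIRing R n c F) := by
  obtain ⟨hflat, hfp, hfib⟩ := hsy
  obtain ⟨n, φ, hφ, hfg⟩ := hfp.out
  have hφ' : Function.Surjective φ.toRingHom := hφ
  haveI h𝔮 : (𝔮T.comap φ.toRingHom).IsPrime := Ideal.comap_isPrime _ _
  have hI𝔮 : RingHom.ker φ.toRingHom ≤ 𝔮T.comap φ.toRingHom := by
    intro a ha
    rw [Ideal.mem_comap, RingHom.mem_ker.mp ha]
    exact 𝔮T.zero_mem
  haveI hp : ((𝔮T.comap φ.toRingHom).comap (algebraMap R (MvPolynomial (Fin n) R))).IsPrime :=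
    Ideal.comap_isPrime _ _
  -- the prime of `T`
  have hqSeq : (𝔮T.comap φ.toRingHom).map φ.toRingHom = 𝔮T :=
    Ideal.map_comap_of_surjective _ hφ' 𝔮T
  have halg : algebraMap R T = φ.toRingHom.comp (algebraMap R (MvPolynomial (Fin n) R)) := by
    ext r
    exact (φ.commutes r).symm
  haveI hlies : 𝔮T.LiesOver
      ((𝔮T.comap φ.toRingHom).comap (algebraMap R (MvPolynomial (Fin n) R))) := by
    constructor
    rw [Ideal.under_def, halg, ← Ideal.comap_comap]
  -- the prime of the fibre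
  let Q' : PrimeSpectrum
      (((𝔮T.comap φ.toRingHom).comap (algebraMap R (MvPolynomial (Fin n) R))).Fiber T) :=
    PrimeSpectrum.primesOverOrderIsoFiber R T
      ((𝔮T.comap φ.toRingHom).comap (algebraMap R (MvPolynomial (Fin n) R))) ⟨𝔮T, ⟨h𝔮T, hlies⟩⟩
  have hQ' : Q'.asIdeal.comap (Algebra.TensorProduct.includeRight (R := R)
      (A := ((𝔮T.comap φ.toRingHom).comap (algebraMap R (MvPolynomial (Fin n) R))).ResidueField)
      (B := T)).toRingHom = 𝔮T := by
    have h1 := (PrimeSpectrum.primesOverOrderIsoFiber R T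
      ((𝔮T.comap φ.toRingHom).comap (algebraMap R (MvPolynomial (Fin n) R)))).symm_apply_apply
      ⟨𝔮T, ⟨h𝔮T, hlies⟩⟩
    have h2 := congrArg Subtype.val h1
    rw [PrimeSpectrum.coe_primesOverOrderIsoFiber_symm_apply] at h2
    exact h2
  obtain ⟨g, hg, hGCI⟩ := (hfib ⟨_, hp⟩).2 Q'
  -- the presentation of the fibre
  let e := Ideal.quotientKerAlgEquivOfSurjective (phik_surjective n φ hφ
    ((𝔮T.comap φ.toRingHom).comap (algebraMap R (MvPolynomial (Fin n) R))))
  have he : ∀ y, e (Ideal.Quotient.mk _ y) = phik n φ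
    ((𝔮T.comap φ.toRingHom).comap (algebraMap R (MvPolynomial (Fin n) R))) y := fun y => rfl
  haveI hq : (Q'.asIdeal.comap e).IsPrime := Ideal.comap_isPrime _ _
  have hg' : e.symm g ∉ Q'.asIdeal.comap e := by
    intro hmem
    rw [Ideal.mem_comap] at hmem
    apply hg
    have h1 : e (e.symm g) = g := e.apply_symm_apply g
    rwa [h1] at hmem
  have hGCI' := globalCI_away_equiv e.symm g hGCI
  obtain ⟨c₀, hc₀⟩ := exists_c _ n (RingHom.ker (phik n φ
    ((𝔮T.comap φ.toRingHom).comap (algebraMap R (MvPolynomial (Fin n) R)))))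
    (Q'.asIdeal.comap e)
  obtain ⟨rs, hreg, hrs⟩ := ((Groth.Agent.S9171.main _ n (RingHom.ker (phik n φ
    ((𝔮T.comap φ.toRingHom).comap (algebraMap R (MvPolynomial (Fin n) R)))))
    (Q'.asIdeal.comap e) c₀ hc₀).2).mp ⟨e.symm g, hg', hGCI'⟩
  -- the prime of `κ(p)[x]`
  haveI hq'p : ((Q'.asIdeal.comap e).comap
      (Ideal.Quotient.mk (RingHom.ker (phik n φ
        ((𝔮T.comap φ.toRingHom).comap (algebraMap R (MvPolynomial (Fin n) R))))))).IsPrime :=
    Ideal.comap_isPrime _ _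
  have h𝔮eq : ((Q'.asIdeal.comap e).comap
      (Ideal.Quotient.mk (RingHom.ker (phik n φ
        ((𝔮T.comap φ.toRingHom).comap (algebraMap R (MvPolynomial (Fin n) R))))))).comap
      (mu n ((𝔮T.comap φ.toRingHom).comap (algebraMap R (MvPolynomial (Fin n) R)))) =
      𝔮T.comap φ.toRingHom := by
    ext x
    rw [Ideal.mem_comap, Ideal.mem_comap, Ideal.mem_comap]
    have h1 : e (Ideal.Quotient.mk _ (mu n
        ((𝔮T.comap φ.toRingHom).comap (algebraMap R (MvPolynomial (Fin n) R))) x)) =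
        (1 : ((𝔮T.comap φ.toRingHom).comap
          (algebraMap R (MvPolynomial (Fin n) R))).ResidueField) ⊗ₜ[R] φ x := by
      rw [← phik_mu]
      exact he _
    rw [h1]
    have h2 : (1 : ((𝔮T.comap φ.toRingHom).comap
          (algebraMap R (MvPolynomial (Fin n) R))).ResidueField) ⊗ₜ[R] φ x ∈ Q'.asIdeal ↔
        φ.toRingHom x ∈ Q'.asIdeal.comap (Algebra.TensorProduct.includeRight (R := R)
          (A := ((𝔮T.comap φ.toRingHom).comap
            (algebraMap R (MvPolynomial (Fin n) R))).ResidueField) (B := T)).toRingHom := by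
      rw [Ideal.mem_comap]
      rfl
    rw [h2, hQ', Ideal.mem_comap]
  haveI := hflat
  exact core_aux n φ hφ hfg 𝔮T _ _ h𝔮eq rs hreg hrs

end Core

end Groth.Agent.Helper2.SyntRel
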