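import Mathlib
import Groth.Prelude.Def_LCI2
import Groth.Agent.Lib.Helper2.FCR6
import Groth.Agent.Lib.Helper2.SyntLCI3
import Groth.Agent.Lib.Helper2.KindDesc
import Groth.Agent.S9251

/-!
# Ring-level fibre criterion for Koszul-regular ideals, with a field extension

the quotient model of the local ring of the fibre
-/

set_option autoImplicit false
universe u

namespace Groth.Agent.Helper2.LciLoc

open Groth.Agent.Helper2.FCR

section FibQuot

variable {R P : Type u} [CommRing R] [CommRing P] [Algebra R P] (q : Ideal P) [hq : q.IsPrime]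

/-- the ideal `pP`, `p = q ∩ R` -/
abbrev pP : Ideal P := (q.comap (algebraMap R P)).map (algebraMap R P)

theorem pP_le : pP (R := R) q ≤ q := Ideal.map_comap_le

/-- the image of `q` in `P / pP` -/
abbrev qbar : Ideal (P ⧸ pP (R := R) q) := q.map (Ideal.Quotient.mk (pP (R := R) q))

theorem mem_qbar_iff (x : P) : Ideal.Quotient.mk (pP (R := R) q) x ∈ qbar (R := R) q ↔ x ∈ q := by
  constructor
  · intro h
    have h1 : x ∈ (qbar (R := R) q).comap (Ideal.Quotient.mk (pP (R := R) q)) := h
    rw [Ideal.comap_map_of_surjective _ Ideal.Quotient.mk_surjective, ← RingHom.ker_eq_comap_bot,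
      Ideal.mk_ker, sup_eq_left.mpr (pP_le q)] at h1
    exact h1
  · intro h
    exact Ideal.mem_map_of_mem _ h

instance qbar_isPrime : (qbar (R := R) q).IsPrime :=
  Ideal.map_isPrime_of_surjective Ideal.Quotient.mk_surjective (by
    rw [Ideal.mk_ker]
    exact pP_le q)

/-- the local ring of the fibre, quotient model -/
abbrev LQ : Type u := Localization.AtPrime (qbar (R := R) q)

/-- the canonical map to the local ring of the fibre -/
noncomputable def psiQ : P →+* LQ (R := R) q :=
  (algebraMap (P ⧸ pP (R := R) q) (LQ (R := R) q)).comp (Ideal.Quotient.mk (pP (R := R) q))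

theorem fibModel_psiQ : FibModel R q (psiQ (R := R) q) := by
  refine ⟨?_, ?_, ?_, ?_⟩
  · intro s hs
    have h1 : Ideal.Quotient.mk (pP (R := R) q) s ∈ (qbar (R := R) q).primeCompl := by
      intro h
      exact hs ((mem_qbar_iff q s).mp h)
    exact IsLocalization.map_units (LQ (R := R) q) ⟨_, h1⟩
  · intro y
    obtain ⟨c, t, rfl⟩ := IsLocalization.exists_mk'_eq (qbar (R := R) q).primeCompl y
    obtain ⟨x, rfl⟩ := Ideal.Quotient.mk_surjective c
    obtain ⟨s, hs⟩ := Ideal.Quotient.mk_surjective t.1
    have hsq : s ∉ q := by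
      intro h
      apply t.2
      rw [← hs]
      exact (mem_qbar_iff q s).mpr h
    refine ⟨s, hsq, x, ?_⟩
    show algebraMap (P ⧸ pP (R := R) q) (LQ (R := R) q) (Ideal.Quotient.mk (pP (R := R) q) s) * _ =
      algebraMap (P ⧸ pP (R := R) q) (LQ (R := R) q) (Ideal.Quotient.mk (pP (R := R) q) x)
    rw [hs, IsLocalization.mk'_spec']
  · intro x hx
    have h1 : algebraMap (P ⧸ pP (R := R) q) (LQ (R := R) q)
        (Ideal.Quotient.mk (pP (R := R) q) x) = 0 := hx
    rw [IsLocalization.map_eq_zero_iff (qbar (R := R) q).primeCompl] at h1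
    obtain ⟨t, ht⟩ := h1
    obtain ⟨s, hs⟩ := Ideal.Quotient.mk_surjective t.1
    have hsq : s ∉ q := by
      intro h
      apply t.2
      rw [← hs]
      exact (mem_qbar_iff q s).mpr h
    refine ⟨s, hsq, ?_⟩
    rw [← Ideal.Quotient.eq_zero_iff_mem, map_mul, hs]
    exact ht
  · intro x hx
    show algebraMap (P ⧸ pP (R := R) q) (LQ (R := R) q) (Ideal.Quotient.mk (pP (R := R) q) x) = 0
    rw [Ideal.Quotient.eq_zero_iff_mem.mpr hx, map_zero]

end FibQuot

section Flat

open TensorProduct

attribute [local instance] Algebra.TensorProduct.rightAlgebra in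
theorem isPushout_quot {R P : Type u} [CommRing R] [CommRing P] [Algebra R P] (p : Ideal R) :
    Algebra.IsPushout R (R ⧸ p) P (P ⧸ p.map (algebraMap R P)) := by
  refine Algebra.IsPushout.of_equiv
    (h := (inferInstance : Algebra.IsPushout R (R ⧸ p) P ((R ⧸ p) ⊗[R] P)))
    (Algebra.TensorProduct.quotIdealMapEquivQuotTensor P p).symm ?_
  ext x
  show (Algebra.TensorProduct.quotIdealMapEquivQuotTensor P p).symm ((1 : R ⧸ p) ⊗ₜ[R] x) = _
  rw [AlgEquiv.symm_apply_eq]
  exact (Algebra.TensorProduct.quotIdealMapEquivQuotTensor_mk P p x).symm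

theorem flat_of_pushout_quot {R P K' P'' : Type u} [CommRing R] [CommRing P] [CommRing K']
    [CommRing P''] [Algebra R P] [Algebra R K'] [Algebra P P''] [Algebra K' P''] [Algebra R P'']
    [IsScalarTower R P P''] [IsScalarTower R K' P''] (p : Ideal R)
    (hpush : Algebra.IsPushout R K' P P'')
    [Algebra (R ⧸ p) K'] [IsScalarTower R (R ⧸ p) K'] [Module.Flat (R ⧸ p) K']
    [Algebra (P ⧸ p.map (algebraMap R P)) P'']
    [IsScalarTower P (P ⧸ p.map (algebraMap R P)) P''] :
    Module.Flat (P ⧸ p.map (algebraMap R P)) P'' := by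
  letI aRbP : Algebra (R ⧸ p) P'' :=
    ((algebraMap (P ⧸ p.map (algebraMap R P)) P'').comp
      (algebraMap (R ⧸ p) (P ⧸ p.map (algebraMap R P)))).toAlgebra
  haveI t1 : IsScalarTower (R ⧸ p) (P ⧸ p.map (algebraMap R P)) P'' :=
    IsScalarTower.of_algebraMap_eq (fun x => rfl)
  haveI t4 : IsScalarTower R (P ⧸ p.map (algebraMap R P)) P'' :=
    IsScalarTower.of_algebraMap_eq (fun r => by
      rw [IsScalarTower.algebraMap_apply R P (P ⧸ p.map (algebraMap R P)),
        ← IsScalarTower.algebraMap_apply P (P ⧸ p.map (algebraMap R P)) P'',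
        ← IsScalarTower.algebraMap_apply R P P''])
  haveI t2 : IsScalarTower R (R ⧸ p) P'' :=
    IsScalarTower.of_algebraMap_eq (fun r => by
      rw [IsScalarTower.algebraMap_apply (R ⧸ p) (P ⧸ p.map (algebraMap R P)) P'',
        ← IsScalarTower.algebraMap_apply R (R ⧸ p) (P ⧸ p.map (algebraMap R P)),
        ← IsScalarTower.algebraMap_apply R (P ⧸ p.map (algebraMap R P)) P''])
  haveI t3 : IsScalarTower (R ⧸ p) K' P'' :=
    IsScalarTower.of_algebraMap_eq (fun x => by
      obtain ⟨r, rfl⟩ := Ideal.Quotient.mk_surjective x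
      have h1 : algebraMap (R ⧸ p) P'' (Ideal.Quotient.mk p r) = algebraMap R P'' r :=
        (IsScalarTower.algebraMap_apply R (R ⧸ p) P'' r).symm
      have h2 : algebraMap (R ⧸ p) K' (Ideal.Quotient.mk p r) = algebraMap R K' r :=
        (IsScalarTower.algebraMap_apply R (R ⧸ p) K' r).symm
      rw [h1, h2, ← IsScalarTower.algebraMap_apply R K' P''])
  haveI hq : Algebra.IsPushout R (R ⧸ p) P (P ⧸ p.map (algebraMap R P)) := isPushout_quot p
  have h2 : Algebra.IsPushout (R ⧸ p) K' (P ⧸ p.map (algebraMap R P)) P'' :=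
    (Algebra.IsPushout.comp_iff R (R ⧸ p) P (P ⧸ p.map (algebraMap R P))).mp hpush
  have h3 := h2.symm
  exact Module.Flat.isBaseChange (R := R ⧸ p) (S := P ⧸ p.map (algebraMap R P)) (M := K') P''
    h3.out

theorem flat_of_injective_field {D K' : Type u} [CommRing D] [IsDomain D] [Field K']
    [Algebra D K'] (hinj : Function.Injective (algebraMap D K')) : Module.Flat D K' := by
  letI : Algebra (FractionRing D) K' := (IsFractionRing.lift hinj).toAlgebra
  haveI : IsScalarTower D (FractionRing D) K' :=
    IsScalarTower.of_algebraMap_eq (fun x => (IsFractionRing.lift_algebraMap hinj x).symm)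
  haveI : Module.Flat D (FractionRing D) := IsLocalization.flat _ (nonZeroDivisors D)
  exact Module.Flat.trans D (FractionRing D) K'

end Flat

section Seq

/-- an ideal generated by a Koszul-regular sequence is a Koszul-regular ideal -/
theorem kr_ideal_of_seq {A : Type u} [CommRing A] (l : List A)
    (h : LCI.IsKoszulRegularSeq A l) : LCI.IsKoszulRegularIdeal (Ideal.span {x | x ∈ l}) := by
  intro 𝔭 _
  haveI : Module.Flat A (Localization.Away (1 : A)) :=
    IsLocalization.flat _ (Submonoid.powers (1 : A))
  refine ⟨1, fun h1 => 𝔭.isPrime.ne_top ((Ideal.eq_top_iff_one _).mpr h1),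
    l.map (algebraMap A (Localization.Away (1 : A))),
    Groth.Agent.Helper2.KosReg.isKoszulRegularSeq_baseChange _ l h, ?_⟩
  rw [Ideal.map_span]
  congr 1
  ext x
  simp only [Set.mem_image, Set.mem_ofPred_eq, List.mem_map]

/-- in a Noetherian local ring, a Koszul-regular ideal contained in the maximal ideal is
generated by a weakly regular sequence -/
theorem exists_weaklyRegular_of_kr_local {L : Type u} [CommRing L] [IsLocalRing L]
    [IsNoetherianRing L] (J : Ideal L) (hJ : LCI.IsKoszulRegularIdeal J)
    (hle : J ≤ IsLocalRing.maximalIdeal L) :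
    ∃ rs : List L, RingTheory.Sequence.IsWeaklyRegular L rs ∧ Ideal.ofList rs = J := by
  obtain ⟨g, hg, l, hl, hJl⟩ := hJ ⟨IsLocalRing.maximalIdeal L, inferInstance⟩ hle
  have hgu : IsUnit g := by
    by_contra h
    exact hg ((IsLocalRing.mem_maximalIdeal g).mpr h)
  have hle' : Submonoid.powers g ≤ IsUnit.submonoid L := by
    rintro _ ⟨n, rfl⟩
    exact hgu.pow n
  let e : L ≃ₐ[L] Localization.Away g :=
    IsLocalization.atUnits L (Submonoid.powers g) (S := Localization.Away g) hle'
  have hkr : LCI.IsKoszulRegularSeq L (l.map e.symm.toRingEquiv) :=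
    Groth.Agent.Helper2.KindDesc.kind_ringEquiv RegImm.Kind.koszul (by decide)
      e.symm.toRingEquiv l hl
  have hof : Ideal.ofList (l.map e.symm.toRingEquiv) = J := by
    have h1 : Ideal.ofList (l.map e.symm.toRingEquiv) =
        (Ideal.ofList l).map (e.symm.toRingEquiv : Localization.Away g →+* L) := by
      rw [Ideal.map_ofList]
      rfl
    rw [h1]
    have h2 : Ideal.ofList l = J.map (algebraMap L (Localization.Away g)) := hJl.symm
    rw [h2, Ideal.map_map]
    have h3 : (e.symm.toRingEquiv : Localization.Away g →+* L).comp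
        (algebraMap L (Localization.Away g)) = RingHom.id L := by
      ext x
      exact e.symm.commutes x
    rw [h3, Ideal.map_id]
  refine ⟨_, Groth.Agent.Helper2.SyntLCI.isWeaklyRegular_of_kr_local _ ?_ hkr, hof⟩
  intro a ha
  apply hle
  rw [← hof]
  exact Ideal.subset_span ha

end Seq

section Main

open CategoryTheory TensorProduct

variable {R P K' P'' : Type u} [CommRing R] [CommRing P] [CommRing K'] [CommRing P'']
  [Algebra R P] [Algebra R K']

/-- **Fibre criterion with a field extension.**  `P` flat of finite presentation over `R`,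
`I` finitely generated with `P/I` flat; `P'' = K' ⊗_R P` with `K'` a field.  If `I P''` is
generated by a Koszul-regular sequence near the prime `q''`, then `I` is generated by a
Koszul-regular sequence near `q'' ∩ P`. -/
theorem ring_fc (hK : IsField K') (inl : P →+* P'') (inr : K' →+* P'')
    (hpo : IsPushout (CommRingCat.ofHom (algebraMap R P)) (CommRingCat.ofHom (algebraMap R K'))
      (CommRingCat.ofHom inl) (CommRingCat.ofHom inr))
    [Algebra.FinitePresentation R P] [Module.Flat R P] (I : Ideal P) (hI : I.FG)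
    [Module.Flat R (P ⧸ I)] (q'' : Ideal P'') [hq'' : q''.IsPrime] (hle : I.map inl ≤ q'')
    (hkr : ∃ g'', g'' ∉ q'' ∧ ∃ l'' : List (Localization.Away g''),
      LCI.IsKoszulRegularSeq (Localization.Away g'') l'' ∧
      (I.map inl).map (algebraMap P'' (Localization.Away g'')) = Ideal.span {x | x ∈ l''}) :
    ∃ g, g ∉ q''.comap inl ∧ ∃ l : List (Localization.Away g),
      LCI.IsKoszulRegularSeq (Localization.Away g) l ∧
      I.map (algebraMap P (Localization.Away g)) = Ideal.span {x | x ∈ l} := by
  classical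
  letI fK : Field K' := hK.toField
  have hw : ∀ r : R, inl (algebraMap R P r) = inr (algebraMap R K' r) := fun r => by
    have := congrArg (fun φ => φ.hom r) hpo.w
    exact this
  letI aPP : Algebra P P'' := inl.toAlgebra
  letI aKP : Algebra K' P'' := inr.toAlgebra
  letI aRP : Algebra R P'' := (inl.comp (algebraMap R P)).toAlgebra
  haveI t1 : IsScalarTower R P P'' := IsScalarTower.of_algebraMap_eq (fun r => rfl)
  haveI t2 : IsScalarTower R K' P'' := IsScalarTower.of_algebraMap_eq (fun r => hw r)
  have hpush : Algebra.IsPushout R K' P P'' := by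
    have h1 : Algebra.IsPushout R P K' P'' := CommRingCat.isPushout_iff_isPushout.mp hpo
    exact h1.symm
  -- the primes
  haveI hqp : (q''.comap inl).IsPrime := Ideal.comap_isPrime _ _
  haveI hpp : ((q''.comap inl).comap (algebraMap R P)).IsPrime := Ideal.comap_isPrime _ _
  haveI hbp : (q''.comap inr).IsPrime := Ideal.comap_isPrime _ _
  have hbot : q''.comap inr = ⊥ := Ideal.eq_bot_of_prime _
  have hpK : ∀ r : R, r ∈ (q''.comap inl).comap (algebraMap R P) ↔ algebraMap R K' r = 0 := by
    intro r
    rw [Ideal.mem_comap, Ideal.mem_comap, hw, ← Ideal.mem_comap, hbot, Ideal.mem_bot]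
  generalize hq : q''.comap inl = q at *
  -- `R / p → K'`
  letI aRbK : Algebra (R ⧸ q.comap (algebraMap R P)) K' :=
    (Ideal.Quotient.lift (q.comap (algebraMap R P)) (algebraMap R K')
      (fun r hr => (hpK r).mp hr)).toAlgebra
  haveI t3 : IsScalarTower R (R ⧸ q.comap (algebraMap R P)) K' :=
    IsScalarTower.of_algebraMap_eq (fun r => rfl)
  have hinj : Function.Injective (algebraMap (R ⧸ q.comap (algebraMap R P)) K') := by
    rw [injective_iff_map_eq_zero]
    intro x hx
    obtain ⟨r, rfl⟩ := Ideal.Quotient.mk_surjective x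
    exact Ideal.Quotient.eq_zero_iff_mem.mpr ((hpK r).mpr hx)
  haveI : IsDomain (R ⧸ q.comap (algebraMap R P)) := Ideal.Quotient.isDomain _
  haveI hflK : Module.Flat (R ⧸ q.comap (algebraMap R P)) K' := flat_of_injective_field hinj
  -- `γ : P / pP → P''`
  have hγ0 : ∀ a ∈ pP (R := R) q, inl a = 0 := by
    have : pP (R := R) q ≤ RingHom.ker inl := by
      rw [Ideal.map_le_iff_le_comap]
      intro r hr
      rw [Ideal.mem_comap, RingHom.mem_ker, hw, (hpK r).mp hr, map_zero]
    intro a ha
    exact this ha
  let γ : (P ⧸ pP (R := R) q) →+* P'' := Ideal.Quotient.lift _ inl hγ0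
  letI aCP : Algebra (P ⧸ pP (R := R) q) P'' := γ.toAlgebra
  haveI t5 : IsScalarTower P (P ⧸ pP (R := R) q) P'' :=
    IsScalarTower.of_algebraMap_eq (fun x => rfl)
  haveI hflC : Module.Flat (P ⧸ pP (R := R) q) P'' :=
    flat_of_pushout_quot (q.comap (algebraMap R P)) hpush
  have hγfl : γ.Flat := hflC
  have hcomap : qbar (R := R) q = q''.comap γ := by
    ext x
    obtain ⟨y, rfl⟩ := Ideal.Quotient.mk_surjective x
    rw [mem_qbar_iff, Ideal.mem_comap]
    have h1 : y ∈ q ↔ y ∈ q''.comap inl := by rw [hq]
    rw [h1, Ideal.mem_comap]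
    rfl
  -- the local rings
  have hΛfl : (Localization.localRingHom (qbar (R := R) q) q'' γ hcomap).Flat :=
    RingHom.Flat.localRingHom hγfl q'' _ hcomap
  letI aLL : Algebra (LQ (R := R) q) (Localization.AtPrime q'') :=
    (Localization.localRingHom (qbar (R := R) q) q'' γ hcomap).toAlgebra
  haveI hflL : Module.Flat (LQ (R := R) q) (Localization.AtPrime q'') := hΛfl
  haveI hloc : IsLocalHom (algebraMap (LQ (R := R) q) (Localization.AtPrime q'')) :=
    Localization.isLocalHom_localRingHom _ _ _ hcomap
  haveI hff : Module.FaithfullyFlat (LQ (R := R) q) (Localization.AtPrime q'') :=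
    Module.FaithfullyFlat.of_flat_of_isLocalHom
  -- Noetherianity
  haveI hNP'' : IsNoetherianRing P'' := by
    haveI : Algebra.FiniteType R P := inferInstance
    haveI : Algebra.FiniteType K' (K' ⊗[R] P) := inferInstance
    haveI : IsNoetherianRing (K' ⊗[R] P) := Algebra.FiniteType.isNoetherianRing K' _
    exact isNoetherianRing_of_ringEquiv _ (Algebra.IsPushout.equiv R K' P P'').toRingEquiv
  haveI hNL' : IsNoetherianRing (Localization.AtPrime q'') :=
    IsLocalization.isNoetherianRing q''.primeCompl _ hNP''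
  haveI hNL : IsNoetherianRing (LQ (R := R) q) := by
    rw [isNoetherianRing_iff_ideal_fg]
    intro J
    exact Ideal.FG.of_FG_map_of_faithfullyFlat (S := Localization.AtPrime q'')
      (IsNoetherian.noetherian _)
  -- the Koszul-regular ideal upstairs
  obtain ⟨g'', hg'', l'', hl'', hIl''⟩ := hkr
  have hu : IsUnit (algebraMap P'' (Localization.AtPrime q'') g'') :=
    IsLocalization.map_units (Localization.AtPrime q'') (⟨g'', hg''⟩ : q''.primeCompl)
  letI alg : Algebra (Localization.Away g'') (Localization.AtPrime q'') :=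
    (IsLocalization.Away.lift g'' hu).toAlgebra
  haveI tower : IsScalarTower P'' (Localization.Away g'') (Localization.AtPrime q'') :=
    IsScalarTower.of_algebraMap_eq (fun a => (IsLocalization.Away.lift_eq g'' hu a).symm)
  have hpow : Submonoid.powers g'' ≤ q''.primeCompl := by
    rintro _ ⟨m, rfl⟩
    exact fun h => hg'' (hq''.mem_of_pow_mem m h)
  haveI hloc2 : IsLocalization (q''.primeCompl.map (algebraMap P'' (Localization.Away g'')))
      (Localization.AtPrime q'') :=
    IsLocalization.isLocalization_of_submonoid_le (Localization.Away g'')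
      (Localization.AtPrime q'') (Submonoid.powers g'') q''.primeCompl hpow
  haveI hflat2 : Module.Flat (Localization.Away g'') (Localization.AtPrime q'') :=
    IsLocalization.flat _ (q''.primeCompl.map (algebraMap P'' (Localization.Away g'')))
  have hKR1 := Groth.Agent.Helper2.KosReg.isKoszulRegularSeq_baseChange
    (Localization.AtPrime q'') l'' hl''
  have hofl : Ideal.span {x | x ∈ l''.map (algebraMap (Localization.Away g'')
      (Localization.AtPrime q''))} =
      (I.map inl).map (algebraMap P'' (Localization.AtPrime q'')) := by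
    have h0 : Ideal.span {x | x ∈ l''.map (algebraMap (Localization.Away g'')
        (Localization.AtPrime q''))} = (Ideal.ofList l'').map (algebraMap (Localization.Away g'')
        (Localization.AtPrime q'')) := by
      rw [Ideal.map_ofList]
    have h1 : Ideal.ofList l'' =
        (I.map inl).map (algebraMap P'' (Localization.Away g'')) := hIl''.symm
    rw [h0, h1, Ideal.map_map, ← IsScalarTower.algebraMap_eq]
  have hKRI' : LCI.IsKoszulRegularIdeal
      ((I.map inl).map (algebraMap P'' (Localization.AtPrime q''))) :=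
    hofl ▸ kr_ideal_of_seq _ hKR1
  have hmm : (I.map (psiQ (R := R) q)).map
      (algebraMap (LQ (R := R) q) (Localization.AtPrime q'')) =
      (I.map inl).map (algebraMap P'' (Localization.AtPrime q'')) := by
    rw [Ideal.map_map, Ideal.map_map]
    congr 1
    ext x
    show Localization.localRingHom (qbar (R := R) q) q'' γ hcomap
      (algebraMap (P ⧸ pP (R := R) q) (LQ (R := R) q) (Ideal.Quotient.mk _ x)) = _
    rw [Localization.localRingHom_to_map]
    rfl
  have hKRI : LCI.IsKoszulRegularIdeal (I.map (psiQ (R := R) q)) :=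
    Groth.Agent.S9251.main _ (Localization.AtPrime q'') _ (hmm ▸ hKRI')
  have hIq : I ≤ q := by
    rw [← hq]
    exact Ideal.map_le_iff_le_comap.mp hle
  have hJle : I.map (psiQ (R := R) q) ≤ IsLocalRing.maximalIdeal (LQ (R := R) q) := by
    rw [Ideal.map_le_iff_le_comap]
    intro x hx
    rw [Ideal.mem_comap, ← Localization.AtPrime.map_eq_maximalIdeal]
    exact Ideal.mem_map_of_mem _ ((mem_qbar_iff q x).mpr (hIq hx))
  obtain ⟨rs, hrs, hofrs⟩ := exists_weaklyRegular_of_kr_local _ hKRI hJle
  haveI : Module.Flat R (LocalizedModule q.primeCompl P) :=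
    Groth.Agent.Helper21.FL.flat_of_isLocalizedModule q.primeCompl
      (LocalizedModule.mkLinearMap q.primeCompl P)
  exact fcr_app (R := R) I hI q (psiQ (R := R) q) (fibModel_psiQ q) rs hrs hofrs hIq

end Main

end Groth.Agent.Helper2.LciLoc
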