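import Mathlib
import Groth.Prelude.Def_RegImm
import Groth.Agent.Lib.Helper2.LciLoc1
import Groth.Agent.Lib.Helper2.LciLoc3

/-!
# Descent of Koszul points along the base change to a field (fibre criterion, scheme level)
-/

set_option autoImplicit false
universe u

open CategoryTheory CategoryTheory.Limits AlgebraicGeometry TopologicalSpace TensorProduct

namespace Groth.Agent.Helper2.LciLoc

open Groth.Agent.Helper28 Groth.Agent.Helper28.RegBC Groth.Agent.S8653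
  Groth.Agent.Helper2.KosIdeal Groth.Agent.Helper2.KRSch Groth.Agent.Helper2.KosBridge

/-- the kernel of a closed immersion lies in the prime of a point of the image -/
theorem ker_le_primeIdealOf {X Y : Scheme.{u}} (i : Y ⟶ X) (U : X.Opens) (hU : IsAffineOpen U)
    [IsClosedImmersion (i ∣_ U)] (y : Y) (hyU : i y ∈ U) :
    RingHom.ker (i.app U).hom ≤ (hU.primeIdealOf ⟨i y, hyU⟩).asIdeal := by
  have hVY : IsAffineOpen (i ⁻¹ᵁ U) := RegImmStalk.isAffineOpen_preimage i U hU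
  have h1 := IsAffineOpen.comap_primeIdealOf_appLE (f := i) (x := y) U hU (i ⁻¹ᵁ U) hVY
    (le_refl _) hyU
  rw [← h1]
  intro a ha
  show (i.appLE U (i ⁻¹ᵁ U) (le_refl _)).hom a ∈ (hVY.primeIdealOf ⟨y, hyU⟩).asIdeal
  rw [← Scheme.Hom.app_eq_appLE, (RingHom.mem_ker).mp ha]
  exact Ideal.zero_mem _

/-- **Fibre criterion, scheme level.** A closed immersion `i : T → Z` of flat, locally finitely
presented `S`-schemes, `Z` affine over an affine open of `S`; if the base change of `i` to a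
field is Koszul-regular at a point, then `i` is Koszul-regular at its image. -/
theorem regAt_descend {Z S Z' T T' : Scheme.{u}} (K : Type u) [Field K] (fZ : Z ⟶ S) [Flat fZ]
    [LocallyOfFinitePresentation fZ] [IsAffine Z] (i : T ⟶ Z) [IsClosedImmersion i]
    [Flat (i ≫ fZ)] [LocallyOfFinitePresentation (i ≫ fZ)]
    (h : Spec (CommRingCat.of K) ⟶ S) (pZ : Z' ⟶ Z) (q : Z' ⟶ Spec (CommRingCat.of K))
    (hP : IsPullback pZ q fZ h) (gT : T' ⟶ T) (i' : T' ⟶ Z') (htop : IsPullback gT i' i pZ)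
    (W : S.Opens) (hW : IsAffineOpen W) (hZW : ∀ z : Z, fZ z ∈ W)
    (t' : T') (hreg : RegImm.IsRegularImmersionAt .koszul i' t') :
    RegImm.IsRegularImmersionAt .koszul i (gT t') := by
  have hcondZ : i (gT t') = pZ (i' t') := by
    have := congrArg (fun t : T' ⟶ Z => t t') htop.w
    simpa using this
  have hcondP : ∀ z' : Z', fZ (pZ z') = h (q z') := by
    intro z'
    have := congrArg (fun t : Z' ⟶ S => t z') hP.w
    simpa using this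
  have hW'le : (⊤ : (Spec (CommRingCat.of K)).Opens) ≤ h ⁻¹ᵁ W := by
    intro y _
    show h y ∈ W
    have hy : y = q (i' t') := Subsingleton.elim _ _
    rw [hy, ← hcondP]
    exact hZW _
  have hZW' : (⊤ : Z.Opens) ≤ fZ ⁻¹ᵁ W := fun z _ => hZW z
  have hT : IsAffineOpen (⊤ : Z.Opens) := isAffineOpen_top Z
  have hT' : IsAffineOpen (⊤ : (Spec (CommRingCat.of K)).Opens) := isAffineOpen_top _
  have hO'aff : IsAffineOpen (pZ ⁻¹ᵁ ⊤ ⊓ q ⁻¹ᵁ ⊤) := by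
    haveI : IsAffine W := hW
    haveI : IsAffine (⊤ : (Spec (CommRingCat.of K)).Opens) := hT'
    haveI : IsAffine (⊤ : Z.Opens) := hT
    exact .of_isIso (Scheme.Hom.isPullback_resLE hP hW'le hZW' rfl).isoPullback.hom
  have hz'O' : i' t' ∈ pZ ⁻¹ᵁ ⊤ ⊓ q ⁻¹ᵁ ⊤ := ⟨trivial, trivial⟩
  have hO'le : pZ ⁻¹ᵁ ⊤ ⊓ q ⁻¹ᵁ ⊤ ≤ pZ ⁻¹ᵁ ⊤ := inf_le_left
  haveI : IsClosedImmersion (i ∣_ ⊤) := IsZariskiLocalAtTarget.restrict ‹_› _
  obtain ⟨hcl', hker'⟩ := ker_of_isPullback i pZ i' gT htop ⊤ hT _ hO'aff hO'le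
  haveI := hcl'
  have hiso := isIso_pushoutSection_of_isAffineOpen hP hW'le hZW'
    (rfl : pZ ⁻¹ᵁ ⊤ ⊓ q ⁻¹ᵁ ⊤ = _) hW hT' hT
  have hpo := (isIso_pushoutSection_iff hP hW'le hZW' rfl).1 hiso
  obtain ⟨g'', hg'', l'', hl'', hIl''⟩ := kr_ker_at i' _ hO'aff t' hz'O' hreg
  letI aRP : Algebra Γ(S, W) Γ(Z, ⊤) := (fZ.appLE W ⊤ hZW').hom.toAlgebra
  letI aRK : Algebra Γ(S, W) Γ(Spec (CommRingCat.of K), ⊤) := (h.appLE W ⊤ hW'le).hom.toAlgebra
  haveI hflP : Module.Flat Γ(S, W) Γ(Z, ⊤) := fZ.flat_appLE hW hT hZW'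
  haveI hfpP : Algebra.FinitePresentation Γ(S, W) Γ(Z, ⊤) :=
    fZ.finitePresentation_appLE hW hT hZW'
  have hK : IsField Γ(Spec (CommRingCat.of K), ⊤) :=
    MulEquiv.isField (Field.toIsField K)
      (Scheme.ΓSpecIso (CommRingCat.of K)).commRingCatIsoToRingEquiv.toMulEquiv
  -- the source of `i`
  have hUT : IsAffineOpen (i ⁻¹ᵁ ⊤) := RegImmStalk.isAffineOpen_preimage i ⊤ hT
  have hle2 : i ⁻¹ᵁ ⊤ ≤ (i ≫ fZ) ⁻¹ᵁ W := fun x _ => hZW _
  have h2 : (i ≫ fZ).appLE W (i ⁻¹ᵁ ⊤) hle2 = fZ.appLE W ⊤ hZW' ≫ i.app ⊤ := by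
    rw [Scheme.Hom.app_eq_appLE, Scheme.Hom.appLE_comp_appLE]
  have hsurj := RegImmStalk.app_surjective i ⊤ hT
  haveI hfl : Module.Flat Γ(S, W) (Γ(Z, ⊤) ⧸ RingHom.ker (i.app ⊤).hom) := by
    apply flat_quot_of_surjective (i.app ⊤).hom hsurj _ rfl
    have h1 := (i ≫ fZ).flat_appLE hW hUT hle2
    rw [h2] at h1
    exact h1
  have hIfg : (RingHom.ker (i.app ⊤).hom).FG := by
    letI aRT : Algebra Γ(S, W) Γ(T, i ⁻¹ᵁ ⊤) :=
      ((i.app ⊤).hom.comp (algebraMap Γ(S, W) Γ(Z, ⊤))).toAlgebra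
    haveI : Algebra.FinitePresentation Γ(S, W) Γ(T, i ⁻¹ᵁ ⊤) := by
      have h1 := (i ≫ fZ).finitePresentation_appLE hW hUT hle2
      rw [h2] at h1
      exact h1
    let ψ : Γ(Z, ⊤) →ₐ[Γ(S, W)] Γ(T, i ⁻¹ᵁ ⊤) :=
      { (i.app ⊤).hom with commutes' := fun r => rfl }
    exact Algebra.FinitePresentation.ker_fG_of_surjective ψ hsurj
  have hle : (RingHom.ker (i.app ⊤).hom).map (pZ.appLE ⊤ _ hO'le).hom ≤
      (hO'aff.primeIdealOf ⟨i' t', hz'O'⟩).asIdeal := by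
    rw [← hker']
    exact ker_le_primeIdealOf i' _ hO'aff t' hz'O'
  have hmain := ring_fc hK (pZ.appLE ⊤ _ hO'le).hom
    (q.appLE ⊤ (pZ ⁻¹ᵁ ⊤ ⊓ q ⁻¹ᵁ ⊤) inf_le_right).hom hpo
    (RingHom.ker (i.app ⊤).hom) hIfg (hO'aff.primeIdealOf ⟨i' t', hz'O'⟩).asIdeal hle
    ⟨g'', hg'', l'', hl'', by rw [← hker']; exact hIl''⟩
  obtain ⟨g, hg, l, hl, hIl⟩ := hmain
  have hprime : (hO'aff.primeIdealOf ⟨i' t', hz'O'⟩).asIdeal.comap (pZ.appLE ⊤ _ hO'le).hom =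
      (hT.primeIdealOf ⟨i (gT t'), trivial⟩).asIdeal := by
    have h3 := IsAffineOpen.comap_primeIdealOf_appLE (f := pZ) (x := i' t') ⊤ hT _ hO'aff
      hO'le hz'O'
    have h4 := congrArg PrimeSpectrum.asIdeal h3
    rw [PrimeSpectrum.comap_asIdeal] at h4
    rw [h4]
    congr 2
    exact Subtype.ext hcondZ.symm
  rw [hprime] at hg
  exact regAt_of_kr_at i ⊤ hT (gT t') trivial ⟨g, hg, l, hl, hIl⟩

/-- **Fibre criterion for Koszul points.** `X`, `Y` flat and locally finitely presented over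
`S`; if the base change of `f : X → Y` to a field `Spec K → S` is Koszul at a point, then `f` is
Koszul at its image. -/
theorem isKoszulAt_of_baseChange_field {X Y S X' Y' : Scheme.{u}} (K : Type u) [Field K]
    (f : X ⟶ Y) (g : Y ⟶ S) [Flat (f ≫ g)] [LocallyOfFinitePresentation (f ≫ g)] [Flat g]
    [LocallyOfFinitePresentation g] (h : Spec (CommRingCat.of K) ⟶ S) (gY : Y' ⟶ Y)
    (g' : Y' ⟶ Spec (CommRingCat.of K)) (hY : IsPullback gY g' g h) (gX : X' ⟶ X)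
    (f' : X' ⟶ Y') (hX : IsPullback gX (f' ≫ g') (f ≫ g) h) (w : gX ≫ f = f' ≫ gY)
    (x' : X') (hx' : Synt.IsKoszulAt f' x') : Synt.IsKoszulAt f (gX x') := by
  have hL : IsPullback gX f' f gY := isPullback_left hY hX w
  haveI : LocallyOfFiniteType f := locallyOfFiniteType_of_comp f g
  -- charts
  obtain ⟨W, hW, hsW⟩ : ∃ W : S.Opens, IsAffineOpen W ∧ g (f (gX x')) ∈ W := by
    obtain ⟨_, ⟨W, hW, rfl⟩, hsW, -⟩ := S.isBasis_affineOpens.exists_subset_of_mem_open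
      (Set.mem_univ (g (f (gX x')))) isOpen_univ
    exact ⟨W, hW, hsW⟩
  have hyW : f (gX x') ∈ g ⁻¹ᵁ W := hsW
  obtain ⟨V, hV, hyV, hVW⟩ : ∃ V : Y.Opens, IsAffineOpen V ∧ f (gX x') ∈ V ∧ V ≤ g ⁻¹ᵁ W := by
    obtain ⟨_, ⟨V, hV, rfl⟩, hyV, hVW⟩ :=
      Y.isBasis_affineOpens.exists_subset_of_mem_open hyW (g ⁻¹ᵁ W).isOpen
    exact ⟨V, hV, hyV, hVW⟩
  have hxV : gX x' ∈ f ⁻¹ᵁ V := hyV
  obtain ⟨U, hU, hxU, hUV⟩ : ∃ U : X.Opens, IsAffineOpen U ∧ gX x' ∈ U ∧ U ≤ f ⁻¹ᵁ V := by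
    obtain ⟨_, ⟨U, hU, rfl⟩, hxU, hUV⟩ :=
      X.isBasis_affineOpens.exists_subset_of_mem_open hxV (f ⁻¹ᵁ V).isOpen
    exact ⟨U, hU, hxU, hUV⟩
  have hUV' : U ≤ f ⁻¹ᵁ V := hUV
  letI := (f.appLE V U hUV').hom.toAlgebra
  have hft : Algebra.FiniteType Γ(Y, V) Γ(X, U) :=
    LocallyOfFiniteType.finiteType_appLE (f := f) hV hU hUV'
  obtain ⟨n, φ, hφ⟩ := Algebra.FiniteType.iff_quotient_mvPolynomial''.mp hft
  have hψ : (φ.toRingHom).comp MvPolynomial.C = (f.appLE V U hUV').hom := by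
    ext a
    exact φ.commutes a
  have hcomm := chart_comm f hU hV hUV' φ.toRingHom hψ
  haveI hcl := chart_closed hU φ.toRingHom hφ
  haveI hsm := chart_smooth (n := n) hV
  generalize hi₀ : hU.isoSpec.hom ≫ Spec.map (CommRingCat.ofHom φ.toRingHom) = i₀ at *
  have hπmem : ∀ z, (Spec.map (CommRingCat.ofHom
      (MvPolynomial.C : Γ(Y, V) →+* MvPolynomial (Fin n) Γ(Y, V))) ≫ hV.fromSpec) z ∈ V := by
    intro z
    rw [Scheme.Hom.comp_apply]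
    exact fromSpec_mem hV _
  generalize hπZ : Spec.map (CommRingCat.ofHom
      (MvPolynomial.C : Γ(Y, V) →+* MvPolynomial (Fin n) Γ(Y, V))) ≫ hV.fromSpec = πZ at *
  -- base change
  have hbig : IsPullback (gX ∣_ U) ((gX ⁻¹ᵁ U).ι ≫ f') (U.ι ≫ f) gY :=
    (isPullback_morphismRestrict gX U).paste_vert hL
  have hbot : IsPullback (pullback.fst πZ gY) (pullback.snd πZ gY) πZ gY :=
    IsPullback.of_hasPullback πZ gY
  let i₀' : ((gX ⁻¹ᵁ U : X'.Opens) : Scheme.{u}) ⟶ pullback πZ gY :=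
    pullback.lift ((gX ∣_ U) ≫ i₀) ((gX ⁻¹ᵁ U).ι ≫ f') (by
      rw [Category.assoc, hcomm]
      exact hbig.w)
  have hi'1 : i₀' ≫ pullback.fst πZ gY = (gX ∣_ U) ≫ i₀ := pullback.lift_fst _ _ _
  have hi'2 : i₀' ≫ pullback.snd πZ gY = (gX ⁻¹ᵁ U).ι ≫ f' := pullback.lift_snd _ _ _
  have hbig' : IsPullback (gX ∣_ U) (i₀' ≫ pullback.snd πZ gY) (i₀ ≫ πZ) gY := by
    rw [hi'2, hcomm]; exact hbig
  have htop : IsPullback (gX ∣_ U) i₀' i₀ (pullback.fst πZ gY) :=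
    IsPullback.of_bot hbig' hi'1.symm hbot
  have hP : IsPullback (pullback.fst πZ gY) (pullback.snd πZ gY ≫ g') (πZ ≫ g) h :=
    (hbot.flip.paste_horiz hY.flip).flip
  haveI : Flat (πZ ≫ g) := inferInstance
  haveI : LocallyOfFinitePresentation (πZ ≫ g) := inferInstance
  haveI : Flat (i₀ ≫ πZ ≫ g) := by
    rw [← Category.assoc, hcomm, Category.assoc]
    infer_instance
  haveI : LocallyOfFinitePresentation (i₀ ≫ πZ ≫ g) := by
    rw [← Category.assoc, hcomm, Category.assoc]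
    infer_instance
  have hZW : ∀ z, (πZ ≫ g) z ∈ W := by
    intro z
    rw [Scheme.Hom.comp_apply]
    exact hVW (hπmem z)
  haveI hcl' : IsClosedImmersion i₀' := MorphismProperty.of_isPullback htop hcl
  have hK' : Synt.IsKoszulAt ((gX ⁻¹ᵁ U).ι ≫ f') ⟨x', hxU⟩ :=
    isKoszulAt_ι_comp f' (gX ⁻¹ᵁ U) x' hxU hx'
  have hreg' := regAt_of_isKoszulAt ((gX ⁻¹ᵁ U).ι ≫ f') ⟨x', hxU⟩ hK' (pullback.snd πZ gY) i₀'
    hi'2
  have hreg := regAt_descend K (πZ ≫ g) i₀ h (pullback.fst πZ gY) (pullback.snd πZ gY ≫ g') hP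
    (gX ∣_ U) i₀' htop W hW hZW ⟨x', hxU⟩ hreg'
  have hpt : (gX ∣_ U) ⟨x', hxU⟩ = ⟨gX x', hxU⟩ := Subtype.ext (morphismRestrict_base_coe _ _ _)
  rw [hpt] at hreg
  obtain ⟨N, hxN, hKR⟩ := exists_open_kr_of_regAt i₀ _ hreg
  refine isKoszulAt_of_ι_comp f U (gX x') hxU ?_
  exact ⟨N, _, N.ι ≫ i₀, πZ, hxN, inferInstance, hKR, hsm, by rw [Category.assoc, hcomm]⟩

end Groth.Agent.Helper2.LciLoc
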