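import Mathlib
import Groth.Prelude.Def_LCI2
import Groth.Agent.Lib.Helper2.KosDescent

/-!
# Dropping superfluous generators while protecting a sub-family
-/

set_option autoImplicit false
universe u

namespace Groth.Agent.Helper2.SyntLoc

open Groth.Agent.Helper2.KosDescent Groth.Agent.Helper2.KosReg

section Drop

variable {S : Type u} [CommRing S] (𝔞 𝔟 : Ideal S) (𝔮 : Ideal S) [h𝔮 : 𝔮.IsPrime]
  (g : S) (hg : g ∉ 𝔮) (k : List (Localization.Away g))
  (h𝔞k : (𝔞.map (algebraMap S S)).map (algebraMap S (Localization.Away g)) =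
    Ideal.span {x | x ∈ k})
  {c : ℕ} (l : Fin c → S)
  (hprot : ∀ d : Fin c → S, ∑ j, d j * l j ∈ 𝔟 → ∀ j, d j ∈ 𝔮)

include hprot in
theorem relAt_append_le {s : ℕ} (F : Fin s → S) (hF : ∀ i, F i ∈ 𝔟) (j : Fin c) :
    RelAt (Fin.append F l) (Fin.natAdd s j) ≤ 𝔮 := by
  rintro x ⟨cf, hcf, rfl⟩
  rw [Fin.sum_univ_add] at hcf
  simp only [Fin.append_left, Fin.append_right] at hcf
  refine hprot (fun j => cf (Fin.natAdd s j)) ?_ j
  have h1 : ∑ j, cf (Fin.natAdd s j) * l j = - ∑ i, cf (Fin.castAdd c i) * F i :=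
    eq_neg_of_add_eq_zero_right hcf
  rw [h1]
  exact 𝔟.neg_mem (Ideal.sum_mem _ fun i _ => Ideal.mul_mem_left _ _ (hF i))

include hg h𝔞k hprot in
/-- dropping generators from the unprotected part of a generating family until the length of a
Koszul-regular chart is reached -/
theorem exists_drop_protected (hk : LCI.IsKoszulRegularSeq (Localization.Away g) k)
    (h𝔞𝔮 : 𝔞 ≤ 𝔮) (hl : ∀ j, l j ∈ 𝔞) :
    ∀ (s : ℕ) (F : Fin s → S), (∀ i, F i ∈ 𝔟) → (∀ i, F i ∈ 𝔞) → ∀ a : S, a ∉ 𝔮 →
      (∀ x ∈ 𝔞, a * x ∈ Ideal.span (Set.range (Fin.append F l))) →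
      ∃ (s' : ℕ) (F' : Fin s' → S), (∀ i, F' i ∈ 𝔟) ∧ (∀ i, F' i ∈ 𝔞) ∧ s' + c = k.length ∧
        ∃ a' : S, a' ∉ 𝔮 ∧ ∀ x ∈ 𝔞, a' * x ∈ Ideal.span (Set.range (Fin.append F' l)) := by
  intro s
  induction s using Nat.strong_induction_on with
  | _ s ih =>
    intro F hF𝔟 hF𝔞 a ha haI
    have hG𝔞 : ∀ p, Fin.append F l p ∈ 𝔞 := by
      intro p
      refine Fin.addCases (fun i => ?_) (fun j => ?_) p
      · rw [Fin.append_left]; exact hF𝔞 i
      · rw [Fin.append_right]; exact hl j
    have ha' : algebraMap S S a ∉ 𝔮 := ha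
    have h𝔞𝔮' : 𝔞.map (algebraMap S S) ≤ 𝔮 := by
      rw [Ideal.map_le_iff_le_comap]
      exact h𝔞𝔮
    obtain ⟨hsp, hImap⟩ := chart_span (A := S) (B := S) 𝔞 g k h𝔞k (Fin.append F l) hG𝔞 a haI
    have hne := chart_ne_top (A := S) (B := S) 𝔮 g hg a ha'
    have hIS : 𝔞.map (algebraMap S (ChartRing (A := S) (B := S) g a)) ≤
        𝔮.map (algebraMap S (ChartRing (A := S) (B := S) g a)) := Ideal.map_mono h𝔞𝔮
    rcases lt_trichotomy (s + c) k.length with hlt | heq | hgt
    · exfalso
      have h1 := rel_eq_top _ _ hsp.symm hlt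
      have h2 : LCI.IsKoszulRegularSeq (ChartRing (A := S) (B := S) g a)
          (List.ofFn (fun i : Fin k.length =>
            algebraMap (Localization.Away g) (ChartRing (A := S) (B := S) g a) (k.get i))) := by
        have h0 := ofFn_comp_get (algebraMap (Localization.Away g)
          (ChartRing (A := S) (B := S) g a)) k
        rw [show (fun i : Fin k.length => algebraMap _ (ChartRing (A := S) (B := S) g a)
          (k.get i)) = (algebraMap _ (ChartRing (A := S) (B := S) g a)) ∘ k.get from rfl, h0]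
        exact isKoszulRegularSeq_baseChange _ k hk
      have h3 := rel_le_of_koszulRegular' _ h2
      rw [h1, ← hsp, ← hImap] at h3
      exact hne (top_le_iff.mp (h3.trans hIS))
    · exact ⟨s, F, hF𝔟, hF𝔞, heq, a, ha, haI⟩
    · have h1 := rel_eq_top _ _ hsp hgt
      rw [rel_baseChange (ChartRing (A := S) (B := S) g a) (Fin.append F l)] at h1
      have h2 : ¬ Rel (Fin.append F l) ≤ 𝔮 := by
        intro hle
        apply hne
        rw [← top_le_iff, ← h1]
        exact Ideal.map_mono hle
      have h3 : ∃ p, ¬ RelAt (Fin.append F l) p ≤ 𝔮 := by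
        by_contra hcon
        push Not at hcon
        exact h2 (iSup_le hcon)
      obtain ⟨p, hp⟩ := h3
      -- `p` is not a protected index
      obtain ⟨i, rfl⟩ : ∃ i : Fin s, p = Fin.castAdd c i := by
        refine Fin.addCases (motive := fun p => ¬ RelAt (Fin.append F l) p ≤ 𝔮 →
          ∃ i : Fin s, p = Fin.castAdd c i) (fun i _ => ⟨i, rfl⟩) (fun j hj => ?_) p hp
        exact absurd (relAt_append_le 𝔟 𝔮 l hprot F hF𝔟 j) hj
      obtain ⟨_, ⟨cf, hcf, rfl⟩, hcfp⟩ := Set.not_subset.mp hp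
      obtain ⟨s', rfl⟩ : ∃ s', s = s' + 1 := ⟨s - 1, by have := i.2; omega⟩
      -- the smaller family
      set N : Ideal S := Ideal.span (Set.range (Fin.append (F ∘ i.succAbove) l)) with hN
      have hlN : ∀ j, l j ∈ N := fun j =>
        Ideal.subset_span ⟨Fin.natAdd s' j, by rw [Fin.append_right]⟩
      have hFN : ∀ i', i' ≠ i → F i' ∈ N := by
        intro i' hi'
        obtain ⟨z, rfl⟩ := Fin.exists_succAbove_eq hi'
        exact Ideal.subset_span ⟨Fin.castAdd c z, by rw [Fin.append_left]; rfl⟩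
      have hcfF : cf (Fin.castAdd c i) * F i ∈ N := by
        rw [Fin.sum_univ_add] at hcf
        simp only [Fin.append_left, Fin.append_right] at hcf
        rw [Fin.sum_univ_succAbove _ i] at hcf
        have h5 : cf (Fin.castAdd c i) * F i =
            - (∑ z, cf (Fin.castAdd c (i.succAbove z)) * F (i.succAbove z) +
              ∑ j, cf (Fin.natAdd (s' + 1) j) * l j) := by
          rw [eq_neg_iff_add_eq_zero, ← hcf]
          ring
        rw [h5]
        refine N.neg_mem (N.add_mem ?_ ?_)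
        · exact Ideal.sum_mem _ fun z _ => Ideal.mul_mem_left _ _ (hFN _ (Fin.succAbove_ne i z))
        · exact Ideal.sum_mem _ fun j _ => Ideal.mul_mem_left _ _ (hlN j)
      refine ih s' (by omega) (F ∘ i.succAbove) (fun z => hF𝔟 _) (fun z => hF𝔞 _)
        (a * cf (Fin.castAdd c i)) ?_ ?_
      · intro hmem
        rcases h𝔮.mem_or_mem hmem with h | h
        · exact ha h
        · exact hcfp h
      · intro x hx
        have h6 : Ideal.span (Set.range (Fin.append F l)) ≤ Ideal.span {F i} ⊔ N := by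
          rw [Ideal.span_le]
          rintro _ ⟨p, rfl⟩
          refine Fin.addCases (fun i' => ?_) (fun j => ?_) p
          · rw [Fin.append_left]
            by_cases hi' : i' = i
            · subst hi'
              exact Ideal.mem_sup_left (Ideal.subset_span rfl)
            · exact Ideal.mem_sup_right (hFN i' hi')
          · rw [Fin.append_right]
            exact Ideal.mem_sup_right (hlN j)
        obtain ⟨y, hy, n, hn, hyn⟩ := Submodule.mem_sup.mp (h6 (haI x hx))
        obtain ⟨u, rfl⟩ := Ideal.mem_span_singleton'.mp hy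
        have h7 : a * cf (Fin.castAdd c i) * x = u * (cf (Fin.castAdd c i) * F i) +
            cf (Fin.castAdd c i) * n := by
          have : a * cf (Fin.castAdd c i) * x = cf (Fin.castAdd c i) * (a * x) := by ring
          rw [this, ← hyn]
          ring
        rw [h7]
        exact N.add_mem (Ideal.mul_mem_left _ _ hcfF) (Ideal.mul_mem_left _ _ hn)

end Drop

end Groth.Agent.Helper2.SyntLoc
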