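import Mathlib
import Groth.Prelude.Def_LCI2
import Groth.Prelude.Def_ega3
import Groth.Agent.Lib.Helper2.KosComp

/-!
# Koszul-regular sequences: converse of transitivity, and Noetherianity of fibre local rings
-/

set_option autoImplicit false
universe u
open CategoryTheory CategoryTheory.Limits CochainComplex HomologicalComplex

namespace Groth.Agent.Helper2.SyntLoc

open Groth.Agent.Helper21.KL Groth.Agent.Helper21.KT Groth.Agent.Helper2.KosReg
  Groth.Agent.S15822 Groth.Agent.Helper2.KosComp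

section Conv

variable {A : Type u} [CommRing A]

/-- converse of the transitivity of Koszul-regularity: if `rs` and `ts ++ rs` are
Koszul-regular then `ts` is Koszul-regular modulo `rs` -/
theorem kr_of_append (rs ts : List A) (hrs : LCI.IsKoszulRegularSeq A rs)
    (h : LCI.IsKoszulRegularSeq A (ts ++ rs)) :
    LCI.IsKoszulRegularSeq (A ⧸ Ideal.ofList rs)
      (ts.map (Ideal.Quotient.mk (Ideal.ofList rs))) := by
  rw [isKoszulRegularSeq_iff] at h ⊢
  intro i hi
  obtain ⟨β, hβ⟩ := exists_aug_quasiIso rs hrs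
  haveI := quasiIso_KzMap β ts
  have e := isoOfQuasiIsoAt (KzMap β ts) i
  have h1 : CohIII.koszulCx (ModuleCat.of A A) (ts ++ rs) =
      Kz (CohIII.koszulCx (ModuleCat.of A A) rs) ts := by
    rw [koszulCx_eq_Kz, Kz_append, ← koszulCx_eq_Kz]
  have h2 : CohIII.koszulCx (ModuleCat.of A (A ⧸ Ideal.ofList rs)) ts =
      Kz ((single (ModuleCat.{u} A) (ComplexShape.up ℤ) 0).obj
        (ModuleCat.of A (A ⧸ Ideal.ofList rs))) ts := koszulCx_eq_Kz _ _
  apply (acycAt_restrict_iff (Ideal.Quotient.mk (Ideal.ofList rs)) (A ⧸ Ideal.ofList rs)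
    (fun b m => rfl) ts i).mpr
  unfold AcycAt
  rw [transfer h2 i]
  refine IsZero.of_iso ?_ e.symm
  rw [← transfer h1 i]
  exact h i hi

end Conv

section Noeth

variable {P S : Type u} [CommRing P] [CommRing S] [Algebra P S] [Algebra.FiniteType P S]

/-- the local ring of a fibre of a finite type algebra is Noetherian -/
theorem isNoetherianRing_fibre_local (𝔮 : Ideal S) [𝔮.IsPrime] (L : Type u) [CommRing L]
    [Algebra S L] [IsLocalization.AtPrime L 𝔮] [Algebra P L] [IsScalarTower P S L]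
    (IX : Ideal L) (hIX : IX = (𝔮.comap (algebraMap P S)).map (algebraMap P L)) :
    IsNoetherianRing (L ⧸ IX) := by
  set 𝔭 : Ideal P := 𝔮.comap (algebraMap P S) with h𝔭
  haveI : 𝔭.IsPrime := Ideal.comap_isPrime _ _
  -- the map from the residue field
  have h1 : 𝔭 ≤ RingHom.ker (algebraMap P (L ⧸ IX)) := by
    intro x hx
    rw [RingHom.mem_ker, IsScalarTower.algebraMap_apply P L (L ⧸ IX)]
    show Ideal.Quotient.mk IX (algebraMap P L x) = 0
    rw [Ideal.Quotient.eq_zero_iff_mem, hIX]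
    exact Ideal.mem_map_of_mem _ hx
  have h2 : ∀ x : P, x ∉ 𝔭 → IsUnit (algebraMap P (L ⧸ IX) x) := by
    intro x hx
    rw [IsScalarTower.algebraMap_apply P L (L ⧸ IX), IsScalarTower.algebraMap_apply P S L]
    apply IsUnit.map
    exact IsLocalization.map_units L (⟨algebraMap P S x, hx⟩ : 𝔮.primeCompl)
  letI : Algebra 𝔭.ResidueField (L ⧸ IX) :=
    (Ideal.ResidueField.lift 𝔭 (algebraMap P (L ⧸ IX)) h1 h2).toAlgebra
  haveI : IsScalarTower P 𝔭.ResidueField (L ⧸ IX) := IsScalarTower.of_algebraMap_eq (fun x => by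
    rw [RingHom.algebraMap_toAlgebra]
    exact (Ideal.ResidueField.lift_algebraMap 𝔭 _ h1 h2 x).symm)
  haveI : Algebra.EssFiniteType S L := Algebra.EssFiniteType.of_isLocalization L 𝔮.primeCompl
  haveI : Algebra.EssFiniteType P L := Algebra.EssFiniteType.comp P S L
  haveI : Algebra.FiniteType L (L ⧸ IX) :=
    Algebra.FiniteType.of_surjective (Algebra.ofId L (L ⧸ IX)) Ideal.Quotient.mk_surjective
  haveI : Algebra.EssFiniteType P (L ⧸ IX) := Algebra.EssFiniteType.comp P L (L ⧸ IX)
  haveI : Algebra.EssFiniteType 𝔭.ResidueField (L ⧸ IX) :=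
    Algebra.EssFiniteType.of_comp P 𝔭.ResidueField (L ⧸ IX)
  exact Algebra.EssFiniteType.isNoetherianRing 𝔭.ResidueField (L ⧸ IX)

end Noeth

end Groth.Agent.Helper2.SyntLoc
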