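import Mathlib
import Groth.Prelude.Def_LCI2
import Groth.Prelude.Def_ega3
import Groth.Agent.Lib.Helper2.SyntLoc1
import Groth.Agent.Lib.Helper2.SyntLCI3
import Groth.Agent.Lib.Helper2.RegNbhd1
import Groth.Agent.Lib.Helper6.LciBCA

/-!
# A Koszul-regular sequence with flat quotient is regular on the fibre local rings
-/

set_option autoImplicit false
universe u

namespace Groth.Agent.Helper2.SyntLoc

open Groth.Agent.Helper21.KL Groth.Agent.Helper2.KosReg RingTheory.Sequence TensorProduct

section Fibre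

variable {B S : Type u} [CommRing B] [CommRing S] [Algebra B S] [Module.Flat B S]
  [Algebra.FiniteType B S]

/-- a Koszul-regular sequence with flat quotient is weakly regular on the local ring of the
fibre through a prime containing it -/
theorem fibre_weaklyRegular (l : List S) (hl : LCI.IsKoszulRegularSeq S l)
    [Module.Flat B (S ⧸ Ideal.ofList l)] (𝔮 : Ideal S) [𝔮.IsPrime] (hlq : ∀ x ∈ l, x ∈ 𝔮)
    (L : Type u) [CommRing L] [Algebra S L] [IsLocalization.AtPrime L 𝔮] [Algebra B L]
    [IsScalarTower B S L]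
    (IX : Ideal L) (hIX : IX = (𝔮.comap (algebraMap B S)).map (algebraMap B L)) :
    IsWeaklyRegular (L ⧸ IX) (l.map (algebraMap S L)) := by
  subst hIX
  set 𝔭 : Ideal B := 𝔮.comap (algebraMap B S) with h𝔭
  set IX : Ideal L := 𝔭.map (algebraMap B L) with hIXdef
  haveI : Module.Flat S L := IsLocalization.flat L 𝔮.primeCompl
  haveI : Module.Flat B L := Module.Flat.trans B S L
  have hKR : LCI.IsKoszulRegularSeq L (l.map (algebraMap S L)) :=
    isKoszulRegularSeq_baseChange L l hl
  haveI hfl : Module.Flat B (L ⧸ Ideal.ofList (l.map (algebraMap S L))) := by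
    have h1 := Groth.Agent.Helper2.RegNbhd.flat_quot_map (R := B) (Ideal.ofList l) L
    rw [Ideal.map_ofList] at h1
    exact h1
  -- acyclicity on `L ⧸ IX`
  have hac : ∀ i : ℤ, i ≠ 0 → AcycAt (l.map (algebraMap S L)) (L ⧸ IX) i := by
    intro i hi
    have h1 := Groth.Agent.Helper6.LciBC.acycAt_tensor (A := B) (l.map (algebraMap S L))
      ((isKoszulRegularSeq_iff _).mp hKR) (B ⧸ 𝔭) i hi
    exact AcycAt.of_linearEquiv
      (Algebra.TensorProduct.quotIdealMapEquivTensorQuot L 𝔭).symm.toLinearEquiv h1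
  -- Koszul-regular in the quotient ring
  have hKRq : LCI.IsKoszulRegularSeq (L ⧸ IX)
      ((l.map (algebraMap S L)).map (Ideal.Quotient.mk IX)) := by
    rw [isKoszulRegularSeq_iff]
    intro i hi
    exact (acycAt_restrict_iff (Ideal.Quotient.mk IX) (L ⧸ IX) (fun b m => rfl)
      (l.map (algebraMap S L)) i).mpr (hac i hi)
  -- the quotient is a Noetherian local ring
  haveI : IsNoetherianRing (L ⧸ IX) := isNoetherianRing_fibre_local (P := B) 𝔮 L IX rfl
  haveI : IsLocalRing L := IsLocalization.AtPrime.isLocalRing L 𝔮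
  have hIXle : IX ≤ IsLocalRing.maximalIdeal L := by
    rw [hIXdef, Ideal.map_le_iff_le_comap]
    intro x hx
    rw [Ideal.mem_comap, IsScalarTower.algebraMap_apply B S L,
      IsLocalization.AtPrime.to_map_mem_maximal_iff L 𝔮]
    exact hx
  haveI : Nontrivial (L ⧸ IX) :=
    Ideal.Quotient.nontrivial_iff.mpr (fun h => (IsLocalRing.maximalIdeal.isMaximal L).ne_top
      (top_le_iff.mp (h ▸ hIXle)))
  haveI : IsLocalRing (L ⧸ IX) :=
    IsLocalRing.of_surjective' (Ideal.Quotient.mk IX) Ideal.Quotient.mk_surjective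
  haveI : IsLocalHom (Ideal.Quotient.mk IX) :=
    IsLocalHom.of_surjective (Ideal.Quotient.mk IX) Ideal.Quotient.mk_surjective
  have hmax : ∀ a ∈ (l.map (algebraMap S L)).map (Ideal.Quotient.mk IX),
      a ∈ IsLocalRing.maximalIdeal (L ⧸ IX) := by
    intro a ha
    obtain ⟨b, hb, rfl⟩ := List.mem_map.mp ha
    obtain ⟨c, hc, rfl⟩ := List.mem_map.mp hb
    have h1 : algebraMap S L c ∈ IsLocalRing.maximalIdeal L :=
      (IsLocalization.AtPrime.to_map_mem_maximal_iff L 𝔮 c).mpr (hlq c hc)
    rw [IsLocalRing.mem_maximalIdeal, mem_nonunits_iff] at h1 ⊢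
    intro hu
    exact h1 ((isUnit_map_iff (Ideal.Quotient.mk IX) _).mp hu)
  have hwr := Groth.Agent.Helper2.SyntLCI.isWeaklyRegular_of_kr_local _ hmax hKRq
  exact (isWeaklyRegular_map_algebraMap_iff (L ⧸ IX) (L ⧸ IX) (l.map (algebraMap S L))).mp hwr

end Fibre

end Groth.Agent.Helper2.SyntLoc
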