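import Mathlib

/-!
# Comparison of fibre local rings along a closed immersion of the base
-/

set_option autoImplicit false
universe u

namespace Groth.Agent.Helper2.SyntLoc

open RingTheory.Sequence

section Compare

variable {P S B Sb : Type u} [CommRing P] [CommRing S] [CommRing B] [CommRing Sb]
  [Algebra P S] [Algebra B Sb]
  (φ : P →+* B) (hφ : Function.Surjective φ) (σ : S →+* Sb) (hσ : Function.Surjective σ)
  (hcomm : σ.comp (algebraMap P S) = (algebraMap B Sb).comp φ)
  (hker : RingHom.ker σ = (RingHom.ker φ).map (algebraMap P S))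
  (𝔮 : Ideal S) [𝔮.IsPrime] (𝔮b : Ideal Sb) [𝔮b.IsPrime] (h𝔮 : 𝔮b.comap σ = 𝔮)
  (L : Type u) [CommRing L] [Algebra S L] [IsLocalization.AtPrime L 𝔮] [Algebra P L]
  [IsScalarTower P S L]
  (Lb : Type u) [CommRing Lb] [Algebra Sb Lb] [IsLocalization.AtPrime Lb 𝔮b] [Algebra B Lb]
  [IsScalarTower B Sb Lb]
  (IX : Ideal L) (hIX : IX = (𝔮.comap (algebraMap P S)).map (algebraMap P L))
  (IXb : Ideal Lb) (hIXb : IXb = (𝔮b.comap (algebraMap B Sb)).map (algebraMap B Lb))

include hφ hσ hcomm hker h𝔮 hIX hIXb in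
/-- weak regularity on the fibre local ring can be checked after killing an ideal of the base -/
theorem transfer_weaklyRegular (l : List S)
    (h : IsWeaklyRegular (Lb ⧸ IXb) ((l.map σ).map (algebraMap Sb Lb))) :
    IsWeaklyRegular (L ⧸ IX) (l.map (algebraMap S L)) := by
  have hT : Submonoid.map σ 𝔮.primeCompl = 𝔮b.primeCompl := by
    ext x
    constructor
    · rintro ⟨s, hs, rfl⟩
      intro hx
      apply hs
      rw [← h𝔮]
      exact hx
    · intro hx
      obtain ⟨s, rfl⟩ := hσ x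
      refine ⟨s, fun hs => hx ?_, rfl⟩
      rw [← h𝔮] at hs
      exact hs
  have hy : 𝔮.primeCompl ≤ Submonoid.comap σ 𝔮b.primeCompl := hT ▸ Submonoid.le_comap_map _
  set θ : L →+* Lb := IsLocalization.map Lb σ hy with hθ
  have hθcomp : θ.comp (algebraMap S L) = (algebraMap Sb Lb).comp σ := IsLocalization.map_comp hy
  have hθsurj : Function.Surjective θ := by
    intro y
    obtain ⟨sb, tb, rfl⟩ := IsLocalization.exists_mk'_eq 𝔮b.primeCompl y
    obtain ⟨s, rfl⟩ := hσ sb
    obtain ⟨t, ht⟩ := hσ tb.1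
    have htq : t ∈ 𝔮.primeCompl := by
      intro htq
      apply tb.2
      rw [← ht]
      rw [← h𝔮] at htq
      exact htq
    refine ⟨IsLocalization.mk' L s ⟨t, htq⟩, ?_⟩
    rw [hθ, IsLocalization.map_mk']
    congr 1
    exact Subtype.ext ht
  have hθker : RingHom.ker θ = (RingHom.ker σ).map (algebraMap S L) :=
    IsLocalization.ker_map (S := L) Lb σ hT
  -- the primes of the bases
  set 𝔭 : Ideal P := 𝔮.comap (algebraMap P S) with h𝔭
  set 𝔭b : Ideal B := 𝔮b.comap (algebraMap B Sb) with h𝔭b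
  have h𝔭comap : 𝔭b.comap φ = 𝔭 := by
    rw [h𝔭, h𝔭b, ← h𝔮, Ideal.comap_comap, Ideal.comap_comap, hcomm]
  have h𝔭map : 𝔭.map φ = 𝔭b := by
    rw [← h𝔭comap, Ideal.map_comap_of_surjective φ hφ]
  have hkerφ : RingHom.ker φ ≤ 𝔭 := by
    rw [← h𝔭comap]
    intro x hx
    rw [Ideal.mem_comap, (RingHom.mem_ker).mp hx]
    exact Ideal.zero_mem _
  have hPL : θ.comp (algebraMap P L) = (algebraMap B Lb).comp φ := by
    rw [IsScalarTower.algebraMap_eq P S L, ← RingHom.comp_assoc, hθcomp, RingHom.comp_assoc,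
      hcomm, ← RingHom.comp_assoc, ← IsScalarTower.algebraMap_eq B Sb Lb]
  have hIXmap : IX.map θ = IXb := by
    rw [hIX, hIXb, Ideal.map_map, hPL, ← Ideal.map_map, h𝔭map]
  have hkerle : RingHom.ker θ ≤ IX := by
    rw [hθker, hker, Ideal.map_map, ← IsScalarTower.algebraMap_eq, hIX]
    exact Ideal.map_mono hkerφ
  -- the induced ring isomorphism
  let f : L ⧸ IX →+* Lb ⧸ IXb :=
    Ideal.Quotient.lift IX ((Ideal.Quotient.mk IXb).comp θ) (fun a ha => by
      rw [RingHom.comp_apply, Ideal.Quotient.eq_zero_iff_mem, ← hIXmap]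
      exact Ideal.mem_map_of_mem θ ha)
  have hf_mk : ∀ x : L, f (Ideal.Quotient.mk IX x) = Ideal.Quotient.mk IXb (θ x) := fun x => rfl
  have hfinj : Function.Injective f := by
    rw [injective_iff_map_eq_zero]
    intro a ha
    obtain ⟨x, rfl⟩ := Ideal.Quotient.mk_surjective a
    rw [hf_mk, Ideal.Quotient.eq_zero_iff_mem, ← hIXmap,
      Ideal.mem_map_iff_of_surjective θ hθsurj] at ha
    obtain ⟨y, hy1, hy2⟩ := ha
    rw [Ideal.Quotient.eq_zero_iff_mem]
    have h1 : x - y ∈ RingHom.ker θ := by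
      rw [RingHom.mem_ker, map_sub, hy2, sub_self]
    have h2 : x = (x - y) + y := by ring
    rw [h2]
    exact IX.add_mem (hkerle h1) hy1
  have hfsurj : Function.Surjective f := by
    intro b
    obtain ⟨y, rfl⟩ := Ideal.Quotient.mk_surjective b
    obtain ⟨x, rfl⟩ := hθsurj y
    exact ⟨Ideal.Quotient.mk IX x, rfl⟩
  let e : (L ⧸ IX) ≃+ (Lb ⧸ IXb) := (RingEquiv.ofBijective f ⟨hfinj, hfsurj⟩).toAddEquiv
  refine (e.isWeaklyRegular_congr (as := l.map (algebraMap S L))
    (bs := (l.map σ).map (algebraMap Sb Lb)) ?_).mpr h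
  rw [List.map_map, List.forall₂_map_left_iff, List.forall₂_map_right_iff]
  refine List.forall₂_same.mpr fun r _ x => ?_
  obtain ⟨z, rfl⟩ := Ideal.Quotient.mk_surjective x
  show f (algebraMap S L r • Ideal.Quotient.mk IX z) =
    (algebraMap Sb Lb ∘ σ) r • f (Ideal.Quotient.mk IX z)
  have h3 : algebraMap S L r • Ideal.Quotient.mk IX z =
      Ideal.Quotient.mk IX (algebraMap S L r * z) := rfl
  rw [h3, hf_mk, hf_mk, map_mul]
  have h4 : θ (algebraMap S L r) = algebraMap Sb Lb (σ r) := congrFun (congrArg DFunLike.coe hθcomp) r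
  rw [h4]
  rfl

end Compare

end Groth.Agent.Helper2.SyntLoc
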