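import Mathlib
import Groth.Prelude.Def_LCI2
import Groth.Prelude.Def_RegImm
import Groth.Agent.Lib.Helper2.SyntLoc2
import Groth.Agent.Lib.Helper2.SyntLoc3
import Groth.Agent.Lib.Helper2.RegNbhd3

/-!
# Lifting a Koszul-regular sequence with flat quotient to a transversally regular sequence
-/

set_option autoImplicit false
universe u

namespace Groth.Agent.Helper2.SyntLoc

open RingTheory.Sequence Groth.Agent.Helper2.RegNbhd

section TransLift

variable {P S B Sb : Type u} [CommRing P] [CommRing S] [CommRing B] [CommRing Sb]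
  [Algebra P S] [Module.Flat P S] [Algebra.FinitePresentation P S]
  [Algebra B Sb] [Module.Flat B Sb] [Algebra.FiniteType B Sb]
  (φ : P →+* B) (hφ : Function.Surjective φ) (σ : S →+* Sb) (hσ : Function.Surjective σ)
  (hcomm : σ.comp (algebraMap P S) = (algebraMap B Sb).comp φ)
  (hker : RingHom.ker σ = (RingHom.ker φ).map (algebraMap P S))

include hφ hσ hcomm hker in
/-- a Koszul-regular sequence of `S / I S` with quotient flat over `P / I` lifts, near a prime,
to a sequence of `S` which is transversally regular relative to `P` -/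
theorem exists_trans_lift {c : ℕ} (lb : Fin c → Sb)
    (hlb : LCI.IsKoszulRegularSeq Sb (List.ofFn lb))
    [Module.Flat B (Sb ⧸ Ideal.ofList (List.ofFn lb))]
    (lF : Fin c → S) (hlF : ∀ j, σ (lF j) = lb j)
    (𝔮 : Ideal S) [h𝔮 : 𝔮.IsPrime] (hker𝔮 : RingHom.ker σ ≤ 𝔮) (hl𝔮 : ∀ j, lF j ∈ 𝔮) :
    ∃ g₀ : S, g₀ ∉ 𝔮 ∧ ∀ (g' : S) (T : Type u) [CommRing T] [Algebra S T]
      [IsLocalization.Away (g₀ * g') T] [Algebra P T] [IsScalarTower P S T],
      RegImm.IsTransRegularSeq P T ((List.ofFn lF).map (algebraMap S T)) := by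
  haveI h𝔮b : (𝔮.map σ).IsPrime := Ideal.map_isPrime_of_surjective hσ hker𝔮
  have hcomap : (𝔮.map σ).comap σ = 𝔮 := by
    rw [Ideal.comap_map_of_surjective σ hσ]
    apply le_antisymm
    · refine sup_le le_rfl ?_
      intro x hx
      apply hker𝔮
      rw [RingHom.mem_ker]
      exact (Ideal.mem_bot.mp hx)
    · exact le_sup_left
  -- the local rings (the algebra structures over the bases are the canonical ones)
  have hlq : ∀ x ∈ List.ofFn lb, x ∈ 𝔮.map σ := by
    intro x hx
    obtain ⟨j, rfl⟩ := (List.mem_ofFn' _ _).mp hx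
    rw [← hlF j]
    exact Ideal.mem_map_of_mem σ (hl𝔮 j)
  have h1 := fibre_weaklyRegular (B := B) (S := Sb) (List.ofFn lb) hlb (𝔮.map σ) hlq
    (Localization.AtPrime (𝔮.map σ)) _ rfl
  have hmap : (List.ofFn lF).map σ = List.ofFn lb := by
    rw [List.map_ofFn]
    congr 1
    funext j
    exact hlF j
  rw [← hmap] at h1
  have h2 := transfer_weaklyRegular φ hφ σ hσ hcomm hker 𝔮 (𝔮.map σ) hcomap
    (Localization.AtPrime 𝔮) (Localization.AtPrime (𝔮.map σ)) _ rfl _ rfl (List.ofFn lF) h1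
  haveI : Module.Flat S (Localization.AtPrime 𝔮) := IsLocalization.flat _ 𝔮.primeCompl
  haveI : Module.Flat P (Localization.AtPrime 𝔮) := Module.Flat.trans P S _
  haveI : IsNoetherianRing (Localization.AtPrime 𝔮 ⧸
      (𝔮.comap (algebraMap P S)).map (algebraMap P (Localization.AtPrime 𝔮))) :=
    isNoetherianRing_fibre_local (P := P) 𝔮 (Localization.AtPrime 𝔮) _ rfl
  have hasQ : ∀ a ∈ List.ofFn lF, a ∈ 𝔮 := by
    intro a ha
    obtain ⟨j, rfl⟩ := (List.mem_ofFn' _ _).mp ha
    exact hl𝔮 j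
  exact trans_slice (R := P) (C := S) 𝔮 (Localization.AtPrime 𝔮) _ rfl (List.ofFn lF) hasQ h2

end TransLift

end Groth.Agent.Helper2.SyntLoc
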