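import Mathlib
import Groth.Prelude.Def_LCI2
import Groth.Agent.Lib.Helper2.KosDescent2
import Groth.Agent.Lib.Helper2.KosIdeal2
import Groth.Agent.S9251

/-!
# Pointwise descent of Koszul-regularity along a flat finitely presented ring map
-/

set_option autoImplicit false
universe u

namespace Groth.Agent.Helper2.SyntLoc

open Groth.Agent.Helper2.KosDescent Groth.Agent.Helper2.KosReg Groth.Agent.Helper2.KosIdeal

section PointDescent

variable {P E : Type u} [CommRing P] [CommRing E] [Algebra P E] [Module.Flat P E]
  [Algebra.FinitePresentation P E]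

/-- if `I E` is a Koszul-regular ideal for a flat finitely presented `P`-algebra `E`, then `I`
has a Koszul-regular chart at every prime of `P` in the image of `Spec E` -/
theorem kr_chart_of_flat (I : Ideal P)
    (h : LCI.IsKoszulRegularIdeal (I.map (algebraMap P E)))
    (𝔯 : Ideal E) [h𝔯 : 𝔯.IsPrime] (hI : I ≤ 𝔯.comap (algebraMap P E)) :
    ∃ g : P, g ∉ 𝔯.comap (algebraMap P E) ∧ ∃ l : List (Localization.Away g),
      LCI.IsKoszulRegularSeq (Localization.Away g) l ∧
      I.map (algebraMap P (Localization.Away g)) = Ideal.span {x | x ∈ l} := by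
  have hopen : IsOpenMap (PrimeSpectrum.comap (algebraMap P E)) :=
    PrimeSpectrum.isOpenMap_comap_of_hasGoingDown_of_finitePresentation
  have hW : IsOpen (Set.range (PrimeSpectrum.comap (algebraMap P E))) := hopen.isOpen_range
  let 𝔭 : PrimeSpectrum P := ⟨𝔯.comap (algebraMap P E), inferInstance⟩
  have h𝔭W : 𝔭 ∈ Set.range (PrimeSpectrum.comap (algebraMap P E)) := ⟨⟨𝔯, h𝔯⟩, rfl⟩
  obtain ⟨_, ⟨G, rfl⟩, h𝔭G, hGW⟩ :=
    PrimeSpectrum.isTopologicalBasis_basic_opens.exists_subset_of_mem_open h𝔭W hW
  have hG𝔭 : G ∉ 𝔭.asIdeal := h𝔭G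
  -- the localised map
  letI : Algebra (Localization.Away G) (Localization.Away (algebraMap P E G)) :=
    (IsLocalization.Away.map (Localization.Away G) (Localization.Away (algebraMap P E G))
      (algebraMap P E) G).toAlgebra
  have hcomp := awayMap_comp (algebraMap P E) G (Localization.Away G)
    (Localization.Away (algebraMap P E G))
  haveI : IsScalarTower P (Localization.Away G) (Localization.Away (algebraMap P E G)) :=
    IsScalarTower.of_algebraMap_eq' (by
      rw [IsScalarTower.algebraMap_eq P E (Localization.Away (algebraMap P E G))]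
      exact hcomp.symm)
  haveI : Module.Flat P (Localization.Away (algebraMap P E G)) := Module.Flat.trans P E _
  haveI : Module.Flat (Localization.Away G) (Localization.Away (algebraMap P E G)) :=
    (Module.flat_iff_of_isLocalization (Localization.Away G) (Submonoid.powers G) _).mpr
      inferInstance
  haveI : Module.FaithfullyFlat (Localization.Away G) (Localization.Away (algebraMap P E G)) := by
    apply Module.FaithfullyFlat.of_comap_surjective
    intro 𝔭'
    -- the contraction of `𝔭'` to `P`
    have h1 : G ∉ 𝔭'.asIdeal.comap (algebraMap P (Localization.Away G)) := by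
      intro hmem
      exact 𝔭'.2.ne_top (Ideal.eq_top_of_isUnit_mem _ hmem
        (IsLocalization.Away.algebraMap_isUnit G))
    obtain ⟨𝔯', h𝔯'⟩ := hGW (show (⟨𝔭'.asIdeal.comap (algebraMap P (Localization.Away G)),
      inferInstance⟩ : PrimeSpectrum P) ∈ (PrimeSpectrum.basicOpen G : Set _) from h1)
    have h𝔯'eq : 𝔯'.asIdeal.comap (algebraMap P E) =
        𝔭'.asIdeal.comap (algebraMap P (Localization.Away G)) :=
      congrArg PrimeSpectrum.asIdeal h𝔯'
    have hG𝔯' : algebraMap P E G ∉ 𝔯'.asIdeal := by
      intro hmem
      apply h1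
      rw [← h𝔯'eq]
      exact hmem
    have hdisj : Disjoint (Submonoid.powers (algebraMap P E G) : Set E) (𝔯'.asIdeal : Set E) := by
      rw [Set.disjoint_left]
      rintro x ⟨n, rfl⟩ hx
      exact hG𝔯' (𝔯'.2.mem_of_pow_mem n hx)
    haveI hprime : (𝔯'.asIdeal.map
        (algebraMap E (Localization.Away (algebraMap P E G)))).IsPrime :=
      IsLocalization.isPrime_of_isPrime_disjoint (Submonoid.powers (algebraMap P E G)) _ _
        𝔯'.2 hdisj
    have hcomap : (𝔯'.asIdeal.map (algebraMap E (Localization.Away (algebraMap P E G)))).comap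
        (algebraMap E (Localization.Away (algebraMap P E G))) = 𝔯'.asIdeal :=
      IsLocalization.under_map_of_isPrime_disjoint (Submonoid.powers (algebraMap P E G)) _
        𝔯'.2 hdisj
    refine ⟨⟨_, hprime⟩, ?_⟩
    apply PrimeSpectrum.localization_comap_injective (Localization.Away G) (Submonoid.powers G)
    ext1
    show ((𝔯'.asIdeal.map (algebraMap E (Localization.Away (algebraMap P E G)))).comap
      (algebraMap (Localization.Away G) (Localization.Away (algebraMap P E G)))).comap
        (algebraMap P (Localization.Away G)) = 𝔭'.asIdeal.comap (algebraMap P (Localization.Away G))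
    rw [Ideal.comap_comap, ← IsScalarTower.algebraMap_eq,
      IsScalarTower.algebraMap_eq P E (Localization.Away (algebraMap P E G)), ← Ideal.comap_comap,
      hcomap, h𝔯'eq]
  -- descent
  have h2 : LCI.IsKoszulRegularIdeal ((I.map (algebraMap P (Localization.Away G))).map
      (algebraMap (Localization.Away G) (Localization.Away (algebraMap P E G)))) := by
    rw [Ideal.map_map, ← IsScalarTower.algebraMap_eq,
      IsScalarTower.algebraMap_eq P E (Localization.Away (algebraMap P E G)), ← Ideal.map_map]
    exact kr_map_of_flat _ h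
  have h3 := Groth.Agent.S9251.main (Localization.Away G)
    (Localization.Away (algebraMap P E G)) _ h2
  exact kr_at_of_away I G h3 𝔭 hI hG𝔭

end PointDescent

end Groth.Agent.Helper2.SyntLoc
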