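import Mathlib
import Groth.Prelude.Def_LCI2
import Groth.Prelude.Def_RegImm
import Groth.Agent.Lib.Helper2.SyntLoc1
import Groth.Agent.Lib.Helper2.SyntLoc5
import Groth.Agent.Lib.Helper2.LciLoc1
import Groth.Agent.S18935
import Groth.Agent.S15821

/-!
# The flat slice: from a transversally regular part of a Koszul-regular generating family
to a Koszul-regular chart of the ideal of the base
-/

set_option autoImplicit false
universe u

namespace Groth.Agent.Helper2.SyntLoc

open RingTheory.Sequence Groth.Agent.Helper21.KL Groth.Agent.Helper2.KosReg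
  Groth.Agent.Helper2.KosIdeal

section Slice

variable {P S T : Type u} [CommRing P] [CommRing S] [CommRing T]
  [Algebra P S] [Algebra S T] [Algebra P T] [IsScalarTower P S T]
  [Algebra.FinitePresentation P T]

/-- the slice step -/
theorem chart_of_slice (I : Ideal P) (K : Ideal S) (hIK : I.map (algebraMap P S) ≤ K)
    {c s' : ℕ} (lF : Fin c → S) (hlK : ∀ j, lF j ∈ K)
    (F' : Fin s' → S) (hF' : ∀ i, F' i ∈ I.map (algebraMap P S))
    (hgenT : K.map (algebraMap S T) ≤ Ideal.span {x | x ∈
      (List.ofFn F').map (algebraMap S T) ++ (List.ofFn lF).map (algebraMap S T)})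
    (kT : List T) (hkT : LCI.IsKoszulRegularSeq T kT)
    (hKT : K.map (algebraMap S T) = Ideal.span {x | x ∈ kT}) (hlen : kT.length = s' + c)
    (htr : RegImm.IsTransRegularSeq P T ((List.ofFn lF).map (algebraMap S T)))
    (𝔮 : Ideal S) [h𝔮 : 𝔮.IsPrime] (hK𝔮 : K ≤ 𝔮)
    (hprime : (𝔮.map (algebraMap S T)).IsPrime)
    (hcomap : (𝔮.map (algebraMap S T)).comap (algebraMap S T) = 𝔮) :
    ∃ G : P, G ∉ 𝔮.comap (algebraMap P S) ∧ ∃ l : List (Localization.Away G),
      LCI.IsKoszulRegularSeq (Localization.Away G) l ∧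
      I.map (algebraMap P (Localization.Away G)) = Ideal.span {x | x ∈ l} := by
  set lT : List T := (List.ofFn lF).map (algebraMap S T) with hlT
  set FT : List T := (List.ofFn F').map (algebraMap S T) with hFT
  have hF'K : ∀ i, F' i ∈ K := fun i => hIK (hF' i)
  -- `FT ++ lT` generates `K T`
  have hysK : ∀ y ∈ FT ++ lT, y ∈ K.map (algebraMap S T) := by
    intro y hy
    rcases List.mem_append.mp hy with h | h
    · obtain ⟨x, hx, rfl⟩ := List.mem_map.mp h
      obtain ⟨i, rfl⟩ := (List.mem_ofFn' _ _).mp hx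
      exact Ideal.mem_map_of_mem _ (hF'K i)
    · obtain ⟨x, hx, rfl⟩ := List.mem_map.mp h
      obtain ⟨j, rfl⟩ := (List.mem_ofFn' _ _).mp hx
      exact Ideal.mem_map_of_mem _ (hlK j)
  have hspan : Ideal.span {x | x ∈ FT ++ lT} = K.map (algebraMap S T) :=
    le_antisymm (Ideal.span_le.mpr hysK) hgenT
  -- Koszul-regularity of `FT ++ lT`
  have hKRys : LCI.IsKoszulRegularSeq T (FT ++ lT) := by
    rw [isKoszulRegularSeq_iff]
    refine Groth.Agent.S18935.lemmaK kT (FT ++ lT) ?_ ?_ ?_ ((isKoszulRegularSeq_iff kT).mp hkT)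
    · rw [hlen, List.length_append, hFT, hlT, List.length_map, List.length_map,
        List.length_ofFn, List.length_ofFn]
    · intro x hx
      rw [hspan, hKT]
      exact Ideal.subset_span hx
    · intro y hy
      rw [← hKT]
      exact hysK y hy
  have hKRl : LCI.IsKoszulRegularSeq T lT := (Groth.Agent.S15821.result T lT htr.1).1
  have hKRq := kr_of_append lT FT hKRl hKRys
  -- the slice ring
  haveI hflat : Module.Flat P (T ⧸ Ideal.ofList lT) := by
    have h1 := htr.2 lT.length le_rfl
    rwa [List.take_length] at h1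
  haveI : Algebra.FinitePresentation P (T ⧸ Ideal.ofList lT) :=
    Algebra.FinitePresentation.quotient (Submodule.fg_span (List.finite_toSet lT))
  -- the extended ideal
  have hIE : I.map (algebraMap P (T ⧸ Ideal.ofList lT)) =
      Ideal.span {x | x ∈ FT.map (Ideal.Quotient.mk (Ideal.ofList lT))} := by
    have h0 : algebraMap P (T ⧸ Ideal.ofList lT) =
        (Ideal.Quotient.mk (Ideal.ofList lT)).comp ((algebraMap S T).comp (algebraMap P S)) := by
      rw [← IsScalarTower.algebraMap_eq P S T]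
      rfl
    rw [h0, ← Ideal.map_map, ← Ideal.map_map]
    apply le_antisymm
    · have h1 : ((I.map (algebraMap P S)).map (algebraMap S T)) ≤
          Ideal.span {x | x ∈ FT ++ lT} := by
        rw [hspan]
        exact Ideal.map_mono hIK
      refine (Ideal.map_mono h1).trans ?_
      rw [Ideal.map_span, Ideal.span_le]
      rintro _ ⟨y, hy, rfl⟩
      rcases List.mem_append.mp hy with h | h
      · exact Ideal.subset_span (List.mem_map_of_mem h)
      · have h2 : Ideal.Quotient.mk (Ideal.ofList lT) y = 0 :=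
          Ideal.Quotient.eq_zero_iff_mem.mpr (Ideal.subset_span h)
        rw [h2]
        exact Ideal.zero_mem _
    · rw [Ideal.span_le]
      intro y hy
      obtain ⟨x, hx, rfl⟩ := List.mem_map.mp hy
      obtain ⟨z, hz, rfl⟩ := List.mem_map.mp hx
      obtain ⟨i, rfl⟩ := (List.mem_ofFn' _ _).mp hz
      exact Ideal.mem_map_of_mem _ (Ideal.mem_map_of_mem _ (hF' i))
  have hKRE : LCI.IsKoszulRegularIdeal (I.map (algebraMap P (T ⧸ Ideal.ofList lT))) := by
    rw [hIE]
    exact Groth.Agent.Helper2.LciLoc.kr_ideal_of_seq _ hKRq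
  -- the prime of the slice ring
  have hl𝔮T : Ideal.ofList lT ≤ 𝔮.map (algebraMap S T) := by
    rw [Ideal.ofList, Ideal.span_le]
    intro y hy
    obtain ⟨x, hx, rfl⟩ := List.mem_map.mp hy
    obtain ⟨j, rfl⟩ := (List.mem_ofFn' _ _).mp hx
    exact Ideal.mem_map_of_mem _ (hK𝔮 (hlK j))
  have hkermk : RingHom.ker (Ideal.Quotient.mk (Ideal.ofList lT)) ≤ 𝔮.map (algebraMap S T) := by
    rw [Ideal.mk_ker]
    exact hl𝔮T
  haveI h𝔯 : ((𝔮.map (algebraMap S T)).map (Ideal.Quotient.mk (Ideal.ofList lT))).IsPrime :=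
    Ideal.map_isPrime_of_surjective Ideal.Quotient.mk_surjective hkermk
  have h𝔯comap : ((𝔮.map (algebraMap S T)).map (Ideal.Quotient.mk (Ideal.ofList lT))).comap
      (algebraMap P (T ⧸ Ideal.ofList lT)) = 𝔮.comap (algebraMap P S) := by
    have h0 : algebraMap P (T ⧸ Ideal.ofList lT) =
        (Ideal.Quotient.mk (Ideal.ofList lT)).comp ((algebraMap S T).comp (algebraMap P S)) := by
      rw [← IsScalarTower.algebraMap_eq P S T]
      rfl
    rw [h0, ← Ideal.comap_comap, ← Ideal.comap_comap,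
      Ideal.comap_map_of_surjective _ Ideal.Quotient.mk_surjective]
    have h1 : Ideal.comap (Ideal.Quotient.mk (Ideal.ofList lT)) ⊥ ≤ 𝔮.map (algebraMap S T) := by
      intro x hx
      apply hkermk
      rw [RingHom.mem_ker]
      exact Ideal.mem_bot.mp hx
    rw [sup_eq_left.mpr h1, hcomap]
  have hI𝔯 : I ≤ ((𝔮.map (algebraMap S T)).map (Ideal.Quotient.mk (Ideal.ofList lT))).comap
      (algebraMap P (T ⧸ Ideal.ofList lT)) := by
    rw [h𝔯comap]
    intro x hx
    exact hK𝔮 (hIK (Ideal.mem_map_of_mem _ hx))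
  obtain ⟨G, hG, l, hl, hIl⟩ := kr_chart_of_flat (E := T ⧸ Ideal.ofList lT) I hKRE _ hI𝔯
  rw [h𝔯comap] at hG
  exact ⟨G, hG, l, hl, hIl⟩

end Slice

end Groth.Agent.Helper2.SyntLoc
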