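import Mathlib
import Groth.Prelude.Def_LCI2
import Groth.Prelude.Def_RegImm
import Groth.Agent.Lib.Helper2.SyntLoc4
import Groth.Agent.Lib.Helper2.SyntLoc6
import Groth.Agent.Lib.Helper2.SyntLoc7

/-!
# The ring-level core of "lci is syntomic-local on the source"
-/

set_option autoImplicit false
universe u

namespace Groth.Agent.Helper2.SyntLoc

open RingTheory.Sequence Groth.Agent.Helper21.KL Groth.Agent.Helper2.KosReg
  Groth.Agent.Helper2.KosIdeal Groth.Agent.Helper2.KosDescent

section Core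

variable {P S B Sb : Type u} [CommRing P] [CommRing S] [CommRing B] [CommRing Sb]
  [Algebra P S] [Module.Flat P S] [Algebra.FinitePresentation P S]
  [Algebra B Sb] [Module.Flat B Sb] [Algebra.FiniteType B Sb]
  (φ : P →+* B) (hφ : Function.Surjective φ) (σ : S →+* Sb) (hσ : Function.Surjective σ)
  (hcomm : σ.comp (algebraMap P S) = (algebraMap B Sb).comp φ)
  (hker : RingHom.ker σ = (RingHom.ker φ).map (algebraMap P S))

include hφ hσ hcomm hker in
theorem core (hfg : (RingHom.ker φ).FG) {c : ℕ} (lb : Fin c → Sb)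
    (hlb : LCI.IsKoszulRegularSeq Sb (List.ofFn lb))
    [Module.Flat B (Sb ⧸ Ideal.ofList (List.ofFn lb))]
    (K : Ideal S) (hK : K = (Ideal.span (Set.range lb)).comap σ)
    (hKR : LCI.IsKoszulRegularIdeal K)
    (𝔮 : Ideal S) [h𝔮 : 𝔮.IsPrime] (hK𝔮 : K ≤ 𝔮) :
    ∃ G : P, G ∉ 𝔮.comap (algebraMap P S) ∧ ∃ l : List (Localization.Away G),
      LCI.IsKoszulRegularSeq (Localization.Away G) l ∧
      (RingHom.ker φ).map (algebraMap P (Localization.Away G)) = Ideal.span {x | x ∈ l} := by
  choose lF hlF using fun j => hσ (lb j)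
  have hkerK : RingHom.ker σ ≤ K := by
    intro x hx
    rw [hK, Ideal.mem_comap, (RingHom.mem_ker).mp hx]
    exact Ideal.zero_mem _
  have hlK : ∀ j, lF j ∈ K := by
    intro j
    rw [hK, Ideal.mem_comap, hlF j]
    exact Ideal.subset_span ⟨j, rfl⟩
  obtain ⟨g₀, hg₀, htrans⟩ := exists_trans_lift φ hφ σ hσ hcomm hker lb hlb lF hlF 𝔮
    (hkerK.trans hK𝔮) (fun j => hK𝔮 (hlK j))
  obtain ⟨g₁, hg₁, k, hk, hKk⟩ := hKR ⟨𝔮, h𝔮⟩ hK𝔮
  obtain ⟨s₀, F₀, hF₀⟩ := Submodule.fg_iff_exists_fin_generating_family.mp hfg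
  have hF₀' : Ideal.span (Set.range F₀) = RingHom.ker φ := hF₀
  -- protection
  have hprot : ∀ d : Fin c → S, ∑ j, d j * lF j ∈ RingHom.ker σ → ∀ j, d j ∈ 𝔮 := by
    intro d hd j
    apply hK𝔮
    rw [hK, Ideal.mem_comap]
    have h1 : ∑ j, σ (d j) * lb j = 0 := by
      rw [RingHom.mem_ker, map_sum] at hd
      rw [← hd]
      refine Finset.sum_congr rfl fun j _ => ?_
      rw [map_mul, hlF j]
    exact (rel_le_iff lb _).mp (rel_le_of_koszulRegular' lb hlb) (fun j => σ (d j)) h1 j
  -- the initial generating family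
  have hF𝔟 : ∀ i, algebraMap P S (F₀ i) ∈ RingHom.ker σ := by
    intro i
    rw [hker, ← hF₀']
    exact Ideal.mem_map_of_mem _ (Ideal.subset_span ⟨i, rfl⟩)
  have hinit : ∀ x ∈ K, 1 * x ∈ Ideal.span (Set.range
      (Fin.append (fun i => algebraMap P S (F₀ i)) lF)) := by
    intro x hx
    rw [one_mul]
    have h1 : σ x ∈ (Ideal.span (Set.range lF)).map σ := by
      rw [Ideal.map_span, ← Set.range_comp]
      have h2 : σ ∘ lF = lb := funext hlF
      rw [h2]
      rw [hK] at hx
      exact hx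
    obtain ⟨y, hy, hyx⟩ := (Ideal.mem_map_iff_of_surjective σ hσ).mp h1
    have h3 : x - y ∈ RingHom.ker σ := by
      rw [RingHom.mem_ker, map_sub, hyx, sub_self]
    have h4 : x = (x - y) + y := by ring
    rw [h4]
    refine Ideal.add_mem _ ?_ ?_
    · rw [hker, ← hF₀', Ideal.map_span] at h3
      refine (Ideal.span_mono ?_) h3
      rintro _ ⟨_, ⟨i, rfl⟩, rfl⟩
      exact ⟨Fin.castAdd c i, by rw [Fin.append_left]⟩
    · refine (Ideal.span_mono ?_) hy
      rintro _ ⟨j, rfl⟩
      exact ⟨Fin.natAdd s₀ j, by rw [Fin.append_right]⟩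
  have h𝔞k : (K.map (algebraMap S S)).map (algebraMap S (Localization.Away g₁)) =
      Ideal.span {x | x ∈ k} := by
    have : K.map (algebraMap S S) = K := Ideal.map_id K
    rw [this]
    exact hKk
  obtain ⟨s', F', hF'𝔟, hF'𝔞, hlen, a', ha', hgen⟩ :=
    exists_drop_protected K (RingHom.ker σ) 𝔮 g₁ hg₁ k h𝔞k lF hprot hk hK𝔮 hlK s₀
      (fun i => algebraMap P S (F₀ i)) hF𝔟 (fun i => hkerK (hF𝔟 i)) 1
      (fun h1 => h𝔮.ne_top ((Ideal.eq_top_iff_one _).mpr h1)) hinit
  -- the final ring
  haveI hT1 : IsLocalization.Away (g₁ * (g₀ * a'))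
      (Localization.Away (algebraMap S (Localization.Away g₁) (g₀ * a'))) :=
    IsLocalization.Away.mul' (Localization.Away g₁) _ g₁ (g₀ * a')
  haveI hT2 : IsLocalization.Away (g₀ * (g₁ * a'))
      (Localization.Away (algebraMap S (Localization.Away g₁) (g₀ * a'))) := by
    have h1 : g₁ * (g₀ * a') = g₀ * (g₁ * a') := by ring
    exact h1 ▸ hT1
  have htr := htrans (g₁ * a') (Localization.Away (algebraMap S (Localization.Away g₁) (g₀ * a')))
  set T := Localization.Away (algebraMap S (Localization.Away g₁) (g₀ * a')) with hTdef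
  haveI : Algebra.FinitePresentation S (Localization.Away g₁) :=
    IsLocalization.Away.finitePresentation g₁
  haveI : Algebra.FinitePresentation (Localization.Away g₁) T :=
    IsLocalization.Away.finitePresentation (algebraMap S (Localization.Away g₁) (g₀ * a'))
  haveI : Algebra.FinitePresentation S T :=
    Algebra.FinitePresentation.trans S (Localization.Away g₁) T
  haveI : Algebra.FinitePresentation P T := Algebra.FinitePresentation.trans P S T
  haveI : Module.Flat (Localization.Away g₁) T :=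
    IsLocalization.flat T (Submonoid.powers (algebraMap S (Localization.Away g₁) (g₀ * a')))
  -- the prime of `T`
  have hGq : g₁ * (g₀ * a') ∉ 𝔮 := by
    intro hmem
    rcases h𝔮.mem_or_mem hmem with h | h
    · exact hg₁ h
    · rcases h𝔮.mem_or_mem h with h | h
      · exact hg₀ h
      · exact ha' h
  have hdisj : Disjoint (Submonoid.powers (g₁ * (g₀ * a')) : Set S) (𝔮 : Set S) := by
    rw [Set.disjoint_left]
    rintro x ⟨n, rfl⟩ hx
    exact hGq (h𝔮.mem_of_pow_mem n hx)
  have hprime : (𝔮.map (algebraMap S T)).IsPrime :=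
    IsLocalization.isPrime_of_isPrime_disjoint (Submonoid.powers (g₁ * (g₀ * a'))) _ _ h𝔮 hdisj
  have hcomap : (𝔮.map (algebraMap S T)).comap (algebraMap S T) = 𝔮 :=
    IsLocalization.under_map_of_isPrime_disjoint (Submonoid.powers (g₁ * (g₀ * a'))) _ h𝔮 hdisj
  -- the chart in `T`
  have hkT : LCI.IsKoszulRegularSeq T (k.map (algebraMap (Localization.Away g₁) T)) :=
    isKoszulRegularSeq_baseChange T k hk
  have hKT : K.map (algebraMap S T) =
      Ideal.span {x | x ∈ k.map (algebraMap (Localization.Away g₁) T)} := by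
    rw [IsScalarTower.algebraMap_eq S (Localization.Away g₁) T, ← Ideal.map_map, hKk,
      Ideal.map_span, image_list]
  -- generation in `T`
  have hua' : IsUnit (algebraMap S T a') := by
    have h1 : IsUnit (algebraMap S T (g₁ * (g₀ * a'))) :=
      IsLocalization.Away.algebraMap_isUnit (g₁ * (g₀ * a'))
    have h2 : algebraMap S T (g₁ * (g₀ * a')) = algebraMap S T a' * algebraMap S T (g₁ * g₀) := by
      rw [← RingHom.map_mul]
      congr 1
      ring
    rw [h2] at h1
    exact isUnit_of_mul_isUnit_left h1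
  have hgenT : K.map (algebraMap S T) ≤ Ideal.span {x | x ∈
      (List.ofFn F').map (algebraMap S T) ++ (List.ofFn lF).map (algebraMap S T)} := by
    rw [Ideal.map_le_iff_le_comap]
    intro x hx
    rw [Ideal.mem_comap]
    have h1 : algebraMap S T (a' * x) ∈ Ideal.span {x | x ∈
        (List.ofFn F').map (algebraMap S T) ++ (List.ofFn lF).map (algebraMap S T)} := by
      have h2 := Ideal.mem_map_of_mem (algebraMap S T) (hgen x hx)
      rw [Ideal.map_span] at h2
      refine (Ideal.span_mono ?_) h2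
      rintro _ ⟨_, ⟨p, rfl⟩, rfl⟩
      refine Fin.addCases (fun i => ?_) (fun j => ?_) p
      · rw [Fin.append_left]
        exact List.mem_append_left _ (List.mem_map_of_mem ((List.mem_ofFn' _ _).mpr ⟨i, rfl⟩))
      · rw [Fin.append_right]
        exact List.mem_append_right _ (List.mem_map_of_mem ((List.mem_ofFn' _ _).mpr ⟨j, rfl⟩))
    have h3 : algebraMap S T x = ↑hua'.unit⁻¹ * algebraMap S T (a' * x) := by
      have h4 : algebraMap S T (a' * x) = ↑hua'.unit * algebraMap S T x := by
        rw [IsUnit.unit_spec]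
        exact RingHom.map_mul _ _ _
      rw [h4]
      exact (Units.inv_mul_cancel_left _ _).symm
    rw [h3]
    exact Ideal.mul_mem_left _ _ h1
  have hIK : (RingHom.ker φ).map (algebraMap P S) ≤ K := hker ▸ hkerK
  exact chart_of_slice (T := T) (RingHom.ker φ) K hIK lF hlK F' (fun i => hker ▸ hF'𝔟 i) hgenT
    _ hkT hKT (by rw [List.length_map]; exact hlen.symm) htr 𝔮 hK𝔮 hprime hcomap

end Core

end Groth.Agent.Helper2.SyntLoc
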