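import Mathlib
import Groth.Prelude.Def_LCI2
import Groth.Prelude.Def_RegImm
import Groth.Agent.Lib.Helper2.SyntLoc8
import Groth.Agent.Lib.Helper2.LCIComp1
import Groth.Agent.Lib.Helper6.LciBCA

/-!
# Ring-level descent of Koszul-regular charts along a flat lci map
-/

set_option autoImplicit false
universe u

namespace Groth.Agent.Helper2.SyntLoc

open RingTheory.Sequence Groth.Agent.Helper21.KL Groth.Agent.Helper2.KosReg
  Groth.Agent.Helper2.KosIdeal Groth.Agent.Helper2.KosDescent

section Descent

variable {P B Q₀ Q C : Type u} [CommRing P] [CommRing B] [CommRing Q₀] [CommRing Q] [CommRing C]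
  [Algebra P Q₀] [Module.Flat P Q₀] [Algebra.FinitePresentation P Q₀]
  [Algebra B Q] [Module.Flat B Q] [Algebra.FiniteType B Q]
  [Algebra B C] [Module.Flat B C]
  (φ : P →+* B) (hφ : Function.Surjective φ) (π : Q₀ →+* Q) (hπ : Function.Surjective π)
  (hcomm : π.comp (algebraMap P Q₀) = (algebraMap B Q).comp φ)
  (hker : RingHom.ker π = (RingHom.ker φ).map (algebraMap P Q₀))
  (ψ : Q →ₐ[B] C) (hψ : Function.Surjective ψ)

include hφ hπ hcomm hker hψ in
theorem chart_descent (hfg : (RingHom.ker φ).FG)
    (hJ : LCI.IsKoszulRegularIdeal (RingHom.ker ψ.toRingHom))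
    (hK₀ : LCI.IsKoszulRegularIdeal ((RingHom.ker ψ.toRingHom).comap π))
    (𝔯 : Ideal C) [h𝔯 : 𝔯.IsPrime] :
    ∃ G : P, G ∉ (𝔯.comap (algebraMap B C)).comap φ ∧ ∃ l : List (Localization.Away G),
      LCI.IsKoszulRegularSeq (Localization.Away G) l ∧
      (RingHom.ker φ).map (algebraMap P (Localization.Away G)) = Ideal.span {x | x ∈ l} := by
  set J' : Ideal Q := RingHom.ker ψ.toRingHom with hJ'def
  have hJ𝔯 : J' ≤ 𝔯.comap ψ.toRingHom := by
    intro x hx
    rw [Ideal.mem_comap, (RingHom.mem_ker).mp hx]
    exact Ideal.zero_mem _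
  obtain ⟨hb, hhb, lbl, hlbl, hJl⟩ := hJ ⟨𝔯.comap ψ.toRingHom, inferInstance⟩ hJ𝔯
  obtain ⟨h, rfl⟩ := hπ hb
  -- flatness of the quotient
  haveI hflatQJ : Module.Flat B (Q ⧸ J') := by
    have e : (Q ⧸ RingHom.ker ψ.toRingHom) ≃ₐ[B] C :=
      Ideal.quotientKerAlgEquivOfSurjective hψ
    exact Module.Flat.of_linearEquiv e.toLinearEquiv
  have hflat1 := Groth.Agent.Helper6.LciBC.flat_away_quot (A := B) J' (π h)
  -- the localised rings
  haveI : Module.Flat Q₀ (Localization.Away h) := IsLocalization.flat _ (Submonoid.powers h)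
  haveI : Module.Flat P (Localization.Away h) := Module.Flat.trans P Q₀ _
  haveI : Algebra.FinitePresentation Q₀ (Localization.Away h) :=
    IsLocalization.Away.finitePresentation h
  haveI : Algebra.FinitePresentation P (Localization.Away h) :=
    Algebra.FinitePresentation.trans P Q₀ _
  haveI : Module.Flat Q (Localization.Away (π h)) := IsLocalization.flat _ (Submonoid.powers (π h))
  haveI : Module.Flat B (Localization.Away (π h)) := Module.Flat.trans B Q _
  haveI : Algebra.FiniteType Q (Localization.Away (π h)) :=
    IsLocalization.finiteType_of_monoid_fg (Submonoid.powers (π h)) _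
  haveI : Algebra.FiniteType B (Localization.Away (π h)) :=
    Algebra.FiniteType.trans (S := Q) inferInstance inferInstance
  -- the map
  have hσ := awayMap_surjective π hπ h (Localization.Away h) (Localization.Away (π h))
  have hσcomp := awayMap_comp π h (Localization.Away h) (Localization.Away (π h))
  have hσker : RingHom.ker (IsLocalization.Away.map (Localization.Away h)
      (Localization.Away (π h)) π h) = (RingHom.ker π).map (algebraMap Q₀ (Localization.Away h)) :=
    IsLocalization.ker_map (S := Localization.Away h) (Localization.Away (π h)) π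
      (Submonoid.map_powers π h)
  have hcomm' : (IsLocalization.Away.map (Localization.Away h)
      (Localization.Away (π h)) π h).comp (algebraMap P (Localization.Away h)) =
      (algebraMap B (Localization.Away (π h))).comp φ := by
    rw [IsScalarTower.algebraMap_eq P Q₀ (Localization.Away h), ← RingHom.comp_assoc, hσcomp,
      RingHom.comp_assoc, hcomm, ← RingHom.comp_assoc,
      ← IsScalarTower.algebraMap_eq B Q (Localization.Away (π h))]
  have hker' : RingHom.ker (IsLocalization.Away.map (Localization.Away h)
      (Localization.Away (π h)) π h) =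
      (RingHom.ker φ).map (algebraMap P (Localization.Away h)) := by
    rw [hσker, hker, Ideal.map_map, ← IsScalarTower.algebraMap_eq P Q₀ (Localization.Away h)]
  -- the sequence
  have hofFn : List.ofFn lbl.get = lbl := List.ofFn_get lbl
  have hspan : Ideal.span (Set.range lbl.get) = Ideal.span {x | x ∈ lbl} := by
    congr 1
    ext x
    simp only [Set.mem_range, Set.mem_ofPred_eq, List.mem_iff_get]
  have hlb : LCI.IsKoszulRegularSeq (Localization.Away (π h)) (List.ofFn lbl.get) := by
    rw [hofFn]
    exact hlbl
  haveI hflat2 : Module.Flat B (Localization.Away (π h) ⧸ Ideal.ofList (List.ofFn lbl.get)) := by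
    have h1 : Ideal.ofList (List.ofFn lbl.get) =
        J'.map (algebraMap Q (Localization.Away (π h))) := by
      rw [hofFn, hJl]
    rw [h1]
    exact hflat1
  -- the ideal K
  have hK : ((J'.comap π).map (algebraMap Q₀ (Localization.Away h))) =
      (Ideal.span (Set.range lbl.get)).comap (IsLocalization.Away.map (Localization.Away h)
      (Localization.Away (π h)) π h) := by
    rw [hspan, ← hJl]
    exact (Groth.Agent.Helper2.LCIComp.comap_awayMap π hπ h J').symm
  have hKR : LCI.IsKoszulRegularIdeal ((J'.comap π).map (algebraMap Q₀ (Localization.Away h))) :=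
    kr_map_of_flat _ hK₀
  -- the prime
  have hdisj : Disjoint (Submonoid.powers (π h) : Set Q) (𝔯.comap ψ.toRingHom : Set Q) := by
    rw [Set.disjoint_left]
    rintro x ⟨n, rfl⟩ hx
    exact hhb (Ideal.IsPrime.mem_of_pow_mem inferInstance n hx)
  have hprime : ((𝔯.comap ψ.toRingHom).map (algebraMap Q (Localization.Away (π h)))).IsPrime :=
    IsLocalization.isPrime_of_isPrime_disjoint (Submonoid.powers (π h)) _ _ inferInstance hdisj
  have hcomap : ((𝔯.comap ψ.toRingHom).map (algebraMap Q (Localization.Away (π h)))).comap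
      (algebraMap Q (Localization.Away (π h))) = 𝔯.comap ψ.toRingHom :=
    IsLocalization.under_map_of_isPrime_disjoint (Submonoid.powers (π h)) _ inferInstance hdisj
  haveI h𝔮 : (((𝔯.comap ψ.toRingHom).map (algebraMap Q (Localization.Away (π h)))).comap
      (IsLocalization.Away.map (Localization.Away h) (Localization.Away (π h)) π h)).IsPrime :=
    Ideal.comap_isPrime _ _
  have hK𝔮 : ((J'.comap π).map (algebraMap Q₀ (Localization.Away h))) ≤
      (((𝔯.comap ψ.toRingHom).map (algebraMap Q (Localization.Away (π h)))).comap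
      (IsLocalization.Away.map (Localization.Away h) (Localization.Away (π h)) π h)) := by
    rw [hK, hspan, ← hJl]
    exact Ideal.comap_mono (Ideal.map_mono hJ𝔯)
  obtain ⟨G, hG, l, hl, hIl⟩ := core φ hφ _ hσ hcomm' hker' hfg lbl.get hlb _ hK hKR _ hK𝔮
  refine ⟨G, ?_, l, hl, hIl⟩
  intro hmem
  apply hG
  rw [Ideal.mem_comap, Ideal.mem_comap]
  have h1 : (IsLocalization.Away.map (Localization.Away h) (Localization.Away (π h)) π h)
      (algebraMap P (Localization.Away h) G) =
      algebraMap Q (Localization.Away (π h)) (algebraMap B Q (φ G)) := by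
    have := congrArg (fun f => f G) hcomm'
    simp only [RingHom.comp_apply] at this
    rw [this, IsScalarTower.algebraMap_apply B Q (Localization.Away (π h))]
  rw [h1]
  apply Ideal.mem_map_of_mem
  rw [Ideal.mem_comap]
  show ψ (algebraMap B Q (φ G)) ∈ 𝔯
  rw [AlgHom.commutes]
  exact hmem

end Descent

end Groth.Agent.Helper2.SyntLoc
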