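import Mathlib
import Groth.Prelude.Def_LCI2
import Groth.Prelude.Def_RegImm
import Groth.Agent.Lib.Helper2.SyntLoc9

/-!
# Descent of Koszul-regular charts along a flat lci map: polynomial presentations
-/

set_option autoImplicit false
universe u

namespace Groth.Agent.Helper2.SyntLoc

open Groth.Agent.Helper2.KosIdeal Groth.Agent.Helper2.KosDescent

section Poly

variable (A B C : Type u) [CommRing A] [CommRing B] [CommRing C] [Algebra A B] [Algebra B C]
  [Algebra A C] [IsScalarTower A B C] [Module.Flat B C]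

theorem poly_descent {n m : ℕ} (φ : MvPolynomial (Fin n) A →ₐ[A] B) (hφ : Function.Surjective φ)
    (hfg : (RingHom.ker φ.toRingHom).FG)
    (ψ : MvPolynomial (Fin m) B →ₐ[B] C) (hψ : Function.Surjective ψ)
    (hJ : LCI.IsKoszulRegularIdeal (RingHom.ker ψ.toRingHom))
    (hAC : ∀ (N : ℕ) (χ : MvPolynomial (Fin N) A →ₐ[A] C), Function.Surjective χ →
      LCI.IsKoszulRegularIdeal (RingHom.ker χ.toRingHom))
    (𝔯 : Ideal C) [h𝔯 : 𝔯.IsPrime] :
    ∃ G : MvPolynomial (Fin n) A, G ∉ (𝔯.comap (algebraMap B C)).comap φ.toRingHom ∧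
      ∃ l : List (Localization.Away G),
      LCI.IsKoszulRegularSeq (Localization.Away G) l ∧
      (RingHom.ker φ.toRingHom).map (algebraMap _ (Localization.Away G)) =
        Ideal.span {x | x ∈ l} := by
  let π : MvPolynomial (Fin m) (MvPolynomial (Fin n) A) →+* MvPolynomial (Fin m) B :=
    MvPolynomial.map φ.toRingHom
  have hπ : Function.Surjective π := MvPolynomial.map_surjective φ.toRingHom hφ
  have hkerπ : RingHom.ker π = (RingHom.ker φ.toRingHom).map
      (algebraMap (MvPolynomial (Fin n) A) (MvPolynomial (Fin m) (MvPolynomial (Fin n) A))) :=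
    MvPolynomial.ker_map φ.toRingHom
  have hcomm : π.comp (algebraMap (MvPolynomial (Fin n) A)
      (MvPolynomial (Fin m) (MvPolynomial (Fin n) A))) =
      (algebraMap B (MvPolynomial (Fin m) B)).comp φ.toRingHom := by
    ext x
    · simp [π, MvPolynomial.algebraMap_eq]
    · simp [π, MvPolynomial.algebraMap_eq]
  -- the composite as an algebra map
  let Θ : MvPolynomial (Fin m) (MvPolynomial (Fin n) A) →ₐ[A] C :=
    { toRingHom := ψ.toRingHom.comp π
      commutes' := fun a => by
        show ψ (π (algebraMap A _ a)) = _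
        have e1 : algebraMap A (MvPolynomial (Fin m) (MvPolynomial (Fin n) A)) a =
            MvPolynomial.C (MvPolynomial.C a) := rfl
        have e2 : π (MvPolynomial.C (MvPolynomial.C a)) =
            MvPolynomial.C (φ (MvPolynomial.C a)) := MvPolynomial.map_C _ _
        rw [e1, e2]
        have e3 : φ (MvPolynomial.C a) = algebraMap A B a := by
          rw [← MvPolynomial.algebraMap_eq, AlgHom.commutes]
        rw [e3, ← MvPolynomial.algebraMap_eq, AlgHom.commutes,
          ← IsScalarTower.algebraMap_apply] }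
  have hΘsurj : Function.Surjective Θ := hψ.comp hπ
  have hΘker : RingHom.ker Θ.toRingHom = (RingHom.ker ψ.toRingHom).comap π := by
    ext x
    rw [Ideal.mem_comap, RingHom.mem_ker, RingHom.mem_ker]
    rfl
  let e : MvPolynomial (Fin (m + n)) A ≃ₐ[A] MvPolynomial (Fin m) (MvPolynomial (Fin n) A) :=
    (MvPolynomial.renameEquiv A finSumFinEquiv).symm.trans
      (MvPolynomial.sumAlgEquiv A (Fin m) (Fin n))
  have hχsurj : Function.Surjective (Θ.comp (e : MvPolynomial (Fin (m + n)) A →ₐ[A] MvPolynomial (Fin m) (MvPolynomial (Fin n) A))) := by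
    intro d
    obtain ⟨q, rfl⟩ := hΘsurj d
    exact ⟨e.symm q, by show Θ (e (e.symm q)) = _; rw [e.apply_symm_apply]⟩
  have hker : RingHom.ker (Θ.comp (e : MvPolynomial (Fin (m + n)) A →ₐ[A] MvPolynomial (Fin m) (MvPolynomial (Fin n) A))).toRingHom =
      (RingHom.ker Θ.toRingHom).map (e.symm.toRingEquiv :
        MvPolynomial (Fin m) (MvPolynomial (Fin n) A) →+* MvPolynomial (Fin (m + n)) A) := by
    ext x
    rw [RingHom.mem_ker]
    constructor
    · intro hx
      have h3 : x = e.symm (e x) := (e.symm_apply_apply x).symm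
      rw [h3]
      exact Ideal.mem_map_of_mem _ ((RingHom.mem_ker).mpr hx)
    · intro hx
      have h4 : (RingHom.ker Θ.toRingHom).map (e.symm.toRingEquiv :
          MvPolynomial (Fin m) (MvPolynomial (Fin n) A) →+* MvPolynomial (Fin (m + n)) A) ≤
          RingHom.ker (Θ.comp (e : MvPolynomial (Fin (m + n)) A →ₐ[A] MvPolynomial (Fin m) (MvPolynomial (Fin n) A))).toRingHom := by
        rw [Ideal.map_le_iff_le_comap]
        intro y hy
        rw [Ideal.mem_comap, RingHom.mem_ker]
        show Θ (e (e.symm y)) = 0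
        rw [e.apply_symm_apply]
        exact (RingHom.mem_ker).mp hy
      exact (RingHom.mem_ker).mp (h4 hx)
  have hK₀ : LCI.IsKoszulRegularIdeal ((RingHom.ker ψ.toRingHom).comap π) := by
    rw [← hΘker]
    have h1 := hAC (m + n) (Θ.comp (e : MvPolynomial (Fin (m + n)) A →ₐ[A] MvPolynomial (Fin m) (MvPolynomial (Fin n) A))) hχsurj
    rw [hker] at h1
    exact (kr_ringEquiv_iff e.symm.toRingEquiv _).mp h1
  exact chart_descent φ.toRingHom hφ π hπ hcomm hkerπ ψ hψ hfg hJ hK₀ 𝔯

end Poly

end Groth.Agent.Helper2.SyntLoc
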