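import Mathlib
import Groth.Prelude.Def_LCI2
import Groth.Prelude.Def_RegImm
import Groth.Agent.Lib.Helper2.KosBridge3
import Groth.Agent.Lib.Helper2.LciLoc2

/-!
# From a Koszul-regular chart of a presentation at a point to a Koszul point
-/

set_option autoImplicit false
universe u

namespace Groth.Agent.Helper2.SyntLoc

open CategoryTheory CategoryTheory.Limits AlgebraicGeometry TopologicalSpace
open Groth.Agent.Helper28 Groth.Agent.Helper28.RegBC Groth.Agent.S8653
  Groth.Agent.Helper2.KosIdeal Groth.Agent.Helper2.KRSch Groth.Agent.Helper2.KosBridge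
  Groth.Agent.Helper2.KosReg Groth.Agent.Helper2.LciLoc

/-- pointwise transport of Koszul-regular charts along ring isomorphisms -/
theorem chart_ringEquiv {D D' : Type u} [CommRing D] [CommRing D'] (e : D ≃+* D') (I : Ideal D)
    (𝔭 : Ideal D)
    (h : ∃ g : D, g ∉ 𝔭 ∧ ∃ l : List (Localization.Away g),
      LCI.IsKoszulRegularSeq (Localization.Away g) l ∧
      I.map (algebraMap D (Localization.Away g)) = Ideal.span {x | x ∈ l}) :
    ∃ g' : D', g' ∉ 𝔭.comap (e.symm : D' →+* D) ∧ ∃ l' : List (Localization.Away g'),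
      LCI.IsKoszulRegularSeq (Localization.Away g') l' ∧
      (I.map (e : D →+* D')).map (algebraMap D' (Localization.Away g')) =
        Ideal.span {x | x ∈ l'} := by
  obtain ⟨g, hg, l, hl, hIl⟩ := h
  refine ⟨e g, ?_, ?_⟩
  · rw [Ideal.mem_comap]
    show e.symm (e g) ∉ 𝔭
    rw [e.symm_apply_apply]
    exact hg
  have H : (Submonoid.powers g).map e.toMonoidHom = Submonoid.powers (e g) :=
    Submonoid.map_powers _ g
  let eg : Localization.Away g ≃+* Localization.Away (e g) :=
    IsLocalization.ringEquivOfRingEquiv (Localization.Away g) (Localization.Away (e g)) e H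
  refine ⟨l.map eg, isKoszulRegularSeq_ringEquiv eg l hl, ?_⟩
  have h1 : (algebraMap D' (Localization.Away (e g))).comp (e : D →+* D') =
      (eg : Localization.Away g →+* Localization.Away (e g)).comp
        (algebraMap D (Localization.Away g)) := by
    ext x
    exact (IsLocalization.ringEquivOfRingEquiv_eq H x).symm
  rw [Ideal.map_map, h1, ← Ideal.map_map, hIl, Ideal.map_span]
  congr 1
  exact image_list _ l

/-- the prime of a point of `Spec R` in the ring of global sections -/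
theorem primeIdealOf_top_spec (R : CommRingCat.{u}) (z : Spec R) :
    (isAffineOpen_top (Spec R)).primeIdealOf ⟨z, trivial⟩ =
      Spec.map (Scheme.ΓSpecIso R).hom z := by
  show (isAffineOpen_top (Spec R)).isoSpec.hom ⟨z, trivial⟩ = _
  rw [IsAffineOpen.isoSpec_hom, Scheme.Opens.toSpecΓ_top, Scheme.Hom.comp_apply,
    SpecMap_ΓSpecIso_hom]
  rfl

/-- Koszul at every point: the kernel of every presentation on an affine pair is Koszul-regular -/
theorem kr_ker_of_isKoszulAt {X Y : Scheme.{u}} (f : X ⟶ Y) (hf : ∀ x : X, Synt.IsKoszulAt f x)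
    (U : X.Opens) (V : Y.Opens) (hU : IsAffineOpen U) (hV : IsAffineOpen V) (e : U ≤ f ⁻¹ᵁ V) :
    letI := (f.appLE V U e).hom.toAlgebra
    ∀ (n : ℕ) (φ : MvPolynomial (Fin n) Γ(Y, V) →ₐ[Γ(Y, V)] Γ(X, U)), Function.Surjective φ →
      LCI.IsKoszulRegularIdeal (RingHom.ker φ.toRingHom) := by
  letI := (f.appLE V U e).hom.toAlgebra
  intro n φ hφ
  have hψ : (φ.toRingHom).comp MvPolynomial.C = (f.appLE V U e).hom := by
    ext a
    exact φ.commutes a
  have hcomm := chart_comm f hU hV e φ.toRingHom hψ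
  haveI := chart_closed hU φ.toRingHom hφ
  have hK : ∀ y : U, Synt.IsKoszulAt (U.ι ≫ f) y :=
    fun y => isKoszulAt_ι_comp f U y.1 y.2 (hf y.1)
  have hKR := Groth.Agent.S8656.main (U.ι ≫ f) hK _ _ hcomm
  haveI : IsClosedImmersion
      ((hU.isoSpec.hom ≫ Spec.map (CommRingCat.ofHom φ.toRingHom)) ∣_ ⊤) :=
    IsZariskiLocalAtTarget.restrict ‹_› _
  have := kr_ker _ hKR ⊤ (isAffineOpen_top _)
  exact (chart_kr_iff hU φ.toRingHom).mp this

/-- a Koszul-regular chart of a presentation at the prime of a point makes the point Koszul -/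
theorem isKoszulAt_of_chart {X Y : Scheme.{u}} (f : X ⟶ Y) [LocallyOfFiniteType f]
    (U : X.Opens) (V : Y.Opens) (hU : IsAffineOpen U) (hV : IsAffineOpen V) (e : U ≤ f ⁻¹ᵁ V)
    (x : X) (hx : x ∈ U) :
    letI := (f.appLE V U e).hom.toAlgebra
    ∀ (n : ℕ) (φ : MvPolynomial (Fin n) Γ(Y, V) →ₐ[Γ(Y, V)] Γ(X, U)), Function.Surjective φ →
      (∃ G : MvPolynomial (Fin n) Γ(Y, V),
        G ∉ (hU.primeIdealOf ⟨x, hx⟩).asIdeal.comap φ.toRingHom ∧
        ∃ l : List (Localization.Away G), LCI.IsKoszulRegularSeq (Localization.Away G) l ∧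
          (RingHom.ker φ.toRingHom).map (algebraMap _ (Localization.Away G)) =
            Ideal.span {x | x ∈ l}) →
      Synt.IsKoszulAt f x := by
  letI := (f.appLE V U e).hom.toAlgebra
  intro n φ hφ hchart
  have hψ : (φ.toRingHom).comp MvPolynomial.C = (f.appLE V U e).hom := by
    ext a
    exact φ.commutes a
  have hcomm := chart_comm f hU hV e φ.toRingHom hψ
  haveI hcl := chart_closed hU φ.toRingHom hφ
  haveI : IsClosedImmersion
      ((hU.isoSpec.hom ≫ Spec.map (CommRingCat.ofHom φ.toRingHom)) ∣_ ⊤) :=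
    IsZariskiLocalAtTarget.restrict ‹_› _
  -- transport of the chart
  let ε : Γ(Spec (CommRingCat.of (MvPolynomial (Fin n) Γ(Y, V))), ⊤) ≃+*
      MvPolynomial (Fin n) Γ(Y, V) :=
    (Scheme.ΓSpecIso (CommRingCat.of (MvPolynomial (Fin n) Γ(Y, V)))).commRingCatIsoToRingEquiv
  have hkerε : RingHom.ker ((hU.isoSpec.hom ≫
      Spec.map (CommRingCat.ofHom φ.toRingHom)).app ⊤).hom =
      (RingHom.ker φ.toRingHom).map (ε.symm : MvPolynomial (Fin n) Γ(Y, V) →+* _) := by
    rw [chart_ker]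
    have := Ideal.map_comap_of_equiv (I := RingHom.ker φ.toRingHom) ε.symm
    rw [this]
    rfl
  obtain ⟨G', hG', l', hl', hIl'⟩ := chart_ringEquiv ε.symm (RingHom.ker φ.toRingHom) _ hchart
  have hreg : RegImm.IsRegularImmersionAt .koszul
      (hU.isoSpec.hom ≫ Spec.map (CommRingCat.ofHom φ.toRingHom)) (⟨x, hx⟩ : U.toScheme) := by
    refine regAt_of_kr_at (hU.isoSpec.hom ≫ Spec.map (CommRingCat.ofHom φ.toRingHom)) ⊤
      (isAffineOpen_top _) (⟨x, hx⟩ : U.toScheme) trivial ⟨G', ?_, l', hl', ?_⟩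
    · rw [primeIdealOf_top_spec]
      exact hG'
    · rw [hkerε]
      exact hIl'
  obtain ⟨N, hxN, hN⟩ := exists_open_kr_of_regAt
    (hU.isoSpec.hom ≫ Spec.map (CommRingCat.ofHom φ.toRingHom)) (⟨x, hx⟩ : U.toScheme) hreg
  refine isKoszulAt_of_ι_comp f U x hx ⟨N, _, N.ι ≫ (hU.isoSpec.hom ≫
    Spec.map (CommRingCat.ofHom φ.toRingHom)), _, hxN, inferInstance, hN, chart_smooth hV, ?_⟩
  rw [Category.assoc, hcomm]

end Groth.Agent.Helper2.SyntLoc
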