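import Groth.Agent.Lib.Helper2.ThickRed

/-!
# More reductions for thickenings: kernels on affine opens of the base change
-/

set_option autoImplicit false
open CategoryTheory CategoryTheory.Limits AlgebraicGeometry Opposite
universe u

namespace Groth.Agent.Helper2.ThickRed

variable {X X' S S' : Scheme.{u}} {iX : X ⟶ X'} {iS : S ⟶ S'} {f : X ⟶ S} {f' : X' ⟶ S'}

/-- In a cartesian square with `iS` a closed immersion, the kernel of `Γ(X',V') → Γ(X, iX⁻¹V')`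
is generated by the kernel of `Γ(S',U') → Γ(S, iS⁻¹U')`. -/
theorem ker_app_eq_map [IsClosedImmersion iS] (hc : IsPullback iX f f' iS)
    (U' : S'.affineOpens) (V' : X'.affineOpens) (e' : V'.1 ≤ f' ⁻¹ᵁ U'.1) :
    RingHom.ker (iX.app V'.1).hom =
      (RingHom.ker (iS.app U'.1).hom).map (f'.appLE U'.1 V'.1 e').hom := by
  have : IsClosedImmersion iX := MorphismProperty.of_isPullback (P := @IsClosedImmersion) hc.flip ‹_›
  have hU : IsAffineOpen (iS ⁻¹ᵁ U'.1) := U'.2.preimage iS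
  have hV : IsAffineOpen (iX ⁻¹ᵁ V'.1) := V'.2.preimage iX
  have hVU : iX ⁻¹ᵁ V'.1 ≤ f ⁻¹ᵁ (iS ⁻¹ᵁ U'.1) := by
    intro x hx
    have h1 : f' (iX x) ∈ U'.1 := e' hx
    have h2 : f' (iX x) = iS (f x) := by
      rw [← Scheme.Hom.comp_apply, ← Scheme.Hom.comp_apply, hc.w]
    show iS (f x) ∈ U'.1
    rw [← h2]; exact h1
  have hUY : iX ⁻¹ᵁ V'.1 = iX ⁻¹ᵁ V'.1 ⊓ f ⁻¹ᵁ (iS ⁻¹ᵁ U'.1) := (inf_eq_left.2 hVU).symm
  have hiso := isIso_pushoutSection_of_isAffineOpen hc (US := U'.1) (UT := iS ⁻¹ᵁ U'.1)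
    (UX := V'.1) le_rfl e' hUY U'.2 hU V'.2
  have hpo := (isIso_pushoutSection_iff hc le_rfl e' hUY).1 hiso
  have hsurj : Function.Surjective (iS.app U'.1).hom := iS.app_surjective U'.1 U'.2
  let eA : CommRingCat.of (Γ(S', U'.1) ⧸ RingHom.ker (iS.app U'.1).hom) ≅ Γ(S, iS ⁻¹ᵁ U'.1) :=
    (RingHom.quotientKerEquivOfSurjective hsurj).toCommRingCatIso
  have heA : CommRingCat.ofHom (Ideal.Quotient.mk (RingHom.ker (iS.app U'.1).hom)) ≫ eA.hom =
      iS.appLE U'.1 (iS ⁻¹ᵁ U'.1) le_rfl := by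
    rw [← Scheme.Hom.app_eq_appLE]
    ext x
    rfl
  have H1 : IsPushout (f'.appLE U'.1 V'.1 e')
      (CommRingCat.ofHom (Ideal.Quotient.mk (RingHom.ker (iS.app U'.1).hom)))
      (iX.appLE V'.1 (iX ⁻¹ᵁ V'.1) le_rfl)
      (eA.hom ≫ f.appLE (iS ⁻¹ᵁ U'.1) (iX ⁻¹ᵁ V'.1) hVU) := by
    refine IsPushout.of_iso hpo (Iso.refl _) (Iso.refl _) eA.symm (Iso.refl _) ?_ ?_ ?_ ?_
    · simp
    · rw [← heA]; simp
    · simp
    · simp
  have H2 := isPushout_quotient (f'.appLE U'.1 V'.1 e').hom (RingHom.ker (iS.app U'.1).hom)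
  let eB := H1.isoIsPushout _ _ H2
  have heB : iX.appLE V'.1 (iX ⁻¹ᵁ V'.1) le_rfl ≫ eB.hom =
      CommRingCat.ofHom (Ideal.Quotient.mk ((RingHom.ker (iS.app U'.1).hom).map
        (f'.appLE U'.1 V'.1 e').hom)) :=
    IsPushout.inl_isoIsPushout_hom _ _ H1 H2
  rw [← Scheme.Hom.app_eq_appLE] at heB
  ext b
  rw [RingHom.mem_ker]
  have h1 : eB.hom.hom ((iX.app V'.1).hom b) = Ideal.Quotient.mk _ b :=
    congrArg (fun g => g.hom b) heB
  rw [← Ideal.Quotient.eq_zero_iff_mem, ← h1]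
  constructor
  · intro h; rw [h, map_zero]
  · intro h
    have : Function.Injective eB.hom.hom := (ConcreteCategory.bijective_of_isIso eB.hom).1
    exact this (by rw [h, map_zero])

end Groth.Agent.Helper2.ThickRed
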