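import Groth.Prelude.Def_MoreMor
import Mathlib.AlgebraicGeometry.Morphisms.UniversallyClosed
import Mathlib.AlgebraicGeometry.Morphisms.UniversallyOpen
import Mathlib.AlgebraicGeometry.Morphisms.UniversallyInjective
import Mathlib.AlgebraicGeometry.Morphisms.Proper
import Mathlib.AlgebraicGeometry.Morphisms.QuasiSeparated

set_option autoImplicit false
open CategoryTheory CategoryTheory.Limits AlgebraicGeometry Opposite
universe u

namespace Groth.Agent.Helper2

theorem thick_closedImm {X X' : Scheme.{u}} {i : X ⟶ X'} (h : MoreMor.IsThickening i) :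
    IsClosedImmersion i := h.1

theorem thick_surj {X X' : Scheme.{u}} {i : X ⟶ X'} (h : MoreMor.IsThickening i) :
    Surjective i := h.2

theorem thick_isHomeomorph {X X' : Scheme.{u}} {i : X ⟶ X'} (h : MoreMor.IsThickening i) :
    IsHomeomorph i := by
  have h1 : IsClosedImmersion i := h.1
  have h2 : Surjective i := h.2
  rw [isHomeomorph_iff_isEmbedding_surjective]
  exact ⟨i.isClosedEmbedding.isEmbedding, i.surjective⟩

/-- Base change of a thickening is a thickening. -/
theorem thick_of_isPullback {X X' Y Y' : Scheme.{u}} {i : X ⟶ X'} (h : MoreMor.IsThickening i)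
    {j : Y ⟶ Y'} {a : Y ⟶ X} {b : Y' ⟶ X'} (sq : IsPullback a j i b) :
    MoreMor.IsThickening j := by
  have h1 : IsClosedImmersion i := h.1
  have h2 : Surjective i := h.2
  exact ⟨MorphismProperty.of_isPullback (P := @IsClosedImmersion) sq h1,
    MorphismProperty.of_isPullback (P := @Surjective) sq h2⟩

theorem thick_universallyOpen {X X' : Scheme.{u}} {i : X ⟶ X'} (h : MoreMor.IsThickening i) :
    UniversallyOpen i := by
  refine ⟨?_⟩
  intro Y Y' a b j sq
  exact (thick_isHomeomorph (thick_of_isPullback h sq.flip)).isOpenMap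

theorem universallyOpen_of_comp_surjective {X Y Z : Scheme.{u}} (f : X ⟶ Y) (g : Y ⟶ Z)
    [Surjective f] [h : UniversallyOpen (f ≫ g)] : UniversallyOpen g := by
  refine ⟨?_⟩
  intro Y' Z' a b g' sq
  have sq3 : IsPullback (pullback.fst a f ≫ g') (pullback.snd a f) b (f ≫ g) :=
    (IsPullback.of_hasPullback a f).paste_horiz sq
  have hop : IsOpenMap (pullback.fst a f ≫ g') := h.1 _ _ _ sq3
  have hs : Surjective (pullback.fst a f) := MorphismProperty.pullback_fst (P := @Surjective) _ _ ‹_›
  intro U hU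
  have : g' '' U = (pullback.fst a f ≫ g') '' ((pullback.fst a f) ⁻¹' U) := by
    rw [Scheme.Hom.comp_base, TopCat.coe_comp, Set.image_comp,
      Set.image_preimage_eq _ (pullback.fst a f).surjective]
  rw [this]
  exact hop _ (hU.preimage (pullback.fst a f).continuous)

theorem universallyInjective_of_comp_surjective {X Y Z : Scheme.{u}} (f : X ⟶ Y) (g : Y ⟶ Z)
    [Surjective f] [h : UniversallyInjective (f ≫ g)] : UniversallyInjective g := by
  refine ⟨?_⟩
  intro Y' Z' a b g' sq
  have sq3 : IsPullback (pullback.fst a f ≫ g') (pullback.snd a f) b (f ≫ g) :=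
    (IsPullback.of_hasPullback a f).paste_horiz sq
  have hinj : Function.Injective (pullback.fst a f ≫ g') := h.1 _ _ _ sq3
  have hs : Surjective (pullback.fst a f) := MorphismProperty.pullback_fst (P := @Surjective) _ _ ‹_›
  intro y₁ y₂ hy
  obtain ⟨x₁, rfl⟩ := (pullback.fst a f).surjective y₁
  obtain ⟨x₂, rfl⟩ := (pullback.fst a f).surjective y₂
  congr 1
  apply hinj
  simpa using hy

end Groth.Agent.Helper2

namespace Groth.Agent.Helper2

theorem quasiSeparated_of_comp_thick {X X' Y : Scheme.{u}} (i : X ⟶ X') (g : X' ⟶ Y)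
    (hi : MoreMor.IsThickening i) [h : QuasiSeparated (i ≫ g)] : QuasiSeparated g := by
  have hh := thick_isHomeomorph hi
  have h' := h
  rw [HasAffineProperty.eq_targetAffineLocally (P := @QuasiSeparated)] at h' ⊢
  intro U
  have h1 : QuasiSeparatedSpace ↥((i ≫ g) ⁻¹ᵁ U.1) := h' U
  have h2 : IsQuasiSeparated (((i ≫ g) ⁻¹ᵁ U.1 : X.Opens) : Set X) :=
    (isQuasiSeparated_iff_quasiSeparatedSpace _ ((i ≫ g) ⁻¹ᵁ U.1).2).mpr h1
  have h3 : IsQuasiSeparated (i '' (((i ≫ g) ⁻¹ᵁ U.1 : X.Opens) : Set X)) :=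
    h2.image_of_isEmbedding hh.isEmbedding
  have e : i '' (((i ≫ g) ⁻¹ᵁ U.1 : X.Opens) : Set X) = ((g ⁻¹ᵁ U.1 : X'.Opens) : Set X') := by
    ext x'
    obtain ⟨x, rfl⟩ := hh.surjective x'
    constructor
    · rintro ⟨y, hy, hyx⟩
      rw [← hyx]
      simpa using hy
    · intro hx
      exact ⟨x, by simpa using hx, rfl⟩
  rw [e] at h3
  exact (isQuasiSeparated_iff_quasiSeparatedSpace _ (g ⁻¹ᵁ U.1).2).mp h3

end Groth.Agent.Helper2
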