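import Mathlib.RingTheory.FiniteType
import Mathlib.RingTheory.RingHom.FiniteType
import Mathlib.RingTheory.Ideal.Quotient.Operations
import Mathlib.RingTheory.Nilpotent.Lemmas

/-!
# Commutative algebra for thickenings: lifting properties along nilpotent ideals
-/

set_option autoImplicit false
universe u

namespace Groth.Agent.Helper2.ThickAlg

variable {A' B' : Type u} [CommRing A'] [CommRing B']

/-- Nilpotent Nakayama for submodules: if `N ⊔ I • ⊤ = ⊤` with `I` nilpotent, then `N = ⊤`. -/
lemma eq_top_of_sup_smul_eq_top {R M : Type*} [CommRing R] [AddCommGroup M] [Module R M]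
    (I : Ideal R) (hI : IsNilpotent I) (N : Submodule R M) (h : N ⊔ I • (⊤ : Submodule R M) = ⊤) :
    N = ⊤ := by
  obtain ⟨n, hn⟩ := hI
  have key : ∀ k : ℕ, N ⊔ I ^ k • (⊤ : Submodule R M) = ⊤ := by
    intro k
    induction k with
    | zero => simp
    | succ k ih =>
      rw [eq_top_iff]
      calc (⊤ : Submodule R M) = N ⊔ I • (⊤ : Submodule R M) := h.symm
        _ = N ⊔ I • (N ⊔ I ^ k • (⊤ : Submodule R M)) := by rw [ih]
        _ = N ⊔ (I • N ⊔ I • (I ^ k • (⊤ : Submodule R M))) := by rw [Submodule.smul_sup]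
        _ ≤ N ⊔ I ^ (k + 1) • (⊤ : Submodule R M) := by
          refine sup_le le_sup_left (sup_le ?_ ?_)
          · exact le_trans Submodule.smul_le_right le_sup_left
          · rw [← Submodule.mul_smul, ← pow_succ']
            exact le_sup_right
  have := key n
  rwa [hn, Submodule.zero_eq_bot, Submodule.bot_smul, sup_bot_eq] at this

/-- Finite type lifts along nilpotent ideals. -/
theorem finiteType_of_quotientMap (φ : A' →+* B') (I : Ideal A') (hI : IsNilpotent I)
    (h : (Ideal.quotientMap (I.map φ) φ Ideal.le_comap_map).FiniteType) : φ.FiniteType := by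
  classical
  algebraize [φ, Ideal.quotientMap (I.map φ) φ Ideal.le_comap_map]
  show Algebra.FiniteType A' B'
  obtain ⟨t, ht⟩ := (Algebra.FiniteType.out : (⊤ : Subalgebra (A' ⧸ I) (B' ⧸ I.map φ)).FG)
  have hsurj : Function.Surjective (Ideal.Quotient.mk (I.map φ)) := Ideal.Quotient.mk_surjective
  let s : Finset B' := t.image (Function.surjInv hsurj)
  have key : ∀ y ∈ Algebra.adjoin (A' ⧸ I) (t : Set (B' ⧸ I.map φ)),
      ∃ c ∈ Algebra.adjoin A' (s : Set B'), Ideal.Quotient.mk (I.map φ) c = y := by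
    intro y hy
    induction hy using Algebra.adjoin_induction with
    | mem y hy =>
      refine ⟨Function.surjInv hsurj y, Algebra.subset_adjoin ?_, Function.surjInv_eq hsurj y⟩
      exact Finset.mem_coe.2 (Finset.mem_image_of_mem _ hy)
    | algebraMap r =>
      obtain ⟨a, rfl⟩ := Ideal.Quotient.mk_surjective r
      refine ⟨algebraMap A' B' a, Subalgebra.algebraMap_mem _ a, ?_⟩
      rw [RingHom.algebraMap_toAlgebra, RingHom.algebraMap_toAlgebra, Ideal.quotientMap_mk]
    | add x y _ _ hx hy =>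
      obtain ⟨c₁, hc₁, rfl⟩ := hx
      obtain ⟨c₂, hc₂, rfl⟩ := hy
      exact ⟨c₁ + c₂, Subalgebra.add_mem _ hc₁ hc₂, map_add _ _ _⟩
    | mul x y _ _ hx hy =>
      obtain ⟨c₁, hc₁, rfl⟩ := hx
      obtain ⟨c₂, hc₂, rfl⟩ := hy
      exact ⟨c₁ * c₂, Subalgebra.mul_mem _ hc₁ hc₂, map_mul _ _ _⟩
  have htop : Subalgebra.toSubmodule (Algebra.adjoin A' (s : Set B')) ⊔
      I • (⊤ : Submodule A' B') = ⊤ := by
    rw [eq_top_iff]
    intro b _
    obtain ⟨c, hc, hcb⟩ := key (Ideal.Quotient.mk (I.map φ) b) (by rw [ht]; trivial)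
    have hbc : b - c ∈ I.map φ := by
      rw [← Ideal.Quotient.eq_zero_iff_mem, map_sub, hcb, sub_self]
    have hbc' : b - c ∈ I • (⊤ : Submodule A' B') := by
      rw [Ideal.smul_top_eq_map]
      exact hbc
    have : b = c + (b - c) := by ring
    rw [this]
    exact Submodule.add_mem_sup hc hbc'
  have hC := eq_top_of_sup_smul_eq_top I hI _ htop
  refine ⟨⟨s, ?_⟩⟩
  exact Subalgebra.toSubmodule_injective (by rw [hC]; rfl)

end Groth.Agent.Helper2.ThickAlg
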