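import Groth.Agent.Lib.Helper1.LocalCriterion
import Groth.Agent.Lib.Helper2.ThickAlg

set_option autoImplicit false
universe u

namespace Groth.Agent.Helper2.ThickFlat
open TensorProduct

variable {A' B' C' : Type u} [CommRing A'] [CommRing B'] [CommRing C']

/-- Flatness lifts along nilpotent ideals when `K ⊗ C' → C'` is injective. -/
theorem flat_of_quotientMap_of_injective (β : B' →+* C') (K : Ideal B') (hK : IsNilpotent K)
    (h : (Ideal.quotientMap (K.map β) β Ideal.le_comap_map).Flat)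
    (H1 : letI := β.toAlgebra; Function.Injective (K.subtype.rTensor C')) : β.Flat := by
  algebraize [β, Ideal.quotientMap (K.map β) β Ideal.le_comap_map]
  show Module.Flat B' C'
  have : IsScalarTower B' (B' ⧸ K) (C' ⧸ K.map β) := IsScalarTower.of_algebraMap_eq (fun b => by
    rw [RingHom.algebraMap_toAlgebra (Ideal.quotientMap (K.map β) β Ideal.le_comap_map)]
    rfl)
  let e1 : (B' ⧸ K) ⊗[B'] C' ≃ₗ[B'] C' ⧸ (K • ⊤ : Submodule B' C') := quotTensorEquivQuotSMul C' K
  let e2 : (C' ⧸ (K • ⊤ : Submodule B' C')) ≃ₗ[B'] C' ⧸ (K.map (algebraMap B' C')).restrictScalars B' :=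
    Submodule.quotEquivOfEq _ _ (Ideal.smul_top_eq_map K)
  let e3 : (C' ⧸ (K.map (algebraMap B' C')).restrictScalars B') ≃ₗ[B'] C' ⧸ K.map (algebraMap B' C') :=
    Submodule.Quotient.restrictScalarsEquiv B' _
  let e : (B' ⧸ K) ⊗[B'] C' ≃ₗ[B'] C' ⧸ K.map β := e1 ≪≫ₗ e2 ≪≫ₗ e3
  let e' : (B' ⧸ K) ⊗[B'] C' ≃ₗ[B' ⧸ K] C' ⧸ K.map β :=
    LinearEquiv.extendScalarsOfSurjective Ideal.Quotient.mk_surjective e
  have H2 : Module.Flat (B' ⧸ K) ((B' ⧸ K) ⊗[B'] C') := Module.Flat.of_linearEquiv e'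
  exact Groth.Agent.Helper1.flat_of_isNilpotent K hK H1

/-- Flatness of `B' → C'` lifts along a nilpotent ideal `I` of `A'` when `C'` is flat over `A'`. -/
theorem flat_of_quotientMap (α : A' →+* B') (β : B' →+* C') (I : Ideal A') (hI : IsNilpotent I)
    (hflat : (β.comp α).Flat)
    (h : (Ideal.quotientMap ((I.map α).map β) β Ideal.le_comap_map).Flat) : β.Flat := by
  have hK : IsNilpotent (I.map α) := by
    obtain ⟨n, hn⟩ := hI
    refine ⟨n, ?_⟩
    rw [← Ideal.map_pow, hn, Ideal.zero_eq_bot, Ideal.map_bot]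
    rfl
  refine flat_of_quotientMap_of_injective β (I.map α) hK h ?_
  algebraize [α, β, β.comp α]
  exact Groth.Agent.Helper1.rTensor_map_subtype_injective_of_flat (R := A') (S := B') (M := C') I

end Groth.Agent.Helper2.ThickFlat
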