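import Groth.Agent.Lib.Helper2.ThickFlat
import Mathlib.RingTheory.FinitePresentation
import Mathlib.RingTheory.RingHom.FinitePresentation

/-!
# Finite presentation lifts along nilpotent ideals (under a Tor-vanishing hypothesis)
-/

set_option autoImplicit false
universe u

namespace Groth.Agent.Helper2.ThickFP
open TensorProduct

/-- Variant of `LinearMap.ker_inf_smul_top_eq_smul_of_flat` with the flatness replaced
by the injectivity of `I ⊗ N → N`. -/
lemma ker_inf_smul_top_eq_smul_of_injective {R : Type*} [CommRing R] {M N : Type*}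
    [AddCommGroup M] [AddCommGroup N]
    [Module R M] [Module R N] (I : Ideal R) (f : M →ₗ[R] N) (surj : Function.Surjective f)
    (inj0 : Function.Injective (I.subtype.rTensor N)) :
    f.ker ⊓ (I • (⊤ : Submodule R M)) = I • f.ker := by
  refine le_antisymm (fun x hx ↦ ?_) (fun x hx ↦ ?_)
  · rcases (Submodule.ext_iff.mp (I.subtype_rTensor_range M) x).mpr hx.2 with ⟨y, hy⟩
    have inj : Function.Injective ((TensorProduct.lid R N).comp (I.subtype.rTensor N)) :=
      (TensorProduct.lid R N).injective.comp inj0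
    have comm1 : ((TensorProduct.lid R N).comp (I.subtype.rTensor N)).comp (f.lTensor I) =
      f.comp ((TensorProduct.lid R M).comp (I.subtype.rTensor M)) := by
      ext
      simp
    have eq0 : f.lTensor I y = 0 := by
      apply inj
      rw [map_zero, ← LinearMap.comp_apply, comm1, LinearMap.comp_apply, hy, f.mem_ker.mp hx.1]
    rcases ((lTensor_exact I (f.exact_subtype_ker_map) surj) y).mp eq0 with ⟨z, hz⟩
    have comm2 : ((TensorProduct.lid R M).comp (I.subtype.rTensor M)).comp
      (f.ker.subtype.lTensor I) = f.ker.subtype.comp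
      ((TensorProduct.lid R f.ker).comp (I.subtype.rTensor f.ker)) := by
      ext
      simp
    apply (Submodule.mem_smul_top_iff I f.ker ⟨x, hx.1⟩).mp
    rw [← Ideal.subtype_rTensor_range]
    use z
    apply f.ker.subtype_injective
    rw [← LinearMap.comp_apply, ← comm2, LinearMap.comp_apply, hz, hy, Submodule.subtype_apply]
  · induction hx using Submodule.smul_induction_on' with
    | smul r hr m hm =>
      simpa [LinearMap.mem_ker.mp hm] using Submodule.smul_mem_smul hr Submodule.mem_top
    | add y ymem z zmem hy hz => exact add_mem hy hz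

/-- Nilpotent Nakayama, relative version. -/
lemma le_of_le_sup_smul {R M : Type*} [CommRing R] [AddCommGroup M] [Module R M]
    (I : Ideal R) (hI : IsNilpotent I) (N M' : Submodule R M) (h : M' ≤ N ⊔ I • M') : M' ≤ N := by
  obtain ⟨n, hn⟩ := hI
  have key : ∀ k : ℕ, M' ≤ N ⊔ I ^ k • M' := by
    intro k
    induction k with
    | zero => simp
    | succ k ih =>
      calc M' ≤ N ⊔ I • M' := h
        _ ≤ N ⊔ I • (N ⊔ I ^ k • M') := sup_le_sup_left (Submodule.smul_mono le_rfl ih) _
        _ = N ⊔ (I • N ⊔ I • (I ^ k • M')) := by rw [Submodule.smul_sup]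
        _ ≤ N ⊔ I ^ (k + 1) • M' := by
          refine sup_le le_sup_left (sup_le ?_ ?_)
          · exact le_trans Submodule.smul_le_right le_sup_left
          · rw [← Submodule.mul_smul, ← pow_succ']
            exact le_sup_right
  have := key n
  rwa [hn, Submodule.zero_eq_bot, Submodule.bot_smul, sup_bot_eq] at this

variable {A' B' C' : Type u} [CommRing A'] [CommRing B'] [CommRing C']

/-- Finite presentation lifts along nilpotent ideals when `K ⊗ C' → C'` is injective. -/
theorem finitePresentation_of_quotientMap_of_injective (β : B' →+* C') (K : Ideal B')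
    (hK : IsNilpotent K)
    (h : (Ideal.quotientMap (K.map β) β Ideal.le_comap_map).FinitePresentation)
    (H1 : letI := β.toAlgebra; Function.Injective (K.subtype.rTensor C')) :
    β.FinitePresentation := by
  classical
  have hft : β.FiniteType := ThickAlg.finiteType_of_quotientMap β K hK
    (RingHom.FiniteType.of_finitePresentation h)
  algebraize [β, Ideal.quotientMap (K.map β) β Ideal.le_comap_map]
  show Algebra.FinitePresentation B' C'
  obtain ⟨n, π, hπ⟩ := Algebra.FiniteType.iff_quotient_mvPolynomial''.1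
    (inferInstance : Algebra.FiniteType B' C')
  refine ⟨n, π, hπ, ?_⟩
  let ρ : MvPolynomial (Fin n) B' →+* MvPolynomial (Fin n) (B' ⧸ K) :=
    MvPolynomial.map (Ideal.Quotient.mk K)
  have hρsurj : Function.Surjective ρ := MvPolynomial.map_surjective _ Ideal.Quotient.mk_surjective
  let πb : MvPolynomial (Fin n) (B' ⧸ K) →ₐ[B' ⧸ K] C' ⧸ K.map β :=
    MvPolynomial.aeval (fun i => Ideal.Quotient.mk (K.map β) (π (MvPolynomial.X i)))
  have hcomm : πb.toRingHom.comp ρ = (Ideal.Quotient.mk (K.map β)).comp π.toRingHom := by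
    apply MvPolynomial.ringHom_ext
    · intro b
      simp only [RingHom.comp_apply, ρ, MvPolynomial.map_C, AlgHom.toRingHom_eq_coe,
        RingHom.coe_coe, πb, MvPolynomial.aeval_C]
      rw [RingHom.algebraMap_toAlgebra (Ideal.quotientMap (K.map β) β Ideal.le_comap_map),
        Ideal.quotientMap_mk]
      congr 1
      have : π (MvPolynomial.C b) = algebraMap B' C' b := by
        rw [← MvPolynomial.algebraMap_eq, AlgHom.commutes]
      rw [this]
      rfl
    · intro i
      simp [ρ, πb]
  have hcomm' : ∀ x, πb (ρ x) = Ideal.Quotient.mk (K.map β) (π x) := fun x =>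
    congrArg (fun g => g x) hcomm
  have hπbsurj : Function.Surjective πb := by
    intro y
    obtain ⟨c, rfl⟩ := Ideal.Quotient.mk_surjective y
    obtain ⟨x, rfl⟩ := hπ c
    exact ⟨ρ x, hcomm' x⟩
  set L : Ideal (MvPolynomial (Fin n) B') := RingHom.ker π.toRingHom with hL
  set KP : Ideal (MvPolynomial (Fin n) B') := K.map (MvPolynomial.C) with hKP
  have hkerρ : RingHom.ker ρ = KP := by
    rw [hKP, MvPolynomial.ker_map, Ideal.mk_ker]
  have hKPmap : KP.map π.toRingHom = K.map β := by
    rw [hKP, Ideal.map_map]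
    congr 1
    ext b
    simp only [RingHom.comp_apply, AlgHom.toRingHom_eq_coe, RingHom.coe_coe]
    rw [← MvPolynomial.algebraMap_eq, AlgHom.commutes]
    rfl
  -- Claim A
  have hA : RingHom.ker πb.toRingHom = L.map ρ := by
    apply le_antisymm
    · intro yb hyb
      obtain ⟨y, rfl⟩ := hρsurj yb
      have h1 : Ideal.Quotient.mk (K.map β) (π y) = 0 := by
        rw [← hcomm']; exact hyb
      rw [Ideal.Quotient.eq_zero_iff_mem, ← hKPmap] at h1
      obtain ⟨z, hz, hzy⟩ := (Ideal.mem_map_iff_of_surjective π.toRingHom hπ).1 h1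
      have hzy' : π z = π y := hzy
      have h2 : y - z ∈ L := by
        rw [hL, RingHom.mem_ker]
        show π (y - z) = 0
        rw [map_sub, hzy', sub_self]
      have h3 : ρ z = 0 := by
        rw [← RingHom.mem_ker, hkerρ]; exact hz
      have h4 : ρ y = ρ (y - z) := by rw [map_sub, h3, sub_zero]
      rw [h4]
      exact Ideal.mem_map_of_mem _ h2
    · rw [Ideal.map_le_iff_le_comap]
      intro l hl
      rw [Ideal.mem_comap, RingHom.mem_ker]
      show πb (ρ l) = 0
      rw [hcomm']
      have : π l = 0 := hl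
      rw [this, map_zero]
  -- Claim B
  have hB : (L.map ρ).FG := by
    rw [← hA]
    exact Algebra.FinitePresentation.ker_fG_of_surjective πb hπbsurj
  -- Claim C
  obtain ⟨s, hs⟩ := hB
  have hsL : ∀ y ∈ s, ∃ x ∈ L, ρ x = y := by
    intro y hy
    have : y ∈ L.map ρ := by rw [← hs]; exact Submodule.subset_span hy
    exact (Ideal.mem_map_iff_of_surjective ρ hρsurj).1 this
  choose! g hgL hgρ using hsL
  set L₀ : Ideal (MvPolynomial (Fin n) B') := Ideal.span ((s.image g : Finset _) : Set _) with hL₀
  have hL₀L : L₀ ≤ L := by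
    rw [hL₀, Ideal.span_le]
    intro x hx
    obtain ⟨y, hy, rfl⟩ := Finset.mem_image.1 (Finset.mem_coe.1 hx)
    exact hgL y hy
  have hL₀map : L.map ρ ≤ L₀.map ρ := by
    rw [← hs]
    rw [Ideal.span_le]
    intro y hy
    rw [← hgρ y hy]
    refine Ideal.mem_map_of_mem _ (Ideal.subset_span ?_)
    exact Finset.mem_coe.2 (Finset.mem_image_of_mem g hy)
  -- Claim D
  have hD : L ⊓ KP ≤ KP * L := by
    have h0 := ker_inf_smul_top_eq_smul_of_injective K π.toLinearMap hπ H1
    intro x hx
    have hx1 : x ∈ LinearMap.ker π.toLinearMap := hx.1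
    have hx2 : x ∈ K • (⊤ : Submodule B' (MvPolynomial (Fin n) B')) := by
      rw [Ideal.smul_top_eq_map]
      exact hx.2
    have hx3 : x ∈ K • LinearMap.ker π.toLinearMap := by
      rw [← h0]; exact ⟨hx1, hx2⟩
    have hle : K • LinearMap.ker π.toLinearMap ≤ (KP * L).restrictScalars B' := by
      rw [Submodule.smul_le]
      intro k hk l hl
      show k • l ∈ KP * L
      rw [Algebra.smul_def]
      exact Ideal.mul_mem_mul (Ideal.mem_map_of_mem _ hk) hl
    exact hle hx3
  -- Claim E
  have hE : L ≤ L₀ ⊔ KP • L := by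
    intro l hl
    have h1 : ρ l ∈ L₀.map ρ := hL₀map (Ideal.mem_map_of_mem _ hl)
    obtain ⟨l₀, hl₀, hl₀l⟩ := (Ideal.mem_map_iff_of_surjective ρ hρsurj).1 h1
    have h2 : l - l₀ ∈ L ⊓ KP := by
      refine ⟨Ideal.sub_mem _ hl (hL₀L hl₀), ?_⟩
      have : l - l₀ ∈ RingHom.ker ρ := by
        rw [RingHom.mem_ker, map_sub, hl₀l, sub_self]
      rw [hkerρ] at this
      exact this
    have h3 : l = l₀ + (l - l₀) := by ring
    rw [h3]
    exact Submodule.add_mem_sup hl₀ (hD h2)
  have hKPnil : IsNilpotent KP := by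
    obtain ⟨m, hm⟩ := hK
    refine ⟨m, ?_⟩
    rw [hKP, ← Ideal.map_pow, hm, Ideal.zero_eq_bot, Ideal.map_bot]
    rfl
  have hF : L ≤ L₀ := le_of_le_sup_smul KP hKPnil L₀ L hE
  have : L = L₀ := le_antisymm hF hL₀L
  rw [this]
  exact ⟨s.image g, rfl⟩

/-- Finite presentation of `B' → C'` lifts along a nilpotent ideal `I` of `A'` when `C'` is flat
over `A'`. -/
theorem finitePresentation_of_quotientMap (α : A' →+* B') (β : B' →+* C') (I : Ideal A')
    (hI : IsNilpotent I) (hflat : (β.comp α).Flat)
    (h : (Ideal.quotientMap ((I.map α).map β) β Ideal.le_comap_map).FinitePresentation) :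
    β.FinitePresentation := by
  have hK : IsNilpotent (I.map α) := by
    obtain ⟨n, hn⟩ := hI
    refine ⟨n, ?_⟩
    rw [← Ideal.map_pow, hn, Ideal.zero_eq_bot, Ideal.map_bot]
    rfl
  refine finitePresentation_of_quotientMap_of_injective β (I.map α) hK h ?_
  algebraize [α, β, β.comp α]
  exact Groth.Agent.Helper1.rTensor_map_subtype_injective_of_flat (R := A') (S := B') (M := C') I

end Groth.Agent.Helper2.ThickFP
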