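import Groth.Agent.Lib.Helper2.ThickRed2

/-!
# Generic deformation lemma for ring hom properties along finite order thickenings
-/

set_option autoImplicit false
open CategoryTheory CategoryTheory.Limits AlgebraicGeometry Opposite
universe u

namespace Groth.Agent.Helper2.ThickRed

/-- Generic form of "deformation" statements: let `S ⟶ S'` be a finite order thickening,
`X' ⟶ Y' ⟶ S'` morphisms with `X'` flat over `S'`, and `X ⟶ Y` the base change to `S`.
If the ring hom property `Q` lifts along nilpotent ideals for algebras flat over the base,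
then `P f → P f'`. -/
theorem deform_of_ringHomProperty
    (P : MorphismProperty Scheme.{u})
    (Q : ∀ {R S : Type u} [CommRing R] [CommRing S], (R →+* S) → Prop)
    [HasRingHomProperty P Q]
    (hQsrc : RingHom.StableUnderCompositionWithLocalizationAwaySource Q)
    (halg : ∀ {A' B' C' : Type u} [CommRing A'] [CommRing B'] [CommRing C']
      (α : A' →+* B') (β : B' →+* C') (I : Ideal A'), IsNilpotent I → (β.comp α).Flat →
      Q (Ideal.quotientMap ((I.map α).map β) β Ideal.le_comap_map) → Q β)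
    {X X' Y Y' S S' : Scheme.{u}} (iX : X ⟶ X') (iY : Y ⟶ Y') (iS : S ⟶ S')
    (f : X ⟶ Y) (f' : X' ⟶ Y') (g : Y ⟶ S) (g' : Y' ⟶ S')
    (hS : MoreMor.IsFiniteOrderThickening iS) (hcX : IsPullback iX (f ≫ g) (f' ≫ g') iS)
    (hcY : IsPullback iY g g' iS)
    (w : iX ≫ f' = f ≫ iY) [Flat (f' ≫ g')] (hf : P f) : P f' := by
  have : IsClosedImmersion iS := hS.1.1
  have : IsClosedImmersion iY := MorphismProperty.of_isPullback (P := @IsClosedImmersion) hcY.flip ‹_›
  have hsq : IsPullback iX f f' iY := IsPullback.of_bot hcX w hcY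
  rw [HasRingHomProperty.iff_exists_appLE (P := P) hQsrc]
  intro x'
  obtain ⟨W', hW', hxW', -⟩ := exists_isAffineOpen_mem_and_subset
    (x := g' (f' x')) (U := ⊤) trivial
  obtain ⟨U', hU', hxU', hUW⟩ := exists_isAffineOpen_mem_and_subset
    (x := f' x') (U := g' ⁻¹ᵁ W') hxW'
  obtain ⟨V', hV', hxV', hVU⟩ := exists_isAffineOpen_mem_and_subset
    (x := x') (U := f' ⁻¹ᵁ U') hxU'
  refine ⟨⟨U', hU'⟩, ⟨V', hV'⟩, hxV', hVU, ?_⟩
  have hker := ker_app_eq_map hcY ⟨W', hW'⟩ ⟨U', hU'⟩ hUW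
  have hq := quotientMap_of_isPullback hsq P Q hf ⟨U', hU'⟩ ⟨V', hV'⟩ hVU
  have hI := isNilpotent_ker_of_finiteOrder hS ⟨W', hW'⟩
  have hcomp : ((f'.appLE U' V' hVU).hom.comp (g'.appLE W' U' hUW).hom).Flat := by
    have h1 : g'.appLE W' U' hUW ≫ f'.appLE U' V' hVU = (f' ≫ g').appLE W' V' _ :=
      Scheme.Hom.appLE_comp_appLE _ _ _ _ _ _ _
    have h2 := HasRingHomProperty.appLE @Flat (f' ≫ g') inferInstance ⟨W', hW'⟩ ⟨V', hV'⟩
      (by
        intro z hz
        exact hUW (hVU hz))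
    rw [← CommRingCat.hom_comp, h1]
    exact h2
  simp only at hker hq
  rw [hker] at hq
  exact halg _ _ _ hI hcomp hq

/-- The commutative square `X → Y` over `X' → Y'` is cartesian. -/
theorem isPullback_of_deform {X X' Y Y' S S' : Scheme.{u}} {iX : X ⟶ X'} {iY : Y ⟶ Y'} {iS : S ⟶ S'}
    {f : X ⟶ Y} {f' : X' ⟶ Y'} {g : Y ⟶ S} {g' : Y' ⟶ S'}
    (hcX : IsPullback iX (f ≫ g) (f' ≫ g') iS) (hcY : IsPullback iY g g' iS)
    (w : iX ≫ f' = f ≫ iY) : IsPullback iX f f' iY := IsPullback.of_bot hcX w hcY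

end Groth.Agent.Helper2.ThickRed
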