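import Groth.Agent.Lib.Helper2.Thickening
import Mathlib.AlgebraicGeometry.Morphisms.Flat
import Mathlib.AlgebraicGeometry.Morphisms.ClosedImmersion
import Mathlib.AlgebraicGeometry.Morphisms.RingHomProperties

/-!
# Reduction of statements about thickenings to commutative algebra
-/

set_option autoImplicit false
open CategoryTheory CategoryTheory.Limits AlgebraicGeometry Opposite
universe u

namespace Groth.Agent.Helper2.ThickRed

section ring

variable {A' B' : Type u} [CommRing A'] [CommRing B']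

/-- `B'/IB'` is the pushout of `A'/I ← A' → B'`. -/
lemma isPushout_quotient (φ : A' →+* B') (I : Ideal A') :
    IsPushout (CommRingCat.ofHom φ) (CommRingCat.ofHom (Ideal.Quotient.mk I))
      (CommRingCat.ofHom (Ideal.Quotient.mk (I.map φ)))
      (CommRingCat.ofHom (Ideal.quotientMap (I.map φ) φ Ideal.le_comap_map)) := by
  have comm : CommRingCat.ofHom φ ≫ CommRingCat.ofHom (Ideal.Quotient.mk (I.map φ)) =
      CommRingCat.ofHom (Ideal.Quotient.mk I) ≫
        CommRingCat.ofHom (Ideal.quotientMap (I.map φ) φ Ideal.le_comap_map) := by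
    ext x
    simp
  have kill : ∀ (s : PushoutCocone (CommRingCat.ofHom φ) (CommRingCat.ofHom (Ideal.Quotient.mk I))),
      ∀ b ∈ I.map φ, s.inl.hom b = 0 := by
    intro s
    have : I.map φ ≤ RingHom.ker s.inl.hom := by
      rw [Ideal.map_le_iff_le_comap]
      intro i hi
      rw [Ideal.mem_comap, RingHom.mem_ker]
      have h := congrArg (fun g => g.hom i) s.condition
      simp only [CommRingCat.hom_comp, CommRingCat.hom_ofHom, RingHom.comp_apply] at h
      rw [h, Ideal.Quotient.eq_zero_iff_mem.2 hi, map_zero]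
    exact fun b hb => this hb
  refine ⟨⟨comm⟩, ⟨PushoutCocone.IsColimit.mk _
    (fun s => CommRingCat.ofHom (Ideal.Quotient.lift (I.map φ) s.inl.hom (kill s))) ?_ ?_ ?_⟩⟩
  · intro s
    ext x
    simp
  · intro s
    ext a
    have h := congrArg (fun g => g.hom a) s.condition
    simp only [CommRingCat.hom_comp, CommRingCat.hom_ofHom, RingHom.comp_apply] at h
    simp [h]
  · intro s m hm _
    ext b
    have h := congrArg (fun g => g.hom b) hm
    simpa using h

end ring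

section scheme

variable {X X' S S' : Scheme.{u}} {iX : X ⟶ X'} {iS : S ⟶ S'} {f : X ⟶ S} {f' : X' ⟶ S'}

/-- The key reduction: in a cartesian square with `iS` a closed immersion, for affine opens
`V' ⊆ f'⁻¹ U'`, the ring map `A'/I → B'/IB'` (with `I = ker (Γ(S',U') → Γ(S, iS⁻¹U'))`)
inherits every ring hom property of `f`. -/
theorem quotientMap_of_isPullback [IsClosedImmersion iS] (hc : IsPullback iX f f' iS)
    (P : MorphismProperty Scheme.{u}) (Q : ∀ {R S : Type u} [CommRing R] [CommRing S], (R →+* S) → Prop)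
    [HasRingHomProperty P Q] (hf : P f)
    (U' : S'.affineOpens) (V' : X'.affineOpens) (e' : V'.1 ≤ f' ⁻¹ᵁ U'.1) :
    Q (Ideal.quotientMap ((RingHom.ker (iS.app U'.1).hom).map (f'.appLE U'.1 V'.1 e').hom)
      (f'.appLE U'.1 V'.1 e').hom Ideal.le_comap_map) := by
  have hQi : RingHom.RespectsIso Q := (HasRingHomProperty.isLocal_ringHomProperty P).respectsIso
  have : IsClosedImmersion iX := MorphismProperty.of_isPullback (P := @IsClosedImmersion) hc.flip ‹_›
  have hU : IsAffineOpen (iS ⁻¹ᵁ U'.1) := U'.2.preimage iS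
  have hV : IsAffineOpen (iX ⁻¹ᵁ V'.1) := V'.2.preimage iX
  have hVU : iX ⁻¹ᵁ V'.1 ≤ f ⁻¹ᵁ (iS ⁻¹ᵁ U'.1) := by
    intro x hx
    have h1 : f' (iX x) ∈ U'.1 := e' hx
    have h2 : f' (iX x) = iS (f x) := by
      rw [← Scheme.Hom.comp_apply, ← Scheme.Hom.comp_apply, hc.w]
    show iS (f x) ∈ U'.1
    rw [← h2]; exact h1
  have hUY : iX ⁻¹ᵁ V'.1 = iX ⁻¹ᵁ V'.1 ⊓ f ⁻¹ᵁ (iS ⁻¹ᵁ U'.1) := (inf_eq_left.2 hVU).symm
  have hiso := isIso_pushoutSection_of_isAffineOpen hc (US := U'.1) (UT := iS ⁻¹ᵁ U'.1)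
    (UX := V'.1) le_rfl e' hUY U'.2 hU V'.2
  have hpo := (isIso_pushoutSection_iff hc le_rfl e' hUY).1 hiso
  have hQf : Q (f.appLE (iS ⁻¹ᵁ U'.1) (iX ⁻¹ᵁ V'.1) hVU).hom :=
    HasRingHomProperty.appLE P f hf ⟨_, hU⟩ ⟨_, hV⟩ hVU
  have hsurj : Function.Surjective (iS.app U'.1).hom := iS.app_surjective U'.1 U'.2
  let eA : CommRingCat.of (Γ(S', U'.1) ⧸ RingHom.ker (iS.app U'.1).hom) ≅ Γ(S, iS ⁻¹ᵁ U'.1) :=
    (RingHom.quotientKerEquivOfSurjective hsurj).toCommRingCatIso
  have heA : CommRingCat.ofHom (Ideal.Quotient.mk (RingHom.ker (iS.app U'.1).hom)) ≫ eA.hom =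
      iS.appLE U'.1 (iS ⁻¹ᵁ U'.1) le_rfl := by
    rw [← Scheme.Hom.app_eq_appLE]
    ext x
    rfl
  have H1 : IsPushout (f'.appLE U'.1 V'.1 e')
      (CommRingCat.ofHom (Ideal.Quotient.mk (RingHom.ker (iS.app U'.1).hom)))
      (iX.appLE V'.1 (iX ⁻¹ᵁ V'.1) le_rfl)
      (eA.hom ≫ f.appLE (iS ⁻¹ᵁ U'.1) (iX ⁻¹ᵁ V'.1) hVU) := by
    refine IsPushout.of_iso hpo (Iso.refl _) (Iso.refl _) eA.symm (Iso.refl _) ?_ ?_ ?_ ?_
    · simp
    · rw [← heA]; simp
    · simp
    · simp
  have H2 := isPushout_quotient (f'.appLE U'.1 V'.1 e').hom (RingHom.ker (iS.app U'.1).hom)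
  let eB := H1.isoIsPushout _ _ H2
  have heB : (eA.hom ≫ f.appLE (iS ⁻¹ᵁ U'.1) (iX ⁻¹ᵁ V'.1) hVU) ≫ eB.hom =
      CommRingCat.ofHom (Ideal.quotientMap ((RingHom.ker (iS.app U'.1).hom).map
        (f'.appLE U'.1 V'.1 e').hom) (f'.appLE U'.1 V'.1 e').hom Ideal.le_comap_map) :=
    IsPushout.inr_isoIsPushout_hom _ _ H1 H2
  have key : Q (CommRingCat.ofHom (Ideal.quotientMap ((RingHom.ker (iS.app U'.1).hom).map
        (f'.appLE U'.1 V'.1 e').hom) (f'.appLE U'.1 V'.1 e').hom Ideal.le_comap_map)).hom := by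
    rw [← heB]
    have h1 := hQi.2 _ (RingHom.quotientKerEquivOfSurjective hsurj) hQf
    have h2 := hQi.1 _ eB.commRingCatIsoToRingEquiv h1
    exact h2
  exact key

/-- For a finite order thickening, the kernels on affine opens are nilpotent. -/
theorem isNilpotent_ker_of_finiteOrder (hS : MoreMor.IsFiniteOrderThickening iS) (U' : S'.affineOpens) :
    IsNilpotent (RingHom.ker (iS.app U'.1).hom) := by
  have : IsClosedImmersion iS := hS.1.1
  obtain ⟨n, hn⟩ := hS.2
  refine ⟨n, ?_⟩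
  have h1 : (iS.ker ^ n).ideal U' = (iS.ker.ideal U') ^ n := by
    rw [Scheme.IdealSheafData.ideal_pow]; rfl
  have h2 : (iS.ker ^ n).ideal U' = ⊥ := by
    rw [hn]; rfl
  rw [← Scheme.Hom.ker_apply, ← h1, h2]
  rfl

/-- For a thickening, the kernels on affine opens consist of nilpotent elements. -/
theorem isNilpotent_of_mem_ker (hS : MoreMor.IsThickening iS) (U' : S'.affineOpens)
    (a : Γ(S', U'.1)) (ha : a ∈ RingHom.ker (iS.app U'.1).hom) : IsNilpotent a := by
  have : IsClosedImmersion iS := hS.1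
  have : Surjective iS := hS.2
  rw [Scheme.isNilpotent_iff_basicOpen_eq_bot_of_isCompact U'.2.isCompact]
  have h1 : iS ⁻¹ᵁ (S'.basicOpen a) = S.basicOpen ((iS.app U'.1).hom a) :=
    Scheme.preimage_basicOpen iS a
  rw [RingHom.mem_ker] at ha
  rw [ha, Scheme.basicOpen_zero] at h1
  ext x
  simp only [TopologicalSpace.Opens.coe_bot, Set.mem_empty_iff_false, iff_false]
  intro hx
  obtain ⟨y, rfl⟩ := iS.surjective x
  have : y ∈ iS ⁻¹ᵁ (S'.basicOpen a) := hx
  rw [h1] at this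
  exact this

end scheme

end Groth.Agent.Helper2.ThickRed
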