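import Groth.Agent.Lib.Helper2.ThickAlg
import Mathlib.RingTheory.Unramified.Basic
import Mathlib.RingTheory.RingHom.Unramified
import Mathlib.RingTheory.Kaehler.Basic
import Mathlib.LinearAlgebra.TensorProduct.Quotient
import Mathlib.RingTheory.Nakayama

set_option autoImplicit false
universe u

namespace Groth.Agent.Helper2.ThickAlg
open TensorProduct KaehlerDifferential

variable {A' B' : Type u} [CommRing A'] [CommRing B']

/-- If `A'/I → B'/IB'` is formally unramified then `Ω[B'/A'] = (IB') Ω[B'/A']`. -/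
theorem kaehler_smul_top_eq_top [Algebra A' B'] (I : Ideal A')
    (h : (Ideal.quotientMap (I.map (algebraMap A' B')) (algebraMap A' B')
      Ideal.le_comap_map).FormallyUnramified) :
    (I.map (algebraMap A' B')) • (⊤ : Submodule B' Ω[B'⁄A']) = ⊤ := by
  set J := I.map (algebraMap A' B') with hJ
  let q := Ideal.quotientMap J (algebraMap A' B') Ideal.le_comap_map
  let _ : Algebra (A' ⧸ I) (B' ⧸ J) := q.toAlgebra
  have : IsScalarTower A' (A' ⧸ I) (B' ⧸ J) := IsScalarTower.of_algebraMap_eq (fun a => by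
    rw [RingHom.algebraMap_toAlgebra]
    rfl)
  have : Algebra.FormallyUnramified (A' ⧸ I) (B' ⧸ J) := h
  have : Algebra.FormallyUnramified A' (A' ⧸ I) :=
    Algebra.FormallyUnramified.of_surjective (Algebra.ofId A' (A' ⧸ I)) Ideal.Quotient.mk_surjective
  have : Algebra.FormallyUnramified A' (B' ⧸ J) := Algebra.FormallyUnramified.comp A' (A' ⧸ I) (B' ⧸ J)
  have hsurj : Function.Surjective (algebraMap B' (B' ⧸ J)) := Ideal.Quotient.mk_surjective
  have hex := exact_kerCotangentToTensor_mapBaseChange A' B' (B' ⧸ J) hsurj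
  have hker : RingHom.ker (algebraMap B' (B' ⧸ J)) = J := Ideal.mk_ker
  -- every element of the range of kerCotangentToTensor vanishes
  have hD : ∀ j ∈ Submodule.span B' ((algebraMap A' B') '' (I : Set A')),
      (1 : B' ⧸ J) ⊗ₜ[B'] (D A' B') j = 0 := by
    intro j hj'
    induction hj' using Submodule.span_induction with
    | mem z hz =>
      obtain ⟨i, hi, rfl⟩ := hz
      rw [Derivation.map_algebraMap, tmul_zero]
    | zero => rw [map_zero, tmul_zero]
    | add x y hx' hy' hx hy =>
      rw [map_add, tmul_add, hx, hy, add_zero]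
    | smul b x hx' hx =>
      rw [smul_eq_mul, Derivation.leibniz, tmul_add, tmul_smul, hx, smul_zero, zero_add,
        tmul_smul, smul_tmul', Algebra.smul_def, mul_one]
      have : algebraMap B' (B' ⧸ J) x = 0 := by
        rw [← RingHom.mem_ker, hker]
        exact hx'
      rw [this, zero_tmul]
  have h0 : ∀ x, kerCotangentToTensor A' B' (B' ⧸ J) x = 0 := by
    intro x
    obtain ⟨⟨j, hj⟩, rfl⟩ := Ideal.toCotangent_surjective _ x
    rw [kerCotangentToTensor_toCotangent]
    have hj2 : j ∈ J := hker ▸ hj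
    exact hD j hj2
  have hsub : Subsingleton ((B' ⧸ J) ⊗[B'] Ω[B'⁄A']) := by
    refine ⟨fun x y => ?_⟩
    have hx : ∀ z : (B' ⧸ J) ⊗[B'] Ω[B'⁄A'], z = 0 := by
      intro z
      have : (KaehlerDifferential.mapBaseChange A' B' (B' ⧸ J)) z = 0 := Subsingleton.elim _ _
      obtain ⟨w, rfl⟩ := (hex z).1 this
      exact h0 w
    rw [hx x, hx y]
  have e := quotTensorEquivQuotSMul Ω[B'⁄A'] J
  have : Subsingleton (Ω[B'⁄A'] ⧸ J • (⊤ : Submodule B' Ω[B'⁄A'])) := e.symm.injective.subsingleton
  exact Submodule.Quotient.subsingleton_iff.1 this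

/-- Formal unramifiedness lifts along nilpotent ideals. -/
theorem formallyUnramified_of_quotientMap_of_isNilpotent (φ : A' →+* B') (I : Ideal A')
    (hI : IsNilpotent I)
    (h : (Ideal.quotientMap (I.map φ) φ Ideal.le_comap_map).FormallyUnramified) :
    φ.FormallyUnramified := by
  algebraize [φ]
  have h1 := kaehler_smul_top_eq_top (A' := A') (B' := B') I h
  have hJ : IsNilpotent (I.map (algebraMap A' B')) := by
    obtain ⟨n, hn⟩ := hI
    refine ⟨n, ?_⟩
    rw [← Ideal.map_pow, hn, Ideal.zero_eq_bot, Ideal.map_bot]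
    rfl
  have h2 := eq_top_of_sup_smul_eq_top _ hJ (⊥ : Submodule B' Ω[B'⁄A']) (by rw [bot_sup_eq]; exact h1)
  show Algebra.FormallyUnramified A' B'
  exact ⟨subsingleton_iff_bot_eq_top.1 h2 |> fun h => (Submodule.subsingleton_iff B').1 h⟩

/-- Formal unramifiedness lifts along locally nilpotent ideals for finite type ring maps. -/
theorem formallyUnramified_of_quotientMap_of_finiteType (φ : A' →+* B') (I : Ideal A')
    (hI : ∀ a ∈ I, IsNilpotent a) (hft : φ.FiniteType)
    (h : (Ideal.quotientMap (I.map φ) φ Ideal.le_comap_map).FormallyUnramified) :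
    φ.FormallyUnramified := by
  algebraize [φ]
  have h1 := kaehler_smul_top_eq_top (A' := A') (B' := B') I h
  have hJ : I.map (algebraMap A' B') ≤ Ideal.jacobson ⊥ := by
    refine le_trans ?_ (Ideal.radical_le_jacobson (I := (⊥ : Ideal B')))
    rw [Ideal.map_le_iff_le_comap]
    intro a ha
    rw [Ideal.mem_comap]
    exact (mem_nilradical.2 ((hI a ha).map (algebraMap A' B')))
  have h2 := Submodule.eq_bot_of_le_smul_of_le_jacobson_bot (I.map (algebraMap A' B'))
    (⊤ : Submodule B' Ω[B'⁄A']) Module.Finite.fg_top (by rw [h1]) hJ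
  show Algebra.FormallyUnramified A' B'
  exact ⟨(Submodule.subsingleton_iff B').1 (subsingleton_iff_bot_eq_top.1 h2.symm)⟩

end Groth.Agent.Helper2.ThickAlg
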