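import Groth.Agent.Lib.Helper2.ThickFP
import Mathlib.RingTheory.Smooth.Quotient
import Mathlib.RingTheory.RingHom.Smooth
import Mathlib.RingTheory.Smooth.Flat

/-!
# Formal smoothness lifts along nilpotent ideals for flat ring maps
-/

set_option autoImplicit false
universe u

namespace Groth.Agent.Helper2.ThickSmooth
open TensorProduct

variable {A' B' C' : Type u} [CommRing A'] [CommRing B'] [CommRing C']

/-- The base change of a flat ring map to a quotient is flat. -/
theorem flat_quotientMap (β : B' →+* C') (hβ : β.Flat) (K : Ideal B') :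
    (Ideal.quotientMap (K.map β) β Ideal.le_comap_map).Flat := by
  algebraize [β, Ideal.quotientMap (K.map β) β Ideal.le_comap_map]
  show Module.Flat (B' ⧸ K) (C' ⧸ K.map β)
  have : IsScalarTower B' (B' ⧸ K) (C' ⧸ K.map β) := IsScalarTower.of_algebraMap_eq (fun b => by
    rw [RingHom.algebraMap_toAlgebra (Ideal.quotientMap (K.map β) β Ideal.le_comap_map)]
    rfl)
  let e1 : (B' ⧸ K) ⊗[B'] C' ≃ₗ[B'] C' ⧸ (K • ⊤ : Submodule B' C') := quotTensorEquivQuotSMul C' K
  let e2 : (C' ⧸ (K • ⊤ : Submodule B' C')) ≃ₗ[B'] C' ⧸ (K.map (algebraMap B' C')).restrictScalars B' :=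
    Submodule.quotEquivOfEq _ _ (Ideal.smul_top_eq_map K)
  let e3 : (C' ⧸ (K.map (algebraMap B' C')).restrictScalars B') ≃ₗ[B'] C' ⧸ K.map (algebraMap B' C') :=
    Submodule.Quotient.restrictScalarsEquiv B' _
  let e : (B' ⧸ K) ⊗[B'] C' ≃ₗ[B'] C' ⧸ K.map β := e1 ≪≫ₗ e2 ≪≫ₗ e3
  let e' : (B' ⧸ K) ⊗[B'] C' ≃ₗ[B' ⧸ K] C' ⧸ K.map β :=
    LinearEquiv.extendScalarsOfSurjective Ideal.Quotient.mk_surjective e
  exact Module.Flat.of_linearEquiv e'.symm

/-- Nilpotent version of `RingHom.FormallySmooth.of_flat_of_ker_eq_map_of_square_zero`. -/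
theorem formallySmooth_of_nilpotent : ∀ (n : ℕ) {R S R' S' : Type u} [CommRing R] [CommRing S]
    [CommRing R'] [CommRing S'] (f : R →+* S) (_ : f.Flat) (qR : R →+* R') (qS : S →+* S')
    (g : R' →+* S') (_ : Function.Surjective qR) (_ : Function.Surjective qS)
    (_ : qS.comp f = g.comp qR) (_ : (RingHom.ker qR) ^ n = ⊥)
    (_ : RingHom.ker qS = (RingHom.ker qR).map f) (_ : g.FormallySmooth), f.FormallySmooth := by
  intro n
  induction n with
  | zero =>
    intro R S R' S' _ _ _ _ f flat qR qS g surjR surjS comm nil eqmap smoothq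
    refine RingHom.FormallySmooth.of_flat_of_ker_eq_map_of_square_zero f flat qR qS g surjR surjS
      comm ?_ eqmap smoothq
    exact le_bot_iff.1 (nil ▸ Ideal.pow_le_pow_right (by omega))
  | succ n ih =>
    intro R S R' S' _ _ _ _ f flat qR qS g surjR surjS comm nil eqmap smoothq
    by_cases hn : n = 0
    · refine RingHom.FormallySmooth.of_flat_of_ker_eq_map_of_square_zero f flat qR qS g surjR surjS
        comm ?_ eqmap smoothq
      exact le_bot_iff.1 (nil ▸ Ideal.pow_le_pow_right (by omega))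
    · set N : Ideal R := (RingHom.ker qR) ^ n with hN
      have hNle : N ≤ RingHom.ker qR := Ideal.pow_le_self hn
      have hNfle : N.map f ≤ RingHom.ker qS := by
        rw [eqmap]; exact Ideal.map_mono hNle
      let f₁ : R ⧸ N →+* S ⧸ N.map f := Ideal.quotientMap (N.map f) f Ideal.le_comap_map
      let qR₁ : R ⧸ N →+* R' := Ideal.Quotient.lift N qR (fun a ha => hNle ha)
      let qS₁ : S ⧸ N.map f →+* S' := Ideal.Quotient.lift (N.map f) qS (fun a ha => hNfle ha)
      have surjR₁ : Function.Surjective qR₁ :=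
        Ideal.Quotient.lift_surjective_of_surjective _ _ surjR
      have surjS₁ : Function.Surjective qS₁ :=
        Ideal.Quotient.lift_surjective_of_surjective _ _ surjS
      have comm₁ : qS₁.comp f₁ = g.comp qR₁ := by
        apply Ideal.Quotient.ringHom_ext
        ext r
        have := congrArg (fun h => h r) comm
        simpa [f₁, qR₁, qS₁] using this
      have hk₁ : RingHom.ker qR₁ = (RingHom.ker qR).map (Ideal.Quotient.mk N) :=
        Ideal.ker_quotient_lift _ _
      have hk₂ : RingHom.ker qS₁ = (RingHom.ker qS).map (Ideal.Quotient.mk (N.map f)) :=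
        Ideal.ker_quotient_lift _ _
      have nil₁ : (RingHom.ker qR₁) ^ n = ⊥ := by
        rw [hk₁, ← Ideal.map_pow, ← hN, Ideal.map_quotient_self]
      have hmk : (Ideal.Quotient.mk (N.map f)).comp f = f₁.comp (Ideal.Quotient.mk N) := by
        ext r
        simp [f₁]
      have eqmap₁ : RingHom.ker qS₁ = (RingHom.ker qR₁).map f₁ := by
        rw [hk₂, hk₁, eqmap, Ideal.map_map, Ideal.map_map, hmk]
      have flat₁ : f₁.Flat := flat_quotientMap f flat N
      have smooth₁ : f₁.FormallySmooth :=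
        ih f₁ flat₁ qR₁ qS₁ g surjR₁ surjS₁ comm₁ nil₁ eqmap₁ smoothq
      refine RingHom.FormallySmooth.of_flat_of_ker_eq_map_of_square_zero f flat
        (Ideal.Quotient.mk N) (Ideal.Quotient.mk (N.map f)) f₁ Ideal.Quotient.mk_surjective
        Ideal.Quotient.mk_surjective hmk ?_ ?_ smooth₁
      · rw [Ideal.mk_ker, hN, ← pow_mul]
        exact le_bot_iff.1 (nil ▸ Ideal.pow_le_pow_right (by
          have : 1 ≤ n := Nat.one_le_iff_ne_zero.2 hn
          nlinarith))
      · rw [Ideal.mk_ker, Ideal.mk_ker]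

/-- Smoothness of `B' → C'` lifts along a nilpotent ideal `I` of `A'` when `C'` is flat over `A'`. -/
theorem smooth_of_quotientMap (α : A' →+* B') (β : B' →+* C') (I : Ideal A')
    (hI : IsNilpotent I) (hflat : (β.comp α).Flat)
    (h : (Ideal.quotientMap ((I.map α).map β) β Ideal.le_comap_map).Smooth) : β.Smooth := by
  have hfp := ThickFP.finitePresentation_of_quotientMap α β I hI hflat h.finitePresentation
  have hfl := ThickFlat.flat_of_quotientMap α β I hI hflat h.flat
  obtain ⟨n, hn⟩ := hI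
  have hfs : β.FormallySmooth := by
    refine formallySmooth_of_nilpotent n β hfl (Ideal.Quotient.mk (I.map α))
      (Ideal.Quotient.mk ((I.map α).map β)) _ Ideal.Quotient.mk_surjective
      Ideal.Quotient.mk_surjective ?_ ?_ ?_ h.formallySmooth
    · ext r
      simp
    · rw [Ideal.mk_ker, ← Ideal.map_pow, hn, Ideal.zero_eq_bot, Ideal.map_bot]
    · rw [Ideal.mk_ker, Ideal.mk_ker]
  exact RingHom.smooth_def.2 ⟨hfs, hfp⟩

end Groth.Agent.Helper2.ThickSmooth
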