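import Mathlib
import Groth.Prelude.Def_ARSys

/-!
# General lemmas about `ARSys.IsQuot` (universal quotient modulo an ideal) in linear categories
-/

universe w v u v' u'

namespace Groth.Agent.Helper2.AdicLim
section
open CategoryTheory CategoryTheory.Limits Opposite

variable {A : Type w} [CommRing A]

section Basic
variable {C : Type u} [Category.{v} C] [Preadditive C] [Linear A C]

/-- an `IsQuot` map is an epimorphism -/
theorem epi_of_isQuot (J : Ideal A) {F Q : C} (p : F ⟶ Q) (hp : ARSys.IsQuot J p) : Epi p := by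
  constructor
  intro Y g h hgh
  have hk : ARSys.HomKilledBy J (p ≫ g) := by
    intro a ha
    have : a • (p ≫ g) = p ≫ ((a • 𝟙 Q) ≫ g) := by
      rw [Linear.smul_comp, Category.id_comp, Linear.comp_smul]
    rw [this, hp.1 a ha, zero_comp, comp_zero]
  obtain ⟨ψ, -, hψ⟩ := hp.2 Y (p ≫ g) hk
  rw [hψ g rfl, hψ h hgh.symm]

/-- transport `IsQuot` along an isomorphism of the target -/
theorem isQuot_comp_iso (J : Ideal A) {F Q Q' : C} (p : F ⟶ Q) (hp : ARSys.IsQuot J p)
    (e : Q ⟶ Q') [IsIso e] : ARSys.IsQuot J (p ≫ e) := by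
  refine ⟨?_, ?_⟩
  · intro a ha
    have h := hp.1 a ha
    have : (a • 𝟙 Q' : Q' ⟶ Q') = inv e ≫ (a • 𝟙 Q) ≫ e := by
      rw [Linear.smul_comp, Linear.comp_smul, Category.id_comp, IsIso.inv_hom_id]
    rw [this, h, zero_comp, comp_zero]
  · intro Y φ hφ
    obtain ⟨ψ, hψ, huniq⟩ := hp.2 Y φ hφ
    refine ⟨inv e ≫ ψ, ?_, ?_⟩
    · change (p ≫ e) ≫ inv e ≫ ψ = φ
      rw [Category.assoc, IsIso.hom_inv_id_assoc, hψ]
    · intro ψ' hψ'
      have : e ≫ ψ' = ψ := huniq _ (by rw [← hψ', Category.assoc])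
      rw [← this, IsIso.inv_hom_id_assoc]

/-- a morphism with target killed by `J` is killed by `J` -/
theorem homKilledBy_of_killedBy (J : Ideal A) {F Q : C} (p : F ⟶ Q) (hQ : ARSys.KilledBy J Q) :
    ARSys.HomKilledBy J p := by
  intro a ha
  have : a • p = p ≫ (a • 𝟙 Q) := by rw [Linear.comp_smul, Category.comp_id]
  rw [this, hQ a ha, comp_zero]

end Basic

section Coker
variable {C : Type u} [Category.{v} C] [Abelian C] [Linear A C] [HasFiniteBiproducts C]

/-- the map `⨁_{a ∈ s} F ⟶ F`, `(x_a) ↦ ∑ a • x_a` -/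
noncomputable def gens (s : Finset A) (F : C) : (⨁ (fun _ : s => F)) ⟶ F :=
  biproduct.desc (fun a => (a : A) • 𝟙 F)

@[reassoc (attr := simp)]
theorem ι_gens (s : Finset A) (F : C) (a : s) :
    biproduct.ι (fun _ : s => F) a ≫ gens s F = (a : A) • 𝟙 F := by
  simp [gens]

theorem smul_cokernel_π_gens (s : Finset A) (F : C) (a : A) (ha : a ∈ Ideal.span (s : Set A)) :
    a • cokernel.π (gens s F) = 0 := by
  induction ha using Submodule.span_induction with
  | mem a ha =>
    have h2 : a • cokernel.π (gens s F) = (a • 𝟙 F) ≫ cokernel.π (gens s F) := by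
      rw [Linear.smul_comp, Category.id_comp]
    rw [h2, ← ι_gens s F ⟨a, ha⟩, Category.assoc, cokernel.condition, comp_zero]
  | zero => simp
  | add a b _ _ ha hb => rw [add_smul, ha, hb, add_zero]
  | smul c a _ ha => rw [smul_eq_mul, mul_smul, ha, smul_zero]

/-- the cokernel of the generators map is a universal quotient modulo the ideal -/
theorem isQuot_cokernel_gens (s : Finset A) (F : C) :
    ARSys.IsQuot (Ideal.span (s : Set A)) (cokernel.π (gens s F)) := by
  refine ⟨?_, ?_⟩
  · intro a ha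
    rw [← cancel_epi (cokernel.π (gens s F)), comp_zero, Linear.comp_smul, Category.comp_id]
    exact smul_cokernel_π_gens s F a ha
  · intro Y φ hφ
    have h0 : gens s F ≫ φ = 0 := by
      apply biproduct.hom_ext'
      intro a
      rw [ι_gens_assoc, comp_zero, Linear.smul_comp, Category.id_comp]
      exact hφ _ (Submodule.subset_span a.2)
    refine ⟨cokernel.desc _ φ h0, cokernel.π_desc _ _ _, ?_⟩
    intro ψ hψ
    rw [← cancel_epi (cokernel.π (gens s F)), hψ, cokernel.π_desc]

end Coker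

section Adj
variable {C : Type u} [Category.{v} C] [Preadditive C] [Linear A C]
variable {D : Type u'} [Category.{v'} D] [Preadditive D] [Linear A D]

/-- a left adjoint whose right adjoint is linear preserves universal quotients modulo an ideal -/
theorem isQuot_map_of_adj (L : C ⥤ D) (R : D ⥤ C) (adj : L ⊣ R)
    (hR : ∀ {Y Y' : D} (a : A) (f : Y ⟶ Y'), R.map (a • f) = a • R.map f)
    (J : Ideal A) {X Q : C} (p : X ⟶ Q) (hp : ARSys.IsQuot J p) : ARSys.IsQuot J (L.map p) := by
  have hsm : ∀ {X' : C} {Y : D} (a : A) (φ : L.obj X' ⟶ Y),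
      adj.homEquiv _ _ (a • φ) = a • adj.homEquiv _ _ φ := by
    intro X' Y a φ
    rw [Adjunction.homEquiv_unit, Adjunction.homEquiv_unit, hR, Linear.comp_smul]
  have hL : ∀ {X' X'' : C} (a : A) (f : X' ⟶ X''), L.map (a • f) = a • L.map f := by
    intro X' X'' a f
    apply (adj.homEquiv _ _).injective
    rw [hsm, Adjunction.homEquiv_unit, Adjunction.homEquiv_unit]
    have h1 := adj.unit.naturality (a • f)
    have h2 := adj.unit.naturality f
    simp only [Functor.id_obj, Functor.id_map, Functor.comp_obj, Functor.comp_map] at h1 h2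
    rw [← h1, ← h2, Linear.smul_comp]
  refine ⟨?_, ?_⟩
  · intro a ha
    have h := hp.1 a ha
    have h1 : (a • 𝟙 (L.obj Q) : L.obj Q ⟶ L.obj Q) = L.map (a • 𝟙 Q) := by
      rw [hL, L.map_id]
    have h2 : L.map (0 : Q ⟶ Q) = 0 := by
      have := hL (0 : A) (𝟙 Q)
      rw [zero_smul, zero_smul] at this
      exact this
    rw [h1, h, h2]
  · intro Y φ hφ
    have hk : ARSys.HomKilledBy J (adj.homEquiv _ _ φ) := by
      intro a ha
      rw [← hsm, hφ a ha]
      have := hsm (0 : A) φ
      rw [zero_smul, zero_smul] at this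
      exact this
    obtain ⟨ψ', hψ', huniq⟩ := hp.2 _ _ hk
    refine ⟨(adj.homEquiv _ _).symm ψ', ?_, ?_⟩
    · change L.map p ≫ (adj.homEquiv _ _).symm ψ' = φ
      rw [← Adjunction.homEquiv_naturality_left_symm, hψ', Equiv.symm_apply_apply]
    · intro ψ₂ hψ₂
      have : adj.homEquiv _ _ ψ₂ = ψ' := by
        apply huniq
        change p ≫ adj.homEquiv _ _ ψ₂ = _
        rw [← Adjunction.homEquiv_naturality_left, hψ₂]
      rw [← this, Equiv.symm_apply_apply]

end Adj

end
end Groth.Agent.Helper2.AdicLim
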