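import Mathlib

/-!
# Limits of `I`-adic towers of modules

For a tower `M : ℕᵒᵖ ⥤ ModuleCat Λ` whose transition maps `M_m → M_k` are surjective with kernel
`I^(k+1) M_m`, the limit `L` satisfies: `L → M_n` is surjective with kernel `I^(n+1) L`
(for `I^(n+1)` finitely generated).
-/

universe v

namespace Groth.Agent.Helper2.AdicLim
section
open CategoryTheory CategoryTheory.Limits Opposite

variable {Λ : Type v} [CommRing Λ]

/-- transition map of a tower of modules -/
abbrev trM (M : ℕᵒᵖ ⥤ ModuleCat.{v} Λ) {k m : ℕ} (h : k ≤ m) : M.obj (op m) →ₗ[Λ] M.obj (op k) :=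
  (M.map (homOfLE h).op).hom

theorem trM_comp (M : ℕᵒᵖ ⥤ ModuleCat.{v} Λ) {k m l : ℕ} (h : k ≤ m) (h' : m ≤ l)
    (x : M.obj (op l)) : trM M h (trM M h' x) = trM M (h.trans h') x := by
  have : (homOfLE (h.trans h')).op = (homOfLE h').op ≫ (homOfLE h).op := rfl
  change _ = (M.map (homOfLE (h.trans h')).op).hom x
  rw [this, M.map_comp]
  rfl

theorem trM_refl (M : ℕᵒᵖ ⥤ ModuleCat.{v} Λ) (m : ℕ) (x : M.obj (op m)) :
    trM M (le_refl m) x = x := by
  have : (homOfLE (le_refl m)).op = 𝟙 (op m) := rfl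
  change (M.map (homOfLE (le_refl m)).op).hom x = x
  rw [this, M.map_id]
  rfl

theorem π_trM (M : ℕᵒᵖ ⥤ ModuleCat.{v} Λ) (c : Cone M) {k m : ℕ} (h : k ≤ m) (x : c.pt) :
    trM M h ((c.π.app (op m)).hom x) = (c.π.app (op k)).hom x := by
  have := c.w (homOfLE h).op
  rw [← this]
  rfl

/-- a family compatible for successive transition maps defines an element of the limit -/
theorem exists_of_compatible (M : ℕᵒᵖ ⥤ ModuleCat.{v} Λ) (c : Cone M) (hc : IsLimit c)
    (y : ∀ m, M.obj (op m)) (hy : ∀ m, trM M (Nat.le_succ m) (y (m + 1)) = y m) :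
    ∃ Y : c.pt, ∀ m, (c.π.app (op m)).hom Y = y m := by
  have hc' := isLimitOfPreserves (forget (ModuleCat.{v} Λ)) hc
  have hall : ∀ (k m : ℕ) (h : k ≤ m), trM M h (y m) = y k := by
    intro k m h
    induction h with
    | refl => exact trM_refl M k _
    | @step p h ih =>
      have h' : k ≤ p := h
      rw [← ih, ← hy p, trM_comp]
  let s : (M ⋙ forget (ModuleCat.{v} Λ)).sections :=
    ⟨fun j => y j.unop, by
      intro j j' f
      exact hall j'.unop j.unop (leOfHom f.unop)⟩
  refine ⟨(Types.isLimitEquivSections hc').symm s, fun m => ?_⟩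
  exact Types.isLimitEquivSections_symm_apply hc' s (op m)

theorem limit_ext (M : ℕᵒᵖ ⥤ ModuleCat.{v} Λ) (c : Cone M) (hc : IsLimit c) (x y : c.pt)
    (h : ∀ m, (c.π.app (op m)).hom x = (c.π.app (op m)).hom y) : x = y :=
  Concrete.isLimit_ext M hc x y (fun j => h j.unop)

/-- surjectivity of the projections of a limit of a tower with surjective transition maps -/
theorem surjective_π (M : ℕᵒᵖ ⥤ ModuleCat.{v} Λ) (c : Cone M) (hc : IsLimit c)
    (hsurj : ∀ m, Function.Surjective (trM M (Nat.le_succ m))) (n : ℕ) :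
    Function.Surjective (c.π.app (op n)).hom := by
  intro x
  let z : ∀ k : ℕ, M.obj (op (n + k)) :=
    fun k => Nat.rec (motive := fun k => M.obj (op (n + k))) x
      (fun k zk => (hsurj (n + k) zk).choose) k
  have hz : ∀ k, trM M (Nat.le_succ (n + k)) (z (k + 1)) = z k :=
    fun k => (hsurj (n + k) (z k)).choose_spec
  have hzx : ∀ k, trM M (Nat.le_add_right n k) (z k) = x := by
    intro k
    induction k with
    | zero => exact trM_refl M n x
    | succ k ih =>
      rw [← ih, ← hz k, trM_comp]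
  let y : ∀ m, M.obj (op m) := fun m => trM M (Nat.le_add_left m n) (z m)
  have hy : ∀ m, trM M (Nat.le_succ m) (y (m + 1)) = y m := by
    intro m
    change trM M _ (trM M _ (z (m + 1))) = trM M _ (z m)
    rw [trM_comp, ← hz m, trM_comp]
  obtain ⟨Y, hY⟩ := exists_of_compatible M c hc y hy
  refine ⟨Y, ?_⟩
  rw [hY n]
  exact hzx n

/-- elements of `(span s) • N` are sums `∑ j • z_j` with `z_j ∈ N` -/
theorem exists_sum_of_mem_span_smul {P : Type*} [AddCommGroup P] [Module Λ P] (s : Finset Λ)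
    (N : Submodule Λ P) (v : P) (hv : v ∈ (Ideal.span (s : Set Λ)) • N) :
    ∃ z : s → P, (∀ j, z j ∈ N) ∧ v = ∑ j : s, (j : Λ) • z j := by
  classical
  refine Submodule.smul_induction_on hv ?_ ?_
  · intro r hr n hn
    induction hr using Submodule.span_induction with
    | mem r hr =>
      refine ⟨fun j => if j = ⟨r, hr⟩ then n else 0, ?_, ?_⟩
      · intro j
        by_cases hj : j = ⟨r, hr⟩
        · simp only [hj, if_true]
          exact hn
        · simp only [hj, if_false]
          exact N.zero_mem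
      · rw [Finset.sum_eq_single (⟨r, hr⟩ : s)]
        · simp
        · intro b _ hb
          simp [hb]
        · intro h
          exact absurd (Finset.mem_univ _) h
    | zero => exact ⟨fun _ => 0, fun _ => N.zero_mem, by simp⟩
    | add a b _ _ ha hb =>
      obtain ⟨z₁, hz₁, e₁⟩ := ha
      obtain ⟨z₂, hz₂, e₂⟩ := hb
      refine ⟨fun j => z₁ j + z₂ j, fun j => N.add_mem (hz₁ j) (hz₂ j), ?_⟩
      rw [add_smul, e₁, e₂, ← Finset.sum_add_distrib]
      simp [smul_add]
    | smul c a _ ha =>
      obtain ⟨z₁, hz₁, e₁⟩ := ha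
      refine ⟨fun j => c • z₁ j, fun j => N.smul_mem c (hz₁ j), ?_⟩
      rw [smul_eq_mul, mul_smul, e₁, Finset.smul_sum]
      refine Finset.sum_congr rfl fun j _ => ?_
      rw [smul_comm]
  · intro x y hx hy
    obtain ⟨z₁, hz₁, e₁⟩ := hx
    obtain ⟨z₂, hz₂, e₂⟩ := hy
    refine ⟨fun j => z₁ j + z₂ j, fun j => N.add_mem (hz₁ j) (hz₂ j), ?_⟩
    rw [e₁, e₂, ← Finset.sum_add_distrib]
    simp [smul_add]

/-- a linear map sends `J • ⊤` into `J • ⊤` -/
theorem map_mem_smul_top {P Q : Type*} [AddCommGroup P] [Module Λ P] [AddCommGroup Q] [Module Λ Q]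
    (J : Ideal Λ) (f : P →ₗ[Λ] Q) (x : P) (hx : x ∈ J • (⊤ : Submodule Λ P)) :
    f x ∈ J • (⊤ : Submodule Λ Q) := by
  have : Submodule.map f (J • (⊤ : Submodule Λ P)) ≤ J • (⊤ : Submodule Λ Q) := by
    rw [Submodule.map_smul'']
    exact Submodule.smul_mono le_rfl le_top
  exact this ⟨x, hx, rfl⟩

/-- kernel of the projections of a limit of an `I`-adic tower -/
theorem ker_π (I : Ideal Λ) (M : ℕᵒᵖ ⥤ ModuleCat.{v} Λ) (c : Cone M) (hc : IsLimit c)
    (hsurj : ∀ (k m : ℕ) (h : k ≤ m), Function.Surjective (trM M h))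
    (hker : ∀ (k m : ℕ) (h : k ≤ m),
      LinearMap.ker (trM M h) = (I ^ (k + 1)) • (⊤ : Submodule Λ (M.obj (op m))))
    (n : ℕ) (hfg : (I ^ (n + 1)).FG) :
    LinearMap.ker (c.π.app (op n)).hom = (I ^ (n + 1)) • (⊤ : Submodule Λ c.pt) := by
  classical
  -- `I^(m+1)` kills `M_m`
  have hkill : ∀ m : ℕ, (I ^ (m + 1)) • (⊤ : Submodule Λ (M.obj (op m))) = ⊥ := by
    intro m
    rw [← hker m m le_rfl, LinearMap.ker_eq_bot]
    intro x y hxy
    rw [trM_refl, trM_refl] at hxy
    exact hxy
  apply le_antisymm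
  · intro x hx
    have hx0 : (c.π.app (op n)).hom x = 0 := hx
    obtain ⟨s, hs⟩ := hfg
    let xm : ∀ m, M.obj (op m) := fun m => (c.π.app (op m)).hom x
    have hxm : ∀ (k m : ℕ) (h : k ≤ m), trM M h (xm m) = xm k := fun k m h => π_trM M c h x
    -- the step
    have step : ∀ (k : ℕ) (y : s → M.obj (op (n + k))),
        xm (n + k) = ∑ j : s, (j : Λ) • y j →
        ∃ y' : s → M.obj (op (n + (k + 1))), xm (n + (k + 1)) = ∑ j : s, (j : Λ) • y' j ∧
          ∀ j, trM M (Nat.le_succ (n + k)) (y' j) - y j ∈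
            (I ^ k) • (⊤ : Submodule Λ (M.obj (op (n + k)))) := by
      intro k y hy
      choose y0 hy0 using fun j => hsurj (n + k) (n + (k + 1)) (Nat.le_succ (n + k)) (y j)
      let δ := xm (n + (k + 1)) - ∑ j : s, (j : Λ) • y0 j
      have hδ0 : trM M (Nat.le_succ (n + k)) δ = 0 := by
        have e1 : trM M (Nat.le_succ (n + k)) (xm (n + (k + 1))) = xm (n + k) := hxm _ _ _
        have e2 : trM M (Nat.le_succ (n + k)) (∑ j : s, (j : Λ) • y0 j) =
            ∑ j : s, (j : Λ) • y j := by
          rw [map_sum]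
          refine Finset.sum_congr rfl (fun j _ => ?_)
          rw [map_smul, hy0]
        change trM M (Nat.le_succ (n + k)) (xm (n + (k + 1)) - ∑ j : s, (j : Λ) • y0 j) = 0
        rw [map_sub, e1, e2, hy, sub_self]
      have hδ : δ ∈ (Ideal.span (s : Set Λ)) •
          ((I ^ k) • (⊤ : Submodule Λ (M.obj (op (n + (k + 1)))))) := by
        have h1 : δ ∈ LinearMap.ker (trM M (Nat.le_succ (n + k))) := hδ0
        rw [hker] at h1
        have h2 : I ^ (n + k + 1) = Ideal.span (s : Set Λ) * I ^ k := by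
          rw [hs, ← pow_add]
          congr 1
          omega
        rw [h2, Submodule.mul_smul] at h1
        exact h1
      obtain ⟨z, hz, hδz⟩ := exists_sum_of_mem_span_smul s _ δ hδ
      refine ⟨fun j => y0 j + z j, ?_, ?_⟩
      · simp only [smul_add, Finset.sum_add_distrib]
        rw [← hδz]
        simp only [δ]
        abel
      · intro j
        rw [map_add, hy0, add_sub_cancel_left]
        exact map_mem_smul_top _ _ _ (hz j)
    -- the sequence
    let St : ℕ → Type v := fun k =>
      {y : s → M.obj (op (n + k)) // xm (n + k) = ∑ j : s, (j : Λ) • y j}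
    have base : xm (n + 0) = ∑ j : s, (j : Λ) • (0 : M.obj (op (n + 0))) := by
      simp only [smul_zero, Finset.sum_const_zero]
      exact hx0
    let seq : ∀ k, St k := fun k =>
      Nat.rec (motive := St) ⟨fun _ => 0, base⟩
        (fun k y => ⟨(step k y.1 y.2).choose, (step k y.1 y.2).choose_spec.1⟩) k
    have hseq : ∀ k j, trM M (Nat.le_succ (n + k)) ((seq (k + 1)).1 j) - (seq k).1 j ∈
        (I ^ k) • (⊤ : Submodule Λ (M.obj (op (n + k)))) :=
      fun k => (step k (seq k).1 (seq k).2).choose_spec.2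
    -- the compatible families
    have hle : ∀ m : ℕ, m ≤ n + (m + 1) := fun m => by omega
    let yh : s → ∀ m, M.obj (op m) := fun j m => trM M (hle m) ((seq (m + 1)).1 j)
    have hyh : ∀ j m, trM M (Nat.le_succ m) (yh j (m + 1)) = yh j m := by
      intro j m
      change trM M _ (trM M _ ((seq (m + 1 + 1)).1 j)) = trM M _ ((seq (m + 1)).1 j)
      rw [trM_comp]
      have h3 : trM M ((Nat.le_succ m).trans (hle (m + 1))) ((seq (m + 1 + 1)).1 j) =
          trM M (hle m) (trM M (Nat.le_succ (n + (m + 1))) ((seq (m + 1 + 1)).1 j)) := by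
        rw [trM_comp]
      rw [h3]
      have h4 := hseq (m + 1) j
      have h5 := map_mem_smul_top (I ^ (m + 1)) (trM M (hle m)) _ h4
      rw [hkill m, Submodule.mem_bot, map_sub, sub_eq_zero] at h5
      exact h5
    choose Y hY using fun j => exists_of_compatible M c hc (yh j) (hyh j)
    have hxY : x = ∑ j : s, (j : Λ) • Y j := by
      apply limit_ext M c hc
      intro m
      rw [map_sum]
      simp only [map_smul, hY]
      change xm m = ∑ j : s, (j : Λ) • trM M (hle m) ((seq (m + 1)).1 j)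
      have e := congrArg (trM M (hle m)) (seq (m + 1)).2
      rw [← hxm m (n + (m + 1)) (hle m)]
      refine e.trans ?_
      rw [map_sum]
      simp only [map_smul]
    rw [hxY]
    refine Submodule.sum_mem _ fun j _ => ?_
    refine Submodule.smul_mem_smul ?_ trivial
    rw [← hs]
    exact Submodule.subset_span j.2
  · rw [Submodule.smul_le]
    intro a ha x _
    change (c.π.app (op n)).hom (a • x) = 0
    rw [map_smul]
    have : a • (c.π.app (op n)).hom x ∈ (I ^ (n + 1)) • (⊤ : Submodule Λ (M.obj (op n))) :=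
      Submodule.smul_mem_smul ha trivial
    rw [hkill n, Submodule.mem_bot] at this
    exact this

end
end Groth.Agent.Helper2.AdicLim
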