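import Mathlib
import Groth.Agent.Lib.Helper2.AdicLim2

/-!
# Surjectivity of limits of towers of modules under a Mittag-Leffler type condition
-/

universe v

namespace Groth.Agent.Helper2.AdicLim
section
open CategoryTheory CategoryTheory.Limits Opposite

variable {Λ : Type v} [CommRing Λ]

theorem trM_naturality {B C : ℕᵒᵖ ⥤ ModuleCat.{v} Λ} (g : B ⟶ C) {k m : ℕ} (h : k ≤ m)
    (x : B.obj (op m)) :
    (g.app (op k)).hom (trM B h x) = trM C h ((g.app (op m)).hom x) := by
  have := g.naturality (homOfLE h).op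
  exact congrArg (fun φ => φ.hom x) this

/-- Let `g : B ⟶ C` be a map of towers, surjective in each degree, and `W_n ⊆ ker g_n` submodules
with surjective transition maps such that for some `r` the transition maps
`ker g_(n+r) → ker g_n` land in `W_n`.  Then every element of `lim C` lifts to `lim B`. -/
theorem exists_lift_of_ML (B C : ℕᵒᵖ ⥤ ModuleCat.{v} Λ) (g : B ⟶ C)
    (cB : Cone B) (hcB : IsLimit cB) (cC : Cone C)
    (W : ∀ n, Submodule Λ (B.obj (op n)))
    (hW1 : ∀ n, W n ≤ LinearMap.ker (g.app (op n)).hom)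
    (hW2 : ∀ n, ∀ w ∈ W n, ∃ w' ∈ W (n + 1), trM B (Nat.le_succ n) w' = w)
    (r : ℕ) (hW3 : ∀ n, ∀ k ∈ LinearMap.ker (g.app (op (n + r))).hom,
      trM B (Nat.le_add_right n r) k ∈ W n)
    (hsurj : ∀ n, Function.Surjective (g.app (op n)).hom)
    (z : cC.pt) : ∃ x : cB.pt, ∀ n, (g.app (op n)).hom ((cB.π.app (op n)).hom x) =
      (cC.π.app (op n)).hom z := by
  let zn : ∀ n, C.obj (op n) := fun n => (cC.π.app (op n)).hom z
  have hzn : ∀ (k m : ℕ) (h : k ≤ m), trM C h (zn m) = zn k := fun k m h => π_trM C cC h z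
  choose β hβ using fun n => hsurj n (zn n)
  let b' : ∀ n, B.obj (op n) := fun n => trM B (Nat.le_add_right n r) (β (n + r))
  have hb' : ∀ n, (g.app (op n)).hom (b' n) = zn n := by
    intro n
    change (g.app (op n)).hom (trM B _ (β (n + r))) = zn n
    rw [trM_naturality, hβ, hzn]
  let d : ∀ n, B.obj (op n) := fun n => trM B (Nat.le_succ n) (b' (n + 1)) - b' n
  have hd : ∀ n, d n ∈ W n := by
    intro n
    have h1 : n + r ≤ n + 1 + r := by omega
    have e1 : trM B (Nat.le_succ n) (b' (n + 1)) =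
        trM B (Nat.le_add_right n r) (trM B h1 (β (n + 1 + r))) := by
      change trM B _ (trM B _ (β (n + 1 + r))) = _
      rw [trM_comp, trM_comp]
    have e2 : d n = trM B (Nat.le_add_right n r) (trM B h1 (β (n + 1 + r)) - β (n + r)) := by
      change trM B (Nat.le_succ n) (b' (n + 1)) - b' n = _
      rw [e1, map_sub]
    rw [e2]
    apply hW3
    rw [LinearMap.mem_ker, map_sub, trM_naturality, hβ, hβ, hzn, sub_self]
  -- the correction terms
  let St : ℕ → Type v := fun n => {w : B.obj (op n) // w ∈ W n}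
  have step : ∀ (n : ℕ) (w : St n), ∃ w' : St (n + 1),
      trM B (Nat.le_succ n) w'.1 = w.1 - d n := by
    intro n w
    obtain ⟨w', hw', e⟩ := hW2 n (w.1 - d n) ((W n).sub_mem w.2 (hd n))
    exact ⟨⟨w', hw'⟩, e⟩
  let seq : ∀ n, St n := fun n =>
    Nat.rec (motive := St) ⟨0, (W 0).zero_mem⟩ (fun n w => (step n w).choose) n
  have hseq : ∀ n, trM B (Nat.le_succ n) (seq (n + 1)).1 = (seq n).1 - d n :=
    fun n => (step n (seq n)).choose_spec
  let b : ∀ n, B.obj (op n) := fun n => b' n + (seq n).1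
  have hb : ∀ n, trM B (Nat.le_succ n) (b (n + 1)) = b n := by
    intro n
    change trM B _ (b' (n + 1) + (seq (n + 1)).1) = b' n + (seq n).1
    rw [map_add, hseq]
    change _ + ((seq n).1 - (trM B (Nat.le_succ n) (b' (n + 1)) - b' n)) = _
    abel
  obtain ⟨x, hx⟩ := exists_of_compatible B cB hcB b hb
  refine ⟨x, fun n => ?_⟩
  rw [hx n]
  change (g.app (op n)).hom (b' n + (seq n).1) = zn n
  rw [map_add, hb', (LinearMap.mem_ker.1 (hW1 n (seq n).2)), add_zero]

end
end Groth.Agent.Helper2.AdicLim
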