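import Mathlib
import Groth.Prelude.Def_CInt
import Groth.Agent.Lib.Helper16.Sch.FibStalk
import Groth.Agent.Lib.Helper23.RegPull2
import Groth.Agent.Lib.Helper9.Depth7
import Groth.Agent.Lib.Helper6.SchDense

/-!
# Big open subsets of a family (helper2)

`f : P ⟶ S`, `U ⊆ P` open such that the fibre local ring has dimension `≥ 2` at every point
outside `U`.  For an affine open `W ∋ z`, the ideal `vanIdeal U W` of functions whose
non-vanishing locus lies in `U` generates in the fibre local ring `F'` at `z` an ideal `Ī` with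
`dim F'/Ī + 2 ≤ dim F'`.
-/

set_option autoImplicit false
universe u

namespace Groth.Agent.Helper2.BigOpen

section

open AlgebraicGeometry CategoryTheory Limits IsLocalRing Groth.Agent.Helper16.FibStalk

variable {P S : Scheme.{u}}

/-- the ideal of functions on `W` whose non-vanishing locus lies in `U`. -/
def vanIdeal (U W : P.Opens) : Ideal Γ(P, W) where
  carrier := {b | P.basicOpen b ≤ U}
  add_mem' := fun {s t} hs ht => (Groth.Agent.Helper6.basicOpen_add_le s t).trans (sup_le hs ht)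
  zero_mem' := by simp
  smul_mem' := fun c t ht => by
    change P.basicOpen (c * t) ≤ U
    rw [Scheme.basicOpen_mul]; exact inf_le_right.trans ht

theorem mem_vanIdeal {U W : P.Opens} (b : Γ(P, W)) : b ∈ vanIdeal U W ↔ P.basicOpen b ≤ U :=
  Iff.rfl

/-- The dimension of `A/J` is bounded by the dimensions of `A/q`, `q` minimal over `J`. -/
theorem ringKrullDim_quotient_le_of_minimalPrimes {A : Type*} [CommRing A] (J : Ideal A)
    (d : WithBot ℕ∞)
    (h : ∀ q ∈ J.minimalPrimes, ringKrullDim (A ⧸ q) ≤ d) : ringKrullDim (A ⧸ J) ≤ d := by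
  rw [ringKrullDim_quotient]
  unfold Order.krullDim
  apply iSup_le
  intro l
  have hJle : J ≤ l.head.1.asIdeal := l.head.2
  obtain ⟨q, hq, hqle⟩ := Ideal.exists_minimalPrimes_le hJle
  have hmem : ∀ i, (l i).1 ∈ PrimeSpectrum.zeroLocus (q : Set A) := by
    intro i
    have h1 : l.head ≤ l i := LTSeries.head_le l i
    have h2 : l.head.1.asIdeal ≤ (l i).1.asIdeal := h1
    exact (PrimeSpectrum.mem_zeroLocus _ _).mpr (hqle.trans h2)
  let l' : LTSeries (PrimeSpectrum.zeroLocus (q : Set A)) :=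
    LTSeries.mk l.length (fun i => ⟨(l i).1, hmem i⟩) (fun i j hij => by
      have := l.strictMono hij
      exact this)
  have h3 : (l'.length : WithBot ℕ∞) ≤ Order.krullDim (PrimeSpectrum.zeroLocus (q : Set A)) :=
    Order.LTSeries.length_le_krullDim l'
  rw [← ringKrullDim_quotient] at h3
  exact h3.trans (h q hq)

theorem height_add_dim_quot_le {A : Type*} [CommRing A] (Q : Ideal A) [hQ : Q.IsPrime] :
    (Q.height : WithBot ℕ∞) + ringKrullDim (A ⧸ Q) ≤ ringKrullDim A := by
  let x : PrimeSpectrum A := ⟨Q, hQ⟩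
  have h2 := Groth.Agent.Helper9.Depth.ringKrullDim_quotient_eq_coheight x
  change ringKrullDim (A ⧸ Q) = _ at h2
  rw [h2]
  have : Nonempty (PrimeSpectrum A) := ⟨x⟩
  rw [ringKrullDim, Order.krullDim_eq_iSup_height_add_coheight_of_nonempty]
  have := le_iSup (fun a : PrimeSpectrum A => Order.height a + Order.coheight a) x
  rw [← WithBot.coe_add]
  exact WithBot.coe_le_coe.mpr (by rwa [PrimeSpectrum.height_eq_orderHeight x])

/-- key point step: a prime of the fibre local ring at `pt` containing the image of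
`vanIdeal U W` corresponds to a point outside `U`. -/
theorem notMem_of_le {Xs : Scheme.{u}} (ι : Xs ⟶ P) (pt : Xs) (U W : P.Opens)
    (hW : IsAffineOpen W) (hptW : ι pt ∈ W)
    (ξ : Xs) (hξ : ξ ⤳ pt)
    (hle : (vanIdeal U W).map ((ι.stalkMap pt).hom.comp (P.presheaf.germ W (ι pt) hptW).hom) ≤
      Ideal.comap (Xs.presheaf.stalkSpecializes hξ).hom (maximalIdeal (Xs.presheaf.stalk ξ))) :
    ι ξ ∉ U := by
  intro hU
  have hsp : ι ξ ⤳ ι pt := hξ.map ι.continuous
  have hξW : ι ξ ∈ W := hsp.mem_open W.2 hptW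
  obtain ⟨b, hb1, hb2⟩ := hW.exists_basicOpen_le (V := U) ⟨ι ξ, hU⟩ hξW
  have hbJ : b ∈ vanIdeal U W := hb1
  have h1 := hle (Ideal.mem_map_of_mem _ hbJ)
  rw [Ideal.mem_comap] at h1
  have h2 : (Xs.presheaf.stalkSpecializes hξ).hom
      (((ι.stalkMap pt).hom.comp (P.presheaf.germ W (ι pt) hptW).hom) b) =
      (ι.stalkMap ξ).hom (P.presheaf.germ W (ι ξ) hξW b) := by
    change (Xs.presheaf.stalkSpecializes hξ).hom
      ((ι.stalkMap pt).hom (P.presheaf.germ W (ι pt) hptW b)) = _
    rw [Scheme.Hom.germ_stalkMap_apply, Scheme.Hom.germ_stalkMap_apply]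
    exact TopCat.Presheaf.germ_stalkSpecializes_apply Xs.presheaf hptW hξ _
  rw [h2] at h1
  have h3 : IsUnit (P.presheaf.germ W (ι ξ) hξW b) :=
    (Scheme.mem_basicOpen _ _ _ hξW).mp hb2
  have h4 : IsUnit ((ι.stalkMap ξ).hom (P.presheaf.germ W (ι ξ) hξW b)) := h3.map _
  exact (mem_maximalIdeal _).mp h1 h4

theorem le_sub_two_of_add_two_le (x : WithBot ℕ∞) (n : ℕ) (h : x + 2 ≤ (n : WithBot ℕ∞)) :
    x ≤ ((n - 2 : ℕ) : WithBot ℕ∞) := by
  induction x with
  | bot => exact bot_le
  | coe y =>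
    induction y with
    | top =>
      exfalso
      have h1 : ((⊤ : ℕ∞) : WithBot ℕ∞) + 2 = ((⊤ : ℕ∞) : WithBot ℕ∞) := by
        change ((⊤ : ℕ∞) : WithBot ℕ∞) + ((2 : ℕ∞) : WithBot ℕ∞) = _
        rw [← WithBot.coe_add, top_add]
      rw [h1] at h
      have h2 : ((n : ℕ∞) : WithBot ℕ∞) = (n : WithBot ℕ∞) := rfl
      rw [← h2, WithBot.coe_le_coe] at h
      exact absurd h (by simp)
    | coe m =>
      have h2 : (((m : ℕ∞) : WithBot ℕ∞)) + 2 = (((m + 2 : ℕ) : ℕ∞) : WithBot ℕ∞) := by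
        push_cast; rfl
      rw [h2] at h
      have h3 : m + 2 ≤ n := by exact_mod_cast h
      have h4 : m ≤ n - 2 := by omega
      change ((m : ℕ∞) : WithBot ℕ∞) ≤ (((n - 2 : ℕ) : ℕ∞) : WithBot ℕ∞)
      exact WithBot.coe_le_coe.mpr (Nat.cast_le.mpr h4)

/-- the dimension bound. -/
theorem dim_bound (f : P ⟶ S) (U : P.Opens)
    (hU : ∀ x : P, x ∉ U → (2 : WithBot ℕ∞) ≤ ringKrullDim ↑(CInt.fiberStalk f x))
    (z : P) (W : P.Opens) (hW : IsAffineOpen W) (hzW : z ∈ W)
    [IsNoetherianRing ↑(CInt.fiberStalk f z)] (hz : z ∉ U) :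
    ringKrullDim (↑(CInt.fiberStalk f z) ⧸ (vanIdeal U W).map
      ((toFibStalk f z).comp (P.presheaf.germ W z hzW).hom)) + 2 ≤
      ringKrullDim ↑(CInt.fiberStalk f z) := by
  have heq : f.fiberι (f z) (f.asFiber z) = z := f.fiberι_asFiber z
  have hptW : f.fiberι (f z) (f.asFiber z) ∈ W := by rw [heq]; exact hzW
  have hψ : (toFibStalk f z).comp (P.presheaf.germ W z hzW).hom =
      ((f.fiberι (f z)).stalkMap (f.asFiber z)).hom.comp
        (P.presheaf.germ W (f.fiberι (f z) (f.asFiber z)) hptW).hom := by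
    ext b
    change ((f.fiberι (f z)).stalkMap (f.asFiber z)).hom
      ((P.presheaf.stalkSpecializes (Inseparable.of_eq heq).specializes).hom
        (P.presheaf.germ W z hzW b)) = _
    rw [TopCat.Presheaf.germ_stalkSpecializes_apply]
    rfl
  obtain ⟨n, hn⟩ : ∃ n : ℕ, ringKrullDim ↑(CInt.fiberStalk f z) = n := by
    apply Groth.Agent.Helper9.Depth.exists_eq_natCast
    · intro h
      have h0 : (0 : WithBot ℕ∞) ≤ ringKrullDim ↑(CInt.fiberStalk f z) :=
        ringKrullDim_nonneg_of_nontrivial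
      rw [h] at h0
      exact absurd h0 (by simp)
    · exact ringKrullDim_lt_top
  have hn2 : 2 ≤ n := by
    have := hU z hz
    rw [hn] at this
    exact_mod_cast this
  have key : ∀ q' ∈ ((vanIdeal U W).map
      ((toFibStalk f z).comp (P.presheaf.germ W z hzW).hom)).minimalPrimes,
      ringKrullDim (↑(CInt.fiberStalk f z) ⧸ q') ≤ ((n - 2 : ℕ) : WithBot ℕ∞) := by
    intro q' hq'
    haveI := hq'.1.1
    apply le_sub_two_of_add_two_le
    obtain ⟨ξ, hξ, hqξ⟩ := Groth.Agent.Helper23.RegPull.exists_generization_of_isPrime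
      (f.fiber (f z)) (f.asFiber z) q'
    have hnot : f.fiberι (f z) ξ ∉ U := by
      apply notMem_of_le (f.fiberι (f z)) (f.asFiber z) U W hW hptW ξ hξ
      rw [← hqξ, ← hψ]
      exact hq'.1.2
    have h2 := hU _ hnot
    have hdim1 : ringKrullDim ↑(CInt.fiberStalk f (f.fiberι (f z) ξ)) =
        ringKrullDim ↑((f.fiber (f z)).presheaf.stalk ξ) :=
      (ringKrullDim_eq_of_ringEquiv (fibStalkEquiv f (f.fiberι (f z) ξ))).symm.trans
        (ringKrullDim_eq_of_ringEquiv (quotEquivStalkFiberOfEq f (f z) ξ _ rfl))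
    have hht : ringKrullDim ↑((f.fiber (f z)).presheaf.stalk ξ) = q'.height := by
      letI : Algebra ↑((f.fiber (f z)).presheaf.stalk (f.asFiber z))
          ↑((f.fiber (f z)).presheaf.stalk ξ) :=
        ((f.fiber (f z)).presheaf.stalkSpecializes hξ).hom.toAlgebra
      haveI hloc := Groth.Agent.Helper23.RegPull.isLocalization_stalkSpecializes
        (f.fiber (f z)) hξ
      subst hqξ
      exact IsLocalization.AtPrime.ringKrullDim_eq_height _ _
    rw [hdim1, hht] at h2
    have h3 := height_add_dim_quot_le q'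
    rw [hn] at h3
    calc ringKrullDim (↑(CInt.fiberStalk f z) ⧸ q') + 2
        ≤ ringKrullDim (↑(CInt.fiberStalk f z) ⧸ q') + (q'.height : WithBot ℕ∞) :=
          add_le_add_right h2 _
      _ = (q'.height : WithBot ℕ∞) + ringKrullDim (↑(CInt.fiberStalk f z) ⧸ q') := add_comm _ _
      _ ≤ n := h3
  have h4 := ringKrullDim_quotient_le_of_minimalPrimes _ _ key
  rw [hn]
  calc _ ≤ ((n - 2 : ℕ) : WithBot ℕ∞) + 2 := add_le_add_left h4 _
    _ = (n : WithBot ℕ∞) := by
      have : n - 2 + 2 = n := by omega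
      exact_mod_cast this

end

end Groth.Agent.Helper2.BigOpen
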