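import Mathlib
import Groth.Prelude.Def_RegImm
import Groth.Agent.Lib.Helper2.RegNbhd2
import Groth.Agent.Lib.Helper2.RegNbhd4
import Groth.Agent.Lib.Helper2.LciLoc4
import Groth.Agent.Lib.Helper16.Sch.FibMod2

/-!
# Transversally regular presentations near a point from the fibre (helper2)
-/

set_option autoImplicit false
universe u

open CategoryTheory CategoryTheory.Limits AlgebraicGeometry TopologicalSpace TensorProduct

namespace Groth.Agent.Helper2.RegNbhd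

section

open RingTheory.Sequence Groth.Agent.Helper28 Groth.Agent.Helper28.RegBC IsLocalRing
  Groth.Agent.Helper16.FibStalk Groth.Agent.Helper16.FibMod

variable {Z X S : Scheme.{u}}

/-- restriction of the kernel to a smaller affine open. -/
theorem restrict_ker (i : Z ⟶ X) (U₀ : X.Opens) (hU₀ : IsAffineOpen U₀)
    [IsClosedImmersion (i ∣_ U₀)] (U : X.Opens) (hU : IsAffineOpen U) (hle : U ≤ U₀) :
    IsClosedImmersion (i ∣_ U) ∧ RingHom.ker (i.app U).hom =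
      (RingHom.ker (i.app U₀).hom).map (X.presheaf.map (homOfLE hle).op).hom := by
  have hle' : U ≤ (𝟙 X) ⁻¹ᵁ U₀ := hle
  obtain ⟨h1, h2⟩ := ker_of_isPullback i (𝟙 X) i (𝟙 Z) (IsPullback.id_horiz i) U₀ hU₀ U hU hle'
  refine ⟨h1, ?_⟩
  rw [h2]
  have : (𝟙 X : X ⟶ X).appLE U₀ U hle' = X.presheaf.map (homOfLE hle).op := by
    simp only [Scheme.Hom.appLE, Scheme.Hom.id_app]
    exact Category.id_comp _
  rw [this]

/-- the fibre local ring is Noetherian. -/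
theorem isNoetherianRing_fibre (f : X ⟶ S) [LocallyOfFiniteType f] (x : X) :
    IsNoetherianRing (X.presheaf.stalk x ⧸ fibIdeal f x) := by
  haveI := isNoetherianRing_fiber_stalk f (f x) (f.asFiber x)
  exact isNoetherianRing_of_ringEquiv _ (fibStalkEquiv f x).symm

/-- **transversally regular presentation near a point from the fibre**. -/
theorem exists_trans_presentation (f : X ⟶ S) [Flat f] [LocallyOfFinitePresentation f]
    (i : Z ⟶ X) [Flat (i ≫ f)] (z : Z)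
    (U₀ : X.Opens) (hU₀ : IsAffineOpen U₀) (hzU₀ : i z ∈ U₀) [IsClosedImmersion (i ∣_ U₀)]
    (hfg : (RingHom.ker (i.app U₀).hom).FG)
    (rs : List (X.presheaf.stalk (i z) ⧸ fibIdeal f (i z)))
    (hreg : IsWeaklyRegular (X.presheaf.stalk (i z) ⧸ fibIdeal f (i z)) rs)
    (hgen : Ideal.ofList rs =
      (RingHom.ker (i.stalkMap z).hom).map (Ideal.Quotient.mk (fibIdeal f (i z)))) :
    ∃ (U : X.Opens) (hU : IsAffineOpen U) (V : S.Opens) (hV : IsAffineOpen V)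
      (hUV : U ≤ f ⁻¹ᵁ V), i z ∈ U ∧ U ≤ U₀ ∧ IsClosedImmersion (i ∣_ U) ∧ ∃ as : List Γ(X, U),
        (letI := (f.appLE V U hUV).hom.toAlgebra
         RegImm.IsTransRegularSeq Γ(S, V) Γ(X, U) as) ∧
        RingHom.ker (i.app U).hom = Ideal.ofList as := by
  haveI := isNoetherianRing_fibre f (i z)
  obtain ⟨_, ⟨V, hV, rfl⟩, hsV, -⟩ := S.isBasis_affineOpens.exists_subset_of_mem_open
    (Set.mem_univ (f (i z))) isOpen_univ
  obtain ⟨_, ⟨U₁, hU₁, rfl⟩, hzU₁, hU₁le⟩ := X.isBasis_affineOpens.exists_subset_of_mem_open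
    (show i z ∈ ((U₀ ⊓ f ⁻¹ᵁ V : X.Opens) : Set X) from ⟨hzU₀, hsV⟩) (U₀ ⊓ f ⁻¹ᵁ V).2
  have hle0 : U₁ ≤ U₀ := fun x hx => (hU₁le hx).1
  have e : U₁ ≤ f ⁻¹ᵁ V := fun x hx => (hU₁le hx).2
  obtain ⟨hcl₁, hker₁⟩ := restrict_ker i U₀ hU₀ U₁ hU₁ hle0
  haveI := hcl₁
  have hfg₁ : (RingHom.ker (i.app U₁).hom).FG := by
    rw [hker₁]
    exact Ideal.FG.map hfg _
  letI alg : Algebra Γ(S, V) Γ(X, U₁) := (f.appLE V U₁ e).hom.toAlgebra
  haveI : Module.Flat Γ(S, V) Γ(X, U₁) := Flat.flat_appLE f hV hU₁ e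
  haveI : Algebra.FinitePresentation Γ(S, V) Γ(X, U₁) :=
    LocallyOfFinitePresentation.finitePresentation_appLE f hV hU₁ e
  letI : Algebra Γ(X, U₁) (X.presheaf.stalk (i z)) := X.presheaf.algebra_section_stalk ⟨i z, hzU₁⟩
  haveI : IsLocalization.AtPrime (X.presheaf.stalk (i z)) (hU₁.primeIdealOf ⟨i z, hzU₁⟩).asIdeal :=
    hU₁.isLocalization_stalk ⟨i z, hzU₁⟩
  letI : Algebra Γ(S, V) (X.presheaf.stalk (i z)) :=
    ((algebraMap Γ(X, U₁) (X.presheaf.stalk (i z))).comp (algebraMap Γ(S, V) Γ(X, U₁))).toAlgebra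
  haveI : IsScalarTower Γ(S, V) Γ(X, U₁) (X.presheaf.stalk (i z)) :=
    IsScalarTower.of_algebraMap_eq (fun _ => rfl)
  haveI : Module.Flat Γ(X, U₁) (X.presheaf.stalk (i z)) :=
    IsLocalization.flat _ (hU₁.primeIdealOf ⟨i z, hzU₁⟩).asIdeal.primeCompl
  haveI : Module.Flat Γ(S, V) (X.presheaf.stalk (i z)) :=
    Module.Flat.trans Γ(S, V) Γ(X, U₁) (X.presheaf.stalk (i z))
  have hUZ : IsAffineOpen (i ⁻¹ᵁ U₁) := RegImmStalk.isAffineOpen_preimage i U₁ hU₁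
  have hsurj : Function.Surjective (i.app U₁).hom := RegImmStalk.app_surjective i U₁ hU₁
  haveI hfl : Module.Flat Γ(S, V) (Γ(X, U₁) ⧸ RingHom.ker (i.app U₁).hom) := by
    apply flat_quot_of_surjective (i.app U₁).hom hsurj _ rfl
    have h1 := (i ≫ f).flat_appLE hV hUZ (show i ⁻¹ᵁ U₁ ≤ (i ≫ f) ⁻¹ᵁ V from fun x hx => e hx)
    have h2 : (i ≫ f).appLE V (i ⁻¹ᵁ U₁) (fun x hx => e hx) = f.appLE V U₁ e ≫ i.app U₁ := by
      rw [Scheme.Hom.app_eq_appLE, Scheme.Hom.appLE_comp_appLE]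
    rw [h2] at h1
    exact h1
  have hkerL : RingHom.ker (i.stalkMap z).hom =
      (RingHom.ker (i.app U₁).hom).map (algebraMap Γ(X, U₁) (X.presheaf.stalk (i z))) :=
    RegImmStalk.ker_stalkMap_of_surjective i z ⟨U₁, hU₁⟩ hzU₁ hUZ hsurj
  have hJQ : RingHom.ker (i.app U₁).hom ≤ (hU₁.primeIdealOf ⟨i z, hzU₁⟩).asIdeal := by
    intro a ha
    rw [← IsLocalization.AtPrime.to_map_mem_maximal_iff (X.presheaf.stalk (i z))
      (hU₁.primeIdealOf ⟨i z, hzU₁⟩).asIdeal a, mem_maximalIdeal, mem_nonunits_iff]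
    intro hu
    have h1 : algebraMap Γ(X, U₁) (X.presheaf.stalk (i z)) a ∈ RingHom.ker (i.stalkMap z).hom := by
      rw [hkerL]
      exact Ideal.mem_map_of_mem _ ha
    have h2 := hu.map (i.stalkMap z).hom
    rw [RingHom.mem_ker.mp h1] at h2
    exact not_isUnit_zero h2
  have hIX : fibIdeal f (i z) =
      ((hU₁.primeIdealOf ⟨i z, hzU₁⟩).asIdeal.comap (algebraMap Γ(S, V) Γ(X, U₁))).map
        (algebraMap Γ(S, V) (X.presheaf.stalk (i z))) := by
    have h1 := fibIdeal_chart f hU₁ hV e ⟨i z, hzU₁⟩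
    rw [Ideal.map_map] at h1
    exact h1
  rw [hkerL] at hgen
  obtain ⟨h, hhQ, as, hasJ, hcore⟩ := core_trans (hU₁.primeIdealOf ⟨i z, hzU₁⟩).asIdeal
    (X.presheaf.stalk (i z)) (RingHom.ker (i.app U₁).hom) hfg₁ hJQ
    (fibIdeal f (i z)) hIX rs hreg hgen
  have hle2 : X.basicOpen h ≤ U₁ := X.basicOpen_le h
  have e2 : X.basicOpen h ≤ f ⁻¹ᵁ V := hle2.trans e
  obtain ⟨hcl₂, hker₂⟩ := restrict_ker i U₁ hU₁ (X.basicOpen h) (hU₁.basicOpen h) hle2
  refine ⟨X.basicOpen h, hU₁.basicOpen h, V, hV, e2,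
    mem_basicOpen_of_notMem hU₁ (i z) hzU₁ h hhQ, hle2.trans hle0, hcl₂,
    as.map (algebraMap Γ(X, U₁) Γ(X, X.basicOpen h)), ?_, ?_⟩
  · haveI := hU₁.isLocalization_basicOpen h
    letI : Algebra Γ(S, V) Γ(X, X.basicOpen h) := (f.appLE V (X.basicOpen h) e2).hom.toAlgebra
    haveI : IsScalarTower Γ(S, V) Γ(X, U₁) Γ(X, X.basicOpen h) :=
      IsScalarTower.of_algebraMap_eq (fun r => by
        change (f.appLE V (X.basicOpen h) e2).hom r =
          (X.presheaf.map (homOfLE hle2).op).hom ((f.appLE V U₁ e).hom r)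
        rw [← CommRingCat.comp_apply, Scheme.Hom.appLE_map])
    exact (hcore Γ(X, X.basicOpen h)).1
  · haveI := hU₁.isLocalization_basicOpen h
    letI : Algebra Γ(S, V) Γ(X, X.basicOpen h) := (f.appLE V (X.basicOpen h) e2).hom.toAlgebra
    haveI : IsScalarTower Γ(S, V) Γ(X, U₁) Γ(X, X.basicOpen h) :=
      IsScalarTower.of_algebraMap_eq (fun r => by
        change (f.appLE V (X.basicOpen h) e2).hom r =
          (X.presheaf.map (homOfLE hle2).op).hom ((f.appLE V U₁ e).hom r)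
        rw [← CommRingCat.comp_apply, Scheme.Hom.appLE_map])
    rw [hker₂, (hcore Γ(X, X.basicOpen h)).2]
    rfl

end

end Groth.Agent.Helper2.RegNbhd
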