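import Mathlib
import Groth.Prelude.Def_CInt
import Groth.Prelude.Def_RegImm
import Groth.Agent.Lib.Helper2.BigOpen1
import Groth.Agent.Lib.Helper2.RegNbhd5
import Groth.Agent.Lib.Helper12.SmoothNhd
import Groth.Agent.Lib.Helper9.RegLocExt
import Groth.Agent.Lib.Helper14.QRegSpread

/-!
# Big open subsets of a smooth family: local regular pairs (helper2)

`f : P ⟶ S` smooth, `U ⊆ P` open with fibre local rings of dimension `≥ 2` at all points
outside `U`.  Every point `z ∉ U` has an affine open neighbourhood `N` with a weakly regular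
sequence `h₁, h₂ ∈ Γ(P, N)` such that `D(h₁), D(h₂) ⊆ U`.
-/

set_option autoImplicit false
universe u

namespace Groth.Agent.Helper2.BigOpen

section

open AlgebraicGeometry CategoryTheory Limits IsLocalRing RingTheory.Sequence
  Groth.Agent.Helper16.FibStalk Groth.Agent.Helper16.FibMod Groth.Agent.Helper2.RegNbhd
  Groth.Agent.Helper16.SliceSeq

theorem exists_list_lift {α β : Type*} (g : α → β) (p : α → Prop) :
    ∀ xs : List β, (∀ x ∈ xs, ∃ j, p j ∧ g j = x) →
      ∃ js : List α, (∀ j ∈ js, p j) ∧ js.map g = xs := by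
  intro xs
  induction xs with
  | nil => intro _; exact ⟨[], by simp, rfl⟩
  | cons x xs ih =>
    intro h
    obtain ⟨j, hj, rfl⟩ := h x List.mem_cons_self
    obtain ⟨js, hjs, rfl⟩ := ih (fun y hy => h y (List.mem_cons_of_mem _ hy))
    refine ⟨j :: js, ?_, rfl⟩
    intro a ha
    rcases List.mem_cons.mp ha with rfl | ha
    · exact hj
    · exact hjs a ha

variable {P S : Scheme.{u}}

theorem exists_regular_pair (f : P ⟶ S) [Smooth f] (U : P.Opens)
    (hU : ∀ x : P, x ∉ U → (2 : WithBot ℕ∞) ≤ ringKrullDim ↑(CInt.fiberStalk f x))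
    (z : P) (hz : z ∉ U) :
    ∃ (N : P.Opens) (_ : IsAffineOpen N) (_ : z ∈ N) (h₁ h₂ : Γ(P, N)),
      IsWeaklyRegular Γ(P, N) [h₁, h₂] ∧ P.basicOpen h₁ ≤ U ∧ P.basicOpen h₂ ≤ U := by
  haveI hRLR := Groth.Agent.Helper12.SmoothNhd.isRegularLocalRing_fibre_of_smooth f z
  haveI : IsRegularLocalRing ↑(CInt.fiberStalk f z) :=
    IsRegularLocalRing.of_ringEquiv (fibStalkEquiv f z)
  haveI := isNoetherianRing_fibre f z
  have hflat : (f.stalkMap z).hom.Flat := Flat.stalkMap f z
  obtain ⟨_, ⟨V, hV, rfl⟩, hsV, -⟩ := S.isBasis_affineOpens.exists_subset_of_mem_open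
    (Set.mem_univ (f z)) isOpen_univ
  obtain ⟨_, ⟨W, hW, rfl⟩, hzW, hWle⟩ := P.isBasis_affineOpens.exists_subset_of_mem_open
    (show z ∈ ((f ⁻¹ᵁ V : P.Opens) : Set P) from hsV) (f ⁻¹ᵁ V).2
  have e : W ≤ f ⁻¹ᵁ V := hWle
  letI alg : Algebra Γ(S, V) Γ(P, W) := (f.appLE V W e).hom.toAlgebra
  haveI : Algebra.FinitePresentation Γ(S, V) Γ(P, W) :=
    LocallyOfFinitePresentation.finitePresentation_appLE f hV hW e
  letI : Algebra Γ(P, W) (P.presheaf.stalk z) := P.presheaf.algebra_section_stalk ⟨z, hzW⟩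
  haveI : IsLocalization.AtPrime (P.presheaf.stalk z) (hW.primeIdealOf ⟨z, hzW⟩).asIdeal :=
    hW.isLocalization_stalk ⟨z, hzW⟩
  letI : Algebra Γ(S, V) (P.presheaf.stalk z) :=
    ((algebraMap Γ(P, W) (P.presheaf.stalk z)).comp (algebraMap Γ(S, V) Γ(P, W))).toAlgebra
  haveI : IsScalarTower Γ(S, V) Γ(P, W) (P.presheaf.stalk z) :=
    IsScalarTower.of_algebraMap_eq (fun _ => rfl)
  haveI : Module.Flat Γ(S, V) (P.presheaf.stalk z) := by
    letI algA : Algebra Γ(S, V) (S.presheaf.stalk (f z)) :=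
      S.presheaf.algebra_section_stalk ⟨f z, hsV⟩
    haveI h3 : IsLocalization.AtPrime (S.presheaf.stalk (f z))
        (hV.primeIdealOf (⟨f z, hsV⟩ : V)).asIdeal := hV.isLocalization_stalk ⟨f z, hsV⟩
    have hA : (algebraMap Γ(S, V) (S.presheaf.stalk (f z))).Flat :=
      RingHom.flat_algebraMap_iff.mpr
        (IsLocalization.flat _ (hV.primeIdealOf (⟨f z, hsV⟩ : V)).asIdeal.primeCompl)
    have hcomp : (f.stalkMap z).hom.comp (algebraMap Γ(S, V) (S.presheaf.stalk (f z))) =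
        algebraMap Γ(S, V) (P.presheaf.stalk z) := by
      ext r
      change f.stalkMap z (S.presheaf.germ V (f z) hsV r) =
        P.presheaf.germ W z hzW (f.appLE V W e r)
      rw [Scheme.Hom.germ_stalkMap_apply, Scheme.Hom.appLE, CommRingCat.comp_apply,
        TopCat.Presheaf.germ_res_apply]
    have := RingHom.Flat.comp hA hflat
    rw [hcomp] at this
    exact RingHom.flat_algebraMap_iff.mp this
  have hIX : fibIdeal f z =
      ((hW.primeIdealOf ⟨z, hzW⟩).asIdeal.comap (algebraMap Γ(S, V) Γ(P, W))).map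
        (algebraMap Γ(S, V) (P.presheaf.stalk z)) := by
    have h1 := fibIdeal_chart f hW hV e ⟨z, hzW⟩
    rw [Ideal.map_map] at h1
    exact h1
  -- the ideal `J`
  set J := vanIdeal U W with hJ
  have hJQ : J ≤ (hW.primeIdealOf ⟨z, hzW⟩).asIdeal := by
    intro b hb
    by_contra hcon
    apply hz
    apply hb
    rw [Groth.Agent.Helper14.QRegSpread.mem_primeIdealOf_iff _ hW z hzW] at hcon
    exact not_not.mp hcon
  set Ibar : Ideal (↑(P.presheaf.stalk z) ⧸ fibIdeal f z) :=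
    (J.map (algebraMap Γ(P, W) (P.presheaf.stalk z))).map (Ideal.Quotient.mk (fibIdeal f z))
    with hIbar
  -- transport the dimension bound
  have hmapE : Ibar.map (fibStalkEquiv f z : _ →+* ↑(CInt.fiberStalk f z)) =
      J.map ((toFibStalk f z).comp (P.presheaf.germ W z hzW).hom) := by
    rw [hIbar, Ideal.map_map, Ideal.map_map]
    congr 1
    ext b
    exact fibStalkEquiv_mk f z _
  have hdim : ringKrullDim ((↑(P.presheaf.stalk z) ⧸ fibIdeal f z) ⧸ Ibar) + 2 ≤
      ringKrullDim (↑(P.presheaf.stalk z) ⧸ fibIdeal f z) := by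
    have h1 := dim_bound f U hU z W hW hzW hz
    rw [← hmapE] at h1
    rw [ringKrullDim_eq_of_ringEquiv (fibStalkEquiv f z),
      ringKrullDim_eq_of_ringEquiv (Ideal.quotientEquiv Ibar _ (fibStalkEquiv f z) rfl)]
    exact h1
  have hIbartop : Ibar ≠ ⊤ := by
    intro h1
    have h2 : Ideal.comap (Ideal.Quotient.mk (fibIdeal f z)) Ibar = ⊤ := by
      rw [h1]; exact Ideal.comap_top
    rw [hIbar, Ideal.comap_map_of_surjective _ Ideal.Quotient.mk_surjective,
      ← RingHom.ker_eq_comap_bot, Ideal.mk_ker] at h2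
    have h3 : J.map (algebraMap Γ(P, W) (P.presheaf.stalk z)) ⊔ fibIdeal f z ≤
        maximalIdeal (P.presheaf.stalk z) := by
      refine sup_le ?_ (fibIdeal_le f z)
      rw [Ideal.map_le_iff_le_comap]
      intro b hb
      exact (IsLocalization.AtPrime.to_map_mem_maximal_iff (P.presheaf.stalk z)
        (hW.primeIdealOf ⟨z, hzW⟩).asIdeal b).mpr (hJQ hb)
    rw [h2] at h3
    exact (maximalIdeal.isMaximal _).ne_top (top_le_iff.mp h3)
  have hCM := Groth.Agent.Helper9.RegLocExt.isCM_self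
    (A := ↑(P.presheaf.stalk z) ⧸ fibIdeal f z)
  obtain ⟨xs, hlen, hxsI, hxsreg⟩ := Groth.Agent.Helper9.RegLocExt.exists_regular_in_ideal 2
    (↑(P.presheaf.stalk z) ⧸ fibIdeal f z) hCM Ibar (IsLocalRing.le_maximalIdeal hIbartop)
    (by rw [Module.supportDim_self_eq_ringKrullDim]; exact hdim)
  -- lift to the stalk
  obtain ⟨js, hjs, hjsmap⟩ := exists_list_lift (Ideal.Quotient.mk (fibIdeal f z))
    (fun j => j ∈ J.map (algebraMap Γ(P, W) (P.presheaf.stalk z))) xs (fun x hx =>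
      (Ideal.mem_map_iff_of_surjective _ Ideal.Quotient.mk_surjective).mp (hxsI x hx))
  obtain ⟨as, hasJ, hF⟩ := exists_lift_units (hW.primeIdealOf ⟨z, hzW⟩).asIdeal
    (P.presheaf.stalk z) J js hjs
  have hwr : IsWeaklyRegular (↑(P.presheaf.stalk z) ⧸ fibIdeal f z)
      (as.map (algebraMap Γ(P, W) (P.presheaf.stalk z))) := by
    apply isWeaklyRegular_of_regOn
    apply regOn_of_forall₂ hF
    apply regOn_of_isWeaklyRegular
    rw [← isWeaklyRegular_map_algebraMap_iff (↑(P.presheaf.stalk z) ⧸ fibIdeal f z)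
      (↑(P.presheaf.stalk z) ⧸ fibIdeal f z) js]
    change IsWeaklyRegular _ (js.map (Ideal.Quotient.mk (fibIdeal f z)))
    rw [hjsmap]
    exact hxsreg
  have hasQ : ∀ a ∈ as, a ∈ (hW.primeIdealOf ⟨z, hzW⟩).asIdeal := fun a ha => hJQ (hasJ a ha)
  obtain ⟨g, hgQ, hslice⟩ := trans_slice (hW.primeIdealOf ⟨z, hzW⟩).asIdeal
    (P.presheaf.stalk z) (fibIdeal f z) hIX as hasQ hwr
  have hle2 : P.basicOpen g ≤ W := P.basicOpen_le g
  have e2 : P.basicOpen g ≤ f ⁻¹ᵁ V := hle2.trans e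
  have hzg : z ∈ P.basicOpen g := mem_basicOpen_of_notMem hW z hzW g hgQ
  have haslen : as.length = 2 := by
    have h1 := hF.length_eq
    rw [List.length_map] at h1
    rw [h1, ← hlen, ← hjsmap, List.length_map]
  obtain ⟨a₁, a₂, rfl⟩ := List.length_eq_two.mp haslen
  haveI hloc := hW.isLocalization_basicOpen g
  haveI : IsLocalization.Away (g * 1) Γ(P, P.basicOpen g) := (mul_one g).symm ▸ hloc
  letI : Algebra Γ(S, V) Γ(P, P.basicOpen g) := (f.appLE V (P.basicOpen g) e2).hom.toAlgebra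
  haveI : IsScalarTower Γ(S, V) Γ(P, W) Γ(P, P.basicOpen g) :=
    IsScalarTower.of_algebraMap_eq (fun r => by
      change (f.appLE V (P.basicOpen g) e2).hom r =
        (P.presheaf.map (homOfLE hle2).op).hom ((f.appLE V W e).hom r)
      rw [← CommRingCat.comp_apply, Scheme.Hom.appLE_map])
  have htr := hslice 1 Γ(P, P.basicOpen g)
  refine ⟨P.basicOpen g, hW.basicOpen g, hzg, algebraMap Γ(P, W) Γ(P, P.basicOpen g) a₁,
    algebraMap Γ(P, W) Γ(P, P.basicOpen g) a₂, htr.1, ?_, ?_⟩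
  · change P.basicOpen ((P.presheaf.map (homOfLE hle2).op).hom a₁) ≤ U
    rw [Scheme.basicOpen_res]
    exact inf_le_right.trans (hasJ a₁ (by simp))
  · change P.basicOpen ((P.presheaf.map (homOfLE hle2).op).hom a₂) ≤ U
    rw [Scheme.basicOpen_res]
    exact inf_le_right.trans (hasJ a₂ (by simp))

end

end Groth.Agent.Helper2.BigOpen
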