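import Mathlib
import Groth.Prelude.Def_CInt
import Groth.Agent.Lib.Helper19.Hartogs.Ext
import Groth.Agent.Lib.Helper18.SchemDenseExt
import Groth.Agent.S16428

/-!
# Hartogs extension across a closed subset which is locally contained in `V(h₁, h₂)` (helper2)

Generalization of `Helper19.Hartogs.exists_section` to opens `U` that need not be retrocompact:
it suffices that every point has an affine neighbourhood `N` and a quasi-compact open
`U' ⊆ N ∩ U` with depth `≥ 2` at the points of `N \ U'`, and that the local rings at points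
outside `U` have positive depth.
-/

set_option autoImplicit false
universe u

namespace Groth.Agent.Helper2.BigOpen

section

open AlgebraicGeometry CategoryTheory Limits IsLocalRing TopologicalSpace
  Groth.Agent.Helper19.Hartogs

/-- positive depth transfers along open immersions. -/
theorem regular_of_isOpenImmersion {T X : Scheme.{u}} (k : T ⟶ X) [IsOpenImmersion k] (w : T)
    (h : ∃ a ∈ maximalIdeal (X.presheaf.stalk (k w)), IsSMulRegular (X.presheaf.stalk (k w)) a) :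
    ∃ a ∈ maximalIdeal (T.presheaf.stalk w), IsSMulRegular (T.presheaf.stalk w) a := by
  obtain ⟨a, ha, hreg⟩ := h
  let e : X.presheaf.stalk (k w) ≃+* T.presheaf.stalk w :=
    (asIso (k.stalkMap w)).commRingCatIsoToRingEquiv
  refine ⟨e a, ?_, ?_⟩
  · rw [mem_maximalIdeal, mem_nonunits_iff] at ha ⊢
    intro hu
    apply ha
    have := hu.map e.symm
    simpa using this
  · intro x y hxy
    have h1 : a • e.symm x = a • e.symm y := by
      apply e.injective
      simpa using hxy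
    have := hreg h1
    simpa using congrArg e this

/-- an open immersion whose complement consists of points of positive depth is
scheme-theoretically dominant. -/
theorem ker_eq_bot_of_regular {T' T : Scheme.{u}} (j : T' ⟶ T) [IsOpenImmersion j]
    (hreg : ∀ w : T, w ∉ Set.range j → ∃ a ∈ maximalIdeal (T.presheaf.stalk w),
      IsSMulRegular (T.presheaf.stalk w) a) : j.ker = ⊥ := by
  rw [← j.isoOpensRange_hom_ι, Scheme.Hom.ker_comp_of_isIso]
  apply Groth.Agent.Helper18.SchemDenseExt.ker_ι_eq_bot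
  apply Groth.Agent.S16428.isSchematicallyDense_of_regular
  intro x hx
  apply hreg
  intro hx'
  exact hx hx'

/-- separatedness: morphisms agreeing on a dense open subscheme agree. -/
theorem eq_of_regular {T Y X : Scheme.{u}} (f : Y ⟶ X) [IsSeparated f] {T' : Scheme.{u}}
    (j : T' ⟶ T) [IsOpenImmersion j]
    (hreg : ∀ w : T, w ∉ Set.range j → ∃ a ∈ maximalIdeal (T.presheaf.stalk w),
      IsSMulRegular (T.presheaf.stalk w) a)
    (h₁ h₂ : T ⟶ Y) (hf : h₁ ≫ f = h₂ ≫ f) (hj : j ≫ h₁ = j ≫ h₂) : h₁ = h₂ := by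
  have hker := ker_eq_bot_of_regular j hreg
  let X' : Over X := Over.mk (h₁ ≫ f)
  let Y' : Over X := Over.mk f
  let U' : Over X := Over.mk (j ≫ h₁ ≫ f)
  let f' : X' ⟶ Y' := Over.homMk h₁
  let g' : X' ⟶ Y' := Over.homMk h₂ (by simp [X', Y', hf])
  let ι' : U' ⟶ X' := Over.homMk j
  have : IsSeparated Y'.hom := ‹_›
  have hcond : ι' ≫ f' = ι' ≫ g' := by ext1; exact hj
  have hlift : (equalizer.lift ι' hcond).left ≫ (equalizer.ι f' g').left = j := by
    rw [← Over.comp_left, equalizer.lift_ι]; rfl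
  have : IsIso (equalizer.ι f' g').left := by
    rw [IsClosedImmersion.isIso_iff_ker_eq_bot, eq_bot_iff, ← hker, ← hlift]
    exact Scheme.Hom.le_ker_comp _ _
  rw [← cancel_epi (equalizer.ι f' g').left]
  exact congr($(equalizer.condition f' g').left)

variable {X : Scheme.{u}} {U : X.Opens} {Y : Scheme.{u}} {f : Y ⟶ X} {t : (U : Scheme.{u}) ⟶ Y}

theorem good_unique [IsSeparated f]
    (hreg : ∀ x : X, x ∉ U → ∃ a ∈ maximalIdeal (X.presheaf.stalk x),
      IsSMulRegular (X.presheaf.stalk x) a)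
    {W : Scheme.{u}} {g : W ⟶ X} [IsOpenImmersion g] {h₁ h₂ : W ⟶ Y}
    (H₁ : Good U f t g h₁) (H₂ : Good U f t g h₂) : h₁ = h₂ := by
  refine eq_of_regular f (g ⁻¹ᵁ U).ι ?_ h₁ h₂ (by rw [H₁.1, H₂.1]) (by rw [H₁.2, H₂.2])
  intro w hw
  rw [Scheme.Opens.range_ι] at hw
  exact regular_of_isOpenImmersion g w (hreg (g w) hw)

/-- gluing local extensions. -/
theorem exists_section_of_cover [IsSeparated f]
    (hreg : ∀ x : X, x ∉ U → ∃ a ∈ maximalIdeal (X.presheaf.stalk x),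
      IsSMulRegular (X.presheaf.stalk x) a)
    (𝒰 : X.OpenCover) (hloc : ∀ i : 𝒰.I₀, ∃ gi : 𝒰.X i ⟶ Y, Good U f t (𝒰.f i) gi) :
    ∃ s : X ⟶ Y, s ≫ f = 𝟙 X ∧ U.ι ≫ s = t := by
  choose g hg using hloc
  have hcompat : ∀ i j : 𝒰.I₀,
      pullback.fst (𝒰.f i) (𝒰.f j) ≫ g i = pullback.snd (𝒰.f i) (𝒰.f j) ≫ g j := by
    intro i j
    have H₁ := (hg i).comp (pullback.fst (𝒰.f i) (𝒰.f j))
    have H₂ := (hg j).comp (pullback.snd (𝒰.f i) (𝒰.f j))
    rw [← pullback.condition] at H₂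
    exact good_unique hreg H₁ H₂
  refine ⟨𝒰.glueMorphisms g hcompat, ?_, ?_⟩
  · refine 𝒰.hom_ext _ _ fun i => ?_
    rw [← Category.assoc, Scheme.Cover.ι_glueMorphisms, (hg i).1, Category.comp_id]
  · refine Scheme.Cover.hom_ext (𝒰.pullback₁ U.ι) _ _ fun (i : 𝒰.I₀) => ?_
    change pullback.fst U.ι (𝒰.f i) ≫ U.ι ≫ _ = pullback.fst U.ι (𝒰.f i) ≫ t
    let e := (isPullback_morphismRestrict (𝒰.f i) U).isoPullback
    have he1 : e.hom ≫ pullback.fst U.ι (𝒰.f i) = (𝒰.f i ∣_ U) :=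
      IsPullback.isoPullback_hom_fst _
    have he2 : e.hom ≫ pullback.snd U.ι (𝒰.f i) = (𝒰.f i ⁻¹ᵁ U).ι :=
      IsPullback.isoPullback_hom_snd _
    rw [← cancel_epi e.hom]
    calc e.hom ≫ pullback.fst U.ι (𝒰.f i) ≫ U.ι ≫ 𝒰.glueMorphisms g hcompat
        = (e.hom ≫ pullback.snd U.ι (𝒰.f i)) ≫ 𝒰.f i ≫ 𝒰.glueMorphisms g hcompat := by
          rw [pullback.condition_assoc, Category.assoc]
      _ = (𝒰.f i ⁻¹ᵁ U).ι ≫ g i := by rw [he2, Scheme.Cover.ι_glueMorphisms]
      _ = (𝒰.f i ∣_ U) ≫ t := (hg i).2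
      _ = e.hom ≫ pullback.fst U.ι (𝒰.f i) ≫ t := by rw [← he1, Category.assoc]

theorem regular_of_dep2 {A : Type*} [CommRing A] [IsLocalRing A] (h : Dep2 A) :
    ∃ a ∈ maximalIdeal A, IsSMulRegular A a := by
  obtain ⟨a, b, ha, hb, h1, h2⟩ := h
  refine ⟨a, ha, ?_⟩
  intro x y hxy
  have : a * (x - y) = 0 := by
    simp only [smul_eq_mul] at hxy
    rw [mul_sub, hxy, sub_self]
  exact sub_eq_zero.mp (h1 _ this)

/-- local existence on an affine open with a quasi-compact sub-open. -/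
theorem exists_good_of_local [IsAffineHom f] (ht : t ≫ f = U.ι)
    (N : X.Opens) (hN : IsAffineOpen N) (U' : X.Opens) (hU'N : U' ≤ N) (hU'U : U' ≤ U)
    (hc : IsCompact (U' : Set X))
    (hdep : ∀ z : X, z ∈ N → z ∉ U' → Dep2 (X.presheaf.stalk z)) :
    ∃ gi : (N : Scheme.{u}) ⟶ Y, Good U f t N.ι gi := by
  haveI : IsAffine (N : Scheme.{u}) := hN
  have hV'le : N.ι ⁻¹ᵁ U' ≤ N.ι ⁻¹ᵁ U := fun w hw => hU'U hw
  haveI : QuasiCompact (N.ι ⁻¹ᵁ U').ι := by
    rw [HasAffineProperty.iff_of_isAffine (P := @QuasiCompact)]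
    have h2 : IsCompact ((N.ι ⁻¹ᵁ U' : (N : Scheme.{u}).Opens) : Set (N : Scheme.{u})) := by
      have h1 : ((N.ι ⁻¹ᵁ U' : (N : Scheme.{u}).Opens) : Set (N : Scheme.{u})) =
          N.ι ⁻¹' (U' : Set X) := rfl
      rw [h1, N.ι.isOpenEmbedding.isInducing.isCompact_preimage_iff]
      · exact hc
      · rw [Scheme.Opens.range_ι]
        exact hU'N
    exact isCompact_iff_compactSpace.mp h2
  let t' : ((N.ι ⁻¹ᵁ U' : (N : Scheme.{u}).Opens) : Scheme.{u}) ⟶ Y :=
    (N.ι ∣_ U') ≫ X.homOfLE hU'U ≫ t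
  have ht' : t' ≫ f = (N.ι ⁻¹ᵁ U').ι ≫ N.ι := by
    simp only [t', Category.assoc, ht, Scheme.homOfLE_ι, morphismRestrict_ι]
  let tN : ((N.ι ⁻¹ᵁ U' : (N : Scheme.{u}).Opens) : Scheme.{u}) ⟶ pullback f N.ι :=
    pullback.lift t' (N.ι ⁻¹ᵁ U').ι ht'
  obtain ⟨sN, hs1, hs2⟩ := exists_section (N : Scheme.{u}) (N.ι ⁻¹ᵁ U')
    (fun w hw => Dep2.of_isOpenImmersion N.ι w (hdep (N.ι w) w.2 hw))
    (pullback f N.ι) (pullback.snd f N.ι) tN (pullback.lift_snd _ _ _)
  refine ⟨sN ≫ pullback.fst f N.ι, ?_, ?_⟩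
  · rw [Category.assoc, pullback.condition, ← Category.assoc, hs1, Category.id_comp]
  · have hcomm : (N : Scheme.{u}).homOfLE hV'le ≫ (N.ι ∣_ U) = (N.ι ∣_ U') ≫ X.homOfLE hU'U := by
      rw [← cancel_mono U.ι]
      simp only [Category.assoc, morphismRestrict_ι, Scheme.homOfLE_ι, Scheme.homOfLE_ι_assoc]
    refine eq_of_regular f ((N : Scheme.{u}).homOfLE hV'le) ?_ _ _ ?_ ?_
    · intro w hw
      have hw' : w.1 ∉ N.ι ⁻¹ᵁ U' := by
        intro h1
        apply hw
        refine ⟨⟨w.1, h1⟩, ?_⟩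
        apply Subtype.ext
        rw [Scheme.homOfLE_apply]
      have h2 := regular_of_dep2 (hdep (N.ι w.1) w.1.2 hw')
      exact regular_of_isOpenImmersion ((N.ι ⁻¹ᵁ U).ι ≫ N.ι) w h2
    · simp only [Category.assoc, ht, morphismRestrict_ι]
      rw [pullback.condition, ← Category.assoc sN, hs1, Category.id_comp]
    · rw [← Category.assoc, Scheme.homOfLE_ι, ← Category.assoc, hs2, ← Category.assoc, hcomm]
      simp only [tN, pullback.lift_fst, t', Category.assoc]

/-- **Hartogs extension** for sections of an affine morphism. -/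
theorem exists_section' (X : Scheme.{u}) (U : X.Opens)
    (hreg : ∀ x : X, x ∉ U → ∃ a ∈ maximalIdeal (X.presheaf.stalk x),
      IsSMulRegular (X.presheaf.stalk x) a)
    (hloc : ∀ x : X, ∃ N : X.Opens, IsAffineOpen N ∧ x ∈ N ∧ ∃ U' : X.Opens, U' ≤ N ∧ U' ≤ U ∧
      IsCompact (U' : Set X) ∧ ∀ z : X, z ∈ N → z ∉ U' → Dep2 (X.presheaf.stalk z))
    (Y : Scheme.{u}) (f : Y ⟶ X) [IsAffineHom f] (t : (U : Scheme.{u}) ⟶ Y) (ht : t ≫ f = U.ι) :
    ∃ s : X ⟶ Y, s ≫ f = 𝟙 X ∧ U.ι ≫ s = t := by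
  choose N hN hxN U' hU'N hU'U hc hdep using hloc
  have hcover : IsOpenCover N := by
    rw [IsOpenCover, eq_top_iff]
    intro x _
    exact Opens.mem_iSup.mpr ⟨x, hxN x⟩
  refine exists_section_of_cover hreg (X.openCoverOfIsOpenCover N hcover) ?_
  intro i
  exact exists_good_of_local ht (N i) (hN i) (U' i) (hU'N i) (hU'U i) (hc i) (hdep i)

end

end Groth.Agent.Helper2.BigOpen
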