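import Mathlib
import Groth.Prelude.Def_W4bk4grassmannianPl

namespace Groth.Agent.Lib.Helper2.Bitab

open W4bk4grassmannian

/-- counting function of a tuple of naturals -/
def cnt {s : ℕ} (f : Fin s → ℕ) (x : ℕ) : ℕ := (Finset.univ.filter fun j => f j < x).card

theorem cnt_le {s : ℕ} (f : Fin s → ℕ) (x : ℕ) : cnt f x ≤ s := by
  unfold cnt
  calc _ ≤ (Finset.univ : Finset (Fin s)).card := Finset.card_filter_le _ _
    _ = s := by simp

theorem cnt_eq_of_forall_lt {s : ℕ} (f : Fin s → ℕ) (x : ℕ) (h : ∀ j, f j < x) : cnt f x = s := by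
  unfold cnt
  rw [Finset.filter_true_of_mem (fun j _ => h j)]
  simp

theorem cnt_eq_zero_of_forall_le {s : ℕ} (f : Fin s → ℕ) (x : ℕ) (h : ∀ j, x ≤ f j) : cnt f x = 0 := by
  unfold cnt
  rw [Finset.filter_false_of_mem (fun j _ => not_lt.mpr (h j))]
  simp

/-- comparison of leading entries of two increasing tuples in terms of counting functions -/
theorem le_iff_cnt {s s' : ℕ} (f : Fin s → ℕ) (f' : Fin s' → ℕ) (hf : StrictMono f)
    (hf' : StrictMono f') :
    (s ≤ s' ∧ ∀ (j : ℕ) (hj : j < s) (hj' : j < s'), f' ⟨j, hj'⟩ ≤ f ⟨j, hj⟩) ↔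
      ∀ x, cnt f x ≤ cnt f' x := by
  constructor
  · rintro ⟨hss, h⟩ x
    unfold cnt
    apply Finset.card_le_card_of_injOn (fun j => Fin.castLE hss j)
    · intro j hj
      simp only [Finset.coe_filter, Finset.mem_univ, true_and, Set.mem_ofPred_eq] at hj ⊢
      exact lt_of_le_of_lt (h j.val j.isLt (lt_of_lt_of_le j.isLt hss)) hj
    · intro a _ b _ hab
      exact Fin.castLE_injective hss hab
  · intro h
    have hss : s ≤ s' := by
      by_cases hs : s = 0
      · omega
      · have h1 := h (f ⟨s - 1, by omega⟩ + 1)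
        rw [cnt_eq_of_forall_lt f _ (fun j => by
          have : f j ≤ f ⟨s - 1, by omega⟩ := hf.monotone (by
            rw [Fin.le_def]; have := j.isLt; simp only; omega)
          omega)] at h1
        exact le_trans h1 (cnt_le f' _)
    refine ⟨hss, ?_⟩
    intro j hj hj'
    by_contra hcon
    push Not at hcon
    have h1 := h (f ⟨j, hj⟩ + 1)
    have h2 : j + 1 ≤ cnt f (f ⟨j, hj⟩ + 1) := by
      unfold cnt
      have := Finset.card_le_card_of_injOn (s := (Finset.univ : Finset (Fin (j + 1))))
        (t := Finset.univ.filter fun i => f i < f ⟨j, hj⟩ + 1)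
        (fun i : Fin (j + 1) => Fin.castLE (by omega : j + 1 ≤ s) i)
        (by
          intro i _
          simp only [Finset.coe_filter, Finset.mem_univ, true_and, Set.mem_ofPred_eq]
          have : f (Fin.castLE (by omega : j + 1 ≤ s) i) ≤ f ⟨j, hj⟩ := hf.monotone (by
            rw [Fin.le_def]; have := i.isLt; simp only [Fin.val_castLE]; omega)
          omega)
        (by
          intro a _ b _ hab
          exact Fin.castLE_injective _ hab)
      simpa using this
    have h3 : cnt f' (f ⟨j, hj⟩ + 1) ≤ j := by
      unfold cnt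
      have hlt : ∀ i : Fin s', f' i < f ⟨j, hj⟩ + 1 → i.val < j := by
        intro i hi
        have : f' i < f' ⟨j, hj'⟩ := by omega
        exact hf'.lt_iff_lt.mp this
      have := Finset.card_le_card_of_injOn (s := Finset.univ.filter fun i => f' i < f ⟨j, hj⟩ + 1)
        (t := Finset.range j)
        (fun i : Fin s' => i.val)
        (by
          intro i hi
          simp only [Finset.coe_filter, Finset.mem_univ, true_and, Set.mem_ofPred_eq] at hi
          simp only [Finset.coe_range, Set.mem_Iio]
          exact hlt i hi)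
        (by
          intro a _ b _ hab
          exact Fin.ext hab)
      simpa using this
    omega

variable {m n : ℕ}

/-- row indices of a minor, as naturals -/
def rowsN (M : MinorIdx m n) : Fin (M.1 + 1) → ℕ := fun j => (M.2.1.1 j).val

/-- column indices of a minor, as naturals -/
def colsN (M : MinorIdx m n) : Fin (M.1 + 1) → ℕ := fun j => (M.2.2.1 j).val

theorem rowsN_strictMono (M : MinorIdx m n) : StrictMono (rowsN M) := fun _ _ h => M.2.1.2 h

theorem colsN_strictMono (M : MinorIdx m n) : StrictMono (colsN M) := fun _ _ h => M.2.2.2 h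

theorem rowsN_lt (M : MinorIdx m n) (j : Fin (M.1 + 1)) : rowsN M j < m := (M.2.1.1 j).isLt

theorem colsN_lt (M : MinorIdx m n) (j : Fin (M.1 + 1)) : colsN M j < n := (M.2.2.1 j).isLt

/-- the order on minors in terms of counting functions -/
theorem minorGE_iff (M M' : MinorIdx m n) :
    MinorGE M M' ↔ (∀ x, cnt (rowsN M) x ≤ cnt (rowsN M') x) ∧
      (∀ x, cnt (colsN M) x ≤ cnt (colsN M') x) := by
  rw [← le_iff_cnt _ _ (rowsN_strictMono M) (rowsN_strictMono M'),
    ← le_iff_cnt _ _ (colsN_strictMono M) (colsN_strictMono M')]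
  unfold MinorGE
  constructor
  · rintro ⟨h1, h2⟩
    refine ⟨⟨by omega, ?_⟩, ⟨by omega, ?_⟩⟩
    · intro j hj hj'
      exact (h2 ⟨j, hj⟩ ⟨j, hj'⟩ rfl).1
    · intro j hj hj'
      exact (h2 ⟨j, hj⟩ ⟨j, hj'⟩ rfl).2
  · rintro ⟨⟨h1, h2⟩, ⟨_, h3⟩⟩
    refine ⟨by omega, ?_⟩
    intro j j' hjj
    constructor
    · have := h2 j.val j.isLt (by rw [hjj]; exact j'.isLt)
      have e : (⟨j.val, by rw [hjj]; exact j'.isLt⟩ : Fin (M'.1 + 1)) = j' := Fin.ext hjj
      rw [e] at this
      exact this
    · have := h3 j.val j.isLt (by rw [hjj]; exact j'.isLt)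
      have e : (⟨j.val, by rw [hjj]; exact j'.isLt⟩ : Fin (M'.1 + 1)) = j' := Fin.ext hjj
      rw [e] at this
      exact this

/-- the (unsorted) Plücker row tuple attached to a minor: identity rows off the columns of the
minor, flipped rows of the minor (shifted by `n`) at its columns -/
noncomputable def rho (M : MinorIdx m n) : Fin n → Fin (n + m) :=
  Function.extend M.2.2.1 (fun j => Fin.natAdd n (Fin.rev (M.2.1.1 j))) (Fin.castAdd m)

theorem rho_col (M : MinorIdx m n) (j : Fin (M.1 + 1)) :
    rho M (M.2.2.1 j) = Fin.natAdd n (Fin.rev (M.2.1.1 j)) := by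
  unfold rho
  rw [M.2.2.2.injective.extend_apply]

theorem rho_off (M : MinorIdx m n) (c : Fin n) (hc : ∀ j, M.2.2.1 j ≠ c) :
    rho M c = Fin.castAdd m c := by
  unfold rho
  rw [Function.extend_apply']
  rintro ⟨j, hj⟩
  exact hc j hj

theorem rho_injective (M : MinorIdx m n) : Function.Injective (rho M) := by
  intro c c' h
  by_cases hc : ∃ j, M.2.2.1 j = c
  · obtain ⟨j, rfl⟩ := hc
    by_cases hc' : ∃ j', M.2.2.1 j' = c'
    · obtain ⟨j', rfl⟩ := hc'
      rw [rho_col, rho_col] at h
      have := Fin.rev_injective (Fin.natAdd_injective _ _ h)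
      rw [M.2.1.2.injective this]
    · push Not at hc'
      rw [rho_col, rho_off M c' hc'] at h
      have := congrArg Fin.val h
      simp only [Fin.val_natAdd, Fin.val_castAdd] at this
      have := c'.isLt
      omega
  · push Not at hc
    by_cases hc' : ∃ j', M.2.2.1 j' = c'
    · obtain ⟨j', rfl⟩ := hc'
      rw [rho_col, rho_off M c hc] at h
      have := congrArg Fin.val h
      simp only [Fin.val_natAdd, Fin.val_castAdd] at this
      have := c.isLt
      omega
    · push Not at hc'
      rw [rho_off M c hc, rho_off M c' hc'] at h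
      exact Fin.castAdd_injective _ _ h

theorem card_image_rho (M : MinorIdx m n) : (Finset.univ.image (rho M)).card = n := by
  rw [Finset.card_image_of_injective _ (rho_injective M)]
  simp

/-- the Plücker index of a minor -/
noncomputable def Theta (M : MinorIdx m n) : Idx n (n + m) := sortIdx n (n + m) (rho M) (card_image_rho M)

/-- counting function of an index -/
def cntI {d N : ℕ} (θ : Idx d N) (x : ℕ) : ℕ := cnt (fun k => (θ.1 k).val) x

theorem idx_le_iff_cnt {d N : ℕ} (θ θ' : Idx d N) : θ ≤ θ' ↔ ∀ x, cntI θ' x ≤ cntI θ x := by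
  unfold cntI
  rw [← le_iff_cnt (fun k => (θ'.1 k).val) (fun k => (θ.1 k).val) (fun _ _ h => θ'.2 h)
    (fun _ _ h => θ.2 h)]
  constructor
  · intro h
    exact ⟨le_refl _, fun j hj _ => h ⟨j, hj⟩⟩
  · rintro ⟨_, h⟩ k
    exact h k.val k.isLt k.isLt

theorem cntI_sortIdx {d N : ℕ} (a : Fin d → Fin N) (h : (Finset.univ.image a).card = d)
    (ha : Function.Injective a) (x : ℕ) :
    cntI (sortIdx d N a h) x = (Finset.univ.filter fun c => (a c).val < x).card := by
  classical
  unfold cntI cnt sortIdx
  simp only
  have h1 : ((Finset.univ.filter fun k : Fin d =>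
      ((Finset.univ.image a).orderEmbOfFin h k).val < x).image
        ((Finset.univ.image a).orderEmbOfFin h)) =
      (Finset.univ.image a).filter (fun y => y.val < x) := by
    ext y
    simp only [Finset.mem_image, Finset.mem_filter, Finset.mem_univ, true_and]
    constructor
    · rintro ⟨k, hk, rfl⟩
      refine ⟨?_, hk⟩
      have := Finset.orderEmbOfFin_mem (Finset.univ.image a) h k
      rw [Finset.mem_image] at this
      obtain ⟨c, _, hc⟩ := this
      exact ⟨c, hc⟩
    · rintro ⟨⟨c, rfl⟩, hy⟩
      have hmem : a c ∈ Finset.univ.image a := Finset.mem_image_of_mem _ (Finset.mem_univ c)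
      have hr := Finset.range_orderEmbOfFin (Finset.univ.image a) h
      have : a c ∈ Set.range ((Finset.univ.image a).orderEmbOfFin h) := by
        rw [hr]; exact hmem
      obtain ⟨k, hk⟩ := this
      exact ⟨k, by rw [hk]; exact hy, hk⟩
  have h2 : ((Finset.univ.filter fun c : Fin d => (a c).val < x).image a) =
      (Finset.univ.image a).filter (fun y => y.val < x) := by
    ext y
    simp only [Finset.mem_image, Finset.mem_filter, Finset.mem_univ, true_and]
    constructor
    · rintro ⟨c, hc, rfl⟩
      exact ⟨⟨c, rfl⟩, hc⟩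
    · rintro ⟨⟨c, rfl⟩, hy⟩
      exact ⟨c, hy, rfl⟩
  rw [← Finset.card_image_of_injective _ ((Finset.univ.image a).orderEmbOfFin h).injective, h1,
    ← h2, Finset.card_image_of_injective _ ha]

/-- shifted flipped rows of a minor -/
def rowsF (M : MinorIdx m n) : Fin (M.1 + 1) → ℕ := fun j => n + (m - (rowsN M j + 1))

theorem card_rho_lt (M : MinorIdx m n) (x : ℕ) :
    (Finset.univ.filter fun c => (rho M c).val < x).card =
      (min n x - cnt (colsN M) x) + cnt (rowsF M) x := by
  classical
  set Bimg : Finset (Fin n) := Finset.univ.image M.2.2.1 with hB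
  have hmemB : ∀ c, c ∈ Bimg ↔ ∃ j, M.2.2.1 j = c := by
    intro c
    simp [hB]
  have h0 := Finset.card_filter_add_card_filter_not
    (s := Finset.univ.filter fun c => (rho M c).val < x) (fun c => c ∈ Bimg)
  have h1 : ((Finset.univ.filter fun c => (rho M c).val < x).filter fun c => c ∈ Bimg).card =
      cnt (rowsF M) x := by
    unfold cnt
    rw [← Finset.card_image_of_injective _ M.2.2.2.injective]
    congr 1
    ext y
    simp only [Finset.mem_filter, Finset.mem_univ, true_and, Finset.mem_image, hmemB]
    constructor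
    · rintro ⟨hy, j, rfl⟩
      refine ⟨j, ?_, rfl⟩
      rw [rho_col] at hy
      simpa [rowsF, rowsN, Fin.val_rev] using hy
    · rintro ⟨j, hj, rfl⟩
      refine ⟨?_, j, rfl⟩
      rw [rho_col]
      simpa [rowsF, rowsN, Fin.val_rev] using hj
  have h2 : ((Finset.univ.filter fun c => (rho M c).val < x).filter fun c => ¬ c ∈ Bimg) =
      ((Finset.univ.filter fun c : Fin n => c.val < x).filter fun c => ¬ c ∈ Bimg) := by
    ext y
    simp only [Finset.mem_filter, Finset.mem_univ, true_and, hmemB]
    constructor
    · rintro ⟨hy, hn⟩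
      push Not at hn
      rw [rho_off M y hn] at hy
      exact ⟨by simpa using hy, by push Not; exact hn⟩
    · rintro ⟨hy, hn⟩
      push Not at hn
      refine ⟨?_, by push Not; exact hn⟩
      rw [rho_off M y hn]
      simpa using hy
  have h3 := Finset.card_filter_add_card_filter_not
    (s := Finset.univ.filter fun c : Fin n => c.val < x) (fun c => c ∈ Bimg)
  have h4 : ((Finset.univ.filter fun c : Fin n => c.val < x).filter fun c => c ∈ Bimg).card =
      cnt (colsN M) x := by
    unfold cnt
    rw [← Finset.card_image_of_injective _ M.2.2.2.injective]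
    congr 1
    ext y
    simp only [Finset.mem_filter, Finset.mem_univ, true_and, Finset.mem_image, hmemB]
    constructor
    · rintro ⟨hy, j, rfl⟩
      exact ⟨j, hy, rfl⟩
    · rintro ⟨j, hj, rfl⟩
      exact ⟨hj, j, rfl⟩
  have h5 : (Finset.univ.filter fun c : Fin n => c.val < x).card = min n x :=
    Fin.card_filter_val_lt
  rw [h2] at h0
  omega

theorem cntI_Theta (M : MinorIdx m n) (x : ℕ) :
    cntI (Theta M) x = (min n x - cnt (colsN M) x) + cnt (rowsF M) x := by
  unfold Theta
  rw [cntI_sortIdx _ _ (rho_injective M), card_rho_lt]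

theorem cnt_rowsF_le (M : MinorIdx m n) (x : ℕ) (hx : x ≤ n) : cnt (rowsF M) x = 0 := by
  apply cnt_eq_zero_of_forall_le
  intro j
  unfold rowsF
  omega

theorem cnt_rowsF_gt (M : MinorIdx m n) (x : ℕ) (hx : n < x) :
    cnt (rowsF M) x + cnt (rowsN M) (m - (x - n)) = M.1 + 1 := by
  unfold cnt
  have h0 := Finset.card_filter_add_card_filter_not
    (s := (Finset.univ : Finset (Fin (M.1 + 1)))) (fun j => rowsN M j < m - (x - n))
  have h1 : (Finset.univ.filter fun j => ¬ rowsN M j < m - (x - n)) =
      (Finset.univ.filter fun j => rowsF M j < x) := by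
    ext j
    simp only [Finset.mem_filter, Finset.mem_univ, true_and]
    have := rowsN_lt M j
    unfold rowsF
    omega
  rw [h1] at h0
  simp only [Finset.card_univ, Fintype.card_fin] at h0
  omega

theorem cnt_colsN_ge (M : MinorIdx m n) (x : ℕ) (hx : n ≤ x) : cnt (colsN M) x = M.1 + 1 := by
  apply cnt_eq_of_forall_lt
  intro j
  have := colsN_lt M j
  omega

theorem cnt_rowsN_ge (M : MinorIdx m n) (x : ℕ) (hx : m ≤ x) : cnt (rowsN M) x = M.1 + 1 := by
  apply cnt_eq_of_forall_lt
  intro j
  have := rowsN_lt M j
  omega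

theorem strictMono_ge {s : ℕ} (f : Fin s → ℕ) (hf : StrictMono f) : ∀ (j : ℕ) (hj : j < s), j ≤ f ⟨j, hj⟩ := by
  intro j
  induction j with
  | zero => intro _; exact Nat.zero_le _
  | succ j ih =>
    intro hj
    have h1 := ih (by omega)
    have h2 : f ⟨j, by omega⟩ < f ⟨j + 1, hj⟩ := hf (by simp [Fin.lt_def])
    omega

theorem cnt_le_self {s : ℕ} (f : Fin s → ℕ) (hf : StrictMono f) (x : ℕ) : cnt f x ≤ x := by
  unfold cnt
  have := Finset.card_le_card_of_injOn (s := Finset.univ.filter fun i => f i < x)
    (t := Finset.range x) (fun i : Fin s => i.val)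
    (by
      intro i hi
      simp only [Finset.coe_filter, Finset.mem_univ, true_and, Set.mem_ofPred_eq] at hi
      simp only [Finset.coe_range, Set.mem_Iio]
      have := strictMono_ge f hf i.val i.isLt
      simp only [Fin.eta] at this
      omega)
    (by
      intro a _ b _ hab
      exact Fin.ext hab)
  simpa using this

theorem size_le_cols (M : MinorIdx m n) : M.1 + 1 ≤ n := by
  have := Fintype.card_le_of_injective _ M.2.2.2.injective
  simpa using this

theorem size_le_rows (M : MinorIdx m n) : M.1 + 1 ≤ m := by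
  have := Fintype.card_le_of_injective _ M.2.1.2.injective
  simpa using this

/-- the dictionary is an order isomorphism onto its image -/
theorem Theta_le_iff (M M' : MinorIdx m n) : Theta M ≤ Theta M' ↔ MinorGE M M' := by
  rw [idx_le_iff_cnt, minorGE_iff]
  have hS := size_le_cols M
  have hS' := size_le_cols M'
  constructor
  · intro h
    have hSS : M.1 + 1 ≤ M'.1 + 1 := by
      have := h n
      rw [cntI_Theta, cntI_Theta, cnt_rowsF_le M n le_rfl, cnt_rowsF_le M' n le_rfl,
        cnt_colsN_ge M n le_rfl, cnt_colsN_ge M' n le_rfl] at this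
      simp only [min_self] at this
      omega
    constructor
    · intro z
      by_cases hz : m ≤ z
      · rw [cnt_rowsN_ge M z hz, cnt_rowsN_ge M' z hz]
        exact hSS
      · have := h (n + (m - z))
        rw [cntI_Theta, cntI_Theta, cnt_colsN_ge M _ (by omega), cnt_colsN_ge M' _ (by omega)] at this
        have h1 := cnt_rowsF_gt M (n + (m - z)) (by omega)
        have h2 := cnt_rowsF_gt M' (n + (m - z)) (by omega)
        have e : m - (n + (m - z) - n) = z := by omega
        rw [e] at h1 h2
        have h3 : min n (n + (m - z)) = n := by omega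
        rw [h3] at this
        have h4 := cnt_le (rowsN M') z
        omega
    · intro x
      by_cases hx : n ≤ x
      · rw [cnt_colsN_ge M x hx, cnt_colsN_ge M' x hx]
        exact hSS
      · have := h x
        rw [cntI_Theta, cntI_Theta, cnt_rowsF_le M x (by omega), cnt_rowsF_le M' x (by omega)] at this
        have h1 := cnt_le_self _ (colsN_strictMono M) x
        have h3 : min n x = x := by omega
        rw [h3] at this
        omega
  · rintro ⟨hα, hβ⟩ x
    rw [cntI_Theta, cntI_Theta]
    by_cases hx : x ≤ n
    · rw [cnt_rowsF_le M x hx, cnt_rowsF_le M' x hx]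
      have := hβ x
      omega
    · rw [cnt_colsN_ge M x (by omega), cnt_colsN_ge M' x (by omega)]
      have h1 := cnt_rowsF_gt M x (by omega)
      have h2 := cnt_rowsF_gt M' x (by omega)
      have h3 := hα (m - (x - n))
      have h4 : min n x = n := by omega
      rw [h4]
      omega

theorem minorGE_antisymm (M M' : MinorIdx m n) (h : MinorGE M M') (h' : MinorGE M' M) : M = M' := by
  obtain ⟨s, A, B⟩ := M
  obtain ⟨s', A', B'⟩ := M'
  have hs : s = s' := le_antisymm h.1 h'.1
  subst hs
  have hA : A = A' := by
    apply Subtype.ext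
    funext j
    exact le_antisymm (h'.2 j j rfl).1 (h.2 j j rfl).1
  have hB : B = B' := by
    apply Subtype.ext
    funext j
    exact le_antisymm (h'.2 j j rfl).2 (h.2 j j rfl).2
  rw [hA, hB]

theorem minorGE_refl (M : MinorIdx m n) : MinorGE M M := by
  refine ⟨le_refl _, ?_⟩
  intro j j' hjj
  have : j = j' := Fin.ext hjj
  subst this
  exact ⟨le_refl _, le_refl _⟩

theorem Theta_injective : Function.Injective (Theta : MinorIdx m n → Idx n (n + m)) := by
  intro M M' h
  apply minorGE_antisymm
  · rw [← Theta_le_iff, h]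
  · rw [← Theta_le_iff, h]

theorem cntI_Theta_n (M : MinorIdx m n) : cntI (Theta M) n + (M.1 + 1) = n := by
  rw [cntI_Theta, cnt_rowsF_le M n le_rfl, cnt_colsN_ge M n le_rfl]
  have := size_le_cols M
  simp only [min_self]
  omega

/-- existence of a minor with a given Plücker index having at least one row beyond the identity block -/
theorem exists_Theta_eq (θ : Idx n (n + m)) (hθ : cntI θ n < n) : ∃ M : MinorIdx m n, Theta M = θ := by
  classical
  set Aset : Finset (Fin m) :=
    Finset.univ.filter (fun a => ∃ k, θ.1 k = Fin.natAdd n (Fin.rev a)) with hAset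
  set Bset : Finset (Fin n) :=
    Finset.univ.filter (fun c => ∀ k, θ.1 k ≠ Fin.castAdd m c) with hBset
  have hθi : Function.Injective θ.1 := θ.2.injective
  have hsplit := Finset.card_filter_add_card_filter_not
    (s := (Finset.univ : Finset (Fin n))) (fun k => (θ.1 k).val < n)
  simp only [Finset.card_univ, Fintype.card_fin] at hsplit
  have hcnt : (Finset.univ.filter fun k : Fin n => (θ.1 k).val < n).card = cntI θ n := rfl
  -- cardinality of `Aset`
  have hA : Aset.card = n - cntI θ n := by
    have h1 : Aset.image (fun a => Fin.natAdd n (Fin.rev a)) =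
        (Finset.univ.filter fun k : Fin n => ¬ (θ.1 k).val < n).image θ.1 := by
      ext y
      simp only [Finset.mem_image, Finset.mem_filter, Finset.mem_univ, true_and, hAset]
      constructor
      · rintro ⟨a, ⟨k, hk⟩, rfl⟩
        refine ⟨k, ?_, hk⟩
        rw [hk]
        simp
      · rintro ⟨k, hk, rfl⟩
        have hlt := (θ.1 k).isLt
        refine ⟨Fin.rev ⟨(θ.1 k).val - n, by omega⟩, ⟨k, ?_⟩, ?_⟩
        · rw [Fin.rev_rev]
          apply Fin.ext
          simp only [Fin.val_natAdd]
          omega
        · rw [Fin.rev_rev]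
          apply Fin.ext
          simp only [Fin.val_natAdd]
          omega
    have h2 := congrArg Finset.card h1
    rw [Finset.card_image_of_injective _ (fun a b hab =>
      Fin.rev_injective (Fin.natAdd_injective _ _ hab)),
      Finset.card_image_of_injective _ hθi] at h2
    omega
  -- cardinality of `Bset`
  have hB : Bset.card = n - cntI θ n := by
    have h0 := Finset.card_filter_add_card_filter_not
      (s := (Finset.univ : Finset (Fin n))) (fun c => ∀ k, θ.1 k ≠ Fin.castAdd m c)
    simp only [Finset.card_univ, Fintype.card_fin] at h0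
    have h1 : (Finset.univ.filter fun c : Fin n => ¬ ∀ k, θ.1 k ≠ Fin.castAdd m c).image
        (Fin.castAdd m) = (Finset.univ.filter fun k : Fin n => (θ.1 k).val < n).image θ.1 := by
      ext y
      simp only [Finset.mem_image, Finset.mem_filter, Finset.mem_univ, true_and]
      constructor
      · rintro ⟨c, hc, rfl⟩
        push Not at hc
        obtain ⟨k, hk⟩ := hc
        refine ⟨k, ?_, hk⟩
        rw [hk]
        simp
      · rintro ⟨k, hk, rfl⟩
        refine ⟨⟨(θ.1 k).val, hk⟩, ?_, Fin.ext rfl⟩
        push Not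
        exact ⟨k, Fin.ext rfl⟩
    have h2 := congrArg Finset.card h1
    rw [Finset.card_image_of_injective _ (Fin.castAdd_injective _ _),
      Finset.card_image_of_injective _ hθi] at h2
    have : Bset.card = (Finset.univ.filter fun c : Fin n => ∀ k, θ.1 k ≠ Fin.castAdd m c).card := rfl
    omega
  obtain ⟨s, hs⟩ : ∃ s, n - cntI θ n = s + 1 := ⟨n - cntI θ n - 1, by omega⟩
  rw [hs] at hA hB
  let M : MinorIdx m n := ⟨s, ⟨fun j => Aset.orderEmbOfFin hA j, (Aset.orderEmbOfFin hA).strictMono⟩,
    ⟨fun j => Bset.orderEmbOfFin hB j, (Bset.orderEmbOfFin hB).strictMono⟩⟩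
  refine ⟨M, ?_⟩
  have hsub : Finset.univ.image (rho M) ⊆ Finset.univ.image θ.1 := by
    intro y hy
    rw [Finset.mem_image] at hy ⊢
    obtain ⟨c, _, rfl⟩ := hy
    by_cases hc : c ∈ Bset
    · have hr := Finset.range_orderEmbOfFin Bset hB
      have : c ∈ Set.range (Bset.orderEmbOfFin hB) := by rw [hr]; exact hc
      obtain ⟨j, rfl⟩ := this
      have h1 : rho M (Bset.orderEmbOfFin hB j) = Fin.natAdd n (Fin.rev (Aset.orderEmbOfFin hA j)) :=
        rho_col M j
      rw [h1]
      have h2 := Finset.orderEmbOfFin_mem Aset hA j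
      have h2' := Finset.mem_filter.mp h2
      obtain ⟨k, hk⟩ := h2'.2
      exact ⟨k, Finset.mem_univ _, hk⟩
    · have h1 : rho M c = Fin.castAdd m c := by
        apply rho_off
        intro j hj
        apply hc
        rw [← hj]
        exact Finset.orderEmbOfFin_mem Bset hB j
      rw [h1]
      have hc' : ¬ ∀ k, θ.1 k ≠ Fin.castAdd m c := by
        intro hall
        exact hc (Finset.mem_filter.mpr ⟨Finset.mem_univ _, hall⟩)
      push Not at hc'
      obtain ⟨k, hk⟩ := hc'
      exact ⟨k, Finset.mem_univ _, hk⟩
  have heq : Finset.univ.image (rho M) = Finset.univ.image θ.1 := by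
    apply Finset.eq_of_subset_of_card_le hsub
    rw [card_image_rho, Finset.card_image_of_injective _ hθi]
    simp
  apply Subtype.ext
  unfold Theta sortIdx
  simp only
  have := Finset.orderEmbOfFin_unique (s := Finset.univ.image (rho M)) (card_image_rho M)
    (f := θ.1) (fun k => by rw [heq]; exact Finset.mem_image_of_mem _ (Finset.mem_univ k)) θ.2
  rw [this]

theorem lt_iff_cnt {s : ℕ} (f : Fin s → ℕ) (hf : StrictMono f) (j : ℕ) (hj : j < s) (x : ℕ) :
    f ⟨j, hj⟩ < x ↔ j + 1 ≤ cnt f x := by
  constructor
  · intro h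
    unfold cnt
    have := Finset.card_le_card_of_injOn (s := (Finset.univ : Finset (Fin (j + 1))))
      (t := Finset.univ.filter fun i => f i < x)
      (fun i : Fin (j + 1) => Fin.castLE (by omega : j + 1 ≤ s) i)
      (by
        intro i _
        simp only [Finset.coe_filter, Finset.mem_univ, true_and, Set.mem_ofPred_eq]
        have : f (Fin.castLE (by omega : j + 1 ≤ s) i) ≤ f ⟨j, hj⟩ := hf.monotone (by
          rw [Fin.le_def]; have := i.isLt; simp only [Fin.val_castLE]; omega)
        omega)
      (by
        intro a _ b _ hab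
        exact Fin.castLE_injective _ hab)
    simpa using this
  · intro h
    by_contra hcon
    push Not at hcon
    have h3 : cnt f x ≤ j := by
      unfold cnt
      have hlt : ∀ i : Fin s, f i < x → i.val < j := by
        intro i hi
        have : f i < f ⟨j, hj⟩ := by omega
        exact hf.lt_iff_lt.mp this
      have := Finset.card_le_card_of_injOn (s := Finset.univ.filter fun i => f i < x)
        (t := Finset.range j)
        (fun i : Fin s => i.val)
        (by
          intro i hi
          simp only [Finset.coe_filter, Finset.mem_univ, true_and, Set.mem_ofPred_eq] at hi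
          simp only [Finset.coe_range, Set.mem_Iio]
          exact hlt i hi)
        (by
          intro a _ b _ hab
          exact Fin.ext hab)
      simpa using this
    omega

end Groth.Agent.Lib.Helper2.Bitab
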