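import Mathlib
import Groth.Prelude.Def_LCI2
import Groth.Prelude.Def_ega3
import Groth.Agent.Lib.Helper21.KL5
import Groth.Agent.Lib.Helper21.KoszHtpy
import Groth.Agent.Lib.Helper2.KosReg

/-!
# Inverting an element: from Koszul-regularity of `t :: xs` and of `xs` over `R[1/t]`
to Koszul-regularity of `xs`
-/

set_option autoImplicit false
universe u
open CategoryTheory CategoryTheory.Limits CochainComplex HomologicalComplex
  CategoryTheory.Pretriangulated TensorProduct

namespace Groth.Agent.Helper2.BlowLci

open Groth.Agent.Helper21.KL Groth.Agent.Helper21.KF Groth.Agent.Helper2.KosReg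

section Cone

variable {A : Type u} [CommRing A]

/-- the long exact sequence of a mapping cone: if the cone has no cohomology in degree `m - 1`
then the map is injective on cohomology in degree `m` -/
theorem mono_homologyMap_of_cone {K L : CochainComplex (ModuleCat.{u} A) ℤ} (φ : K ⟶ L) (m : ℤ)
    (h : IsZero ((mappingCone φ).homology (m - 1))) :
    Mono (HomologicalComplex.homologyMap φ m) := by
  let Q := HomotopyCategory.quotient (ModuleCat.{u} A) (ComplexShape.up ℤ)
  let H := HomotopyCategory.homologyFunctor (ModuleCat.{u} A) (ComplexShape.up ℤ) m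
  have hT := HomotopyCategory.mappingCone_triangleh_distinguished φ
  have hT' := inv_rot_of_distTriang _ hT
  have hex := H.map_distinguished_exact _ hT'
  have e : H.obj ((Q.obj (mappingCone φ))⟦(-1 : ℤ)⟧) ≅ (mappingCone φ).homology (m - 1) :=
    ((HomotopyCategory.homologyFunctor (ModuleCat.{u} A) (ComplexShape.up ℤ) 0).shiftIso (-1) m
      (m - 1) (by ring)).app (Q.obj (mappingCone φ)) ≪≫
    (HomotopyCategory.homologyFunctorFactors (ModuleCat.{u} A) (ComplexShape.up ℤ) (m - 1)).app
      (mappingCone φ)
  have hz : IsZero (H.obj ((Q.obj (mappingCone φ))⟦(-1 : ℤ)⟧)) := h.of_iso e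
  have hmono : Mono (H.map (Q.map φ)) := hex.mono_g (hz.eq_of_src _ _)
  have hnat := (HomotopyCategory.homologyFunctorFactors (ModuleCat.{u} A) (ComplexShape.up ℤ)
    m).hom.naturality φ
  let Fa := HomotopyCategory.homologyFunctorFactors (ModuleCat.{u} A) (ComplexShape.up ℤ) m
  have heq : (HomologicalComplex.homologyFunctor (ModuleCat.{u} A) (ComplexShape.up ℤ) m).map φ =
      Fa.inv.app K ≫ H.map (Q.map φ) ≫ Fa.hom.app L := by
    calc (HomologicalComplex.homologyFunctor (ModuleCat.{u} A) (ComplexShape.up ℤ) m).map φ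
        = (Fa.inv.app K ≫ Fa.hom.app K) ≫
          (HomologicalComplex.homologyFunctor (ModuleCat.{u} A) (ComplexShape.up ℤ) m).map φ := by
          rw [Iso.inv_hom_id_app, Category.id_comp]
      _ = Fa.inv.app K ≫ (Fa.hom.app K ≫
          (HomologicalComplex.homologyFunctor (ModuleCat.{u} A) (ComplexShape.up ℤ) m).map φ) :=
          Category.assoc _ _ _
      _ = Fa.inv.app K ≫ ((Q ⋙ H).map φ ≫ Fa.hom.app L) := by rw [← hnat]
      _ = Fa.inv.app K ≫ H.map (Q.map φ) ≫ Fa.hom.app L := rfl
  show Mono ((HomologicalComplex.homologyFunctor (ModuleCat.{u} A) (ComplexShape.up ℤ) m).map φ)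
  rw [heq]
  have i1 : IsIso (Fa.hom.app L) := (Fa.app L).isIso_hom
  have i2 : IsIso (Fa.inv.app K) := (Fa.app K).isIso_inv
  haveI h1 : Mono (Fa.hom.app L) := @IsIso.mono_of_iso _ _ _ _ _ i1
  haveI h2 : Mono (Fa.inv.app K) := @IsIso.mono_of_iso _ _ _ _ _ i2
  haveI h3 : Mono (H.map (Q.map φ) ≫ Fa.hom.app L) := CategoryTheory.mono_comp _ _
  exact CategoryTheory.mono_comp _ _

/-- multiplication by `x` is injective on the cohomology of `K` in degree `m` when the cone of
`x` on `K` has no cohomology in degree `m - 1` -/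
theorem smul_injective_of_cone (K : CochainComplex (ModuleCat.{u} A) ℤ) (x : A) (m : ℤ)
    (h : IsZero ((mappingCone (x • 𝟙 K)).homology (m - 1))) (z : K.homology m)
    (hz : x • z = 0) : z = 0 := by
  haveI := mono_homologyMap_of_cone (x • 𝟙 K) m h
  have h1 : HomologicalComplex.homologyMap (x • 𝟙 K) m = x • 𝟙 (K.homology m) := by
    rw [Groth.Agent.Helper21.KH.homologyMap_smul, HomologicalComplex.homologyMap_id]
  have hinj := (ModuleCat.mono_iff_injective _).mp this
  apply hinj
  rw [map_zero, h1]
  exact hz

end Cone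

section Loc

variable {R : Type u} [CommRing R]

open MonoidalCategory

/-- a module on which `t` acts injectively and which dies after inverting `t` is zero -/
theorem isZero_of_away (t : R) (N : Type u) [CommRing N] [Algebra R N] [IsLocalization.Away t N]
    (H : ModuleCat.{u} R) (hinj : ∀ z : H, t • z = 0 → z = 0)
    (hz : IsZero ((tensorLeft (ModuleCat.of R N)).obj H)) : IsZero H := by
  haveI : Subsingleton (N ⊗[R] H) := ModuleCat.subsingleton_of_isZero hz
  haveI : IsLocalizedModule (Submonoid.powers t) (TensorProduct.mk R N H 1) :=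
    (isLocalizedModule_iff_isBaseChange (Submonoid.powers t) N _).mpr
      (TensorProduct.isBaseChange R H N)
  have hpow : ∀ (n : ℕ) (z : H), t ^ n • z = 0 → z = 0 := by
    intro n
    induction n with
    | zero => intro z hz; simpa using hz
    | succ n ih =>
      intro z hz
      apply ih
      apply hinj
      rw [← mul_smul, ← pow_succ']
      exact hz
  have hall : ∀ z : H, z = 0 := by
    intro z
    have h0 : TensorProduct.mk R N H 1 z = 0 := Subsingleton.elim _ _
    obtain ⟨⟨_, n, rfl⟩, hc⟩ :=
      (IsLocalizedModule.eq_zero_iff (Submonoid.powers t) (TensorProduct.mk R N H 1)).mp h0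
    exact hpow n z hc
  haveI : Subsingleton H := ⟨fun a b => by rw [hall a, hall b]⟩
  exact ModuleCat.isZero_of_subsingleton H

/-- cohomology commutes with an exact functor (existence of an isomorphism) -/
theorem nonempty_homology_map_iso (F : ModuleCat.{u} R ⥤ ModuleCat.{u} R) [F.Additive]
    [F.PreservesHomology] (K : CochainComplex (ModuleCat.{u} R) ℤ) (j : ℤ) :
    Nonempty ((((F.mapHomologicalComplex (ComplexShape.up ℤ)).obj K).homology j) ≅
      F.obj (K.homology j)) :=
  ⟨(K.sc j).mapHomologyIso F⟩

end Loc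

section Main

variable {R : Type u} [CommRing R]

open MonoidalCategory

/-- **Inverting an element.**  If `t :: xs` is Koszul-regular on `R` and `xs` is Koszul-regular
on `R[1/t]`, then `xs` is Koszul-regular on `R`. -/
theorem acycAt_of_away (t : R) (xs : List R) (N : Type u) [CommRing N] [Algebra R N]
    [IsLocalization.Away t N]
    (h1 : ∀ j : ℤ, j ≠ 0 → AcycAt (t :: xs) R j)
    (h2 : ∀ j : ℤ, j ≠ 0 → AcycAt xs N j) :
    ∀ j : ℤ, j ≠ 0 → AcycAt xs R j := by
  intro j hj
  rcases lt_or_gt_of_ne hj with hneg | hpos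
  swap
  · exact AcycAt.of_pos xs R j hpos
  haveI : Module.Flat R N := IsLocalization.flat N (Submonoid.powers t)
  unfold AcycAt
  set K := CohIII.koszulCx (ModuleCat.of R R) xs with hK
  -- injectivity of `t`
  have hcone : IsZero ((mappingCone (t • 𝟙 K)).homology (j - 1)) := h1 (j - 1) (by omega)
  have hinj : ∀ z : K.homology j, t • z = 0 → z = 0 :=
    fun z hz => smul_injective_of_cone K t j hcone z hz
  -- vanishing after inverting `t`
  have h3 : AcycAt xs (N ⊗[R] R) j :=
    AcycAt.of_linearEquiv (TensorProduct.rid R N).symm (h2 j hj)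
  let F := tensorLeft (ModuleCat.of R N)
  obtain ⟨e1⟩ := nonempty_functor_iso F (fun x f => Functor.map_smul _ _ _) (ModuleCat.of R R) xs
  have e2 := (HomologicalComplex.homologyFunctor (ModuleCat.{u} R) (ComplexShape.up ℤ) j).mapIso e1
  obtain ⟨e3⟩ := nonempty_homology_map_iso F K j
  have hz : IsZero (F.obj (K.homology j)) := by
    have h4 : IsZero ((CohIII.koszulCx (F.obj (ModuleCat.of R R)) xs).homology j) := h3
    exact (h4.of_iso e2).of_iso e3.symm
  exact isZero_of_away t N (K.homology j) hinj hz

end Main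

end Groth.Agent.Helper2.BlowLci
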