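import Mathlib
import Groth.Prelude.Def_LCI2
import Groth.Agent.Lib.Helper2.BlowLci1
import Groth.Agent.Lib.Helper28.RegSection
import Groth.Agent.S15821
import Groth.Agent.S18935

/-!
# The relations `f_{i₀} X_k - f_k` of a chart of the blow-up in a Koszul-regular sequence form a
Koszul-regular sequence
-/

set_option autoImplicit false
universe u
open CategoryTheory MvPolynomial TensorProduct

namespace Groth.Agent.Helper2.BlowLci

open Groth.Agent.Helper21.KL Groth.Agent.Helper2.KosReg

section Rel

variable {A : Type u} [CommRing A] {n : ℕ} (f : Fin (n + 1) → A) (i₀ : Fin (n + 1))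

/-- the relations of the `i₀`-th chart, in the variables other than `i₀` -/
noncomputable def rel (k : Fin n) : MvPolynomial (Fin n) A :=
  C (f i₀) * X k - C (f (i₀.succAbove k))

/-- the sequence `f i₀ :: rel` is Koszul-regular in the polynomial ring -/
theorem acycAt_cons_rel (hf : LCI.IsKoszulRegularSeq A (List.ofFn f)) :
    ∀ j : ℤ, j ≠ 0 → AcycAt ((C (f i₀) : MvPolynomial (Fin n) A) :: List.ofFn (rel f i₀))
      (MvPolynomial (Fin n) A) j := by
  have h1 : LCI.IsKoszulRegularSeq (MvPolynomial (Fin n) A)
      ((List.ofFn f).map (algebraMap A (MvPolynomial (Fin n) A))) :=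
    isKoszulRegularSeq_baseChange _ _ hf
  rw [isKoszulRegularSeq_iff] at h1
  refine Groth.Agent.S18935.lemmaK _ _ ?_ ?_ ?_ h1
  · simp
  · intro x hx
    rw [List.mem_map] at hx
    obtain ⟨a, ha, rfl⟩ := hx
    obtain ⟨j, rfl⟩ := (List.mem_ofFn' _ _).mp ha
    rw [MvPolynomial.algebraMap_eq]
    by_cases hj : j = i₀
    · subst hj
      exact Ideal.subset_span List.mem_cons_self
    · obtain ⟨k, rfl⟩ := Fin.exists_succAbove_eq hj
      have e : (C (f (i₀.succAbove k)) : MvPolynomial (Fin n) A) =
          X k * C (f i₀) - rel f i₀ k := by rw [rel]; ring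
      rw [e]
      refine Ideal.sub_mem _ (Ideal.mul_mem_left _ _ (Ideal.subset_span List.mem_cons_self)) ?_
      exact Ideal.subset_span (List.mem_cons_of_mem _ ((List.mem_ofFn' _ _).mpr ⟨k, rfl⟩))
  · intro y hy
    have hmem : ∀ j, (C (f j) : MvPolynomial (Fin n) A) ∈ Ideal.span
        {a | a ∈ (List.ofFn f).map (algebraMap A (MvPolynomial (Fin n) A))} := by
      intro j
      apply Ideal.subset_span
      show _ ∈ (List.ofFn f).map _
      rw [List.mem_map]
      exact ⟨f j, (List.mem_ofFn' _ _).mpr ⟨j, rfl⟩, rfl⟩
    rcases List.mem_cons.mp hy with rfl | hy'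
    · exact hmem i₀
    · obtain ⟨k, rfl⟩ := (List.mem_ofFn' _ _).mp hy'
      rw [rel]
      exact Ideal.sub_mem _ (Ideal.mul_mem_right _ _ (hmem i₀)) (hmem _)

end Rel

section Aut

variable {B : Type u} [CommRing B] {n : ℕ} (u v : B) (b : Fin n → B)

/-- the substitution `X_k ↦ u X_k - b_k` -/
noncomputable def subst : MvPolynomial (Fin n) B →ₐ[B] MvPolynomial (Fin n) B :=
  aeval (fun k => C u * X k - C (b k))

/-- its inverse when `v u = 1` -/
noncomputable def substInv : MvPolynomial (Fin n) B →ₐ[B] MvPolynomial (Fin n) B :=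
  aeval (fun k => C v * (X k + C (b k)))

/-- the substitution `X_k ↦ u X_k - b_k` as an automorphism, for `u` invertible -/
noncomputable def substEquiv (huv : v * u = 1) :
    MvPolynomial (Fin n) B ≃ₐ[B] MvPolynomial (Fin n) B :=
  AlgEquiv.ofAlgHom (subst u b) (substInv v b)
    (by
      apply MvPolynomial.algHom_ext
      intro k
      simp only [AlgHom.comp_apply, substInv, subst, aeval_X, map_mul, map_add, aeval_C,
        AlgHom.id_apply, MvPolynomial.algebraMap_eq]
      have h : (C v : MvPolynomial (Fin n) B) * C u = 1 := by rw [← C_mul, huv, C_1]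
      linear_combination (X k : MvPolynomial (Fin n) B) * h)
    (by
      apply MvPolynomial.algHom_ext
      intro k
      simp only [AlgHom.comp_apply, substInv, subst, aeval_X, map_mul, map_sub, aeval_C,
        AlgHom.id_apply, MvPolynomial.algebraMap_eq]
      have h : (C v : MvPolynomial (Fin n) B) * C u = 1 := by rw [← C_mul, huv, C_1]
      linear_combination ((X k : MvPolynomial (Fin n) B) + C (b k)) * h)

theorem substEquiv_X (huv : v * u = 1) (k : Fin n) :
    substEquiv u v b huv (X k) = C u * X k - C (b k) := by
  show subst u b (X k) = _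
  rw [subst, aeval_X]

/-- for `u` invertible the sequence `u X_k - b_k` is Koszul-regular -/
theorem kr_subst (huv : v * u = 1) :
    LCI.IsKoszulRegularSeq (MvPolynomial (Fin n) B)
      (List.ofFn (fun k : Fin n => (C u * X k - C (b k) : MvPolynomial (Fin n) B))) := by
  have h1 : LCI.IsKoszulRegularSeq (MvPolynomial (Fin n) B)
      (List.ofFn (X : Fin n → MvPolynomial (Fin n) B)) :=
    (Groth.Agent.S15821.result _ _ (Groth.Agent.Helper28.RegSection.isWeaklyRegular_X B n)).1
  have h2 := isKoszulRegularSeq_ringEquiv (substEquiv u v b huv).toRingEquiv _ h1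
  have e : (List.ofFn (X : Fin n → MvPolynomial (Fin n) B)).map
      (substEquiv u v b huv).toRingEquiv =
      List.ofFn (fun k : Fin n => (C u * X k - C (b k) : MvPolynomial (Fin n) B)) := by
    rw [List.map_ofFn]
    congr 1
    funext k
    exact substEquiv_X u v b huv k
  rw [e] at h2
  exact h2

end Aut

section MainRel

variable {A : Type u} [CommRing A] {n : ℕ} (f : Fin (n + 1) → A) (i₀ : Fin (n + 1))

attribute [local instance] MvPolynomial.algebraMvPolynomial

/-- **The relations of a chart of the blow-up in a Koszul-regular sequence are a Koszul-regular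
sequence.** -/
theorem kr_rel (hf : LCI.IsKoszulRegularSeq A (List.ofFn f)) :
    LCI.IsKoszulRegularSeq (MvPolynomial (Fin n) A) (List.ofFn (rel f i₀)) := by
  rw [isKoszulRegularSeq_iff]
  set t := f i₀ with ht
  let At := Localization.Away t
  let N := MvPolynomial (Fin n) At
  haveI hloc : IsLocalization.Away (C t : MvPolynomial (Fin n) A) N := by
    have h0 : IsLocalization ((Submonoid.powers t).map (C (σ := Fin n))) N :=
      MvPolynomial.isLocalization (Submonoid.powers t) At
    have e : (Submonoid.powers t).map (C (σ := Fin n) : A →+* MvPolynomial (Fin n) A) =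
        Submonoid.powers (C t : MvPolynomial (Fin n) A) := by
      rw [Submonoid.map_powers]
    show IsLocalization (Submonoid.powers (C t : MvPolynomial (Fin n) A)) N
    rw [← e]
    exact h0
  refine acycAt_of_away (C t) (List.ofFn (rel f i₀)) N (acycAt_cons_rel f i₀ hf) ?_
  intro j hj
  -- over `N` the relations are `u X_k - b_k` with `u` invertible
  have hu : algebraMap A At t * IsLocalization.Away.invSelf (S := At) t = 1 :=
    IsLocalization.Away.mul_invSelf t
  have h1 := kr_subst (algebraMap A At t) (IsLocalization.Away.invSelf (S := At) t)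
    (fun k => algebraMap A At (f (i₀.succAbove k))) (by rw [mul_comm]; exact hu)
  have e : (List.ofFn (rel f i₀)).map (algebraMap (MvPolynomial (Fin n) A) N) =
      List.ofFn (fun k : Fin n => (C (algebraMap A At t) * X k -
        C (algebraMap A At (f (i₀.succAbove k))) : MvPolynomial (Fin n) At)) := by
    rw [List.map_ofFn]
    congr 1
    funext k
    show algebraMap (MvPolynomial (Fin n) A) N (rel f i₀ k) = _
    rw [rel, MvPolynomial.algebraMap_def, map_sub, map_mul, MvPolynomial.map_C,
      MvPolynomial.map_C, MvPolynomial.map_X]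
  rw [← e, isKoszulRegularSeq_iff] at h1
  exact (acycAt_restrict_iff (algebraMap (MvPolynomial (Fin n) A) N) N
    (fun b m => Algebra.smul_def b m) _ j).mp (h1 j hj)

end MainRel

end Groth.Agent.Helper2.BlowLci
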