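import Mathlib
import Groth.Prelude.Def_LCI2
import Groth.Prelude.Def_MoreMor
import Groth.Prelude.Def_BlowUp2
import Groth.Agent.Lib.Helper2.BlowLci2
import Groth.Agent.Lib.Helper2.H1Desc3
import Groth.Agent.Lib.Helper28.BlowTor1
import Groth.Agent.Lib.Helper11.PerfMor5

/-!
# The charts of the blow-up in a Koszul-regular sequence are perfect over the base
-/

set_option autoImplicit false
universe u
open CategoryTheory MvPolynomial TensorProduct

attribute [local instance] HasDerivedCategory.standard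

namespace Groth.Agent.Helper2.BlowLci

open Groth.Agent.Helper21.KL Groth.Agent.Helper2.KosReg Groth.Agent.Helper28.BlowQReg
  Groth.Agent.Helper28.BlowTor Groth.Agent.Helper11.PerfMor

section Chart

variable {A : Type u} [CommRing A] {n : ℕ} (f : Fin (n + 1) → A) (i₀ : Fin (n + 1))

/-- evaluation at the generators other than `i₀` -/
noncomputable def Ev' : MvPolynomial (Fin n) A →ₐ[A] Cc f i₀ :=
  aeval (fun k => gen f i₀ (i₀.succAbove k))

/-- setting `X i₀ = 1` and renumbering the other variables -/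
noncomputable def eps' : MvPolynomial (Fin (n + 1)) A →ₐ[A] MvPolynomial (Fin n) A :=
  aeval (Fin.insertNth (α := fun _ => MvPolynomial (Fin n) A) i₀ 1 (fun k => X k))

lemma eps'_X_self : eps' (A := A) i₀ (X i₀) = 1 := by
  rw [eps', aeval_X, Fin.insertNth_apply_same]

lemma eps'_X_succAbove (k : Fin n) : eps' (A := A) i₀ (X (i₀.succAbove k)) = X k := by
  rw [eps', aeval_X, Fin.insertNth_apply_succAbove]

lemma eps'_C (r : A) : eps' (A := A) i₀ (C r) = C r := by
  rw [eps', aeval_C]
  rfl

lemma eps'_rename (Q : MvPolynomial (Fin n) A) : eps' i₀ (rename i₀.succAbove Q) = Q := by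
  have h : (eps' (A := A) i₀).comp (rename i₀.succAbove) = AlgHom.id A _ := by
    apply MvPolynomial.algHom_ext
    intro k
    rw [AlgHom.comp_apply, rename_X, eps'_X_succAbove, AlgHom.id_apply]
  exact DFunLike.congr_fun h Q

lemma Ev_eq : Ev f i₀ = (Ev' f i₀).comp (eps' i₀) := by
  apply MvPolynomial.algHom_ext
  intro j
  rw [AlgHom.comp_apply, Ev_X]
  by_cases hj : j = i₀
  · subst hj
    rw [eps'_X_self, map_one, gen_self]
  · obtain ⟨k, rfl⟩ := Fin.exists_succAbove_eq hj
    rw [eps'_X_succAbove, Ev', aeval_X]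

lemma Ev'_eq : Ev' f i₀ = (Ev f i₀).comp (rename i₀.succAbove) := by
  apply MvPolynomial.algHom_ext
  intro k
  rw [AlgHom.comp_apply, rename_X, Ev_X, Ev', aeval_X]

lemma Ev'_surjective : Function.Surjective (Ev' f i₀) := by
  intro cc
  obtain ⟨Q, hQ⟩ := Ev_surjective f i₀ cc
  refine ⟨eps' i₀ Q, ?_⟩
  rw [← hQ, Ev_eq, AlgHom.comp_apply]

lemma eps'_g (j : Fin (n + 1)) :
    eps' i₀ (g f i₀ j) ∈ Ideal.span (Set.range (rel f i₀)) := by
  rw [g, map_sub, map_mul, eps'_C, eps'_C]
  by_cases hj : j = i₀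
  · subst hj
    rw [eps'_X_self, mul_one, sub_self]
    exact Ideal.zero_mem _
  · obtain ⟨k, rfl⟩ := Fin.exists_succAbove_eq hj
    rw [eps'_X_succAbove]
    exact Ideal.subset_span ⟨k, rfl⟩

lemma rename_rel (k : Fin n) : rename i₀.succAbove (rel f i₀ k) = g f i₀ (i₀.succAbove k) := by
  rw [rel, g, map_sub, map_mul, rename_C, rename_C, rename_X]

/-- the kernel of `A[X_k, k ≠ i₀] → A[J / f i₀]` is generated by the relations -/
theorem ker_Ev' (hf : CAlgX.IsH1Regular f) :
    RingHom.ker (Ev' f i₀).toRingHom = Ideal.span (Set.range (rel f i₀)) := by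
  apply le_antisymm
  · intro Q hQ
    have hQ' : Ev' f i₀ Q = 0 := hQ
    have h1 : Ev f i₀ (rename i₀.succAbove Q) = 0 := by
      rw [Ev'_eq, AlgHom.comp_apply] at hQ'
      exact hQ'
    have h2 := ker_Ev_le f i₀ hf _ h1
    have h3 : (K f i₀).map (eps' (A := A) i₀).toRingHom ≤ Ideal.span (Set.range (rel f i₀)) := by
      rw [K, K₁, Ideal.map_sup, Ideal.map_span, Ideal.map_span]
      refine sup_le (Ideal.span_le.2 ?_) (Ideal.span_le.2 ?_)
      · rintro _ ⟨_, ⟨j, rfl⟩, rfl⟩
        exact eps'_g f i₀ j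
      · rintro _ ⟨_, rfl, rfl⟩
        show eps' i₀ (X i₀ - 1) ∈ _
        rw [map_sub, eps'_X_self, map_one, sub_self]
        exact Ideal.zero_mem _
    have h4 := h3 (Ideal.mem_map_of_mem _ h2)
    have h5 : (eps' (A := A) i₀).toRingHom (rename i₀.succAbove Q) = Q := eps'_rename i₀ Q
    rw [h5] at h4
    exact h4
  · rw [Ideal.span_le]
    rintro _ ⟨k, rfl⟩
    show Ev' f i₀ (rel f i₀ k) = 0
    rw [Ev'_eq, AlgHom.comp_apply, rename_rel]
    exact Ev_eq_zero_of_mem_K f i₀ _ (K₁_le_K f i₀ (g_mem_K₁ f i₀ _))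

/-- the chart of the blow-up in a Koszul-regular sequence is perfect over the base -/
theorem perfectHom_chart_succ (hf : LCI.IsKoszulRegularSeq A (List.ofFn f)) :
    MoreMor.IsPerfectHom A (Cc f i₀) := by
  have hH1 : CAlgX.IsH1Regular f := by
    rw [Groth.Agent.Helper2.H1Desc.h1_iff_acycAt_ofFn]
    exact (isKoszulRegularSeq_iff _).mp hf (-1) (by norm_num)
  letI : Algebra (MvPolynomial (Fin n) A) (Cc f i₀) := (Ev' f i₀).toRingHom.toAlgebra
  haveI : IsScalarTower A (MvPolynomial (Fin n) A) (Cc f i₀) :=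
    IsScalarTower.of_algebraMap_eq' (RingHom.ext fun r => ((Ev' f i₀).commutes r).symm)
  have h1 : MoreMor.IsPerfectHom A (MvPolynomial (Fin n) A) := perfectHom_mvPolynomial A n
  have h2 : MoreMor.IsPerfectHom (MvPolynomial (Fin n) A) (Cc f i₀) := by
    refine perfectHom_of_koszulRegular (List.ofFn (rel f i₀)) (kr_rel f i₀ hf)
      (Ev'_surjective f i₀) ?_
    have h3 : RingHom.ker (algebraMap (MvPolynomial (Fin n) A) (Cc f i₀)) =
        Ideal.span (Set.range (rel f i₀)) := ker_Ev' f i₀ hH1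
    rw [h3, Ideal.ofList]
    congr 1
    ext x
    simp [List.mem_ofFn]
  rw [← QP_algebraMap_iff] at h1 h2 ⊢
  rw [IsScalarTower.algebraMap_eq A (MvPolynomial (Fin n) A) (Cc f i₀)]
  exact QP_stableUnderComposition _ _ h1 h2

end Chart

section Final

variable {A : Type u} [CommRing A]

/-- the chart of the blow-up in a Koszul-regular sequence is perfect over the base -/
theorem perfectHom_chart {c : ℕ} (f : Fin c → A) (i₀ : Fin c)
    (hf : LCI.IsKoszulRegularSeq A (List.ofFn f)) : MoreMor.IsPerfectHom A (Cc f i₀) := by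
  obtain _ | n := c
  · exact i₀.elim0
  · exact perfectHom_chart_succ f i₀ hf

/-- the chart of the blow-up in a regular sequence, at one of its members, is perfect over the
base -/
theorem perfectHom_affineAlgebra_of_isRegular (I : Ideal A) (rs : List A)
    (hreg : RingTheory.Sequence.IsRegular A rs) (hI : I = Ideal.ofList rs) (a : A) (ha : a ∈ rs) :
    MoreMor.IsPerfectHom A ↥(BlowUp.affineAlgebra A I a) := by
  obtain ⟨i₀, hi₀⟩ := List.mem_iff_get.1 ha
  have hI' : I = Ideal.span (Set.range rs.get) := by rw [hI, Set.range_list_get]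
  subst hI' hi₀
  refine perfectHom_chart rs.get i₀ ?_
  rw [List.ofFn_get]
  exact (Groth.Agent.S15821.result A rs hreg.toIsWeaklyRegular).1

/-- for the unit ideal the affine blow-up algebra is the whole localization -/
theorem affineAlgebra_top (a : A) : BlowUp.affineAlgebra A (⊤ : Ideal A) a = ⊤ := by
  rw [eq_top_iff]
  intro z _
  obtain ⟨x, ⟨_, n, rfl⟩, rfl⟩ := IsLocalization.exists_mk'_eq (Submonoid.powers a) z
  have h1 : IsLocalization.mk' (Localization.Away a) (1 : A)
      (⟨a, Submonoid.mem_powers a⟩ : Submonoid.powers a) ∈ BlowUp.affineAlgebra A ⊤ a :=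
    Algebra.subset_adjoin ⟨1, Submodule.mem_top, rfl⟩
  have h2 : IsLocalization.mk' (Localization.Away a) x
      (⟨a ^ n, n, rfl⟩ : Submonoid.powers a) =
      algebraMap A (Localization.Away a) x *
        (IsLocalization.mk' (Localization.Away a) (1 : A)
          (⟨a, Submonoid.mem_powers a⟩ : Submonoid.powers a)) ^ n := by
    rw [← IsLocalization.mk'_pow, one_pow, IsLocalization.mk'_eq_mul_mk'_one]
    rfl
  rw [h2]
  exact Subalgebra.mul_mem _ (Subalgebra.algebraMap_mem _ x) (Subalgebra.pow_mem _ h1 n)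

/-- for the unit ideal every chart is perfect over the base -/
theorem perfectHom_affineAlgebra_top (I : Ideal A) (hI : I = ⊤) (a : A) :
    MoreMor.IsPerfectHom A ↥(BlowUp.affineAlgebra A I a) := by
  subst hI
  have h1 : MoreMor.IsPerfectHom A (Localization.Away a) := by
    rw [← QP_algebraMap_iff]
    exact QP_holdsForLocalizationAway _ a
  have e : (⊤ : Subalgebra A (Localization.Away a)) ≃ₐ[A] ↥(BlowUp.affineAlgebra A ⊤ a) :=
    Subalgebra.equivOfEq _ _ (affineAlgebra_top a).symm
  exact perfectHom_of_algEquiv (Subalgebra.topEquiv.symm.trans e) h1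

end Final

end Groth.Agent.Helper2.BlowLci
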