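import Mathlib
import Groth.Agent.Lib.Helper29.KInjE

/-!
# The derived category of a Grothendieck abelian category is locally small
-/

namespace Groth.Agent.Helper2.BrD

universe w v u

open CategoryTheory CategoryTheory.Limits DerivedCategory

variable (C : Type u) [Category.{v} C] [Abelian C] [IsGrothendieckAbelian.{v} C]

theorem locallySmall_derivedCategory [HasDerivedCategory.{w} C] :
    LocallySmall.{v} (DerivedCategory C) := by
  constructor
  intro X Y
  obtain ⟨I, r, hI, hr, -, -⟩ :=
    Groth.Agent.Helper29.KInjE.exists_kInjective_resolution (Q.objPreimage Y)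
  haveI := hI
  haveI : IsIso (Q.map r) := by rw [isIso_Q_map_iff_quasiIso]; exact hr
  let eY : Y ≅ Q.obj I := (Q.objObjPreimageIso Y).symm ≪≫ asIso (Q.map r)
  let K := Q.objPreimage X
  let eX : X ≅ Q.obj K := (Q.objObjPreimageIso X).symm
  let X' := (HomotopyCategory.quotient C (ComplexShape.up ℤ)).obj K
  have hbij := CochainComplex.IsKInjective.Qh_map_bijective X' I
  let e1 : (X ⟶ Y) ≃ (Qh.obj X' ⟶ Qh.obj ((HomotopyCategory.quotient C (ComplexShape.up ℤ)).obj I)) :=
    Iso.homCongr (eX ≪≫ (quotientCompQhIso C).symm.app K)
      (eY ≪≫ (quotientCompQhIso C).symm.app I)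
  exact ⟨⟨_, ⟨e1.trans (Equiv.ofBijective _ hbij).symm⟩⟩⟩

/-- A derived category of a Grothendieck abelian category with morphisms in the universe `v`. -/
@[instance_reducible]
noncomputable def hasDerivedCategory : HasDerivedCategory.{v} C := by
  letI : HasDerivedCategory.{max u v} C := HasDerivedCategory.standard C
  haveI := locallySmall_derivedCategory.{max u v} C
  exact MorphismProperty.hasLocalizationOfLocallySmall.{v}
    (HomologicalComplex.quasiIso C (ComplexShape.up ℤ)) (DerivedCategory.Q (C := C))

end Groth.Agent.Helper2.BrD
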