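import Mathlib

/-!
# Representability descends along a reflective localization
-/

namespace Groth.Agent.Helper2.BrD

universe w v₁ v₂ u₁ u₂

open CategoryTheory CategoryTheory.Limits Opposite

variable {D' : Type u₁} [Category.{v₁} D'] {D : Type u₂} [Category.{v₂} D]

theorem representable_of_adjunction (L : D' ⥤ D) (R : D ⥤ D') (adj : L ⊣ R) [R.Full] [R.Faithful]
    (H : Dᵒᵖ ⥤ Type w) (Y' : D') (u : H.obj (op (L.obj Y')))
    (hu : ∀ M : D', Function.Bijective (fun g : M ⟶ Y' => H.map (L.map g).op u)) :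
    ∀ X : D, Function.Bijective (fun g : X ⟶ L.obj Y' => H.map g.op u) := by
  haveI : IsIso adj.counit := inferInstance
  have hcomp : ∀ {A B C : D} (f : A ⟶ B) (g : B ⟶ C) (x : H.obj (op C)),
      H.map (f ≫ g).op x = H.map f.op (H.map g.op x) := by
    intro A B C f g x
    rw [op_comp, H.map_comp]
    rfl
  have hid : ∀ {A : D} (x : H.obj (op A)), H.map (𝟙 A).op x = x := by
    intro A x
    rw [op_id, H.map_id]
    rfl
  -- `Hom(-, Y')` inverts `L`-isomorphisms
  have hinv : ∀ {M N : D'} (s : M ⟶ N), IsIso (L.map s) →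
      Function.Bijective (fun g : N ⟶ Y' => s ≫ g) := by
    intro M N s hs
    have h1 : (fun g : M ⟶ Y' => H.map (L.map g).op u) ∘ (fun g : N ⟶ Y' => s ≫ g) =
        (fun x => H.map (L.map s).op x) ∘ (fun g : N ⟶ Y' => H.map (L.map g).op u) := by
      funext g
      simp only [Function.comp_apply]
      rw [L.map_comp, hcomp]
    have h2 : Function.Bijective (fun x : H.obj (op (L.obj N)) => H.map (L.map s).op x) := by
      refine ⟨fun x y hxy => ?_, fun y => ⟨H.map (inv (L.map s)).op y, ?_⟩⟩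
      · have := congrArg (fun z => H.map (inv (L.map s)).op z) hxy
        simp only at this
        rw [← hcomp, ← hcomp, IsIso.inv_hom_id, hid, hid] at this
        exact this
      · simp only
        rw [← hcomp, IsIso.hom_inv_id, hid]
    have h3 : Function.Bijective ((fun g : M ⟶ Y' => H.map (L.map g).op u) ∘
        (fun g : N ⟶ Y' => s ≫ g)) := by
      rw [h1]
      exact h2.comp (hu N)
    exact (Function.Bijective.of_comp_iff' (hu M) _).mp h3
  obtain ⟨η, hη⟩ : ∃ η : Y' ⟶ R.obj (L.obj Y'), η = adj.unit.app Y' := ⟨_, rfl⟩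
  have htri : L.map η ≫ adj.counit.app (L.obj Y') = 𝟙 _ := by
    rw [hη]
    exact adj.left_triangle_components Y'
  haveI hLη : IsIso (L.map η) := by
    haveI : IsIso (L.map η ≫ adj.counit.app (L.obj Y')) := by rw [htri]; infer_instance
    exact IsIso.of_isIso_comp_right (L.map η) (adj.counit.app (L.obj Y'))
  obtain ⟨r, hr⟩ := (hinv η hLη).2 (𝟙 Y')
  have hr : η ≫ r = 𝟙 Y' := hr
  have hεL : adj.counit.app (L.obj Y') = L.map r := by
    rw [← cancel_epi (L.map η), htri, ← L.map_comp, hr, L.map_id]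
  intro X
  obtain ⟨ε, hε⟩ : ∃ ε : L.obj (R.obj X) ⟶ X, ε = adj.counit.app X := ⟨_, rfl⟩
  haveI : IsIso ε := by rw [hε]; infer_instance
  let g' : ∀ g : X ⟶ L.obj Y', R.obj X ⟶ Y' := fun g => R.map g ≫ r
  have hg' : ∀ g : X ⟶ L.obj Y', L.map (g' g) = ε ≫ g := by
    intro g
    have := adj.counit.naturality g
    simp only [Functor.comp_obj, Functor.id_obj, Functor.comp_map, Functor.id_map] at this
    rw [L.map_comp, ← hεL, this, hε]
  constructor
  · intro g₁ g₂ h
    have h : H.map g₁.op u = H.map g₂.op u := h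
    have h4 : g' g₁ = g' g₂ := by
      apply (hu (R.obj X)).1
      change H.map (L.map (g' g₁)).op u = H.map (L.map (g' g₂)).op u
      rw [hg', hg', hcomp, hcomp, h]
    have h5 : ε ≫ g₁ = ε ≫ g₂ := by rw [← hg', ← hg', h4]
    exact (cancel_epi ε).mp h5
  · intro x
    obtain ⟨g₀, hg₀⟩ := (hu (R.obj X)).2 (H.map ε.op x)
    have hg₀ : H.map (L.map g₀).op u = H.map ε.op x := hg₀
    refine ⟨inv ε ≫ L.map g₀, ?_⟩
    change H.map (inv ε ≫ L.map g₀).op u = x
    rw [hcomp, hg₀, ← hcomp, IsIso.inv_hom_id, hid]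

end Groth.Agent.Helper2.BrD
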