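import Mathlib
import Groth.Agent.Lib.Helper10.DSigma
import Groth.Agent.Lib.Helper11.Cpt1

/-!
# `R[0]` has finite factorisation through coproducts in `D(Mod_R)`, `R` any ring
-/

namespace Groth.Agent.Helper2.BrD

universe w w' v

open CategoryTheory CategoryTheory.Limits DerivedCategory
open Groth.Agent.Helper10.DSigma Groth.Agent.Helper11.Cpt

variable {R : Type v} [Ring R]

/-- cochain complexes of `R`-modules -/
abbrev Cx (R : Type v) [Ring R] := CochainComplex (ModuleCat.{v} R) ℤ

section Chain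

variable {J : Type w} [HasCoproductsOfShape J (ModuleCat.{v} R)] (Kx : J → Cx R)

/-- the coproduct cofan of complexes -/
noncomputable abbrev cofanCx : Cofan Kx := Cofan.mk (sigmaCx Kx) (sigmaι Kx)

/-- it is a colimit -/
noncomputable def isColimitCofanCx : IsColimit (cofanCx Kx) :=
  Cofan.IsColimit.mk _ (fun t => sigmaDesc (fun j => t.inj j))
    (fun t j => sigmaι_desc _ j)
    (fun t m hm => sigma_hom_ext (fun j => by
      rw [sigmaι_desc]
      exact hm j))

/-- the finite projector in a given degree, as a linear map -/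
noncomputable def projL [DecidableEq J] (n : ℤ) (t : Finset J) :
    (sigmaCx Kx).X n →ₗ[R] (sigmaCx Kx).X n :=
  ((proj (isColimitCofanCx Kx) t).f n).hom

theorem projL_ι [DecidableEq J] (n : ℤ) (t : Finset J) (j : J) (hj : j ∈ t) (m : (Kx j).X n) :
    projL Kx n t (((sigmaι Kx j).f n).hom m) = ((sigmaι Kx j).f n).hom m := by
  have h1 : sigmaι Kx j ≫ proj (isColimitCofanCx Kx) t = sigmaι Kx j :=
    inj_proj_mem (isColimitCofanCx Kx) t j hj
  exact congrArg (fun φ : Kx j ⟶ sigmaCx Kx => (φ.f n).hom m) h1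

/-- elements of a direct sum have finite support -/
theorem exists_proj_fix [DecidableEq J] (n : ℤ) (x : (sigmaCx Kx).X n) :
    ∃ s : Finset J, ∀ t, s ⊆ t → projL Kx n t x = x := by
  let T : Submodule R ((sigmaCx Kx).X n) :=
    { carrier := {x | ∃ s : Finset J, ∀ t, s ⊆ t → projL Kx n t x = x}
      add_mem' := by
        rintro x y ⟨s₁, h₁⟩ ⟨s₂, h₂⟩
        refine ⟨s₁ ∪ s₂, fun t ht => ?_⟩
        rw [map_add, h₁ t (Finset.union_subset_left ht), h₂ t (Finset.union_subset_right ht)]
      zero_mem' := ⟨∅, fun t _ => map_zero _⟩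
      smul_mem' := by
        rintro r x ⟨s, h⟩
        exact ⟨s, fun t ht => by rw [map_smul, h t ht]⟩ }
  have hgen : ∀ (j : J) (m : (Kx j).X n), ((sigmaι Kx j).f n).hom m ∈ T := by
    intro j m
    exact ⟨{j}, fun t ht => projL_ι Kx n t j (ht (Finset.mem_singleton_self j)) m⟩
  have hq : (ModuleCat.ofHom T.mkQ :
      (sigmaCx Kx).X n ⟶ ModuleCat.of R ((sigmaCx Kx).X n ⧸ T)) = 0 := by
    let a' : ∐ (fun j => (Kx j).X n) ⟶ ModuleCat.of R ((sigmaCx Kx).X n ⧸ T) :=
      ModuleCat.ofHom T.mkQ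
    let b' : ∐ (fun j => (Kx j).X n) ⟶ ModuleCat.of R ((sigmaCx Kx).X n ⧸ T) := 0
    change a' = b'
    apply Limits.Sigma.hom_ext
    intro j
    apply ModuleCat.hom_ext
    apply LinearMap.ext
    intro m
    show T.mkQ (((sigmaι Kx j).f n).hom m) = 0
    exact (Submodule.Quotient.mk_eq_zero T).mpr (hgen j m)
  have hx : T.mkQ x = 0 := congrArg (fun φ => φ.hom x) hq
  exact (Submodule.Quotient.mk_eq_zero T).mp hx

/-- the complex `R[n]` (in degree `n`) -/
noncomputable abbrev Sn (R : Type v) [Ring R] (n : ℤ) : Cx R :=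
  (HomologicalComplex.single (ModuleCat.{v} R) (ComplexShape.up ℤ) n).obj (ModuleCat.of R R)

/-- chain maps from `R[n]` into a direct sum of complexes are finite sums -/
theorem isFin_single_cx (n : ℤ) (φ : Sn R n ⟶ sigmaCx Kx) :
    ∃ (s : Finset J) (g : ∀ i, Sn R n ⟶ Kx i), φ = ∑ i ∈ s, g i ≫ sigmaι Kx i := by
  classical
  have h : IsFin (cofanCx Kx) φ := by
    refine (isFin_iff (isColimitCofanCx Kx) φ).mpr ?_
    obtain ⟨s, hs⟩ := exists_proj_fix Kx n ((φ.f n).hom
      ((HomologicalComplex.singleObjXSelf (ComplexShape.up ℤ) n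
        (ModuleCat.of R R)).inv.hom (1 : R)))
    refine ⟨s, ?_⟩
    apply HomologicalComplex.from_single_hom_ext
    rw [← cancel_epi (HomologicalComplex.singleObjXSelf (ComplexShape.up ℤ) n
      (ModuleCat.of R R)).inv]
    apply ModuleCat.hom_ext
    apply LinearMap.ext_ring
    exact hs s (Finset.Subset.refl s)
  exact h

end Chain

theorem isKProjective_Sn (n : ℤ) : (Sn R n).IsKProjective := by
  haveI : ∀ i : ℤ, Projective ((Sn R n).X i) := by
    intro i
    by_cases hi : i = n
    · subst hi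
      have hp : Projective (ModuleCat.of R R) := inferInstance
      exact Projective.of_iso (HomologicalComplex.singleObjXSelf (ComplexShape.up ℤ) i
        (ModuleCat.of R R)).symm hp
    · exact (HomologicalComplex.isZero_single_obj_X _ _ _ _ hi).projective
  haveI : (Sn R n).IsStrictlyLE n := inferInstance
  exact CochainComplex.isKProjective_of_projective (Sn R n) n

section Base

variable [HasDerivedCategory.{w'} (ModuleCat.{v} R)]

theorem exists_lift_of_isKProjective (E₁ E₂ : Cx R) [E₁.IsKProjective]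
    (g : Q.obj E₁ ⟶ Q.obj E₂) : ∃ φ : E₁ ⟶ E₂, Q.map φ = g := by
  obtain ⟨ψ, hψ⟩ := (CochainComplex.IsKProjective.Qh_map_bijective E₁
    ((HomotopyCategory.quotient _ _).obj E₂)).2
      ((quotientCompQhIso _).hom.app E₁ ≫ g ≫ (quotientCompQhIso _).inv.app E₂)
  obtain ⟨φ, rfl⟩ := (HomotopyCategory.quotient _ _).map_surjective ψ
  refine ⟨φ, ?_⟩
  have h1 := (quotientCompQhIso (ModuleCat.{v} R)).hom.naturality φ
  simp only [Functor.comp_map] at h1
  rw [hψ] at h1
  simp only [Category.assoc, Iso.inv_hom_id_app, Category.comp_id] at h1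
  exact ((cancel_epi _).mp h1).symm

variable {J : Type w} [HasCoproductsOfShape J (ModuleCat.{v} R)]
  [HasExactColimitsOfShape (Discrete J) (ModuleCat.{v} R)] (Kx : J → Cx R)

theorem finFac_Q_Sn (n : ℤ) : FinFac (Q.obj (Sn R n)) (fun j => Q.obj (Kx j)) :=
  finFac_of_cofan (cofanQ Kx) (isColimitCofanQ Kx) (fun f => by
    haveI := isKProjective_Sn (R := R) n
    obtain ⟨φ, hφ⟩ := exists_lift_of_isKProjective (Sn R n) (sigmaCx Kx) f
    obtain ⟨s, g, hg⟩ := isFin_single_cx Kx n φ
    refine ⟨s, fun i => Q.map (g i), ?_⟩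
    rw [← hφ, hg, Functor.map_sum]
    refine Finset.sum_congr rfl (fun i _ => ?_)
    rw [Functor.map_comp]
    rfl)

end Base

end Groth.Agent.Helper2.BrD
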