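import Mathlib
import Groth.Agent.Lib.Helper2.BrD3

/-!
# The shifts of `R` generate `D(Mod_R)`, `R` any ring
-/

namespace Groth.Agent.Helper2.BrD

universe w w' v u

open CategoryTheory CategoryTheory.Limits DerivedCategory

section General

variable {C : Type u} [Category.{v} C] [Abelian C] [HasDerivedCategory.{w} C]

theorem isZero_of_homology {K : DerivedCategory C}
    (h : ∀ n : ℤ, IsZero ((homologyFunctor C n).obj K)) : IsZero K := by
  have h1 : K.IsLE (-1) := by
    rw [isLE_iff]
    intro i _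
    exact h i
  have h2 : K.IsGE 0 := by
    rw [isGE_iff]
    intro i _
    exact h i
  exact TStructure.t.isZero K (-1) 0 (by norm_num)

theorem isZero_Q_of_exactAt (L : CochainComplex C ℤ) (h : ∀ i, L.ExactAt i) :
    IsZero (Q.obj L) := by
  apply isZero_of_homology
  intro n
  refine IsZero.of_iso ?_ ((homologyFunctorFactors C n).app L)
  exact (HomologicalComplex.exactAt_iff_isZero_homology L n).mp (h n)

end General

variable {R : Type v} [Ring R]

theorem exactAt_of_ker_le_range (L : Cx R) (j k l : ℤ) (hjk : j + 1 = k) (hkl : k + 1 = l)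
    (h : LinearMap.ker (L.d k l).hom ≤ LinearMap.range (L.d j k).hom) : L.ExactAt k := by
  rw [HomologicalComplex.exactAt_iff' L j k l (by rw [CochainComplex.prev]; omega)
    (by rw [CochainComplex.next]; omega)]
  rw [ShortComplex.moduleCat_exact_iff_range_eq_ker]
  refine le_antisymm ?_ h
  rintro _ ⟨x, rfl⟩
  rw [LinearMap.mem_ker]
  exact congr($(L.d_comp_d j k l) x)

variable [HasDerivedCategory.{w'} (ModuleCat.{v} R)]

theorem homotopy_zero_of_Q_map_eq_zero {E₁ E₂ : Cx R} [E₁.IsKProjective] (ψ : E₁ ⟶ E₂)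
    (h : Q.map ψ = 0) : Nonempty (Homotopy ψ 0) := by
  have h1 : Qh.map ((HomotopyCategory.quotient _ _).map ψ) = Qh.map 0 := by
    have h2 := (quotientCompQhIso (ModuleCat.{v} R)).hom.naturality ψ
    simp only [Functor.comp_map] at h2
    rw [h, comp_zero] at h2
    rw [Functor.map_zero]
    have h3 : Qh.map ((HomotopyCategory.quotient _ _).map ψ) =
        (Qh.map ((HomotopyCategory.quotient _ _).map ψ) ≫
          (quotientCompQhIso (ModuleCat.{v} R)).hom.app E₂) ≫
          (quotientCompQhIso (ModuleCat.{v} R)).inv.app E₂ := by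
      rw [Category.assoc, Iso.hom_inv_id_app]
      exact (Category.comp_id _).symm
    rw [h3, h2, zero_comp]
  have h4 := (CochainComplex.IsKProjective.Qh_map_bijective E₁
    ((HomotopyCategory.quotient _ _).obj E₂)).1 h1
  have h5 : (HomotopyCategory.quotient (ModuleCat.{v} R) (ComplexShape.up ℤ)).map ψ =
      (HomotopyCategory.quotient _ _).map 0 := by
    rw [h4, Functor.map_zero]
  exact ⟨HomotopyCategory.homotopyOfEq _ _ h5⟩

theorem isZero_of_forall_Sn (K : DerivedCategory (ModuleCat.{v} R))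
    (h : ∀ (n : ℤ) (f : Q.obj (Sn R n) ⟶ K), f = 0) : IsZero K := by
  let L := Q.objPreimage K
  let e : Q.obj L ≅ K := Q.objObjPreimageIso K
  refine IsZero.of_iso ?_ e.symm
  apply isZero_Q_of_exactAt
  intro n
  refine exactAt_of_ker_le_range L (n - 1) n (n + 1) (by omega) rfl ?_
  intro z hz
  rw [LinearMap.mem_ker] at hz
  let φ₀ : ModuleCat.of R R ⟶ L.X n := ModuleCat.ofHom (LinearMap.toSpanSingleton R (L.X n) z)
  have hφ₀ : ∀ k, (ComplexShape.up ℤ).Rel n k → φ₀ ≫ L.d n k = 0 := by
    intro k hk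
    obtain rfl : n + 1 = k := hk
    apply ModuleCat.hom_ext
    apply LinearMap.ext_ring
    change (L.d n (n + 1)).hom (LinearMap.toSpanSingleton R (L.X n) z 1) = 0
    rw [LinearMap.toSpanSingleton_apply, one_smul]
    exact hz
  let ψ : Sn R n ⟶ L := HomologicalComplex.mkHomFromSingle φ₀ hφ₀
  have h0 : Q.map ψ = 0 := by
    have := h n (Q.map ψ ≫ e.hom)
    rw [← cancel_mono e.hom, this, zero_comp]
  haveI := isKProjective_Sn (R := R) n
  obtain ⟨hh⟩ := homotopy_zero_of_Q_map_eq_zero ψ h0
  have hc := hh.comm n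
  rw [dNext_eq _ (show (ComplexShape.up ℤ).Rel n (n + 1) from rfl),
    prevD_eq _ (show (ComplexShape.up ℤ).Rel (n - 1) n by simp)] at hc
  have hd : (Sn R n).d n (n + 1) = 0 := HomologicalComplex.single_obj_d _ _ _ _ _
  rw [hd, zero_comp, zero_add, HomologicalComplex.zero_f, add_zero] at hc
  have hψ : ψ.f n = (HomologicalComplex.singleObjXSelf (ComplexShape.up ℤ) n
      (ModuleCat.of R R)).hom ≫ φ₀ := HomologicalComplex.mkHomFromSingle_f φ₀ hφ₀
  let x₁ : (Sn R n).X n := (HomologicalComplex.singleObjXSelf (ComplexShape.up ℤ) n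
      (ModuleCat.of R R)).inv.hom (1 : R)
  refine ⟨(hh.hom n (n - 1)).hom x₁, ?_⟩
  have h1 : (ψ.f n).hom x₁ = z := by
    rw [hψ]
    change φ₀.hom ((HomologicalComplex.singleObjXSelf (ComplexShape.up ℤ) n
      (ModuleCat.of R R)).hom.hom ((HomologicalComplex.singleObjXSelf (ComplexShape.up ℤ) n
      (ModuleCat.of R R)).inv.hom (1 : R))) = z
    have : (HomologicalComplex.singleObjXSelf (ComplexShape.up ℤ) n
      (ModuleCat.of R R)).hom.hom ((HomologicalComplex.singleObjXSelf (ComplexShape.up ℤ) n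
      (ModuleCat.of R R)).inv.hom (1 : R)) = 1 := by
      have := congr($((HomologicalComplex.singleObjXSelf (ComplexShape.up ℤ) n
        (ModuleCat.of R R)).inv_hom_id).hom (1 : R))
      exact this
    rw [this]
    change LinearMap.toSpanSingleton R (L.X n) z 1 = z
    rw [LinearMap.toSpanSingleton_apply, one_smul]
  rw [← h1, hc]
  rfl

end Groth.Agent.Helper2.BrD
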