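import Groth.Agent.Lib.Helper2.BrownPresent

/-!
# Brown representability: dévissage
-/

set_option autoImplicit false
universe w v' v u

namespace Groth.Agent.Helper2.Brown
open CategoryTheory CategoryTheory.Limits CategoryTheory.Pretriangulated Opposite
open CategoryTheory.Pretriangulated.Opposite

variable {D : Type u} [Category.{v} D] [Preadditive D] [HasZeroObject D] [HasShift D ℤ]
  [∀ n : ℤ, (shiftFunctor D n).Additive] [Pretriangulated D]
section basic
variable (H : Dᵒᵖ ⥤ AddCommGrpCat.{v'}) [H.IsHomological]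
variable {X : D} (π : H.obj (op X))

/-- the comparison map `Hom(Y, X) → H(Y)` attached to an element of `H(X)` -/
def tau (Y : D) (g : Y ⟶ X) : H.obj (op Y) := res H g π

lemma tau_comp {Y Z : D} (f : Z ⟶ Y) (g : Y ⟶ X) : tau H π Z (f ≫ g) = res H f (tau H π Y g) := by
  rw [tau, tau, res_comp]

lemma tau_add (Y : D) (g g' : Y ⟶ X) : tau H π Y (g + g') = tau H π Y g + tau H π Y g' :=
  res_add_hom H g g' π

lemma tau_sub (Y : D) (g g' : Y ⟶ X) : tau H π Y (g - g') = tau H π Y g - tau H π Y g' :=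
  res_sub_hom H g g' π

lemma tau_neg (Y : D) (g : Y ⟶ X) : tau H π Y (-g) = -tau H π Y g :=
  res_neg_hom H g π

lemma tau_zero (Y : D) : tau H π Y 0 = 0 := res_zero_hom H π

lemma tau_injective_iff (Y : D) :
    Function.Injective (tau H π Y) ↔ ∀ g : Y ⟶ X, tau H π Y g = 0 → g = 0 := by
  constructor
  · intro h g hg
    exact h (hg.trans (tau_zero H π Y).symm)
  · intro h g g' hgg'
    have := h (g - g') (by rw [tau_sub, hgg', sub_self])
    exact sub_eq_zero.1 this

/-- iso invariance -/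
lemma tau_bijective_of_iso {Y Y' : D} (e : Y ≅ Y') (h : Function.Bijective (tau H π Y)) :
    Function.Bijective (tau H π Y') := by
  constructor
  · rw [tau_injective_iff]
    intro g hg
    have h1 : tau H π Y (e.hom ≫ g) = 0 := by rw [tau_comp, hg, res_zero]
    have h2 := (tau_injective_iff H π Y).1 h.1 _ h1
    rw [← cancel_epi e.hom, h2, comp_zero]
  · intro y
    obtain ⟨g, hg⟩ := h.2 (res H e.hom y)
    refine ⟨e.inv ≫ g, ?_⟩
    rw [tau_comp, hg, ← res_comp, e.inv_hom_id, res_id]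

/-- the five lemma -/
lemma tau_bijective_of_triangle (T : Triangle D) (hT : T ∈ distTriang D)
    (hA : Function.Bijective (tau H π T.obj₁)) (hB : Function.Bijective (tau H π T.obj₂))
    (hA1 : Function.Bijective (tau H π (T.obj₁⟦(1 : ℤ)⟧)))
    (hB1 : Function.Bijective (tau H π (T.obj₂⟦(1 : ℤ)⟧))) :
    Function.Bijective (tau H π T.obj₃) := by
  have hT1 := rot_of_distTriang _ hT
  have hT2 := rot_of_distTriang _ hT1
  constructor
  · rw [tau_injective_iff]
    intro g hg
    have h1 : T.mor₂ ≫ g = 0 := by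
      apply (tau_injective_iff H π _).1 hB.1
      rw [tau_comp, hg, res_zero]
    obtain ⟨g', hg'⟩ : ∃ g' : T.obj₁⟦(1 : ℤ)⟧ ⟶ X, g = T.mor₃ ≫ g' :=
      Triangle.yoneda_exact₂ _ hT1 g h1
    have h2 : res H T.mor₃ (tau H π _ g') = 0 := by rw [← tau_comp, ← hg', hg]
    obtain ⟨b', hb'⟩ : ∃ b' : H.obj (op (T.obj₂⟦(1 : ℤ)⟧)),
        res H (-(shiftFunctor D (1 : ℤ)).map T.mor₁) b' = tau H π _ g' :=
      exists_res_eq H _ hT2 _ h2
    obtain ⟨g'', rfl⟩ := hB1.2 b'
    rw [← tau_comp] at hb'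
    have h3 := hA1.1 hb'
    rw [hg', ← h3, Preadditive.neg_comp, Preadditive.comp_neg, ← Category.assoc]
    have : T.mor₃ ≫ (shiftFunctor D (1 : ℤ)).map T.mor₁ = 0 := comp_distTriang_mor_zero₃₁ _ hT
    rw [this, zero_comp, neg_zero]
  · intro c
    obtain ⟨gB, hgB⟩ := hB.2 (res H T.mor₂ c)
    have h1 : T.mor₁ ≫ gB = 0 := by
      apply (tau_injective_iff H π _).1 hA.1
      rw [tau_comp, hgB, ← res_comp, comp_distTriang_mor_zero₁₂ _ hT, res_zero_hom]
    obtain ⟨gC, hgC⟩ : ∃ gC : T.obj₃ ⟶ X, gB = T.mor₂ ≫ gC := Triangle.yoneda_exact₂ _ hT gB h1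
    have h2 : res H T.mor₂ (c - tau H π _ gC) = 0 := by
      rw [res_sub, ← tau_comp, ← hgC, hgB, sub_self]
    obtain ⟨a, ha⟩ : ∃ a : H.obj (op (T.obj₁⟦(1 : ℤ)⟧)), res H T.mor₃ a = c - tau H π _ gC :=
      exists_res_eq H _ hT1 _ h2
    obtain ⟨gA, rfl⟩ := hA1.2 a
    refine ⟨gC + T.mor₃ ≫ gA, ?_⟩
    rw [tau_add, tau_comp, ha]
    abel

/-- the class of objects where all shifted comparison maps are bijective -/
def PB (Y : D) : Prop := ∀ m : ℤ, Function.Bijective (tau H π (Y⟦m⟧))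

variable {H π}

lemma PB_of_iso {Y Y' : D} (e : Y ≅ Y') (h : PB H π Y) : PB H π Y' := fun m =>
  tau_bijective_of_iso H π ((shiftFunctor D m).mapIso e) (h m)

lemma PB_bij {Y : D} (h : PB H π Y) : Function.Bijective (tau H π Y) :=
  tau_bijective_of_iso H π ((shiftFunctorZero D ℤ).app Y) (h 0)

lemma PB_shift_bij {Y : D} (h : PB H π Y) (m n : ℤ) :
    Function.Bijective (tau H π ((Y⟦m⟧)⟦n⟧)) :=
  tau_bijective_of_iso H π ((shiftFunctorAdd' D m n (m + n) rfl).app Y) (h (m + n))

lemma PB_of_triangle (T : Triangle D) (hT : T ∈ distTriang D) (hA : PB H π T.obj₁)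
    (hB : PB H π T.obj₂) : PB H π T.obj₃ := fun m =>
  tau_bijective_of_triangle H π _ (Triangle.shift_distinguished T hT m) (hA m) (hB m)
    (PB_shift_bij hA m 1) (PB_shift_bij hB m 1)

end basic

section coprod
variable {α : Type w} (H' : Dᵒᵖ ⥤ AddCommGrpCat.{max w v'}) [H'.IsHomological]
  {X' : D} (π' : H'.obj (op X')) (Z : α → D) [HasCoproduct Z]
  [PreservesLimitsOfShape (Discrete α) H']

lemma tau_bijective_coprod (h : ∀ a, Function.Bijective (tau H' π' (Z a))) :
    Function.Bijective (tau H' π' (∐ Z)) := by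
  constructor
  · intro g g' hgg'
    apply Sigma.hom_ext
    intro a
    apply (h a).1
    rw [tau_comp, tau_comp, hgg']
  · intro x
    choose g hg using fun a => (h a).2 (res H' (Sigma.ι Z a) x)
    refine ⟨Sigma.desc g, ?_⟩
    apply res_ext.{w, v'} H' Z
    intro a
    rw [← tau_comp, Sigma.ι_desc, hg]

lemma PB_coprod [∀ m : ℤ, HasCoproduct (fun a => (Z a)⟦m⟧)]
    (h : ∀ a, PB H' π' (Z a)) : PB H' π' (∐ Z) := by
  intro m
  have hc : IsColimit (Cofan.mk ((shiftFunctor D m).obj (∐ Z))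
      (fun j => (shiftFunctor D m).map (Sigma.ι Z j)) :
      Cofan (fun j => (shiftFunctor D m).obj (Z j))) :=
    isColimitCofanMkObjOfIsColimit (shiftFunctor D m) Z _ (coproductIsCoproduct Z)
  let e : (∐ (fun j => (shiftFunctor D m).obj (Z j))) ≅ (shiftFunctor D m).obj (∐ Z) :=
    (coproductIsCoproduct _).coconePointUniqueUpToIso hc
  exact tau_bijective_of_iso H' π' e
    (tau_bijective_coprod H' π' (fun j => (shiftFunctor D m).obj (Z j)) (fun a => h a m))

end coprod

section assembly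
variable [HasCoproducts.{v} D] [HasColimitsOfShape (Discrete ℕ) D]
variable (H : Dᵒᵖ ⥤ AddCommGrpCat.{v}) [H.IsHomological]
  [∀ κ : Type v, PreservesLimitsOfShape (Discrete κ) H]
variable {κ : Type v} (G : κ → D)

/-- the canonical map from the hocolim of the tower over `Y` to `Y`, for a general family -/
noncomputable def piHomG (Y : D) : hoc (preadditiveYoneda.obj Y) G ⟶ Y :=
  toHom (pi (preadditiveYoneda.obj Y) G)

variable {X : D} (π : H.obj (op X))

theorem tau_bijective_of_presentation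
    (hshift : ∀ (k : κ) (m : ℤ), ∃ k', Nonempty (G k' ≅ (G k)⟦m⟧))
    (hbij : ∀ k, Function.Bijective (tau H π (G k)))
    (Y : D) (hiso : IsIso (piHomG G Y)) : Function.Bijective (tau H π Y) := by
  haveI := preservesNat H
  have hG : ∀ k, PB H π (G k) := by
    intro k m
    obtain ⟨k', ⟨e⟩⟩ := hshift k m
    exact tau_bijective_of_iso H π e (hbij k')
  have hcop : ∀ (α : Type v) (Z : α → κ), PB H π (∐ (fun a => G (Z a))) := fun α Z =>
    PB_coprod.{v, v} H π (fun a => G (Z a)) (fun a => hG (Z a))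
  let H' := preadditiveYoneda.obj Y
  have hTX : ∀ n, PB H π (TX H' G n) := by
    intro n
    induction n with
    | zero => exact hcop (J0 H' G) (fun j => j.1)
    | succ n ih =>
      exact PB_of_triangle _ (Ttri H' G n) (hcop (TJ H' G n) (fun j => j.1)) ih
  have hsum : PB H π (∐ (TX H' G)) := PB_coprod.{0, v} H π (TX H' G) hTX
  have hhoc : PB H π (hoc H' G) := PB_of_triangle _ (htri H' G) hsum hsum
  exact PB_bij (PB_of_iso (asIso (piHomG G Y)) hhoc)

end assembly

end Groth.Agent.Helper2.Brown
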