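import Mathlib
import Groth.Prelude.Def_CohDer
import Groth.Agent.Lib.Helper2.BrownRep
import Groth.Agent.Lib.Helper2.BrD1
import Groth.Agent.Lib.Helper2.BrD2
import Groth.Agent.Lib.Helper2.BrD4
import Groth.Agent.S0477

/-!
# Brown representability for `D(Mod_R)`, with morphisms in the universe of `R`
-/

namespace Groth.Agent.Helper2.BrD

universe v u

open CategoryTheory CategoryTheory.Limits CategoryTheory.Pretriangulated Opposite
open CategoryTheory.Pretriangulated.Opposite
open Groth.Agent.Helper2.Brown Groth.Agent.Helper11.Cpt DerivedCategory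

section Abstract

/-- Brown representability from a generating family with finite factorisation. -/
theorem brown_of_finFactor {D : Type u} [Category.{v} D] [Preadditive D] [Limits.HasZeroObject D]
    [HasShift D ℤ] [∀ n : ℤ, (shiftFunctor D n).Additive] [Pretriangulated D]
    [HasCoproducts.{v} D]
    {ι : Type v} (E : ι → D) (hc' : ∀ i, FinFactor (E i)) (hg : CohDer.Generates E)
    (H : Dᵒᵖ ⥤ AddCommGrpCat.{v}) [H.IsHomological]
    [∀ (ι : Type v), PreservesLimitsOfShape (Discrete ι) H] :
    (H ⋙ forget AddCommGrpCat.{v}).IsRepresentable := by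
  haveI : HasColimitsOfShape (Discrete ℕ) D :=
    hasColimitsOfShape_of_equivalence (Discrete.equivalence Equiv.ulift.{v, 0})
  let G := shiftFam E
  have hsmall : ∀ k, Small H G (G k) := by
    intro k g
    exact small_of_finFactor _ _ _ _ (isHocolim H G) _
      (finFactor_shift _ (hc' k.1) k.2) (finFactor_shift _ (finFactor_shift _ (hc' k.1) k.2) (-1)) g
  have hbij : ∀ k, Function.Bijective (tau H (pi H G) (G k)) := by
    intro k
    refine ⟨?_, fun a => exists_lift H G k a⟩
    rw [tau_injective_iff]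
    intro g hg'
    exact eq_zero_of_res_eq_zero H G k (hsmall k) g hg'
  have hshift : ∀ (k : ι × ℤ) (m : ℤ), ∃ k', Nonempty (G k' ≅ (G k)⟦m⟧) := by
    intro k m
    exact ⟨(k.1, k.2 + m), ⟨(shiftFunctorAdd' D k.2 m (k.2 + m) rfl).app (E k.1)⟩⟩
  have hall : ∀ Y, Function.Bijective (tau H (pi H G) Y) := fun Y =>
    tau_bijective_of_presentation H G (pi H G) hshift hbij Y (isIso_piHom E hc' Y hg)
  refine ⟨hoc H G, ⟨?_⟩⟩
  exact
    { homEquiv := fun {Y} => Equiv.ofBijective (tau H (pi H G) Y) (hall Y)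
      homEquiv_comp := fun {Y Y'} f g => by
        show tau H (pi H G) Y (f ≫ g) = _
        rw [tau_comp]
        rfl }

end Abstract

section Module

variable (R : Type v) [Ring R] [HasDerivedCategory.{v} (ModuleCat.{v} R)]

instance hasCoproducts_D : HasCoproducts.{v} (DerivedCategory (ModuleCat.{v} R)) :=
  Groth.Agent.S0477.result

theorem finFactor_Q_Sn (n : ℤ) : FinFactor (Q.obj (Sn R n)) := by
  intro ι X g
  have hF : FinFac (Q.obj (Sn R n)) X :=
    (finFac_Q_Sn (fun i => Q.objPreimage (X i)) n).of_family_iso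
      (fun i => Q.objObjPreimageIso (X i))
  obtain ⟨s, c, hc⟩ := hF (Cofan.mk (∐ X) (Sigma.ι X)) (coproductIsCoproduct X) g
  exact ⟨s, c, hc⟩

theorem generates_Sn :
    CohDer.Generates (fun k : ULift.{v} ℤ => Q.obj (Sn R k.down)) := by
  intro K hK
  apply isZero_of_forall_Sn
  intro n f
  have h1 := hK ⟨n⟩ 0 (f ≫ (shiftFunctorZero _ ℤ).inv.app K)
  rw [← cancel_mono ((shiftFunctorZero _ ℤ).inv.app K), h1, zero_comp]

theorem brown_module (H : (DerivedCategory (ModuleCat.{v} R))ᵒᵖ ⥤ AddCommGrpCat.{v})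
    [H.IsHomological] [∀ (ι : Type v), PreservesLimitsOfShape (Discrete ι) H] :
    (H ⋙ forget AddCommGrpCat.{v}).IsRepresentable :=
  brown_of_finFactor (fun k : ULift.{v} ℤ => Q.obj (Sn R k.down))
    (fun k => finFactor_Q_Sn R k.down) (generates_Sn R) H

end Module

end Groth.Agent.Helper2.BrD
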