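import Groth.Prelude.Def_CohDer
import Groth.Prelude.Def_DerLim
import Mathlib

/-!
# Brown representability: basic tools
-/

set_option autoImplicit false
universe w v' v u

namespace Groth.Agent.Helper2.Brown
open CategoryTheory CategoryTheory.Limits CategoryTheory.Pretriangulated Opposite
open CategoryTheory.Pretriangulated.Opposite

variable {D : Type u} [Category.{v} D] [Preadditive D] [HasZeroObject D] [HasShift D ℤ]
  [∀ n : ℤ, (shiftFunctor D n).Additive] [Pretriangulated D]
variable (H : Dᵒᵖ ⥤ AddCommGrpCat.{v'})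

/-- restriction of an element along a morphism -/
def res {X Y : D} (g : X ⟶ Y) (a : H.obj (op Y)) : H.obj (op X) := (H.map g.op).hom a

lemma res_id {X : D} (a : H.obj (op X)) : res H (𝟙 X) a = a := by
  simp [res]

lemma res_comp {X Y Z : D} (f : X ⟶ Y) (g : Y ⟶ Z) (a : H.obj (op Z)) :
    res H (f ≫ g) a = res H f (res H g a) := by
  simp [res]

lemma res_add {X Y : D} (g : X ⟶ Y) (a b : H.obj (op Y)) :
    res H g (a + b) = res H g a + res H g b := by
  simp [res]

lemma res_zero {X Y : D} (g : X ⟶ Y) : res H g 0 = 0 := by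
  simp [res]

lemma res_neg {X Y : D} (g : X ⟶ Y) (a : H.obj (op Y)) : res H g (-a) = -res H g a := by
  simp [res]

lemma res_sub {X Y : D} (g : X ⟶ Y) (a b : H.obj (op Y)) :
    res H g (a - b) = res H g a - res H g b := by
  simp [res]

section additive
variable [H.Additive]

lemma res_add_hom {X Y : D} (f g : X ⟶ Y) (a : H.obj (op Y)) :
    res H (f + g) a = res H f a + res H g a := by
  simp [res, op_add, H.map_add]

lemma res_sub_hom {X Y : D} (f g : X ⟶ Y) (a : H.obj (op Y)) :
    res H (f - g) a = res H f a - res H g a := by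
  simp [res, op_sub, H.map_sub]

lemma res_zero_hom {X Y : D} (a : H.obj (op Y)) : res H (0 : X ⟶ Y) a = 0 := by
  simp [res]

lemma res_neg_hom {X Y : D} (f : X ⟶ Y) (a : H.obj (op Y)) : res H (-f) a = -res H f a := by
  simp [res, op_neg, H.map_neg]

end additive

section exact
variable [H.IsHomological]

/-- exactness of a cohomological functor on a distinguished triangle -/
lemma exists_res_eq (T : Triangle D) (hT : T ∈ distTriang D) (b : H.obj (op T.obj₂))
    (hb : res H T.mor₁ b = 0) : ∃ c : H.obj (op T.obj₃), res H T.mor₂ c = b := by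
  have hex := H.map_distinguished_op_exact T hT
  rw [ShortComplex.ab_exact_iff] at hex
  exact hex b hb

end exact

section product
variable {α : Type w} (H : Dᵒᵖ ⥤ AddCommGrpCat.{max w v'}) (Z : α → D) [HasCoproduct Z]
  [PreservesLimitsOfShape (Discrete α) H]


/-- the fan `H(∐ Z) → H(Z a)` is a limit -/
noncomputable def isLimitFan :
    IsLimit (Fan.mk (H.obj (op (∐ Z))) (fun a => H.map (Sigma.ι Z a).op)) :=
  isLimitFanMkObjOfIsLimit H _ _ (Cofan.IsColimit.op (coproductIsCoproduct Z))

lemma res_ext (x y : H.obj (op (∐ Z))) (h : ∀ a, res H (Sigma.ι Z a) x = res H (Sigma.ι Z a) y) :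
    x = y := by
  let e := IsLimit.conePointUniqueUpToIso (isLimitFan H Z)
    (AddCommGrpCat.HasLimit.productLimitCone (fun a => H.obj (op (Z a)))).isLimit
  have he : ∀ (a : α) (z : H.obj (op (∐ Z))), (e.hom.hom z) a = res H (Sigma.ι Z a) z := by
    intro a z
    have := IsLimit.conePointUniqueUpToIso_hom_comp (isLimitFan H Z)
      (AddCommGrpCat.HasLimit.productLimitCone (fun a => H.obj (op (Z a)))).isLimit ⟨a⟩
    exact congrArg (fun φ => φ.hom z) this
  have h1 : e.hom.hom x = e.hom.hom y := by
    funext a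
    rw [he, he, h]
  have := congrArg (fun z => e.inv.hom z) h1
  simpa using this

lemma exists_res_eq_family (a : ∀ i, H.obj (op (Z i))) :
    ∃ x : H.obj (op (∐ Z)), ∀ i, res H (Sigma.ι Z i) x = a i := by
  let e := IsLimit.conePointUniqueUpToIso (isLimitFan H Z)
    (AddCommGrpCat.HasLimit.productLimitCone (fun a => H.obj (op (Z a)))).isLimit
  have he : ∀ (a : α) (z : H.obj (op (∐ Z))), (e.hom.hom z) a = res H (Sigma.ι Z a) z := by
    intro a z
    have := IsLimit.conePointUniqueUpToIso_hom_comp (isLimitFan H Z)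
      (AddCommGrpCat.HasLimit.productLimitCone (fun a => H.obj (op (Z a)))).isLimit ⟨a⟩
    exact congrArg (fun φ => φ.hom z) this
  refine ⟨e.inv.hom a, fun i => ?_⟩
  rw [← he]
  have : e.hom.hom (e.inv.hom a) = a := by
    have := congrArg (fun φ => φ.hom a) e.inv_hom_id
    simpa using this
  rw [this]

end product

end Groth.Agent.Helper2.Brown
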