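import Groth.Agent.Lib.Helper2.BrownCompact2

/-!
# Compactness and adjunctions; isomorphism criterion via a generating family
-/

set_option autoImplicit false
universe v u u'

namespace Groth.Agent.Helper2.Brown
open CategoryTheory CategoryTheory.Limits CategoryTheory.Pretriangulated

section iso
variable {D : Type u} [Category.{v} D] [Preadditive D] [HasZeroObject D] [HasShift D ℤ]
  [∀ n : ℤ, (shiftFunctor D n).Additive] [Pretriangulated D]

/-- a morphism inducing bijections on maps out of all shifts of a generating family is an iso -/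
theorem isIso_of_generates {ι : Type*} (E : ι → D) (hg : CohDer.Generates E) {A B : D} (φ : A ⟶ B)
    (hsurj : ∀ (i : ι) (n : ℤ) (y : (shiftFunctor D n).obj (E i) ⟶ B),
      ∃ g : (shiftFunctor D n).obj (E i) ⟶ A, g ≫ φ = y)
    (hinj : ∀ (i : ι) (n : ℤ) (g : (shiftFunctor D n).obj (E i) ⟶ A), g ≫ φ = 0 → g = 0) :
    IsIso φ := by
  obtain ⟨C, q, r, hT⟩ := distinguished_cocone_triangle φ
  refine (Triangle.isZero₃_iff_isIso₁ _ hT).1 ?_
  apply hg
  intro i n ψ₀
  let adj : shiftFunctor D (-n) ⊣ shiftFunctor D n :=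
    (shiftEquiv' D (-n) n (by simp)).toAdjunction
  suffices h : (adj.homEquiv (E i) C).symm ψ₀ = 0 by
    have h3 : ψ₀ = adj.homEquiv (E i) C ((adj.homEquiv (E i) C).symm ψ₀) := by simp
    rw [h3, h]
    exact Adjunction.homAddEquiv_zero adj (E i) C
  set φ' : (shiftFunctor D (-n)).obj (E i) ⟶ C := (adj.homEquiv (E i) C).symm ψ₀ with hφ'
  have h1 : φ' ≫ r = 0 := by
    let adj1 : shiftFunctor D (-1 : ℤ) ⊣ shiftFunctor D (1 : ℤ) :=
      (shiftEquiv' D (-1 : ℤ) 1 (by norm_num)).toAdjunction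
    set ψ := φ' ≫ r with hψ
    have h2 : ψ ≫ (shiftFunctor D (1 : ℤ)).map φ = 0 := by
      rw [hψ, Category.assoc]
      have : r ≫ (shiftFunctor D (1 : ℤ)).map φ = 0 :=
        comp_distTriang_mor_zero₃₁ _ hT
      rw [this, comp_zero]
    have h3 : (adj1.homEquiv _ _).symm ψ ≫ φ = 0 := by
      rw [← adj1.homEquiv_naturality_right_symm, h2]
      exact Adjunction.homAddEquiv_symm_zero adj1 _ _
    let θ : (shiftFunctor D (-n - 1)).obj (E i) ≅
        (shiftFunctor D (-1 : ℤ)).obj ((shiftFunctor D (-n)).obj (E i)) :=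
      (shiftFunctorAdd' D (-n) (-1 : ℤ) (-n - 1) (by ring)).app (E i)
    have h4 : θ.hom ≫ (adj1.homEquiv _ _).symm ψ = 0 := by
      apply hinj i (-n - 1)
      rw [Category.assoc, h3, comp_zero]
    have h5 : (adj1.homEquiv _ _).symm ψ = 0 := by
      rw [← cancel_epi θ.hom, h4, comp_zero]
    have h6 : ψ = adj1.homEquiv _ _ ((adj1.homEquiv _ _).symm ψ) := by simp
    rw [h6, h5]
    exact Adjunction.homAddEquiv_zero adj1 _ _
  obtain ⟨y, hy⟩ : ∃ y : (shiftFunctor D (-n)).obj (E i) ⟶ B, φ' = y ≫ q :=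
    Triangle.coyoneda_exact₃ _ hT φ' h1
  obtain ⟨g, rfl⟩ := hsurj i (-n) y
  rw [hy, Category.assoc]
  have : φ ≫ q = 0 := comp_distTriang_mor_zero₁₂ _ hT
  rw [this, comp_zero]

end iso

section adj
variable {D : Type u} [Category.{v} D] [Preadditive D] [HasZeroObject D] [HasCoproducts.{v} D]
  {E : Type u'} [Category.{v} E] [Preadditive E] [HasZeroObject E] [HasCoproducts.{v} E]

/-- compactness is invariant under isomorphism -/
lemma finFactor_of_iso {X Y : D} (e : X ≅ Y) (hX : FinFactor X) : FinFactor Y := by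
  intro ι Z g
  obtain ⟨s, c, hc⟩ := hX ι Z (e.hom ≫ g)
  refine ⟨s, fun i => e.inv ≫ c i, ?_⟩
  have : g = e.inv ≫ (e.hom ≫ g) := by rw [e.inv_hom_id_assoc]
  rw [this, hc, Preadditive.comp_sum]
  refine Finset.sum_congr rfl (fun i _ => ?_)
  rw [Category.assoc]

/-- a left adjoint whose right adjoint preserves coproducts preserves compact objects -/
lemma finFactor_of_adjunction (F : D ⥤ E) (G : E ⥤ D) [F.Additive] (adj : F ⊣ G)
    (hG : ∀ (κ : Type v), PreservesColimitsOfShape (Discrete κ) G)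
    (K : D) (h : FinFactor K) : FinFactor (F.obj K) := by
  intro ι X g
  haveI := hG ι
  let φ : K ⟶ G.obj (∐ X) := adj.homEquiv K (∐ X) g
  have hc : IsColimit (Cofan.mk (G.obj (∐ X))
      (fun j => G.map (Sigma.ι X j)) : Cofan (fun j => G.obj (X j))) :=
    isColimitCofanMkObjOfIsColimit G X _ (coproductIsCoproduct X)
  let e : (∐ (fun j => G.obj (X j))) ≅ G.obj (∐ X) :=
    (coproductIsCoproduct _).coconePointUniqueUpToIso hc
  have he : ∀ j, Sigma.ι (fun j => G.obj (X j)) j ≫ e.hom = G.map (Sigma.ι X j) := fun j =>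
    IsColimit.comp_coconePointUniqueUpToIso_hom (coproductIsCoproduct _) hc ⟨j⟩
  obtain ⟨s, c, hc'⟩ := h ι (fun j => G.obj (X j)) (φ ≫ e.inv)
  refine ⟨s, fun j => (adj.homEquiv K (X j)).symm (c j), ?_⟩
  have h1 : φ = ∑ j ∈ s, c j ≫ G.map (Sigma.ι X j) := by
    have : φ = (φ ≫ e.inv) ≫ e.hom := by
      rw [Category.assoc, e.inv_hom_id]
      exact (Category.comp_id _).symm
    rw [this, hc', Preadditive.sum_comp]
    refine Finset.sum_congr rfl (fun j _ => ?_)
    rw [Category.assoc, he]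
  have h2 : g = (adj.homEquiv K (∐ X)).symm φ := by simp [φ]
  rw [h2, h1]
  have h3 : ∀ (t : Finset ι), (adj.homEquiv K (∐ X)).symm
      (∑ j ∈ t, c j ≫ G.map (Sigma.ι X j)) =
      ∑ j ∈ t, (adj.homEquiv K (X j)).symm (c j) ≫ Sigma.ι X j := by
    intro t
    have := map_sum (adj.homAddEquiv K (∐ X)).symm
      (fun j => c j ≫ G.map (Sigma.ι X j)) t
    refine this.trans ?_
    refine Finset.sum_congr rfl (fun j _ => ?_)
    exact adj.homEquiv_naturality_right_symm _ _
  exact h3 s

open Classical in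
/-- if `F K` is compact then maps from `K` lift along the comparison map of `G` -/
lemma exists_lift_sigmaComparison (F : D ⥤ E) (G : E ⥤ D) [F.Additive] (adj : F ⊣ G)
    (K : D) (hFK : FinFactor (F.obj K)) {κ : Type v} (X : κ → E) (y : K ⟶ G.obj (∐ X)) :
    ∃ g : K ⟶ ∐ (fun k => G.obj (X k)), g ≫ sigmaComparison G X = y := by
  obtain ⟨s, c, hc⟩ := hFK κ X ((adj.homEquiv K (∐ X)).symm y)
  refine ⟨∑ j ∈ s, adj.homEquiv K (X j) (c j) ≫ Sigma.ι (fun k => G.obj (X k)) j, ?_⟩
  have h2 : y = adj.homEquiv K (∐ X) ((adj.homEquiv K (∐ X)).symm y) := by simp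
  rw [h2, hc, Preadditive.sum_comp]
  have := map_sum (adj.homAddEquiv K (∐ X)) (fun j => c j ≫ Sigma.ι X j) s
  refine Eq.trans ?_ this.symm
  refine Finset.sum_congr rfl (fun j _ => ?_)
  rw [Category.assoc, ι_comp_sigmaComparison]
  exact (adj.homEquiv_naturality_right _ _).symm

open Classical in
/-- if `K` and `F K` are compact, the comparison map of `G` is injective on maps out of `K` -/
lemma eq_zero_of_comp_sigmaComparison (F : D ⥤ E) (G : E ⥤ D) [F.Additive] (adj : F ⊣ G)
    (K : D) (hK : FinFactor K) {κ : Type v} (X : κ → E)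
    (g : K ⟶ ∐ (fun k => G.obj (X k))) (hg : g ≫ sigmaComparison G X = 0) : g = 0 := by
  obtain ⟨s, c, hc⟩ := hK κ (fun k => G.obj (X k)) g
  -- we may assume `c j = g ≫ π j`
  have hcj : ∀ j ∈ s, c j = g ≫ Sigma.π (fun k => G.obj (X k)) j := by
    intro j hj
    rw [hc, Preadditive.sum_comp, Finset.sum_eq_single j]
    · rw [Category.assoc, Sigma.ι_π_eq_id, Category.comp_id]
    · intro b _ hb
      rw [Category.assoc, Sigma.ι_π_of_ne _ hb, comp_zero]
    · intro h; exact absurd hj h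
  have h0 : ∑ j ∈ s, (adj.homEquiv K (X j)).symm (c j) ≫ Sigma.ι X j = 0 := by
    have h1 : ∑ j ∈ s, c j ≫ G.map (Sigma.ι X j) = 0 := by
      rw [← hg, hc, Preadditive.sum_comp]
      refine Finset.sum_congr rfl (fun j _ => ?_)
      rw [Category.assoc, ι_comp_sigmaComparison]
    have := map_sum (adj.homAddEquiv K (∐ X)).symm (fun j => c j ≫ G.map (Sigma.ι X j)) s
    rw [h1] at this
    have h2 : (adj.homAddEquiv K (∐ X)).symm 0 = 0 := map_zero _
    rw [h2] at this
    rw [this]
    refine Finset.sum_congr rfl (fun j _ => ?_)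
    exact (adj.homEquiv_naturality_right_symm _ _).symm
  have hz : ∀ j ∈ s, c j = 0 := by
    intro j hj
    have h1 := congrArg (fun t => t ≫ Sigma.π X j) h0
    simp only [Preadditive.sum_comp, zero_comp] at h1
    rw [Finset.sum_eq_single j] at h1
    · rw [Category.assoc, Sigma.ι_π_eq_id, Category.comp_id] at h1
      have : c j = adj.homEquiv K (X j) ((adj.homEquiv K (X j)).symm (c j)) := by simp
      rw [this, h1]
      exact Adjunction.homAddEquiv_zero adj _ _
    · intro b _ hb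
      rw [Category.assoc, Sigma.ι_π_of_ne _ hb, comp_zero]
    · intro h; exact absurd hj h
  rw [hc]
  exact Finset.sum_eq_zero (fun j hj => by rw [hz j hj, zero_comp])

end adj

end Groth.Agent.Helper2.Brown
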