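import Groth.Agent.Lib.Helper2.BrownRep

/-!
# Brown representability for perfectly generated categories: injectivity on generators
-/

set_option autoImplicit false
universe v u

namespace Groth.Agent.Helper2.Brown
open CategoryTheory CategoryTheory.Limits CategoryTheory.Pretriangulated Opposite
open CategoryTheory.Pretriangulated.Opposite

variable {D : Type u} [Category.{v} D] [Preadditive D] [HasZeroObject D] [HasShift D ℤ]
  [∀ n : ℤ, (shiftFunctor D n).Additive] [Pretriangulated D]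
  [HasCoproducts.{v} D] [HasColimitsOfShape (Discrete ℕ) D]

/-- the countable factorization property of a family -/
def PG2 {κ : Type v} (G : κ → D) : Prop :=
  ∀ (X : ℕ → D) (k : κ) (α : G k ⟶ ∐ X), ∃ (j : ℕ → κ) (β : ∀ n, G (j n) ⟶ X n)
    (γ : G k ⟶ ∐ (fun n => G (j n))), α = γ ≫ Limits.Sigma.map β

section pg2
variable {κ : Type v} (G : κ → D) (hG : PG2 G)

include hG in
/-- pointwise inclusion of images on generators passes to countable coproducts -/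
lemma pg2_lift {A B C : ℕ → D} (f : ∀ n, A n ⟶ B n) (h : ∀ n, C n ⟶ B n)
    (hyp : ∀ (n : ℕ) (k : κ) (c : G k ⟶ C n), ∃ a : G k ⟶ A n, a ≫ f n = c ≫ h n)
    (k : κ) (c : G k ⟶ ∐ C) :
    ∃ a : G k ⟶ ∐ A, a ≫ Limits.Sigma.map f = c ≫ Limits.Sigma.map h := by
  obtain ⟨j, β, γ, rfl⟩ := hG C k c
  choose a ha using fun n => hyp n (j n) (β n)
  refine ⟨γ ≫ Limits.Sigma.map a, ?_⟩
  rw [Category.assoc, Category.assoc, Sigma.map_comp_map, Sigma.map_comp_map]
  congr 2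
  funext n
  exact ha n

end pg2

/-- weak exactness of a coproduct of distinguished triangles -/
lemma coprod_exact (T : ℕ → Triangle D) (hT : ∀ n, T n ∈ distTriang D) {S : D}
    (b : S ⟶ ∐ (fun n => (T n).obj₂))
    (hb : b ≫ Limits.Sigma.map (fun n => (T n).mor₂) = 0) :
    ∃ w : S ⟶ ∐ (fun n => (T n).obj₁), b = w ≫ Limits.Sigma.map (fun n => (T n).mor₁) := by
  obtain ⟨Z', g', h', hT'⟩ :=
    distinguished_cocone_triangle (Limits.Sigma.map (fun n => (T n).mor₁))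
  have hθ : ∀ n, ∃ θ : (T n).obj₃ ⟶ Z', (T n).mor₂ ≫ θ =
      Sigma.ι (fun n => (T n).obj₂) n ≫ g' := by
    intro n
    obtain ⟨θ, hθ₁, -⟩ := complete_distinguished_triangle_morphism _ _ (hT n) hT'
      (Sigma.ι (fun n => (T n).obj₁) n) (Sigma.ι (fun n => (T n).obj₂) n)
      (by exact (Sigma.ι_map (fun n => (T n).mor₁) n).symm)
    exact ⟨θ, hθ₁⟩
  choose θ hθ' using hθ
  have h1 : Limits.Sigma.map (fun n => (T n).mor₂) ≫ Sigma.desc θ = g' := by
    apply Sigma.hom_ext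
    intro n
    rw [Sigma.ι_map_assoc, Sigma.ι_desc, hθ']
  have h2 : b ≫ g' = 0 := by rw [← h1, ← Category.assoc, hb, zero_comp]
  exact Triangle.coyoneda_exact₂ _ hT' b h2

section tower
variable (H : Dᵒᵖ ⥤ AddCommGrpCat.{v}) [H.IsHomological]
  [∀ κ : Type v, PreservesLimitsOfShape (Discrete κ) H]
variable {κ : Type v} (G : κ → D)

/-- the composite transition maps out of the first stage -/
noncomputable def Tf0 : ∀ n : ℕ, TX H G 0 ⟶ TX H G n
  | 0 => 𝟙 _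
  | (n + 1) => Tf0 n ≫ Tf H G n

lemma Tf0_zero : Tf0 H G 0 = 𝟙 _ := rfl

lemma Tf0_succ (n : ℕ) : Tf0 H G (n + 1) = Tf0 H G n ≫ Tf H G n := rfl

lemma res_Tf0 (n : ℕ) : res H (Tf0 H G n) (Tpi H G n) = Tpi H G 0 := by
  induction n with
  | zero => rw [Tf0_zero, res_id]
  | succ n ih => rw [Tf0_succ, res_comp, res_Tf, ih]

lemma Tf0_Ti (n : ℕ) : Tf0 H G n ≫ Ti H G n = Ti H G 0 := by
  induction n with
  | zero => rw [Tf0_zero, Category.id_comp]
  | succ n ih => rw [Tf0_succ, Category.assoc, Tf_Ti, ih]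

lemma Tlam_Ti (n : ℕ) : Tlam H G n ≫ Ti H G n = 0 := by
  rw [← Tf_Ti, ← Category.assoc, Tlam_Tf, zero_comp]

lemma Tlam_zero_Tf0_succ (m : ℕ) : Tlam H G 0 ≫ Tf0 H G (m + 1) = 0 := by
  induction m with
  | zero => rw [Tf0_succ, Tf0_zero, Category.id_comp, Tlam_Tf]
  | succ m ih => rw [Tf0_succ, ← Category.assoc, ih, zero_comp]

/-- maps from generators killed by `π_n` factor through `λ_n` -/
lemma exists_factor_Tlam (n : ℕ) (k : κ) (g : G k ⟶ TX H G n) (hg : res H g (Tpi H G n) = 0) :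
    ∃ a : G k ⟶ TL H G n, a ≫ Tlam H G n = g :=
  ⟨Sigma.ι (fun j : TJ H G n => G j.1) ⟨k, g, hg⟩, ι_lam H G (tower H G n) ⟨k, g, hg⟩⟩

/-- the covering maps `L_n ⊞ X_0 ⟶ X_n` -/
noncomputable def Tc (n : ℕ) : TL H G n ⊞ TX H G 0 ⟶ TX H G n :=
  biprod.desc (Tlam H G n) (Tf0 H G n)

lemma exists_lift_Tc (n : ℕ) (k : κ) (g : G k ⟶ TX H G n) :
    ∃ a : G k ⟶ TL H G n ⊞ TX H G 0, a ≫ Tc H G n = g := by
  obtain ⟨g₀, hg₀⟩ := exists_lift_zero H G k (res H g (Tpi H G n))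
  have h1 : res H (g - g₀ ≫ Tf0 H G n) (Tpi H G n) = 0 := by
    rw [res_sub_hom, res_comp, res_Tf0, hg₀, sub_self]
  obtain ⟨a, ha⟩ := exists_factor_Tlam H G n k _ h1
  refine ⟨biprod.lift a g₀, ?_⟩
  rw [Tc, biprod.lift_desc, ha]
  abel

lemma Tc_Ti (n : ℕ) : Tc H G n ≫ Ti H G n = biprod.snd ≫ Ti H G 0 := by
  apply biprod.hom_ext'
  · rw [Tc, biprod.inl_desc_assoc, Tlam_Ti, biprod.inl_snd_assoc, zero_comp]
  · rw [Tc, biprod.inr_desc_assoc, Tf0_Ti, biprod.inr_snd_assoc]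

lemma Tc_Tf (n : ℕ) : Tc H G n ≫ Tf H G n = biprod.snd ≫ Tf0 H G n ≫ Tf H G n := by
  apply biprod.hom_ext'
  · rw [Tc, biprod.inl_desc_assoc, Tlam_Tf, biprod.inl_snd_assoc, zero_comp]
  · rw [Tc, biprod.inr_desc_assoc, biprod.inr_snd_assoc]

variable (hG : PG2 G)

include hG in
/-- maps from generators into `∐ X_n` come from `∐ (L_n ⊞ X_0)` -/
lemma exists_lift_sigma_Tc (k : κ) (g : G k ⟶ ∐ (TX H G)) :
    ∃ a : G k ⟶ ∐ (fun n => TL H G n ⊞ TX H G 0), a ≫ Limits.Sigma.map (Tc H G) = g := by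
  obtain ⟨a, ha⟩ := pg2_lift G hG (Tc H G) (fun n => 𝟙 (TX H G n))
    (fun n k c => by
      obtain ⟨a, ha⟩ := exists_lift_Tc H G n k c
      exact ⟨a, by rw [ha, Category.comp_id]⟩) k g
  refine ⟨a, ?_⟩
  rw [ha]
  have : Limits.Sigma.map (fun n => 𝟙 (TX H G n)) = 𝟙 _ := by
    apply Sigma.hom_ext
    intro n
    rw [Sigma.ι_map, Category.id_comp, Category.comp_id]
  rw [this, Category.comp_id]

include hG in
/-- every map from a generator into `∐ X_n` is, after mapping to the hocolim, in the image of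
the first stage -/
lemma exists_stage_zero (k : κ) (g : G k ⟶ ∐ (TX H G)) :
    ∃ g' : G k ⟶ TX H G 0, g ≫ mu H G = g' ≫ Ti H G 0 := by
  obtain ⟨a, rfl⟩ := exists_lift_sigma_Tc H G hG k g
  refine ⟨a ≫ Sigma.desc (fun n => (biprod.snd : TL H G n ⊞ TX H G 0 ⟶ TX H G 0)), ?_⟩
  rw [Category.assoc, Category.assoc]
  congr 1
  apply Sigma.hom_ext
  intro n
  rw [Sigma.ι_map_assoc, Sigma.ι_desc_assoc]
  have : Sigma.ι (TX H G) n ≫ mu H G = Ti H G n := rfl
  rw [this, Tc_Ti]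

/-! ### injectivity of `1 - shift` on maps from generators -/

/-- the copower of the first stage -/
noncomputable abbrev TB : D := ∐ (fun _ : ℕ => TX H G 0)

/-- the shift on the copower -/
noncomputable abbrev shB : TB H G ⟶ TB H G :=
  DerLim.shiftMap (fun _ : ℕ => TX H G 0) (fun _ => 𝟙 _)

/-- the shift on the sum of the stages -/
noncomputable abbrev Tsh : (∐ (TX H G)) ⟶ ∐ (TX H G) := DerLim.shiftMap (TX H G) (Tf H G)

noncomputable def TPhi : TB H G ⟶ ∐ (TX H G) := Limits.Sigma.map (Tf0 H G)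

noncomputable def TLam0 : (∐ (fun _ : ℕ => TL H G 0)) ⟶ TB H G :=
  Limits.Sigma.map (fun _ => Tlam H G 0)

noncomputable def TR : TB H G ⟶ ∐ (TX H G) :=
  Sigma.desc (fun n => -∑ m ∈ Finset.range n, Tf0 H G (m + 1) ≫ Sigma.ι (TX H G) (m + 1))

@[reassoc]
lemma ι_TPhi (n : ℕ) : Sigma.ι (fun _ : ℕ => TX H G 0) n ≫ TPhi H G =
    Tf0 H G n ≫ Sigma.ι (TX H G) n := by
  rw [TPhi, Sigma.ι_map]

@[reassoc]
lemma ι_TR (n : ℕ) : Sigma.ι (fun _ : ℕ => TX H G 0) n ≫ TR H G =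
    -∑ m ∈ Finset.range n, Tf0 H G (m + 1) ≫ Sigma.ι (TX H G) (m + 1) := by
  rw [TR, Sigma.ι_desc]

lemma sigma_Tc_Tsh : Limits.Sigma.map (Tc H G) ≫ Tsh H G =
    Limits.Sigma.map (fun n => (biprod.snd : TL H G n ⊞ TX H G 0 ⟶ TX H G 0)) ≫
      TPhi H G ≫ Tsh H G := by
  apply Sigma.hom_ext
  intro n
  rw [Sigma.ι_map_assoc, Sigma.ι_map_assoc, ι_TPhi_assoc, ι_shiftMap,
    ← Category.assoc, Tc_Tf, Category.assoc, Category.assoc]

lemma TPhi_Tsh : TPhi H G ≫ Tsh H G = shB H G ≫ TPhi H G := by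
  apply Sigma.hom_ext
  intro n
  rw [ι_TPhi_assoc, ι_shiftMap, ι_shiftMap_assoc, Category.id_comp, ι_TPhi, Tf0_succ,
    Category.assoc]

lemma one_sub_shB_TR : (𝟙 _ - shB H G) ≫ TR H G = TPhi H G ≫ Tsh H G := by
  apply Sigma.hom_ext
  intro n
  rw [Preadditive.sub_comp, Preadditive.comp_sub, Category.id_comp, ι_shiftMap_assoc,
    Category.id_comp, ι_TR, ι_TR, Finset.sum_range_succ, ι_TPhi_assoc, ι_shiftMap, Tf0_succ,
    Category.assoc]
  abel

lemma TLam0_TR : TLam0 H G ≫ TR H G = 0 := by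
  apply Sigma.hom_ext
  intro n
  rw [TLam0, Sigma.ι_map_assoc, ι_TR, comp_zero, Preadditive.comp_neg, neg_eq_zero,
    Preadditive.comp_sum]
  refine Finset.sum_eq_zero (fun m _ => ?_)
  rw [← Category.assoc, Tlam_zero_Tf0_succ, zero_comp]

include hG in
/-- maps from generators to the copower killed by `Φ` factor through `∐ λ_0` -/
lemma exists_factor_TLam0 (k : κ) (b : G k ⟶ TB H G) (hb : b ≫ TPhi H G = 0) :
    ∃ l : G k ⟶ ∐ (fun _ : ℕ => TL H G 0), b = l ≫ TLam0 H G := by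
  have hV : ∀ n, ∃ (V : D) (q : V ⟶ TX H G 0) (r : TX H G n ⟶ V⟦(1 : ℤ)⟧),
      Triangle.mk q (Tf0 H G n) r ∈ distTriang D := fun n =>
    distinguished_cocone_triangle₁ (Tf0 H G n)
  choose V q r hT using hV
  obtain ⟨w, hw⟩ := coprod_exact (fun n => Triangle.mk (q n) (Tf0 H G n) (r n)) hT b hb
  obtain ⟨l, hl⟩ := pg2_lift G hG (fun _ : ℕ => Tlam H G 0) q
    (fun n k' c => by
      have h1 : res H (c ≫ q n) (Tpi H G 0) = 0 := by
        rw [← res_Tf0 H G n, ← res_comp, Category.assoc]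
        have : q n ≫ Tf0 H G n = 0 := comp_distTriang_mor_zero₁₂ _ (hT n)
        rw [this, comp_zero, res_zero_hom]
      exact exists_factor_Tlam H G 0 k' _ h1) k w
  exact ⟨l, hw.trans hl.symm⟩

omit [HasZeroObject D] [HasShift D ℤ] [∀ n : ℤ, (shiftFunctor D n).Additive] [Pretriangulated D]
  [HasCoproducts.{v} D] [HasColimitsOfShape (Discrete ℕ) D] in
/-- the formal core of the injectivity argument -/
lemma inj_core {S B Xs A0 : D} (sh : Xs ⟶ Xs) (sB : B ⟶ B) (Φ R : B ⟶ Xs) (Λ : A0 ⟶ B)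
    (F2 : Φ ≫ sh = sB ≫ Φ) (F3 : (𝟙 _ - sB) ≫ R = Φ ≫ sh) (F4 : Λ ≫ R = 0)
    (g : S ⟶ Xs) (hg : g = g ≫ sh) (b : S ⟶ B) (h2 : g = b ≫ Φ ≫ sh)
    (F5 : ∀ b' : S ⟶ B, b' ≫ Φ = 0 → ∃ l : S ⟶ A0, b' = l ≫ Λ) : g = 0 := by
  have k1 : b ≫ sB ≫ Φ = g := by rw [← F2]; exact h2.symm
  have k2 : b ≫ sB ≫ sB ≫ Φ = g := by
    calc b ≫ sB ≫ sB ≫ Φ = b ≫ sB ≫ Φ ≫ sh := by rw [F2]
      _ = (b ≫ sB ≫ Φ) ≫ sh := by simp only [Category.assoc]
      _ = g := by rw [k1]; exact hg.symm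
  have e1 : (b ≫ sB ≫ (𝟙 _ - sB)) ≫ Φ = 0 := by
    simp only [Preadditive.sub_comp, Preadditive.comp_sub, Category.assoc,
      Category.comp_id]
    rw [k1, k2, sub_self]
  obtain ⟨l, hl⟩ := F5 _ e1
  have e2 : g = (b ≫ sB ≫ (𝟙 _ - sB)) ≫ R := by
    calc g = g ≫ sh := hg
      _ = (b ≫ sB ≫ Φ) ≫ sh := by rw [k1]
      _ = (b ≫ sB ≫ (𝟙 _ - sB)) ≫ R := by simp only [Category.assoc]; rw [F3]
  rw [e2, hl, Category.assoc, F4, comp_zero]

include hG in
/-- `1 - shift` is injective on maps from generators into `∐ X_n` -/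
theorem eq_zero_of_comp_one_sub_Tsh (k : κ) (g : G k ⟶ ∐ (TX H G))
    (hg : g ≫ (𝟙 _ - Tsh H G) = 0) : g = 0 := by
  have h1 : g = g ≫ Tsh H G := by
    rw [Preadditive.comp_sub, Category.comp_id, sub_eq_zero] at hg
    exact hg
  obtain ⟨a, ha⟩ := exists_lift_sigma_Tc H G hG k g
  have h2 : g = (a ≫ Limits.Sigma.map
      (fun n => (biprod.snd : TL H G n ⊞ TX H G 0 ⟶ TX H G 0))) ≫ TPhi H G ≫ Tsh H G := by
    rw [Category.assoc, ← sigma_Tc_Tsh, ← Category.assoc, ha]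
    exact h1
  exact inj_core (Tsh H G) (shB H G) (TPhi H G) (TR H G) (TLam0 H G) (TPhi_Tsh H G)
    (one_sub_shB_TR H G) (TLam0_TR H G) g h1 _ h2
    (fun b' hb' => exists_factor_TLam0 H G hG k b' hb')

end tower

section shiftstep
variable (X : ℕ → D) (f : ∀ n, X n ⟶ X (n + 1))

/-- injectivity of `1 - shift` after shifting by one, from injectivity on `K⟦-1⟧` -/
lemma eq_zero_of_comp_shift_one_sub (K : D)
    (hK : ∀ k' : K⟦(-1 : ℤ)⟧ ⟶ ∐ X, k' ≫ (𝟙 _ - DerLim.shiftMap X f) = 0 → k' = 0)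
    (g : K ⟶ (∐ X)⟦(1 : ℤ)⟧)
    (hg : g ≫ (shiftFunctor D (1 : ℤ)).map (𝟙 _ - DerLim.shiftMap X f) = 0) : g = 0 := by
  let adj : shiftFunctor D (-1 : ℤ) ⊣ shiftFunctor D (1 : ℤ) :=
    (shiftEquiv' D (-1 : ℤ) 1 (by norm_num)).toAdjunction
  have h1 : (adj.homEquiv K (∐ X)).symm g ≫ (𝟙 _ - DerLim.shiftMap X f) = 0 := by
    rw [← adj.homEquiv_naturality_right_symm, hg]
    exact Adjunction.homAddEquiv_symm_zero adj K (∐ X)
  have h2 := hK _ h1
  have h3 : g = adj.homEquiv K (∐ X) ((adj.homEquiv K (∐ X)).symm g) := by simp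
  rw [h3, h2]
  exact Adjunction.homAddEquiv_zero adj K (∐ X)

end shiftstep

section main
variable (H : Dᵒᵖ ⥤ AddCommGrpCat.{v}) [H.IsHomological]
  [∀ κ : Type v, PreservesLimitsOfShape (Discrete κ) H]
variable {κ : Type v} (G : κ → D) (hG : PG2 G)
  (hsh : ∀ k, ∃ k', Nonempty (G k' ≅ (G k)⟦(-1 : ℤ)⟧))

include hG hsh in
/-- the comparison map is injective on generators -/
theorem eq_zero_of_res_pi_eq_zero (k : κ) (g : G k ⟶ hoc H G) (hg : res H g (pi H G) = 0) :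
    g = 0 := by
  have h1 : g ≫ dl H G = 0 := by
    apply eq_zero_of_comp_shift_one_sub (TX H G) (Tf H G) (G k)
    · intro k' hk'
      obtain ⟨k₁, ⟨e⟩⟩ := hsh k
      have := eq_zero_of_comp_one_sub_Tsh H G hG k₁ (e.hom ≫ k')
        (by rw [Category.assoc, hk', comp_zero])
      rw [← cancel_epi e.hom, this, comp_zero]
    · rw [Category.assoc]
      have : dl H G ≫ (shiftFunctor D (1 : ℤ)).map (𝟙 _ - DerLim.shiftMap (TX H G) (Tf H G)) = 0 :=
        comp_distTriang_mor_zero₃₁ _ (htri H G)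
      rw [this, comp_zero]
  obtain ⟨g₁, hg₁⟩ : ∃ g₁ : G k ⟶ ∐ (TX H G), g = g₁ ≫ mu H G :=
    Triangle.coyoneda_exact₃ _ (htri H G) g h1
  obtain ⟨g', hg'⟩ := exists_stage_zero H G hG k g₁
  have h2 : g = g' ≫ Ti H G 0 := hg₁.trans hg'
  rw [h2, res_comp, res_Ti_pi] at hg
  rw [h2, ← Tf_Ti, ← Category.assoc, comp_Tf_eq_zero H G 0 k g' hg, zero_comp]

include hG hsh in
lemma tau_bijective_gen (k : κ) : Function.Bijective (tau H (pi H G) (G k)) := by
  refine ⟨?_, fun a => exists_lift H G k a⟩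
  rw [tau_injective_iff]
  intro g hg
  exact eq_zero_of_res_pi_eq_zero H G hG hsh k g hg

lemma exists_lift_piHomG (Y : D) (k : κ) (y : G k ⟶ Y) :
    ∃ g : G k ⟶ hoc (preadditiveYoneda.obj Y) G, g ≫ piHomG G Y = y := by
  obtain ⟨g, hg⟩ := exists_lift (preadditiveYoneda.obj Y) G k y
  exact ⟨g, by rw [piHomG, ← toHom_res, hg]; rfl⟩

include hG hsh in
lemma eq_zero_of_comp_piHomG (Y : D) (k : κ) (g : G k ⟶ hoc (preadditiveYoneda.obj Y) G)
    (hg : g ≫ piHomG G Y = 0) : g = 0 := by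
  apply eq_zero_of_res_pi_eq_zero (preadditiveYoneda.obj Y) G hG hsh k g
  apply toHom_injective
  rw [toHom_res, toHom_zero]
  exact hg

include hG hsh in
theorem isIso_piHomG (hgen : ∀ K : D, (∀ (k : κ) (f : G k ⟶ K), f = 0) → IsZero K) (Y : D) :
    IsIso (piHomG G Y) := by
  obtain ⟨C, q, r, hT⟩ := distinguished_cocone_triangle (piHomG G Y)
  refine (Triangle.isZero₃_iff_isIso₁ _ hT).1 ?_
  apply hgen
  show ∀ (k : κ) (f : G k ⟶ C), f = 0
  intro k φ'
  have h1 : φ' ≫ r = 0 := by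
    let adj1 : shiftFunctor D (-1 : ℤ) ⊣ shiftFunctor D (1 : ℤ) :=
      (shiftEquiv' D (-1 : ℤ) 1 (by norm_num)).toAdjunction
    set ψ := φ' ≫ r with hψ
    have h2 : ψ ≫ (shiftFunctor D (1 : ℤ)).map (piHomG G Y) = 0 := by
      rw [hψ, Category.assoc]
      have : r ≫ (shiftFunctor D (1 : ℤ)).map (piHomG G Y) = 0 :=
        comp_distTriang_mor_zero₃₁ _ hT
      rw [this, comp_zero]
    have h3 : (adj1.homEquiv _ _).symm ψ ≫ piHomG G Y = 0 := by
      rw [← adj1.homEquiv_naturality_right_symm, h2]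
      exact Adjunction.homAddEquiv_symm_zero adj1 _ _
    obtain ⟨k₁, ⟨θ⟩⟩ := hsh k
    have h4 : θ.hom ≫ (adj1.homEquiv _ _).symm ψ = 0 := by
      apply eq_zero_of_comp_piHomG G hG hsh Y k₁
      rw [Category.assoc, h3, comp_zero]
    have h5 : (adj1.homEquiv _ _).symm ψ = 0 := by
      rw [← cancel_epi θ.hom, h4, comp_zero]
    have h6 : ψ = adj1.homEquiv _ _ ((adj1.homEquiv _ _).symm ψ) := by simp
    rw [h6, h5]
    exact Adjunction.homAddEquiv_zero adj1 _ _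
  obtain ⟨y, hy⟩ : ∃ y : G k ⟶ Y, φ' = y ≫ q := Triangle.coyoneda_exact₃ _ hT φ' h1
  obtain ⟨g, rfl⟩ := exists_lift_piHomG G Y k y
  rw [hy, Category.assoc]
  have : piHomG G Y ≫ q = 0 := comp_distTriang_mor_zero₁₂ _ hT
  rw [this, comp_zero]

include hG in
/-- Brown representability for a family closed under shifts, detecting zero objects, with the
countable factorization property -/
theorem representable_of_pg2
    (hshift : ∀ (k : κ) (m : ℤ), ∃ k', Nonempty (G k' ≅ (G k)⟦m⟧))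
    (hgen : ∀ K : D, (∀ (k : κ) (f : G k ⟶ K), f = 0) → IsZero K) :
    (H ⋙ forget AddCommGrpCat.{v}).IsRepresentable := by
  have hsh : ∀ k, ∃ k', Nonempty (G k' ≅ (G k)⟦(-1 : ℤ)⟧) := fun k => hshift k (-1)
  have hall : ∀ Y, Function.Bijective (tau H (pi H G) Y) := fun Y =>
    tau_bijective_of_presentation H G (pi H G) hshift (tau_bijective_gen H G hG hsh) Y
      (isIso_piHomG G hG hsh hgen Y)
  refine ⟨hoc H G, ⟨?_⟩⟩
  exact
    { homEquiv := fun {Y} => Equiv.ofBijective (tau H (pi H G) Y) (hall Y)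
      homEquiv_comp := fun {Y Y'} f g => by
        show tau H (pi H G) Y (f ≫ g) = _
        rw [tau_comp]
        rfl }

end main

section transport
variable {ι : Type v} (E : ι → D)

/-- the countable factorization property passes to the family of all shifts -/
theorem pg2_shiftFam (h2 : PG2 E) : PG2 (shiftFam E) := by
  intro X k α
  obtain ⟨i, m⟩ := k
  let adj : shiftFunctor D m ⊣ shiftFunctor D (-m) := (shiftEquiv D m).toAdjunction
  have hc : IsColimit (Cofan.mk ((shiftFunctor D (-m)).obj (∐ X))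
      (fun n => (shiftFunctor D (-m)).map (Sigma.ι X n)) :
      Cofan (fun n => (shiftFunctor D (-m)).obj (X n))) :=
    isColimitCofanMkObjOfIsColimit (shiftFunctor D (-m)) X _ (coproductIsCoproduct X)
  let e : (∐ (fun n => (shiftFunctor D (-m)).obj (X n))) ≅ (shiftFunctor D (-m)).obj (∐ X) :=
    (coproductIsCoproduct _).coconePointUniqueUpToIso hc
  have he : ∀ n, Sigma.ι (fun n => (shiftFunctor D (-m)).obj (X n)) n ≫ e.hom =
      (shiftFunctor D (-m)).map (Sigma.ι X n) := fun n =>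
    IsColimit.comp_coconePointUniqueUpToIso_hom (coproductIsCoproduct _) hc ⟨n⟩
  let α' : E i ⟶ (shiftFunctor D (-m)).obj (∐ X) := adj.homEquiv _ _ α
  obtain ⟨j₀, β₀, γ₀, h⟩ := h2 (fun n => (shiftFunctor D (-m)).obj (X n)) i (α' ≫ e.inv)
  have hc' : IsColimit (Cofan.mk ((shiftFunctor D m).obj (∐ (fun n => E (j₀ n))))
      (fun n => (shiftFunctor D m).map (Sigma.ι (fun n => E (j₀ n)) n)) :
      Cofan (fun n => (shiftFunctor D m).obj (E (j₀ n)))) :=
    isColimitCofanMkObjOfIsColimit (shiftFunctor D m) _ _ (coproductIsCoproduct _)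
  let e' : (∐ (fun n => (shiftFunctor D m).obj (E (j₀ n)))) ≅
      (shiftFunctor D m).obj (∐ (fun n => E (j₀ n))) :=
    (coproductIsCoproduct _).coconePointUniqueUpToIso hc'
  have he' : ∀ n, Sigma.ι (fun n => (shiftFunctor D m).obj (E (j₀ n))) n ≫ e'.hom =
      (shiftFunctor D m).map (Sigma.ι (fun n => E (j₀ n)) n) := fun n =>
    IsColimit.comp_coconePointUniqueUpToIso_hom (coproductIsCoproduct _) hc' ⟨n⟩
  let β : ∀ n, (shiftFunctor D m).obj (E (j₀ n)) ⟶ X n := fun n => (adj.homEquiv _ _).symm (β₀ n)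
  have key : e'.hom ≫ (shiftFunctor D m).map (Limits.Sigma.map β₀ ≫ e.hom) ≫
      adj.counit.app (∐ X) = Limits.Sigma.map β := by
    apply Sigma.hom_ext
    intro n
    rw [← Category.assoc, he', ← Category.assoc, ← Functor.map_comp, ← Category.assoc,
      Sigma.ι_map, Category.assoc, he n, Sigma.ι_map, Functor.map_comp, Category.assoc]
    have hnat := adj.counit.naturality (Sigma.ι X n)
    dsimp at hnat
    rw [hnat, ← Category.assoc]
    congr 1
  refine ⟨fun n => (j₀ n, m), β, (shiftFunctor D m).map γ₀ ≫ e'.inv, ?_⟩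
  have h3 : ((shiftFunctor D m).map γ₀ ≫ e'.inv) ≫ Limits.Sigma.map β =
      (shiftFunctor D m).map α' ≫ adj.counit.app (∐ X) := by
    rw [← key, Category.assoc, e'.inv_hom_id_assoc, ← Category.assoc, ← Functor.map_comp,
      ← Category.assoc, ← h, Category.assoc, e.inv_hom_id, Category.comp_id]
  refine Eq.trans ?_ h3.symm
  exact ((adj.homEquiv _ _).symm_apply_apply α).symm.trans (Adjunction.homEquiv_counit adj _ _ _)

/-- detection of zero objects passes to the family of all shifts -/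
lemma gen_shiftFam (h1 : ∀ X : D, ¬ IsZero X → ∃ (i : ι) (f : E i ⟶ X), f ≠ 0) (K : D)
    (hK : ∀ (k : ι × ℤ) (f : shiftFam E k ⟶ K), f = 0) : IsZero K := by
  by_contra hne
  obtain ⟨i, f, hf⟩ := h1 K hne
  apply hf
  have := hK (i, 0) (((shiftFunctorZero D ℤ).app (E i)).hom ≫ f)
  rw [← cancel_epi ((shiftFunctorZero D ℤ).app (E i)).hom, this, comp_zero]

lemma shiftFam_shift (k : ι × ℤ) (m : ℤ) :
    ∃ k', Nonempty (shiftFam E k' ≅ (shiftFam E k)⟦m⟧) :=
  ⟨(k.1, k.2 + m), ⟨(shiftFunctorAdd' D k.2 m (k.2 + m) rfl).app (E k.1)⟩⟩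

end transport

end Groth.Agent.Helper2.Brown
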