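import Groth.Agent.Lib.Helper2.BrownTower

/-!
# Brown representability: compact objects are hocolim-small
-/

set_option autoImplicit false
universe v u

namespace Groth.Agent.Helper2.Brown
open CategoryTheory CategoryTheory.Limits CategoryTheory.Pretriangulated Opposite

section general
variable {D : Type u} [Category.{v} D] [Preadditive D]

/-- finite factorization property -/
def FinFactor [HasCoproducts.{v} D] (K : D) : Prop :=
  ∀ (ι : Type v) (X : ι → D) (g : K ⟶ ∐ X), ∃ (s : Finset ι) (c : ∀ i, K ⟶ X i),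
    g = ∑ i ∈ s, c i ≫ Sigma.ι X i

lemma finFactor_of_isCompactObject [HasCoproducts.{v} D] (K : D)
    (h : CohDer.IsCompactObject K) : FinFactor K := by
  classical
  intro ι X g
  obtain ⟨x, hx⟩ := (h ι X).2 g
  refine ⟨x.support, fun i => x i, ?_⟩
  rw [← hx]
  simp only [CohDer.homSumToHomCoprod, DirectSum.toAddMonoid, DFinsupp.liftAddHom_apply]
  erw [DFinsupp.sumAddHom_apply]
  rfl

lemma finFactor_nat [HasCoproducts.{v} D] [HasColimitsOfShape (Discrete ℕ) D] (K : D)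
    (h : FinFactor K) (X : ℕ → D) (g : K ⟶ ∐ X) :
    ∃ (N : ℕ) (c : ∀ n, K ⟶ X n), g = ∑ n ∈ Finset.range N, c n ≫ Sigma.ι X n := by
  classical
  let X' : ULift.{v} ℕ → D := fun j => X j.down
  let e : (∐ X') ≅ ∐ X := Sigma.whiskerEquiv (f := X') (g := X) Equiv.ulift (fun j => Iso.refl _)
  have he : ∀ j : ULift.{v} ℕ, Sigma.ι X' j ≫ e.hom = Sigma.ι X j.down := by
    intro j
    simp only [e, X', Sigma.whiskerEquiv_hom, Sigma.ι_comp_map', Iso.refl_inv]
    exact Category.id_comp _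
  obtain ⟨s, c, hc⟩ := h (ULift.{v} ℕ) X' (g ≫ e.inv)
  have hg : g = ∑ j ∈ s, c j ≫ Sigma.ι X j.down := by
    have : g = (g ≫ e.inv) ≫ e.hom := by simp
    rw [this, hc, Preadditive.sum_comp]
    refine Finset.sum_congr rfl (fun j _ => ?_)
    rw [Category.assoc, he]
  let s0 : Finset ℕ := s.image ULift.down
  refine ⟨s0.sup id + 1, fun n => if (ULift.up n) ∈ s then c (ULift.up n) else 0, ?_⟩
  rw [hg]
  have h1 : ∑ j ∈ s, c j ≫ Sigma.ι X j.down =
      ∑ n ∈ s0, (if (ULift.up n) ∈ s then c (ULift.up n) else 0) ≫ Sigma.ι X n := by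
    rw [Finset.sum_image (fun a _ b _ hab => ULift.ext a b hab)]
    refine Finset.sum_congr rfl (fun j hj => ?_)
    obtain ⟨n⟩ := j
    dsimp only
    rw [if_pos hj]
  rw [h1]
  refine Finset.sum_subset ?_ ?_
  · intro n hn
    rw [Finset.mem_range]
    exact Nat.lt_succ_of_le (Finset.le_sup (f := id) hn)
  · intro n _ hn
    have : (ULift.up n : ULift.{v} ℕ) ∉ s := by
      intro h'
      exact hn (Finset.mem_image.2 ⟨_, h', rfl⟩)
    rw [if_neg this, zero_comp]

/-- a map from a compact object to a countable coproduct vanishes if all components do -/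
lemma eq_zero_of_comp_π [HasCoproducts.{v} D] [HasColimitsOfShape (Discrete ℕ) D] (K : D)
    (h : FinFactor K) (X : ℕ → D) (g : K ⟶ ∐ X) (hg : ∀ n, g ≫ Sigma.π X n = 0) : g = 0 := by
  obtain ⟨N, c, hc⟩ := finFactor_nat K h X g
  rw [hc]
  refine Finset.sum_eq_zero (fun n hn => ?_)
  have h1 := hg n
  rw [hc, Preadditive.sum_comp, Finset.sum_eq_single n] at h1
  · rw [Category.assoc, Sigma.ι_π_eq_id, Category.comp_id] at h1
    rw [h1, zero_comp]
  · intro m _ hmn
    rw [Category.assoc, Sigma.ι_π_of_ne _ hmn, comp_zero]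
  · intro h'
    exact absurd hn h'

section seq
variable [HasColimitsOfShape (Discrete ℕ) D] (X : ℕ → D) (f : ∀ n, X n ⟶ X (n + 1))

@[reassoc]
lemma ι_shiftMap (n : ℕ) :
    Sigma.ι X n ≫ DerLim.shiftMap X f = f n ≫ Sigma.ι X (n + 1) := by
  simp [DerLim.shiftMap]

lemma shiftMap_π_zero : DerLim.shiftMap X f ≫ Sigma.π X 0 = 0 := by
  apply Sigma.hom_ext
  intro n
  rw [ι_shiftMap_assoc, Sigma.ι_π_of_ne _ (Nat.succ_ne_zero n), comp_zero, comp_zero]

lemma shiftMap_π_succ (m : ℕ) :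
    DerLim.shiftMap X f ≫ Sigma.π X (m + 1) = Sigma.π X m ≫ f m := by
  apply Sigma.hom_ext
  intro n
  rw [ι_shiftMap_assoc]
  by_cases h : n = m
  · subst h
    rw [Sigma.ι_π_eq_id, Sigma.ι_π_eq_id_assoc, Category.comp_id]
  · rw [Sigma.ι_π_of_ne _ (fun e => h (Nat.succ_injective e)), Sigma.ι_π_of_ne_assoc _ h,
      comp_zero, zero_comp]

lemma comp_π_eq_zero {K : D} (k : K ⟶ ∐ X) (hk : k ≫ (𝟙 _ - DerLim.shiftMap X f) = 0) (m : ℕ) :
    k ≫ Sigma.π X m = 0 := by
  have h1 : k = k ≫ DerLim.shiftMap X f := by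
    have := hk
    rw [Preadditive.comp_sub, Category.comp_id, sub_eq_zero] at this
    exact this
  induction m with
  | zero => rw [h1, Category.assoc, shiftMap_π_zero, comp_zero]
  | succ m ih => rw [h1, Category.assoc, shiftMap_π_succ, reassoc_of% ih, zero_comp]

lemma eq_zero_of_comp_one_sub_shiftMap [HasCoproducts.{v} D] (K : D) (h : FinFactor K)
    (k : K ⟶ ∐ X) (hk : k ≫ (𝟙 _ - DerLim.shiftMap X f) = 0) : k = 0 :=
  eq_zero_of_comp_π K h X k (comp_π_eq_zero X f k hk)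

end seq

end general

section shift
variable {D : Type u} [Category.{v} D] [Preadditive D] [HasZeroObject D] [HasShift D ℤ]
  [∀ n : ℤ, (shiftFunctor D n).Additive] [Pretriangulated D]
  [HasCoproducts.{v} D] [HasColimitsOfShape (Discrete ℕ) D]

/-- compactness is stable under shifts -/
lemma finFactor_shift (K : D) (h : FinFactor K) (m : ℤ) : FinFactor (K⟦m⟧) := by
  intro ι X g
  let adj : shiftFunctor D m ⊣ shiftFunctor D (-m) := (shiftEquiv D m).toAdjunction
  let φ : K ⟶ (shiftFunctor D (-m)).obj (∐ X) := adj.homEquiv K (∐ X) g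
  have hc : IsColimit (Cofan.mk ((shiftFunctor D (-m)).obj (∐ X))
      (fun j => (shiftFunctor D (-m)).map (Sigma.ι X j)) :
      Cofan (fun j => (shiftFunctor D (-m)).obj (X j))) :=
    isColimitCofanMkObjOfIsColimit (shiftFunctor D (-m)) X _ (coproductIsCoproduct X)
  let e : (∐ (fun j => (shiftFunctor D (-m)).obj (X j))) ≅ (shiftFunctor D (-m)).obj (∐ X) :=
    (coproductIsCoproduct _).coconePointUniqueUpToIso hc
  have he : ∀ j, Sigma.ι (fun j => (shiftFunctor D (-m)).obj (X j)) j ≫ e.hom =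
      (shiftFunctor D (-m)).map (Sigma.ι X j) := fun j =>
    IsColimit.comp_coconePointUniqueUpToIso_hom (coproductIsCoproduct _) hc ⟨j⟩
  obtain ⟨s, c, hc'⟩ := h ι (fun j => (shiftFunctor D (-m)).obj (X j)) (φ ≫ e.inv)
  refine ⟨s, fun j => (adj.homEquiv K (X j)).symm (c j), ?_⟩
  have h1 : φ = ∑ j ∈ s, c j ≫ (shiftFunctor D (-m)).map (Sigma.ι X j) := by
    have : φ = (φ ≫ e.inv) ≫ e.hom := by
      rw [Category.assoc, e.inv_hom_id]
      exact (Category.comp_id _).symm
    rw [this, hc', Preadditive.sum_comp]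
    refine Finset.sum_congr rfl (fun j _ => ?_)
    rw [Category.assoc, he]
  have h2 : g = (adj.homEquiv K (∐ X)).symm φ := by simp [φ]
  rw [h2, h1]
  have h3 : ∀ (t : Finset ι), (adj.homEquiv K (∐ X)).symm
      (∑ j ∈ t, c j ≫ (shiftFunctor D (-m)).map (Sigma.ι X j)) =
      ∑ j ∈ t, (adj.homEquiv K (X j)).symm (c j) ≫ Sigma.ι X j := by
    intro t
    have := map_sum (adj.homAddEquiv K (∐ X)).symm
      (fun j => c j ≫ (shiftFunctor D (-m)).map (Sigma.ι X j)) t
    refine this.trans ?_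
    refine Finset.sum_congr rfl (fun j _ => ?_)
    exact adj.homEquiv_naturality_right_symm _ _
  exact h3 s

section hocolim
variable (X : ℕ → D) (f : ∀ n, X n ⟶ X (n + 1)) (L : D) (i : ∀ n, X n ⟶ L)

/-- injectivity of `1 - shift` after shifting by one, for maps out of `K` with `K⟦-1⟧` compact -/
lemma eq_zero_of_comp_shift_one_sub_shiftMap (K : D) (h : FinFactor (K⟦(-1 : ℤ)⟧))
    (g : K ⟶ (∐ X)⟦(1 : ℤ)⟧)
    (hg : g ≫ (shiftFunctor D (1 : ℤ)).map (𝟙 _ - DerLim.shiftMap X f) = 0) : g = 0 := by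
  let adj : shiftFunctor D (-1 : ℤ) ⊣ shiftFunctor D (1 : ℤ) :=
    (shiftEquiv' D (-1 : ℤ) 1 (by norm_num)).toAdjunction
  have h1 : (adj.homEquiv K (∐ X)).symm g ≫ (𝟙 _ - DerLim.shiftMap X f) = 0 := by
    rw [← adj.homEquiv_naturality_right_symm, hg]
    exact Adjunction.homAddEquiv_symm_zero adj K (∐ X)
  have h2 := eq_zero_of_comp_one_sub_shiftMap X f _ h _ h1
  have h3 : g = adj.homEquiv K (∐ X) ((adj.homEquiv K (∐ X)).symm g) := by simp
  rw [h3, h2]
  exact Adjunction.homAddEquiv_zero adj K (∐ X)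

/-- sums over initial segments of maps into stages can be pushed to a single stage -/
lemma exists_stage_of_sum (hfi : ∀ n, f n ≫ i (n + 1) = i n) (K : D) (c : ∀ n, K ⟶ X n)
    (N : ℕ) : ∃ g' : K ⟶ X N, ∑ n ∈ Finset.range N, c n ≫ i n = g' ≫ i N := by
  induction N with
  | zero => exact ⟨0, by simp⟩
  | succ N ih =>
    obtain ⟨g', hg'⟩ := ih
    refine ⟨(g' + c N) ≫ f N, ?_⟩
    rw [Finset.sum_range_succ, hg', Category.assoc, hfi, Preadditive.add_comp]

/-- compact objects (with compact `⟦-1⟧`-shift) are small with respect to homotopy colimits -/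
lemma small_of_finFactor (hL : DerLim.IsHocolim X f L i) (K : D) (h : FinFactor K)
    (h' : FinFactor (K⟦(-1 : ℤ)⟧)) (g : K ⟶ L) :
    ∃ (n : ℕ) (g' : K ⟶ X n), g = g' ≫ i n := by
  obtain ⟨c, hT⟩ := hL
  have hfi : ∀ n, f n ≫ i (n + 1) = i n := by
    intro n
    have h1 : (𝟙 _ - DerLim.shiftMap X f) ≫ Sigma.desc i = 0 :=
      comp_distTriang_mor_zero₁₂ _ hT
    have h2 := congrArg (fun t => Sigma.ι X n ≫ t) h1
    simp only [Preadditive.sub_comp, Preadditive.comp_sub, Category.id_comp, comp_zero,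
      DerLim.shiftMap, Sigma.ι_desc_assoc, Category.assoc, Sigma.ι_desc] at h2
    rw [sub_eq_zero] at h2
    exact h2.symm
  have h1 : g ≫ c = 0 := by
    apply eq_zero_of_comp_shift_one_sub_shiftMap X f K h'
    rw [Category.assoc]
    have : c ≫ (shiftFunctor D (1 : ℤ)).map (𝟙 _ - DerLim.shiftMap X f) = 0 :=
      comp_distTriang_mor_zero₃₁ _ hT
    rw [this, comp_zero]
  obtain ⟨g0, hg0⟩ : ∃ g0 : K ⟶ ∐ X, g = g0 ≫ Sigma.desc i :=
    Triangle.coyoneda_exact₃ _ hT g h1
  obtain ⟨N, cc, hcc⟩ := finFactor_nat K h X g0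
  obtain ⟨g', hg'⟩ := exists_stage_of_sum X f L i hfi K cc N
  refine ⟨N, g', ?_⟩
  rw [← hg']
  have : g = g0 ≫ Sigma.desc i := hg0
  rw [this, hcc, Preadditive.sum_comp]
  refine Finset.sum_congr rfl (fun n _ => ?_)
  rw [Category.assoc, Sigma.ι_desc]

end hocolim

end shift

end Groth.Agent.Helper2.Brown
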