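import Groth.Agent.Lib.Helper2.BrownCompact

/-!
# Compact objects: two-out-of-three and finite sums
-/

set_option autoImplicit false
universe v u

namespace Groth.Agent.Helper2.Brown
open CategoryTheory CategoryTheory.Limits CategoryTheory.Pretriangulated Opposite

section general
variable {D : Type u} [Category.{v} D] [Preadditive D] [HasCoproducts.{v} D]

section idem
variable {ι : Type v} (X : ι → D)

/-- the idempotent of `∐ X` cutting out the finite subsum indexed by `s` -/
noncomputable def eS [DecidableEq ι] (s : Finset ι) : (∐ X) ⟶ ∐ X :=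
  ∑ j ∈ s, Sigma.π X j ≫ Sigma.ι X j

/-- the complementary idempotent -/
noncomputable def rS [DecidableEq ι] (s : Finset ι) : (∐ X) ⟶ ∐ X := 𝟙 _ - eS X s

variable [DecidableEq ι]

lemma ι_eS (s : Finset ι) (j : ι) :
    Sigma.ι X j ≫ eS X s = if j ∈ s then Sigma.ι X j else 0 := by
  rw [eS, Preadditive.comp_sum]
  by_cases hj : j ∈ s
  · rw [if_pos hj, Finset.sum_eq_single j]
    · rw [Sigma.ι_π_eq_id_assoc]
    · intro k _ hk
      rw [Sigma.ι_π_of_ne_assoc _ (Ne.symm hk), zero_comp]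
    · intro h
      exact absurd hj h
  · rw [if_neg hj]
    refine Finset.sum_eq_zero (fun k hk => ?_)
    have : j ≠ k := fun e => hj (e ▸ hk)
    rw [Sigma.ι_π_of_ne_assoc _ this, zero_comp]

lemma eS_eS_of_subset {s t : Finset ι} (h : s ⊆ t) : eS X s ≫ eS X t = eS X s := by
  apply Sigma.hom_ext
  intro j
  rw [← Category.assoc, ι_eS]
  by_cases hj : j ∈ s
  · rw [if_pos hj, ι_eS, if_pos (h hj)]
  · rw [if_neg hj, zero_comp]

lemma rS_rS_of_subset {s t : Finset ι} (h : s ⊆ t) : rS X s ≫ rS X t = rS X t := by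
  rw [rS, rS, Preadditive.sub_comp, Category.id_comp, Preadditive.comp_sub, Category.comp_id,
    eS_eS_of_subset X h, sub_self, sub_zero]

lemma comp_rS_eq_zero_of_sum {K : D} (s : Finset ι) (c : ∀ i, K ⟶ X i) :
    (∑ i ∈ s, c i ≫ Sigma.ι X i) ≫ rS X s = 0 := by
  rw [Preadditive.sum_comp]
  refine Finset.sum_eq_zero (fun j hj => ?_)
  rw [Category.assoc, rS, Preadditive.comp_sub, Category.comp_id, ι_eS, if_pos hj, sub_self,
    comp_zero]

lemma eq_sum_of_comp_rS_eq_zero {K : D} (s : Finset ι) (g : K ⟶ ∐ X) (h : g ≫ rS X s = 0) :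
    g = ∑ j ∈ s, (g ≫ Sigma.π X j) ≫ Sigma.ι X j := by
  rw [rS, Preadditive.comp_sub, Category.comp_id, sub_eq_zero] at h
  have h2 : g ≫ eS X s = ∑ j ∈ s, (g ≫ Sigma.π X j) ≫ Sigma.ι X j := by
    rw [eS, Preadditive.comp_sum]
    refine Finset.sum_congr rfl (fun j _ => ?_)
    rw [Category.assoc]
  rw [← h2, ← h]

end idem

open Classical in
/-- characterization of compactness through the idempotents `rS` -/
lemma finFactor_iff (K : D) : FinFactor K ↔ ∀ (ι : Type v) (X : ι → D) (g : K ⟶ ∐ X),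
    ∃ s : Finset ι, g ≫ rS X s = 0 := by
  constructor
  · intro h ι X g
    obtain ⟨s, c, hc⟩ := h ι X g
    refine ⟨s, ?_⟩
    rw [hc]
    exact comp_rS_eq_zero_of_sum X s c
  · intro h ι X g
    obtain ⟨s, hs⟩ := h ι X g
    exact ⟨s, fun j => g ≫ Sigma.π X j, eq_sum_of_comp_rS_eq_zero X s g hs⟩

open Classical in
/-- a finite biproduct of compact objects is compact -/
lemma finFactor_biproduct {J : Type*} [Fintype J] (f : J → D) [HasBiproduct f]
    (h : ∀ j, FinFactor (f j)) : FinFactor (⨁ f) := by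
  rw [finFactor_iff]
  intro ι X g
  have h' := fun j => (finFactor_iff (f j)).1 (h j) ι X (biproduct.ι f j ≫ g)
  choose s hs using h'
  refine ⟨Finset.univ.biUnion s, ?_⟩
  apply biproduct.hom_ext'
  intro j
  rw [comp_zero, ← Category.assoc,
    ← rS_rS_of_subset X (Finset.subset_biUnion_of_mem s (Finset.mem_univ j)),
    ← Category.assoc, hs j, zero_comp]

end general

section tri
variable {D : Type u} [Category.{v} D] [Preadditive D] [HasZeroObject D] [HasShift D ℤ]
  [∀ n : ℤ, (shiftFunctor D n).Additive] [Pretriangulated D] [HasCoproducts.{v} D]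

open Classical in
/-- two-out-of-three for compact objects -/
lemma finFactor_of_triangle (T : Triangle D) (hT : T ∈ distTriang D) (h₁ : FinFactor T.obj₁)
    (h₃ : FinFactor T.obj₃) : FinFactor T.obj₂ := by
  rw [finFactor_iff]
  intro ι X g
  obtain ⟨s1, hs1⟩ := (finFactor_iff _).1 h₁ ι X (T.mor₁ ≫ g)
  rw [Category.assoc] at hs1
  obtain ⟨g', hg'⟩ := Triangle.yoneda_exact₂ T hT (g ≫ rS X s1) hs1
  obtain ⟨s2, hs2⟩ := (finFactor_iff _).1 h₃ ι X g'
  refine ⟨s1 ∪ s2, ?_⟩
  rw [← rS_rS_of_subset X (Finset.subset_union_left (s₁ := s1) (s₂ := s2)), ← Category.assoc, hg',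
    Category.assoc, ← rS_rS_of_subset X (Finset.subset_union_right (s₁ := s1) (s₂ := s2)),
    ← Category.assoc g', hs2, zero_comp, comp_zero]

/-- maps from a compact object into a shifted coproduct -/
lemma finFactor_shift_target (K : D) (h : FinFactor K) {ι : Type v} (X : ι → D) (m : ℤ)
    (g : K ⟶ (∐ X)⟦m⟧) : ∃ (s : Finset ι) (c : ∀ i, K ⟶ (X i)⟦m⟧),
      g = ∑ i ∈ s, c i ≫ (shiftFunctor D m).map (Sigma.ι X i) := by
  have hc : IsColimit (Cofan.mk ((shiftFunctor D m).obj (∐ X))
      (fun j => (shiftFunctor D m).map (Sigma.ι X j)) :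
      Cofan (fun j => (shiftFunctor D m).obj (X j))) :=
    isColimitCofanMkObjOfIsColimit (shiftFunctor D m) X _ (coproductIsCoproduct X)
  let e : (∐ (fun j => (shiftFunctor D m).obj (X j))) ≅ (shiftFunctor D m).obj (∐ X) :=
    (coproductIsCoproduct _).coconePointUniqueUpToIso hc
  have he : ∀ j, Sigma.ι (fun j => (shiftFunctor D m).obj (X j)) j ≫ e.hom =
      (shiftFunctor D m).map (Sigma.ι X j) := fun j =>
    IsColimit.comp_coconePointUniqueUpToIso_hom (coproductIsCoproduct _) hc ⟨j⟩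
  obtain ⟨s, c, hc'⟩ := h ι (fun j => (shiftFunctor D m).obj (X j)) (g ≫ e.inv)
  refine ⟨s, c, ?_⟩
  have : g = (g ≫ e.inv) ≫ e.hom := by rw [Category.assoc, e.inv_hom_id, Category.comp_id]
  rw [this, hc', Preadditive.sum_comp]
  refine Finset.sum_congr rfl (fun j _ => ?_)
  rw [Category.assoc, he]

end tri

end Groth.Agent.Helper2.Brown
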