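import Groth.Agent.Lib.Helper2.BrownCompact

/-!
# Brown representability: presenting objects as homotopy colimits
-/

set_option autoImplicit false
universe v u

namespace Groth.Agent.Helper2.Brown
open CategoryTheory CategoryTheory.Limits CategoryTheory.Pretriangulated Opposite
open CategoryTheory.Pretriangulated.Opposite

variable {D : Type u} [Category.{v} D] [Preadditive D] [HasZeroObject D] [HasShift D ℤ]
  [∀ n : ℤ, (shiftFunctor D n).Additive] [Pretriangulated D]
  [HasCoproducts.{v} D] [HasColimitsOfShape (Discrete ℕ) D]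

/-- elements of the Yoneda functor are morphisms -/
def toHom {X Y : D} (a : (preadditiveYoneda.obj X).obj (op Y)) : Y ⟶ X := a

lemma toHom_res {X Y Z : D} (g : Z ⟶ Y) (a : (preadditiveYoneda.obj X).obj (op Y)) :
    toHom (res (preadditiveYoneda.obj X) g a) = g ≫ toHom a := rfl

lemma toHom_injective {X Y : D} (a b : (preadditiveYoneda.obj X).obj (op Y))
    (h : toHom a = toHom b) : a = b := h

lemma toHom_zero {X Y : D} : toHom (0 : (preadditiveYoneda.obj X).obj (op Y)) = 0 := rfl

/-- the family of all shifts -/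
abbrev shiftFam {ι : Type v} (E : ι → D) : ι × ℤ → D := fun k => (shiftFunctor D k.2).obj (E k.1)

section
variable {ι : Type v} (E : ι → D) (hc : ∀ i, FinFactor (E i)) (X : D)

/-- the canonical map from the hocolim of the tower to `X` -/
noncomputable def piHom : hoc (preadditiveYoneda.obj X) (shiftFam E) ⟶ X :=
  toHom (pi (preadditiveYoneda.obj X) (shiftFam E))

lemma Ti_piHom_eq (n : ℕ) : Ti (preadditiveYoneda.obj X) (shiftFam E) n ≫ piHom E X =
    toHom (Tpi (preadditiveYoneda.obj X) (shiftFam E) n) := by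
  rw [piHom, ← toHom_res, res_Ti_pi]

include hc in
lemma small_shiftFam (k : ι × ℤ) : Small (preadditiveYoneda.obj X) (shiftFam E) (shiftFam E k) := by
  intro g
  exact small_of_finFactor _ _ _ _ (isHocolim (preadditiveYoneda.obj X) (shiftFam E)) _
    (finFactor_shift _ (hc k.1) k.2) (finFactor_shift _ (finFactor_shift _ (hc k.1) k.2) (-1)) g

lemma exists_lift_piHom (k : ι × ℤ) (y : shiftFam E k ⟶ X) :
    ∃ g : shiftFam E k ⟶ hoc (preadditiveYoneda.obj X) (shiftFam E), g ≫ piHom E X = y := by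
  obtain ⟨g, hg⟩ := exists_lift (preadditiveYoneda.obj X) (shiftFam E) k y
  exact ⟨g, by rw [piHom, ← toHom_res, hg]; rfl⟩

include hc in
lemma eq_zero_of_comp_piHom (k : ι × ℤ)
    (g : shiftFam E k ⟶ hoc (preadditiveYoneda.obj X) (shiftFam E)) (hg : g ≫ piHom E X = 0) :
    g = 0 := by
  apply eq_zero_of_res_eq_zero (preadditiveYoneda.obj X) (shiftFam E) k (small_shiftFam E hc X k) g
  apply toHom_injective
  rw [toHom_res, toHom_zero]
  exact hg

include hc in
theorem isIso_piHom (hg : CohDer.Generates E) : IsIso (piHom E X) := by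
  obtain ⟨C, q, r, hT⟩ := distinguished_cocone_triangle (piHom E X)
  refine (Triangle.isZero₃_iff_isIso₁ _ hT).1 ?_
  apply hg
  intro i n φ
  let adj : shiftFunctor D (-n) ⊣ shiftFunctor D n :=
    (shiftEquiv' D (-n) n (by simp)).toAdjunction
  suffices h : (adj.homEquiv (E i) C).symm φ = 0 by
    have h3 : φ = adj.homEquiv (E i) C ((adj.homEquiv (E i) C).symm φ) := by simp
    rw [h3, h]
    exact Adjunction.homAddEquiv_zero adj (E i) C
  set φ' : shiftFam E (i, -n) ⟶ C := (adj.homEquiv (E i) C).symm φ with hφ'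
  -- step 1: φ' ≫ r = 0
  have h1 : φ' ≫ r = 0 := by
    let adj1 : shiftFunctor D (-1 : ℤ) ⊣ shiftFunctor D (1 : ℤ) :=
      (shiftEquiv' D (-1 : ℤ) 1 (by norm_num)).toAdjunction
    set ψ := φ' ≫ r with hψ
    have h2 : ψ ≫ (shiftFunctor D (1 : ℤ)).map (piHom E X) = 0 := by
      rw [hψ, Category.assoc]
      have : r ≫ (shiftFunctor D (1 : ℤ)).map (piHom E X) = 0 :=
        comp_distTriang_mor_zero₃₁ _ hT
      rw [this, comp_zero]
    have h3 : (adj1.homEquiv _ _).symm ψ ≫ piHom E X = 0 := by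
      rw [← adj1.homEquiv_naturality_right_symm, h2]
      exact Adjunction.homAddEquiv_symm_zero adj1 _ _
    let θ : shiftFam E (i, -n - 1) ≅ (shiftFunctor D (-1 : ℤ)).obj (shiftFam E (i, -n)) :=
      (shiftFunctorAdd' D (-n) (-1 : ℤ) (-n - 1) (by ring)).app (E i)
    have h4 : θ.hom ≫ (adj1.homEquiv _ _).symm ψ = 0 := by
      apply eq_zero_of_comp_piHom E hc X (i, -n - 1)
      rw [Category.assoc, h3, comp_zero]
    have h5 : (adj1.homEquiv _ _).symm ψ = 0 := by
      rw [← cancel_epi θ.hom, h4, comp_zero]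
    have h6 : ψ = adj1.homEquiv _ _ ((adj1.homEquiv _ _).symm ψ) := by simp
    rw [h6, h5]
    exact Adjunction.homAddEquiv_zero adj1 _ _
  obtain ⟨y, hy⟩ : ∃ y : shiftFam E (i, -n) ⟶ X, φ' = y ≫ q :=
    Triangle.coyoneda_exact₃ _ hT φ' h1
  obtain ⟨g, rfl⟩ := exists_lift_piHom E X (i, -n) y
  rw [hy, Category.assoc]
  have : piHom E X ≫ q = 0 := comp_distTriang_mor_zero₁₂ _ hT
  rw [this, comp_zero]

end

end Groth.Agent.Helper2.Brown
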