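import Groth.Agent.Lib.Helper2.Brown0

/-!
# Brown representability: the tower construction
-/

set_option autoImplicit false
universe v u

namespace Groth.Agent.Helper2.Brown
open CategoryTheory CategoryTheory.Limits CategoryTheory.Pretriangulated Opposite
open CategoryTheory.Pretriangulated.Opposite

variable {D : Type u} [Category.{v} D] [Preadditive D] [HasZeroObject D] [HasShift D ℤ]
  [∀ n : ℤ, (shiftFunctor D n).Additive] [Pretriangulated D]
  [HasCoproducts.{v} D] [HasColimitsOfShape (Discrete ℕ) D]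
variable (H : Dᵒᵖ ⥤ AddCommGrpCat.{v}) [H.IsHomological]
  [∀ κ : Type v, PreservesLimitsOfShape (Discrete κ) H]
variable {κ : Type v} (G : κ → D)

/-- pointed objects -/
abbrev Pt := Σ X : D, H.obj (op X)

/-- index set for `X₀` -/
abbrev J0 := Σ k : κ, H.obj (op (G k))

/-- the first stage -/
noncomputable abbrev X0 : D := ∐ (fun j : J0 H G => G j.1)

lemma exists_pi0 : ∃ x : H.obj (op (X0 H G)),
    ∀ j : J0 H G, res H (Sigma.ι (fun j : J0 H G => G j.1) j) x = j.2 :=
  exists_res_eq_family.{v, v} H (fun j : J0 H G => G j.1) (fun j => j.2)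

noncomputable def pi0 : H.obj (op (X0 H G)) := (exists_pi0 H G).choose

lemma pi0_spec (j : J0 H G) :
    res H (Sigma.ι (fun j : J0 H G => G j.1) j) (pi0 H G) = j.2 :=
  (exists_pi0 H G).choose_spec j

section step
variable (P : Pt H)

/-- index set of the kernel -/
abbrev J := Σ k : κ, {g : G k ⟶ P.1 // res H g P.2 = 0}

noncomputable abbrev L : D := ∐ (fun j : J H G P => G j.1)

noncomputable def lam : L H G P ⟶ P.1 := Sigma.desc (fun j => j.2.1)

lemma ι_lam (j : J H G P) : Sigma.ι (fun j : J H G P => G j.1) j ≫ lam H G P = j.2.1 := by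
  simp [lam]

lemma res_lam : res H (lam H G P) P.2 = 0 := by
  apply res_ext.{v, v} H (fun j : J H G P => G j.1)
  intro j
  rw [← res_comp, ι_lam, j.2.2, res_zero]

noncomputable def next : D := (distinguished_cocone_triangle (lam H G P)).choose

noncomputable def phi : P.1 ⟶ next H G P :=
  (distinguished_cocone_triangle (lam H G P)).choose_spec.choose

noncomputable def del : next H G P ⟶ (L H G P)⟦(1 : ℤ)⟧ :=
  (distinguished_cocone_triangle (lam H G P)).choose_spec.choose_spec.choose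

lemma tri : Triangle.mk (lam H G P) (phi H G P) (del H G P) ∈ distTriang D :=
  (distinguished_cocone_triangle (lam H G P)).choose_spec.choose_spec.choose_spec

lemma exists_pinext : ∃ c : H.obj (op (next H G P)), res H (phi H G P) c = P.2 :=
  exists_res_eq H _ (tri H G P) P.2 (res_lam H G P)

noncomputable def pinext : H.obj (op (next H G P)) := (exists_pinext H G P).choose

lemma res_phi_pinext : res H (phi H G P) (pinext H G P) = P.2 :=
  (exists_pinext H G P).choose_spec

noncomputable def step : Pt H := ⟨next H G P, pinext H G P⟩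

end step

/-- the tower -/
noncomputable def tower : ℕ → Pt H
  | 0 => ⟨X0 H G, pi0 H G⟩
  | (n + 1) => step H G (tower n)

noncomputable abbrev TX (n : ℕ) : D := (tower H G n).1
noncomputable abbrev Tpi (n : ℕ) : H.obj (op (TX H G n)) := (tower H G n).2
noncomputable abbrev TL (n : ℕ) : D := L H G (tower H G n)
noncomputable def Tlam (n : ℕ) : TL H G n ⟶ TX H G n := lam H G (tower H G n)
noncomputable def Tf (n : ℕ) : TX H G n ⟶ TX H G (n + 1) := phi H G (tower H G n)
noncomputable def Tdel (n : ℕ) : TX H G (n + 1) ⟶ (TL H G n)⟦(1 : ℤ)⟧ := del H G (tower H G n)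

lemma Ttri (n : ℕ) : Triangle.mk (Tlam H G n) (Tf H G n) (Tdel H G n) ∈ distTriang D :=
  tri H G (tower H G n)

lemma res_Tf (n : ℕ) : res H (Tf H G n) (Tpi H G (n + 1)) = Tpi H G n :=
  res_phi_pinext H G (tower H G n)

lemma Tlam_Tf (n : ℕ) : Tlam H G n ≫ Tf H G n = 0 :=
  comp_distTriang_mor_zero₁₂ _ (Ttri H G n)

/-- the index set of the `n`-th kernel -/
abbrev TJ (n : ℕ) := J H G (tower H G n)

lemma TL_eq (n : ℕ) : TL H G n = ∐ (fun j : TJ H G n => G j.1) := rfl

/-- `X₀` is a coproduct of generators -/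
lemma TX_zero : TX H G 0 = ∐ (fun j : J0 H G => G j.1) := rfl

lemma exists_lift_zero (k : κ) (a : H.obj (op (G k))) :
    ∃ g : G k ⟶ TX H G 0, res H g (Tpi H G 0) = a :=
  ⟨Sigma.ι (fun j : J0 H G => G j.1) ⟨k, a⟩, pi0_spec H G ⟨k, a⟩⟩

lemma comp_Tf_eq_zero (n : ℕ) (k : κ) (g : G k ⟶ TX H G n) (hg : res H g (Tpi H G n) = 0) :
    g ≫ Tf H G n = 0 := by
  have h1 : g = Sigma.ι (fun j : TJ H G n => G j.1) ⟨k, g, hg⟩ ≫ Tlam H G n :=
    (ι_lam H G (tower H G n) ⟨k, g, hg⟩).symm
  rw [h1, Category.assoc, Tlam_Tf, comp_zero]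

/-! ### the homotopy colimit -/

noncomputable def hoc : D :=
  (distinguished_cocone_triangle (𝟙 _ - DerLim.shiftMap (TX H G) (Tf H G))).choose

noncomputable def mu : (∐ (TX H G)) ⟶ hoc H G :=
  (distinguished_cocone_triangle (𝟙 _ - DerLim.shiftMap (TX H G) (Tf H G))).choose_spec.choose

noncomputable def dl : hoc H G ⟶ (∐ (TX H G))⟦(1 : ℤ)⟧ :=
  (distinguished_cocone_triangle
    (𝟙 _ - DerLim.shiftMap (TX H G) (Tf H G))).choose_spec.choose_spec.choose

lemma htri : Triangle.mk (𝟙 _ - DerLim.shiftMap (TX H G) (Tf H G)) (mu H G) (dl H G) ∈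
    distTriang D :=
  (distinguished_cocone_triangle
    (𝟙 _ - DerLim.shiftMap (TX H G) (Tf H G))).choose_spec.choose_spec.choose_spec

noncomputable def Ti (n : ℕ) : TX H G n ⟶ hoc H G := Sigma.ι (TX H G) n ≫ mu H G

lemma desc_Ti : Sigma.desc (Ti H G) = mu H G := by
  apply Sigma.hom_ext
  intro n
  rw [Sigma.ι_desc, Ti]

lemma isHocolim : DerLim.IsHocolim (TX H G) (Tf H G) (hoc H G) (Ti H G) :=
  ⟨dl H G, by rw [desc_Ti]; exact htri H G⟩

lemma Tf_Ti (n : ℕ) : Tf H G n ≫ Ti H G (n + 1) = Ti H G n := by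
  have h1 : (𝟙 _ - DerLim.shiftMap (TX H G) (Tf H G)) ≫ mu H G = 0 :=
    comp_distTriang_mor_zero₁₂ _ (htri H G)
  have h2 := congrArg (fun t => Sigma.ι (TX H G) n ≫ t) h1
  simp only [Preadditive.sub_comp, Preadditive.comp_sub, Category.id_comp, comp_zero,
    DerLim.shiftMap, Sigma.ι_desc_assoc, Category.assoc] at h2
  rw [sub_eq_zero] at h2
  rw [Ti, Ti, ← h2]

omit [H.IsHomological] in
lemma preservesNat : PreservesLimitsOfShape (Discrete ℕ) H :=
  preservesLimitsOfShape_of_equiv (Discrete.equivalence Equiv.ulift.{v, 0}) H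

lemma exists_pi : ∃ x : H.obj (op (hoc H G)), ∀ n, res H (Ti H G n) x = Tpi H G n := by
  haveI := preservesNat H
  obtain ⟨y, hy⟩ := exists_res_eq_family.{0, v} H (TX H G) (fun n => Tpi H G n)
  have h0 : res H (𝟙 _ - DerLim.shiftMap (TX H G) (Tf H G)) y = 0 := by
    apply res_ext.{0, v} H (TX H G)
    intro n
    rw [← res_comp, res_zero, Preadditive.comp_sub, Category.comp_id, DerLim.shiftMap,
      Sigma.ι_desc, res_sub_hom, res_comp, hy, hy, res_Tf, sub_self]
  obtain ⟨x, hx⟩ := exists_res_eq H _ (htri H G) y h0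
  refine ⟨x, fun n => ?_⟩
  rw [Ti, res_comp]
  have : res H (mu H G) x = y := hx
  rw [this, hy]

noncomputable def pi : H.obj (op (hoc H G)) := (exists_pi H G).choose

lemma res_Ti_pi (n : ℕ) : res H (Ti H G n) (pi H G) = Tpi H G n :=
  (exists_pi H G).choose_spec n

/-- an object is *hocolim-small* w.r.t. the tower when maps into the hocolim factor through a
stage -/
def Small (K : D) : Prop := ∀ g : K ⟶ hoc H G, ∃ (n : ℕ) (g' : K ⟶ TX H G n), g = g' ≫ Ti H G n

lemma exists_lift (k : κ) (a : H.obj (op (G k))) :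
    ∃ g : G k ⟶ hoc H G, res H g (pi H G) = a := by
  obtain ⟨g, hg⟩ := exists_lift_zero H G k a
  exact ⟨g ≫ Ti H G 0, by rw [res_comp, res_Ti_pi, hg]⟩

lemma eq_zero_of_res_eq_zero (k : κ) (hk : Small H G (G k)) (g : G k ⟶ hoc H G)
    (hg : res H g (pi H G) = 0) : g = 0 := by
  obtain ⟨n, g', rfl⟩ := hk g
  rw [res_comp, res_Ti_pi] at hg
  rw [← Tf_Ti, ← Category.assoc, comp_Tf_eq_zero H G n k g' hg, zero_comp]

end Groth.Agent.Helper2.Brown
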