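import Mathlib
import Groth.Agent.Lib.Helper2.CIAsc3
import Groth.Agent.Lib.Helper2.CIPi1
import Groth.Agent.S2842
import Groth.Agent.Lib.Helper7.GeomPBase3
import Groth.Agent.Lib.Lead.Fib1
import Groth.Prelude.Def_Found

/-!
# Locally complete intersection rings along flat maps with regular fibres (helper2)
-/

set_option autoImplicit false
set_option linter.unusedSectionVars false
set_option linter.style.haveILetI false
universe u

namespace Groth.Agent.Helper2.CIAsc

open TensorProduct IsLocalRing Groth.Agent.Lead

/-- all localizations at primes are complete intersections. -/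
def IsLCIRing (R : Type u) [CommRing R] : Prop :=
  ∀ (p : Ideal R) [p.IsPrime], Pi1.IsCompleteIntersection (Localization.AtPrime p)

theorem isLCIRing_of_ringEquiv (R R' : Type u) [CommRing R] [CommRing R'] (e : R ≃+* R')
    (hR : IsLCIRing R) : IsLCIRing R' := by
  intro p hp
  let f : Localization.AtPrime (p.comap e) ≃+* Localization.AtPrime p :=
    IsLocalization.ringEquivOfRingEquiv
      (Localization.AtPrime (p.comap e)) (Localization.AtPrime p) e (e.map_primeCompl_comap_eq p)
  exact Groth.Agent.Helper2.CIPi1.isCI_of_ringEquiv f (hR (p.comap e))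

variable {R S : Type u} [CommRing R] [CommRing S] [Algebra R S]

theorem isCI_of_fiber [IsNoetherianRing R] [IsNoetherianRing S] [Module.Flat R S]
    (p : Ideal R) [p.IsPrime] (q : Ideal (p.Fiber S)) [q.IsPrime]
    (hp : Pi1.IsCompleteIntersection (Localization.AtPrime p))
    (hq : IsRegularLocalRing (Localization.AtPrime q)) :
    Pi1.IsCompleteIntersection (Localization.AtPrime (q.comap
      (Algebra.TensorProduct.includeRight : S →ₐ[R] p.Fiber S))) := by
  set r : Ideal S := q.comap (Algebra.TensorProduct.includeRight : S →ₐ[R] p.Fiber S) with hr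
  let _ : Algebra (Localization.AtPrime p) (Localization.AtPrime r) :=
    Localization.AtPrime.algebraOfLiesOver p r
  have : IsLocalHom (algebraMap (Localization.AtPrime p) (Localization.AtPrime r)) :=
    Localization.isLocalHom_localRingHom _ _ _ _
  have e := Ideal.Fiber.localizationAlgEquivQuotient p q
  have hmap : (maximalIdeal (Localization.AtPrime p)).map
      (algebraMap (Localization.AtPrime p) (Localization.AtPrime r)) =
      p.map (algebraMap R (Localization.AtPrime r)) := by
    rw [← Localization.AtPrime.map_eq_maximalIdeal, Ideal.map_map,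
      ← IsScalarTower.algebraMap_eq]
  haveI : IsRegularLocalRing (Localization.AtPrime r ⧸
      (maximalIdeal (Localization.AtPrime p)).map
        (algebraMap (Localization.AtPrime p) (Localization.AtPrime r))) :=
    @IsRegularLocalRing.of_ringEquiv (Localization.AtPrime q) _ hq _ _
      (e.toRingEquiv.trans (Ideal.quotEquivOfEq hmap.symm))
  exact isCI_of_flat (Localization.AtPrime p) (Localization.AtPrime r) hp
    (Groth.Agent.S2842.isCI_of_isRegularLocalRing _)

theorem isCI_localization [IsNoetherianRing R] [IsNoetherianRing S] [Module.Flat R S]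
    (r : Ideal S) [r.IsPrime]
    (hp : Pi1.IsCompleteIntersection (Localization.AtPrime (r.comap (algebraMap R S))))
    (hF : IsRegularRing ((r.comap (algebraMap R S)).Fiber S)) :
    Pi1.IsCompleteIntersection (Localization.AtPrime r) := by
  set p : Ideal R := r.comap (algebraMap R S) with hpdef
  let P : PrimeSpectrum R := ⟨p, inferInstance⟩
  let r0 : PrimeSpectrum.comap (algebraMap R S) ⁻¹' {P} := ⟨⟨r, inferInstance⟩, rfl⟩
  let Q : PrimeSpectrum (p.Fiber S) := PrimeSpectrum.preimageEquivFiber R S P r0
  have hQ : (PrimeSpectrum.preimageEquivFiber R S P).symm Q = r0 :=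
    (PrimeSpectrum.preimageEquivFiber R S P).symm_apply_apply r0
  have hQr : Q.asIdeal.comap (Algebra.TensorProduct.includeRight : S →ₐ[R] p.Fiber S) = r := by
    have := congrArg (fun z => z.1.asIdeal) hQ
    exact this
  have key : ∀ (r' : Ideal S) [r'.IsPrime], r' = r →
      Pi1.IsCompleteIntersection (Localization.AtPrime r') →
      Pi1.IsCompleteIntersection (Localization.AtPrime r) := by
    intro r' _ h
    subst h
    exact id
  haveI : Q.asIdeal.IsPrime := Q.isPrime
  have hq : IsRegularLocalRing (Localization.AtPrime Q.asIdeal) :=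
    IsRegularRing.isRegularLocalRing_localization Q.asIdeal
  exact key _ hQr (isCI_of_fiber p Q.asIdeal hp hq)

theorem isLCIRing_of_flat_of_fibres [IsNoetherianRing R] [IsNoetherianRing S] [Module.Flat R S]
    (hR : IsLCIRing R)
    (hF : ∀ (p : Ideal R) [p.IsPrime], IsRegularRing (p.Fiber S)) :
    IsLCIRing S := fun r _ =>
  isCI_localization r (hR (r.comap (algebraMap R S))) (hF (r.comap (algebraMap R S)))

section Comp

variable (A B C : Type u) [CommRing A] [CommRing B] [CommRing C]
  [IsNoetherianRing A] [IsNoetherianRing B] [IsNoetherianRing C]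
  [Algebra A B] [Algebra B C] [Algebra A C] [IsScalarTower A B C] [Module.Flat B C]

/-- Complete intersection fibres are preserved by composing with a regular homomorphism. -/
theorem lci_fibres_comp (hBC : CAlg.IsRegularHom B C) (p : Ideal A) [p.IsPrime]
    (hAB : IsLCIRing (p.Fiber B)) : IsLCIRing (p.Fiber C) := by
  let eB : (B ⊗[A] p.ResidueField) ≃+* p.ResidueField ⊗[A] B :=
    (Algebra.TensorProduct.comm A B p.ResidueField).toRingEquiv
  have hGB' : IsLCIRing (B ⊗[A] p.ResidueField) := isLCIRing_of_ringEquiv _ _ eB.symm hAB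
  haveI hNB' : IsNoetherianRing (B ⊗[A] p.ResidueField) := by
    have := Groth.Agent.Lead.Fib.isNoetherianRing_fiber (R := A) (S := B) p
    exact isNoetherianRing_of_ringEquiv _ eB.symm
  let eC : ((B ⊗[A] p.ResidueField) ⊗[B] C) ≃+* p.ResidueField ⊗[A] C :=
    ((Algebra.TensorProduct.comm B (B ⊗[A] p.ResidueField) C).toRingEquiv.trans
      (Algebra.TensorProduct.cancelBaseChange A B B C p.ResidueField).toRingEquiv).trans
      (Algebra.TensorProduct.comm A C p.ResidueField).toRingEquiv
  haveI hNC' : IsNoetherianRing ((B ⊗[A] p.ResidueField) ⊗[B] C) := by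
    have := Groth.Agent.Lead.Fib.isNoetherianRing_fiber (R := A) (S := C) p
    exact isNoetherianRing_of_ringEquiv _ eC.symm
  have hC' : IsLCIRing ((B ⊗[A] p.ResidueField) ⊗[B] C) := by
    apply isLCIRing_of_flat_of_fibres (R := B ⊗[A] p.ResidueField)
      (S := (B ⊗[A] p.ResidueField) ⊗[B] C) hGB'
    intro q' _
    haveI : Algebra.EssFiniteType B q'.ResidueField :=
      Algebra.EssFiniteType.comp B (B ⊗[A] p.ResidueField) q'.ResidueField
    have h1 : IsRegularRing (q'.ResidueField ⊗[B] C) :=
      Groth.Agent.Helper7.GeomPBase.tensor_field_of_isRegularHom B C hBC q'.ResidueField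
    let e := Algebra.TensorProduct.cancelBaseChange B (B ⊗[A] p.ResidueField)
      (B ⊗[A] p.ResidueField) q'.ResidueField C
    exact @IsRegularRing.of_ringEquiv _ _ _ _ e.symm.toRingEquiv h1
  exact isLCIRing_of_ringEquiv _ _ eC hC'

end Comp

end Groth.Agent.Helper2.CIAsc
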