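import Mathlib
import Groth.Agent.Lib.Helper2.CIAsc4
import Groth.Agent.S2166

/-!
# Flat ascent with lci fibres; fibres of flat maps between regular rings are lci (helper2)
-/

set_option autoImplicit false
set_option linter.unusedSectionVars false
set_option linter.style.haveILetI false
universe u

namespace Groth.Agent.Helper2.CIAsc

open TensorProduct IsLocalRing Groth.Agent.Lead

variable {R S : Type u} [CommRing R] [CommRing S] [Algebra R S]

theorem isCI_of_fiber' [IsNoetherianRing R] [IsNoetherianRing S] [Module.Flat R S]
    (p : Ideal R) [p.IsPrime] (q : Ideal (p.Fiber S)) [q.IsPrime]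
    (hp : Pi1.IsCompleteIntersection (Localization.AtPrime p))
    (hq : Pi1.IsCompleteIntersection (Localization.AtPrime q)) :
    Pi1.IsCompleteIntersection (Localization.AtPrime (q.comap
      (Algebra.TensorProduct.includeRight : S →ₐ[R] p.Fiber S))) := by
  set r : Ideal S := q.comap (Algebra.TensorProduct.includeRight : S →ₐ[R] p.Fiber S) with hr
  let _ : Algebra (Localization.AtPrime p) (Localization.AtPrime r) :=
    Localization.AtPrime.algebraOfLiesOver p r
  have : IsLocalHom (algebraMap (Localization.AtPrime p) (Localization.AtPrime r)) :=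
    Localization.isLocalHom_localRingHom _ _ _ _
  have e := Ideal.Fiber.localizationAlgEquivQuotient p q
  have hmap : (maximalIdeal (Localization.AtPrime p)).map
      (algebraMap (Localization.AtPrime p) (Localization.AtPrime r)) =
      p.map (algebraMap R (Localization.AtPrime r)) := by
    rw [← Localization.AtPrime.map_eq_maximalIdeal, Ideal.map_map,
      ← IsScalarTower.algebraMap_eq]
  let e' : Localization.AtPrime q ≃+* (Localization.AtPrime r ⧸
      (maximalIdeal (Localization.AtPrime p)).map
        (algebraMap (Localization.AtPrime p) (Localization.AtPrime r))) :=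
    e.toRingEquiv.trans (Ideal.quotEquivOfEq hmap.symm)
  haveI : IsLocalRing (Localization.AtPrime r ⧸
      (maximalIdeal (Localization.AtPrime p)).map
        (algebraMap (Localization.AtPrime p) (Localization.AtPrime r))) := e'.isLocalRing
  exact isCI_of_flat (Localization.AtPrime p) (Localization.AtPrime r) hp
    (Groth.Agent.Helper2.CIPi1.isCI_of_ringEquiv e' hq)

theorem isCI_localization' [IsNoetherianRing R] [IsNoetherianRing S] [Module.Flat R S]
    (r : Ideal S) [r.IsPrime]
    (hp : Pi1.IsCompleteIntersection (Localization.AtPrime (r.comap (algebraMap R S))))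
    (hF : IsLCIRing ((r.comap (algebraMap R S)).Fiber S)) :
    Pi1.IsCompleteIntersection (Localization.AtPrime r) := by
  set p : Ideal R := r.comap (algebraMap R S) with hpdef
  let P : PrimeSpectrum R := ⟨p, inferInstance⟩
  let r0 : PrimeSpectrum.comap (algebraMap R S) ⁻¹' {P} := ⟨⟨r, inferInstance⟩, rfl⟩
  let Q : PrimeSpectrum (p.Fiber S) := PrimeSpectrum.preimageEquivFiber R S P r0
  have hQ : (PrimeSpectrum.preimageEquivFiber R S P).symm Q = r0 :=
    (PrimeSpectrum.preimageEquivFiber R S P).symm_apply_apply r0
  have hQr : Q.asIdeal.comap (Algebra.TensorProduct.includeRight : S →ₐ[R] p.Fiber S) = r := by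
    have := congrArg (fun z => z.1.asIdeal) hQ
    exact this
  have key : ∀ (r' : Ideal S) [r'.IsPrime], r' = r →
      Pi1.IsCompleteIntersection (Localization.AtPrime r') →
      Pi1.IsCompleteIntersection (Localization.AtPrime r) := by
    intro r' _ h
    subst h
    exact id
  haveI : Q.asIdeal.IsPrime := Q.isPrime
  exact key _ hQr (isCI_of_fiber' p Q.asIdeal hp (hF Q.asIdeal))

/-- flat ascent of the lci property with lci fibres. -/
theorem isLCIRing_of_flat_of_lci_fibres [IsNoetherianRing R] [IsNoetherianRing S] [Module.Flat R S]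
    (hR : IsLCIRing R)
    (hF : ∀ (p : Ideal R) [p.IsPrime], IsLCIRing (p.Fiber S)) :
    IsLCIRing S := fun r _ =>
  isCI_localization' r (hR (r.comap (algebraMap R S))) (hF (r.comap (algebraMap R S)))

/-- the maximal ideal of a regular local ring is generated by a regular sequence. -/
theorem exists_regular_maximalIdeal (B : Type u) [CommRing B] [IsRegularLocalRing B] :
    ∃ rs : List B, Ideal.ofList rs = maximalIdeal B ∧ RingTheory.Sequence.IsRegular B rs := by
  have hF : IsField (B ⧸ maximalIdeal B) :=
    (Ideal.Quotient.maximal_ideal_iff_isField_quotient _).mp (maximalIdeal.isMaximal B)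
  haveI : IsRegularLocalRing (B ⧸ maximalIdeal B) := by
    letI := hF.toField
    infer_instance
  exact (Groth.Agent.S2166.result (maximalIdeal B) Ideal.IsPrime.ne_top').mp
    (Groth.Agent.S2842.isCI_of_isRegularLocalRing _)

/-- The fibre rings of a flat homomorphism between regular rings are locally complete
intersections. -/
theorem isLCIRing_fiber_of_regular {P T : Type u} [CommRing P] [CommRing T] [Algebra P T]
    [IsRegularRing P] [IsRegularRing T] [Module.Flat P T] (𝔭 : Ideal P) [𝔭.IsPrime] :
    IsLCIRing (𝔭.Fiber T) := by
  intro q _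
  set r : Ideal T := q.comap (Algebra.TensorProduct.includeRight : T →ₐ[P] 𝔭.Fiber T) with hr
  let _ : Algebra (Localization.AtPrime 𝔭) (Localization.AtPrime r) :=
    Localization.AtPrime.algebraOfLiesOver 𝔭 r
  have : IsLocalHom (algebraMap (Localization.AtPrime 𝔭) (Localization.AtPrime r)) :=
    Localization.isLocalHom_localRingHom _ _ _ _
  have e := Ideal.Fiber.localizationAlgEquivQuotient 𝔭 q
  have hmap : (maximalIdeal (Localization.AtPrime 𝔭)).map
      (algebraMap (Localization.AtPrime 𝔭) (Localization.AtPrime r)) =
      𝔭.map (algebraMap P (Localization.AtPrime r)) := by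
    rw [← Localization.AtPrime.map_eq_maximalIdeal, Ideal.map_map,
      ← IsScalarTower.algebraMap_eq]
  let e' : Localization.AtPrime q ≃+* (Localization.AtPrime r ⧸
      (maximalIdeal (Localization.AtPrime 𝔭)).map
        (algebraMap (Localization.AtPrime 𝔭) (Localization.AtPrime r))) :=
    e.toRingEquiv.trans (Ideal.quotEquivOfEq hmap.symm)
  haveI : IsLocalRing (Localization.AtPrime r ⧸
      (maximalIdeal (Localization.AtPrime 𝔭)).map
        (algebraMap (Localization.AtPrime 𝔭) (Localization.AtPrime r))) := e'.isLocalRing
  obtain ⟨rs, hrs, hreg⟩ := exists_regular_maximalIdeal (Localization.AtPrime 𝔭)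
  haveI : Module.FaithfullyFlat (Localization.AtPrime 𝔭) (Localization.AtPrime r) :=
    Module.FaithfullyFlat.of_flat_of_isLocalHom
  have hreg' := hreg.of_faithfullyFlat (S := Localization.AtPrime r)
  have hne : (maximalIdeal (Localization.AtPrime 𝔭)).map
      (algebraMap (Localization.AtPrime 𝔭) (Localization.AtPrime r)) ≠ ⊤ :=
    Ideal.Quotient.nontrivial_iff.mp inferInstance
  have h := (Groth.Agent.S2166.result ((maximalIdeal (Localization.AtPrime 𝔭)).map
      (algebraMap (Localization.AtPrime 𝔭) (Localization.AtPrime r))) hne).mpr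
    ⟨_, by rw [← Ideal.map_ofList, hrs], hreg'⟩
  exact Groth.Agent.Helper2.CIPi1.isCI_of_ringEquiv e'.symm h

end Groth.Agent.Helper2.CIAsc
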