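import Mathlib

/-!
# The spectrum of `LocallyConstant T A` for profinite `T` (helper2)

`Spec (LocallyConstant T A) ≃ₜ Spec A × T`, and spectra of localizations.
-/

set_option autoImplicit false

namespace Groth.Agent.Helper2.LCSpec

open LocallyConstant Topology TopologicalSpace

variable {T : Type*} [TopologicalSpace T]
variable {A : Type*} [CommRing A]

section CharFn

theorem charFn_apply_of_mem {U : Set T} (hU : IsClopen U) {t : T} (h : t ∈ U) :
    charFn A hU t = 1 := by
  rw [coe_charFn]
  exact Set.indicator_of_mem h _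

theorem charFn_apply_of_notMem {U : Set T} (hU : IsClopen U) {t : T} (h : t ∉ U) :
    charFn A hU t = 0 := by
  rw [coe_charFn]
  exact Set.indicator_of_notMem h _

theorem charFn_mul_compl {U : Set T} (hU : IsClopen U) :
    charFn A hU * charFn A hU.compl = 0 := by
  ext t
  by_cases h : t ∈ U
  · have h' : t ∉ Uᶜ := fun hc => hc h
    simp [charFn_apply_of_mem hU h, charFn_apply_of_notMem hU.compl h']
  · simp [charFn_apply_of_notMem hU h]

theorem charFn_union {U V : Set T} (hU : IsClopen U) (hV : IsClopen V) :
    charFn A (hU.union hV) = charFn A hU + charFn A hV - charFn A hU * charFn A hV := by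
  ext t
  have e : (charFn A hU + charFn A hV - charFn A hU * charFn A hV) t =
      charFn A hU t + charFn A hV t - charFn A hU t * charFn A hV t := rfl
  rw [e]
  by_cases h : t ∈ U <;> by_cases h' : t ∈ V
  · rw [charFn_apply_of_mem hU h, charFn_apply_of_mem hV h',
      charFn_apply_of_mem (hU.union hV) (Or.inl h)]
    ring
  · rw [charFn_apply_of_mem hU h, charFn_apply_of_notMem hV h',
      charFn_apply_of_mem (hU.union hV) (Or.inl h)]
    ring
  · rw [charFn_apply_of_notMem hU h, charFn_apply_of_mem hV h',
      charFn_apply_of_mem (hU.union hV) (Or.inr h')]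
    ring
  · have : t ∉ U ∪ V := fun hc => hc.elim h h'
    rw [charFn_apply_of_notMem hU h, charFn_apply_of_notMem hV h',
      charFn_apply_of_notMem (hU.union hV) this]
    ring

theorem charFn_empty (h : IsClopen (∅ : Set T)) : charFn A h = 0 := by
  ext t
  simp [charFn_apply_of_notMem h (Set.notMem_empty t)]

theorem charFn_univ (h : IsClopen (Set.univ : Set T)) : charFn A h = 1 := by
  ext t
  simp [charFn_apply_of_mem h (Set.mem_univ t)]

theorem algebraMap_apply (a : A) (t : T) : algebraMap A (LocallyConstant T A) a t = a := rfl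

end CharFn

section Point

variable [CompactSpace T]

theorem exists_point (P : Ideal (LocallyConstant T A)) [hP : P.IsPrime] :
    ∃ t : T, ∀ (U : Set T) (hU : IsClopen U), t ∈ U → charFn A hU ∉ P := by
  by_contra hcon
  push Not at hcon
  have key : ∃ (U : Set T) (hU : IsClopen U), Set.univ ⊆ U ∧ charFn A hU ∈ P := by
    apply IsCompact.induction_on isCompact_univ
      (p := fun S => ∃ (U : Set T) (hU : IsClopen U), S ⊆ U ∧ charFn A hU ∈ P)
    · exact ⟨∅, isClopen_empty, subset_rfl, by rw [charFn_empty]; exact P.zero_mem⟩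
    · rintro s t hst ⟨U, hU, htU, hUP⟩
      exact ⟨U, hU, hst.trans htU, hUP⟩
    · rintro s t ⟨U, hU, hsU, hUP⟩ ⟨V, hV, htV, hVP⟩
      refine ⟨U ∪ V, hU.union hV, Set.union_subset_union hsU htV, ?_⟩
      rw [charFn_union hU hV]
      exact P.sub_mem (P.add_mem hUP hVP) (P.mul_mem_left _ hVP)
    · intro t _
      obtain ⟨U, hU, htU, hUP⟩ := hcon t
      exact ⟨U, mem_nhdsWithin_of_mem_nhds (hU.isOpen.mem_nhds htU), U, hU, subset_rfl, hUP⟩
  obtain ⟨U, hU, hsub, hUP⟩ := key
  have hUu : U = Set.univ := Set.univ_subset_iff.mp hsub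
  subst hUu
  rw [charFn_univ] at hUP
  exact hP.ne_top ((Ideal.eq_top_iff_one P).mpr hUP)

theorem mem_iff_of_point {P : Ideal (LocallyConstant T A)} [hP : P.IsPrime] {t : T}
    (ht : ∀ (U : Set T) (hU : IsClopen U), t ∈ U → charFn A hU ∉ P) (U : Set T)
    (hU : IsClopen U) : t ∈ U ↔ charFn A hU ∉ P := by
  refine ⟨ht U hU, fun h => ?_⟩
  by_contra htU
  have h2 := ht Uᶜ hU.compl htU
  have : charFn A hU * charFn A hU.compl ∈ P := by
    rw [charFn_mul_compl]
    exact P.zero_mem
  rcases hP.mem_or_mem this with h' | h'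
  exacts [h h', h2 h']

variable [T2Space T] [TotallyDisconnectedSpace T]

theorem point_unique {P : Ideal (LocallyConstant T A)} [hP : P.IsPrime] {t t' : T}
    (ht : ∀ (U : Set T) (hU : IsClopen U), t ∈ U → charFn A hU ∉ P)
    (ht' : ∀ (U : Set T) (hU : IsClopen U), t' ∈ U → charFn A hU ∉ P) : t = t' := by
  by_contra hne
  obtain ⟨U, hU, htU, ht'U⟩ := exists_isClopen_of_totally_separated hne
  exact ht'U ((mem_iff_of_point ht' U hU).mpr (ht U hU htU))

/-- the point of `T` attached to a prime of `LocallyConstant T A` -/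
noncomputable def tau (P : PrimeSpectrum (LocallyConstant T A)) : T :=
  (exists_point P.asIdeal).choose

theorem tau_spec (P : PrimeSpectrum (LocallyConstant T A)) (U : Set T) (hU : IsClopen U) :
    tau P ∈ U ↔ charFn A hU ∉ P.asIdeal :=
  mem_iff_of_point (exists_point P.asIdeal).choose_spec U hU

theorem tau_eq {P : PrimeSpectrum (LocallyConstant T A)} {t : T}
    (ht : ∀ (U : Set T) (hU : IsClopen U), t ∈ U → charFn A hU ∉ P.asIdeal) : tau P = t :=
  point_unique (exists_point P.asIdeal).choose_spec ht

theorem mem_iff_const (P : PrimeSpectrum (LocallyConstant T A)) (f : LocallyConstant T A) :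
    f ∈ P.asIdeal ↔ algebraMap A (LocallyConstant T A) (f (tau P)) ∈ P.asIdeal := by
  set t := tau P with ht
  set a := f t with ha
  let U : Set T := f ⁻¹' {a}
  have hU : IsClopen U := f.isLocallyConstant.isClopen_fiber a
  have htU : t ∈ U := rfl
  have h1 : charFn A hU ∉ P.asIdeal := (tau_spec P U hU).mp htU
  have h2 : (f - algebraMap A (LocallyConstant T A) a) * charFn A hU = 0 := by
    ext x
    by_cases hx : x ∈ U
    · have hfx : f x = a := hx
      change (f x - algebraMap A (LocallyConstant T A) a x) * charFn A hU x = 0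
      rw [algebraMap_apply, hfx, sub_self, zero_mul]
    · change (f x - algebraMap A (LocallyConstant T A) a x) * charFn A hU x = 0
      rw [charFn_apply_of_notMem hU hx, mul_zero]
  have h3 : f - algebraMap A (LocallyConstant T A) a ∈ P.asIdeal := by
    have : (f - algebraMap A (LocallyConstant T A) a) * charFn A hU ∈ P.asIdeal := by
      rw [h2]
      exact P.asIdeal.zero_mem
    exact (P.isPrime.mem_or_mem this).resolve_right h1
  constructor
  · intro hf
    have := P.asIdeal.sub_mem hf h3
    simpa using this
  · intro ha'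
    have := P.asIdeal.add_mem h3 ha'
    simpa using this

theorem continuous_tau : Continuous (tau : PrimeSpectrum (LocallyConstant T A) → T) := by
  apply (isTopologicalBasis_isClopen (X := T)).continuous_iff.2
  intro U hU
  have : tau ⁻¹' U = (PrimeSpectrum.basicOpen (charFn A hU) : Set (PrimeSpectrum (LocallyConstant T A))) := by
    ext P
    exact tau_spec P U hU
  rw [this]
  exact (PrimeSpectrum.basicOpen _).2

/-- the prime attached to a pair -/
noncomputable def phi (p : PrimeSpectrum A) (t : T) : PrimeSpectrum (LocallyConstant T A) :=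
  PrimeSpectrum.comap (evalRingHom t) p

theorem mem_phi {p : PrimeSpectrum A} {t : T} {f : LocallyConstant T A} :
    f ∈ (phi p t).asIdeal ↔ f t ∈ p.asIdeal := Iff.rfl

theorem tau_phi (p : PrimeSpectrum A) (t : T) : tau (phi p t) = t :=
  tau_eq fun U hU htU => by
    rw [mem_phi, charFn_apply_of_mem hU htU]
    exact p.isPrime.one_notMem

theorem comap_phi (p : PrimeSpectrum A) (t : T) :
    PrimeSpectrum.comap (algebraMap A (LocallyConstant T A)) (phi p t) = p := by
  ext a
  change algebraMap A (LocallyConstant T A) a ∈ (phi p t).asIdeal ↔ _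
  rw [mem_phi, algebraMap_apply]

theorem phi_tau (P : PrimeSpectrum (LocallyConstant T A)) :
    phi (PrimeSpectrum.comap (algebraMap A (LocallyConstant T A)) P) (tau P) = P := by
  ext f
  rw [mem_phi]
  exact (mem_iff_const P f).symm

/-- `Spec (LocallyConstant T A) ≃ₜ Spec A × T` -/
noncomputable def homeo : PrimeSpectrum (LocallyConstant T A) ≃ₜ PrimeSpectrum A × T where
  toFun P := (PrimeSpectrum.comap (algebraMap A (LocallyConstant T A)) P, tau P)
  invFun x := phi x.1 x.2
  left_inv := phi_tau
  right_inv x := Prod.ext (comap_phi x.1 x.2) (tau_phi x.1 x.2)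
  continuous_toFun := (PrimeSpectrum.continuous_comap _).prodMk continuous_tau
  continuous_invFun := by
    apply PrimeSpectrum.isTopologicalBasis_basic_opens.continuous_iff.2
    rintro _ ⟨f, rfl⟩
    rw [isOpen_iff_forall_mem_open]
    intro x hx
    have hx' : f x.2 ∉ x.1.asIdeal := hx
    let U : Set T := f ⁻¹' {f x.2}
    have hU : IsClopen U := f.isLocallyConstant.isClopen_fiber _
    refine ⟨(PrimeSpectrum.basicOpen (f x.2) : Set (PrimeSpectrum A)) ×ˢ U, ?_,
      (PrimeSpectrum.basicOpen (f x.2)).2.prod hU.isOpen, ⟨hx', rfl⟩⟩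
    rintro ⟨p, t⟩ ⟨hp, ht⟩
    change f t ∉ p.asIdeal
    have : f t = f x.2 := ht
    rw [this]
    exact hp

theorem homeo_apply (P : PrimeSpectrum (LocallyConstant T A)) :
    homeo P = (PrimeSpectrum.comap (algebraMap A (LocallyConstant T A)) P, tau P) := rfl

theorem homeo_symm_apply (x : PrimeSpectrum A × T) : homeo.symm x = phi x.1 x.2 := rfl

end Point

section Loc

variable [CompactSpace T] [T2Space T] [TotallyDisconnectedSpace T]
variable (S : Submonoid (LocallyConstant T A))

/-- the map `Spec (S⁻¹ LC(T,A)) → Spec A × T` -/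
noncomputable def locMap (y : PrimeSpectrum (Localization S)) : PrimeSpectrum A × T :=
  (PrimeSpectrum.comap (algebraMap A (Localization S)) y,
    tau (PrimeSpectrum.comap (algebraMap (LocallyConstant T A) (Localization S)) y))

theorem locMap_eq (y : PrimeSpectrum (Localization S)) :
    locMap S y = homeo (PrimeSpectrum.comap (algebraMap (LocallyConstant T A) (Localization S)) y) := by
  rw [homeo_apply, locMap]
  congr 1

theorem isEmbedding_locMap : IsEmbedding (locMap S) := by
  have : locMap S = homeo ∘ PrimeSpectrum.comap (algebraMap (LocallyConstant T A) (Localization S)) :=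
    funext (locMap_eq S)
  rw [this]
  exact homeo.isEmbedding.comp (PrimeSpectrum.localization_comap_isEmbedding (Localization S) S)

theorem range_locMap : Set.range (locMap S) =
    {x : PrimeSpectrum A × T | ∀ s ∈ S, s x.2 ∉ x.1.asIdeal} := by
  have : locMap S = homeo ∘ PrimeSpectrum.comap (algebraMap (LocallyConstant T A) (Localization S)) :=
    funext (locMap_eq S)
  rw [this, Set.range_comp, PrimeSpectrum.localization_comap_range (Localization S) S]
  ext x
  constructor
  · rintro ⟨P, hP, rfl⟩ s hs hmem
    have hP' : Disjoint (S : Set (LocallyConstant T A)) P.asIdeal := hP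
    rw [Set.disjoint_left] at hP'
    apply hP' hs
    rw [SetLike.mem_coe, mem_iff_const]
    exact hmem
  · intro hx
    refine ⟨phi x.1 x.2, ?_, ?_⟩
    · change Disjoint (S : Set (LocallyConstant T A)) (phi x.1 x.2).asIdeal
      rw [Set.disjoint_left]
      intro s hs hmem
      exact hx s hs (mem_phi.mp hmem)
    · exact homeo.apply_symm_apply x

end Loc

end Groth.Agent.Helper2.LCSpec
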