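import Mathlib
import Groth.Prelude.Def_PBC
import Groth.Agent.Lib.Helper2.LCSpec1

/-!
# Identifying local rings (helper2)

* composition of maps identifying local rings
* `A → S⁻¹ LC(T, A)` identifies local rings (`T` profinite)
-/

set_option autoImplicit false

universe u

namespace Groth.Agent.Helper2.IdLoc

open LocallyConstant Topology TopologicalSpace
open Groth.Agent.Helper2.LCSpec

theorem bij_congr {A B : Type*} [CommRing A] [CommRing B] (f f' : A →+* B) (hf : f = f')
    (I I' : Ideal A) [I.IsPrime] [I'.IsPrime] (J : Ideal B) [J.IsPrime]
    (h : I = J.comap f) (h' : I' = J.comap f')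
    (hb : Function.Bijective (Localization.localRingHom I J f h)) :
    Function.Bijective (Localization.localRingHom I' J f' h') := by
  subst hf
  have e : I = I' := h.trans h'.symm
  subst e
  exact hb

theorem identifies_comp (A B B' : Type u) [CommRing A] [CommRing B] [CommRing B']
    [Algebra A B] [Algebra B B'] [Algebra A B'] [IsScalarTower A B B']
    (h1 : EtPBC.IdentifiesLocalRings A B) (h2 : EtPBC.IdentifiesLocalRings B B') :
    EtPBC.IdentifiesLocalRings A B' := by
  intro y
  have hb1 := h1 (PrimeSpectrum.comap (algebraMap B B') y)
  have hb2 := h2 y
  have hcomp := Localization.localRingHom_comp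
    (I := ((y.asIdeal.comap (algebraMap B B')).comap (algebraMap A B)))
    (y.asIdeal.comap (algebraMap B B')) y.asIdeal (algebraMap A B) rfl (algebraMap B B') rfl
  have hbij : Function.Bijective (Localization.localRingHom
      ((y.asIdeal.comap (algebraMap B B')).comap (algebraMap A B)) y.asIdeal
      ((algebraMap B B').comp (algebraMap A B)) (by rw [Ideal.comap_comap])) := by
    rw [hcomp]
    exact hb2.comp hb1
  exact bij_congr _ _ (IsScalarTower.algebraMap_eq A B B').symm _ _ _ _ rfl hbij

section Loc

variable {T : Type u} [TopologicalSpace T] [CompactSpace T] [T2Space T] [TotallyDisconnectedSpace T]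
variable {A : Type u} [CommRing A] (S : Submonoid (LocallyConstant T A))

/-- the point of `T` under a prime of the localization -/
noncomputable def pt (y : PrimeSpectrum (Localization S)) : T :=
  tau (PrimeSpectrum.comap (algebraMap (LocallyConstant T A) (Localization S)) y)

theorem key_iff (y : PrimeSpectrum (Localization S)) (F : LocallyConstant T A) :
    algebraMap (LocallyConstant T A) (Localization S) F ∈ y.asIdeal ↔
      F (pt S y) ∈ y.asIdeal.comap (algebraMap A (Localization S)) := by
  have h := mem_iff_const
    (PrimeSpectrum.comap (algebraMap (LocallyConstant T A) (Localization S)) y) F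
  change algebraMap (LocallyConstant T A) (Localization S) F ∈ y.asIdeal ↔
    algebraMap (LocallyConstant T A) (Localization S)
      (algebraMap A (LocallyConstant T A) (F (pt S y))) ∈ y.asIdeal at h
  rw [h, Ideal.mem_comap, IsScalarTower.algebraMap_apply A (LocallyConstant T A) (Localization S)]

theorem apply_pt_notMem (y : PrimeSpectrum (Localization S)) {s : LocallyConstant T A}
    (hs : s ∈ S) : s (pt S y) ∉ y.asIdeal.comap (algebraMap A (Localization S)) := by
  rw [← key_iff]
  intro hmem
  have hu : IsUnit (algebraMap (LocallyConstant T A) (Localization S) s) :=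
    IsLocalization.map_units (Localization S) (⟨s, hs⟩ : S)
  exact y.isPrime.ne_top (Ideal.eq_top_of_isUnit_mem _ hmem hu)

/-- the composite `LC(T,A) → S⁻¹ LC(T,A) → (S⁻¹ LC(T,A))_q` -/
noncomputable def gmap (y : PrimeSpectrum (Localization S)) :
    LocallyConstant T A →+* Localization.AtPrime y.asIdeal :=
  (algebraMap (Localization S) (Localization.AtPrime y.asIdeal)).comp
    (algebraMap (LocallyConstant T A) (Localization S))

theorem isUnit_gmap (y : PrimeSpectrum (Localization S)) {F : LocallyConstant T A}
    (hF : F (pt S y) ∉ y.asIdeal.comap (algebraMap A (Localization S))) :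
    IsUnit (gmap S y F) := by
  rw [← key_iff] at hF
  exact IsLocalization.map_units (Localization.AtPrime y.asIdeal)
    (⟨algebraMap (LocallyConstant T A) (Localization S) F, hF⟩ : y.asIdeal.primeCompl)

theorem gmap_eq_zero (y : PrimeSpectrum (Localization S)) {G : LocallyConstant T A}
    (hG : G (pt S y) = 0) : gmap S y G = 0 := by
  let U : Set T := G ⁻¹' {0}
  have hU : IsClopen U := G.isLocallyConstant.isClopen_fiber 0
  have htU : pt S y ∈ U := hG
  have h1 : (charFn A hU) (pt S y) ∉ y.asIdeal.comap (algebraMap A (Localization S)) := by
    rw [charFn_apply_of_mem hU htU]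
    intro h
    exact (y.asIdeal.comap (algebraMap A (Localization S))).ne_top_iff_one.mp
      (Ideal.IsPrime.ne_top inferInstance) h
  have hu := isUnit_gmap S y h1
  have h2 : G * charFn A hU = 0 := by
    ext x
    by_cases hx : x ∈ U
    · have : G x = 0 := hx
      simp [this]
    · simp [charFn_apply_of_notMem hU hx]
  have h3 : gmap S y G * gmap S y (charFn A hU) = 0 := by
    rw [← map_mul, h2, map_zero]
  exact (hu.mul_left_eq_zero).mp h3

theorem identifies_localization : EtPBC.IdentifiesLocalRings A (Localization S) := by
  intro y
  set q := y.asIdeal with hq
  set p : Ideal A := q.comap (algebraMap A (Localization S)) with hp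
  set t := pt S y with ht
  constructor
  · rw [injective_iff_map_eq_zero]
    intro x hx
    obtain ⟨a, u, rfl⟩ := IsLocalization.exists_mk'_eq p.primeCompl x
    rw [Localization.localRingHom_mk', IsLocalization.mk'_eq_zero_iff] at hx
    obtain ⟨c, hc⟩ := hx
    obtain ⟨F, s, hFs⟩ := IsLocalization.exists_mk'_eq S (c : Localization S)
    have hspec : (c : Localization S) * algebraMap (LocallyConstant T A) (Localization S) s =
        algebraMap (LocallyConstant T A) (Localization S) F := by
      rw [← hFs]
      exact IsLocalization.mk'_spec _ _ _
    have hFt : F t ∉ p := by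
      rw [← key_iff]
      intro hmem
      rw [← hspec] at hmem
      rcases y.isPrime.mem_or_mem hmem with h | h
      · exact c.2 h
      · have hu : IsUnit (algebraMap (LocallyConstant T A) (Localization S) s) :=
          IsLocalization.map_units (Localization S) s
        exact y.isPrime.ne_top (Ideal.eq_top_of_isUnit_mem _ h hu)
    have h0 : algebraMap (LocallyConstant T A) (Localization S)
        (F * algebraMap A (LocallyConstant T A) a) = 0 := by
      rw [map_mul, ← hspec, ← IsScalarTower.algebraMap_apply A (LocallyConstant T A)
        (Localization S)]
      calc (c : Localization S) * algebraMap (LocallyConstant T A) (Localization S) s *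
            algebraMap A (Localization S) a
          = algebraMap (LocallyConstant T A) (Localization S) s *
            ((c : Localization S) * algebraMap A (Localization S) a) := by ring
        _ = 0 := by rw [hc, mul_zero]
    rw [IsLocalization.map_eq_zero_iff S (Localization S)] at h0
    obtain ⟨m, hm⟩ := h0
    have hmt : (m : LocallyConstant T A) t ∉ p := apply_pt_notMem S y m.2
    have hev : (m : LocallyConstant T A) t * (F t * a) = 0 := by
      have := congrArg (fun G : LocallyConstant T A => G t) hm
      simpa using this
    rw [IsLocalization.mk'_eq_zero_iff]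
    refine ⟨⟨(m : LocallyConstant T A) t * F t, ?_⟩, ?_⟩
    · exact Submonoid.mul_mem _ hmt hFt
    · change (m : LocallyConstant T A) t * F t * a = 0
      rw [mul_assoc]
      exact hev
  · intro z
    obtain ⟨b, b', rfl⟩ := IsLocalization.exists_mk'_eq q.primeCompl z
    obtain ⟨F, s, rfl⟩ := IsLocalization.exists_mk'_eq S b
    obtain ⟨F', s', hb'⟩ := IsLocalization.exists_mk'_eq S (b' : Localization S)
    have hspec : IsLocalization.mk' (Localization S) F s *
        algebraMap (LocallyConstant T A) (Localization S) s =
        algebraMap (LocallyConstant T A) (Localization S) F := IsLocalization.mk'_spec _ _ _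
    have hspec' : (b' : Localization S) * algebraMap (LocallyConstant T A) (Localization S) s' =
        algebraMap (LocallyConstant T A) (Localization S) F' := by
      rw [← hb']
      exact IsLocalization.mk'_spec _ _ _
    have hF't : F' t ∉ p := by
      rw [← key_iff]
      intro hmem
      rw [← hspec'] at hmem
      rcases y.isPrime.mem_or_mem hmem with h | h
      · exact b'.2 h
      · have hu : IsUnit (algebraMap (LocallyConstant T A) (Localization S) s') :=
          IsLocalization.map_units (Localization S) s'
        exact y.isPrime.ne_top (Ideal.eq_top_of_isUnit_mem _ h hu)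
    have hst : (s : LocallyConstant T A) t ∉ p := apply_pt_notMem S y s.2
    have hs't : (s' : LocallyConstant T A) t ∉ p := apply_pt_notMem S y s'.2
    set z := IsLocalization.mk' (Localization.AtPrime q) (IsLocalization.mk' (Localization S) F s) b'
      with hz
    -- z * g F' * g s = g F * g s'
    have hzrel : z * gmap S y F' * gmap S y s = gmap S y F * gmap S y s' := by
      have e1 : z * algebraMap (Localization S) (Localization.AtPrime q) (b' : Localization S) =
          algebraMap (Localization S) (Localization.AtPrime q)
            (IsLocalization.mk' (Localization S) F s) := IsLocalization.mk'_spec _ _ _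
      simp only [gmap, RingHom.comp_apply]
      rw [← hspec', ← hspec, map_mul, map_mul, ← e1]
      ring
    set a : A := F t * (s' : LocallyConstant T A) t with ha
    set u : A := F' t * (s : LocallyConstant T A) t with hu
    have hup : u ∈ p.primeCompl := Submonoid.mul_mem _ hF't hst
    refine ⟨IsLocalization.mk' (Localization.AtPrime p) a ⟨u, hup⟩, ?_⟩
    set w := Localization.localRingHom p q (algebraMap A (Localization S)) rfl
      (IsLocalization.mk' (Localization.AtPrime p) a ⟨u, hup⟩) with hw
    have hwrel : w * gmap S y (algebraMap A (LocallyConstant T A) u) =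
        gmap S y (algebraMap A (LocallyConstant T A) a) := by
      have e1 : IsLocalization.mk' (Localization.AtPrime p) a ⟨u, hup⟩ *
          algebraMap A (Localization.AtPrime p) u = algebraMap A (Localization.AtPrime p) a :=
        IsLocalization.mk'_spec _ _ _
      have e2 := congrArg (Localization.localRingHom p q (algebraMap A (Localization S)) rfl) e1
      rw [map_mul, Localization.localRingHom_to_map, Localization.localRingHom_to_map] at e2
      simp only [gmap, RingHom.comp_apply]
      rw [← IsScalarTower.algebraMap_apply A (LocallyConstant T A) (Localization S),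
        ← IsScalarTower.algebraMap_apply A (LocallyConstant T A) (Localization S)]
      exact e2
    have hu1 : IsUnit (gmap S y (algebraMap A (LocallyConstant T A) u)) :=
      isUnit_gmap S y (F := algebraMap A (LocallyConstant T A) u) hup
    have hu2 : IsUnit (gmap S y F') := isUnit_gmap S y hF't
    have hu3 : IsUnit (gmap S y s) := isUnit_gmap S y hst
    have hG : gmap S y (algebraMap A (LocallyConstant T A) a * F' * s -
        algebraMap A (LocallyConstant T A) u * F * s') = 0 := by
      apply gmap_eq_zero
      change a * F' t * (s : LocallyConstant T A) t - u * F t * (s' : LocallyConstant T A) t = 0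
      rw [ha, hu]
      ring
    have hG' : gmap S y (algebraMap A (LocallyConstant T A) a) * gmap S y F' * gmap S y s =
        gmap S y (algebraMap A (LocallyConstant T A) u) * gmap S y F * gmap S y s' := by
      rw [← map_mul, ← map_mul, ← map_mul, ← map_mul, ← sub_eq_zero]
      rw [map_sub] at hG
      exact hG
    have hfin : w * (gmap S y (algebraMap A (LocallyConstant T A) u) * gmap S y F' * gmap S y s) =
        z * (gmap S y (algebraMap A (LocallyConstant T A) u) * gmap S y F' * gmap S y s) := by
      calc w * (gmap S y (algebraMap A (LocallyConstant T A) u) * gmap S y F' * gmap S y s)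
          = (w * gmap S y (algebraMap A (LocallyConstant T A) u)) * gmap S y F' * gmap S y s := by
            ring
        _ = gmap S y (algebraMap A (LocallyConstant T A) a) * gmap S y F' * gmap S y s := by
            rw [hwrel]
        _ = gmap S y (algebraMap A (LocallyConstant T A) u) * gmap S y F * gmap S y s' := hG'
        _ = gmap S y (algebraMap A (LocallyConstant T A) u) * (gmap S y F * gmap S y s') := by
            ring
        _ = gmap S y (algebraMap A (LocallyConstant T A) u) *
            (z * gmap S y F' * gmap S y s) := by rw [hzrel]
        _ = z * (gmap S y (algebraMap A (LocallyConstant T A) u) * gmap S y F' * gmap S y s) := by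
            ring
    exact ((hu1.mul hu2).mul hu3).mul_left_injective hfin

end Loc

end Groth.Agent.Helper2.IdLoc
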