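import Mathlib
import Groth.Prelude.Def_PBC
import Groth.Agent.Lib.Helper29.UnderAcc

/-!
# Factorisation criterion for ind-Zariski algebras (helper2)
-/

namespace Groth.Agent.Helper2.IndZar

open CategoryTheory CategoryTheory.Limits

universe u

theorem finitePresentation_of_isLocalIso (A W : Type*) [CommRing A] [CommRing W] [Algebra A W]
    [Algebra.IsLocalIso A W] : Algebra.FinitePresentation A W := by
  apply Algebra.FinitePresentation.of_span_eq_top_target
    {g : W | Algebra.IsStandardOpenImmersion A (Localization.Away g)}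
    (Algebra.IsLocalIso.span_isStandardOpenImmersion_eq_top A W)
  intro g hg
  obtain ⟨r, hr⟩ := hg.exists_away
  exact IsLocalization.Away.finitePresentation r

variable (A : Type u) [CommRing A]

/-- the local-isomorphism property on `Under A` -/
def zarP : ObjectProperty (Under (CommRingCat.of A)) :=
  fun X => letI := X.hom.hom.toAlgebra; Algebra.IsLocalIso A X.right

theorem zarP_le : zarP A ≤ ObjectProperty.isFinitelyPresentable.{u} _ := by
  intro X hX
  apply CommRingCat.isFinitelyPresentable_under
  let _ := X.hom.hom.toAlgebra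
  have : Algebra.IsLocalIso A X.right := hX
  exact finitePresentation_of_isLocalIso A X.right

variable {A}

theorem ind_of_isIndZariski {B : Type u} [CommRing B] [Algebra A B]
    (h : EtPBC.IsIndZariski A B) :
    ObjectProperty.ind.{u} (zarP A) (Under.mk (CommRingCat.ofHom (algebraMap A B))) := by
  obtain ⟨J, i1, i2, D, c, hc, hD, ⟨e⟩⟩ := h
  exact ⟨J, i1, i2, ({ diag := D, ι := c.ι, isColimit := hc } : ColimitPresentation J c.pt).ofIso e,
    fun j => hD j⟩

theorem isIndZariski_of_ind {B : Type u} [CommRing B] [Algebra A B]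
    (h : ObjectProperty.ind.{u} (zarP A) (Under.mk (CommRingCat.ofHom (algebraMap A B)))) :
    EtPBC.IsIndZariski A B := by
  obtain ⟨J, i1, i2, pres, hp⟩ := h
  exact ⟨J, i1, i2, pres.diag, pres.cocone, pres.isColimit, fun j => hp j, ⟨Iso.refl _⟩⟩

/-- every map from a finitely presented algebra factors through a local isomorphism -/
def HasFactZ (A C : Type u) [CommRing A] [CommRing C] [Algebra A C] : Prop :=
  ∀ (Y : Type u) [CommRing Y] [Algebra A Y] [Algebra.FinitePresentation A Y] (g : Y →ₐ[A] C),
    ∃ (W : Type u) (_ : CommRing W) (_ : Algebra A W) (_ : Algebra.IsLocalIso A W)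
      (u : Y →ₐ[A] W) (v : W →ₐ[A] C), v.comp u = g

theorem isIndZariski_of_hasFactZ {C : Type u} [CommRing C] [Algebra A C] (h : HasFactZ A C) :
    EtPBC.IsIndZariski A C := by
  apply isIndZariski_of_ind
  rw [ObjectProperty.ind_iff_exists (zarP_le A)]
  intro Z g hZ
  let _ : Algebra A Z.right := Z.hom.hom.toAlgebra
  have : Algebra.FinitePresentation A Z.right :=
    Groth.Agent.Helper29.UnderAcc.finitePresentation_of_isFinitelyPresentable
      (CommRingCat.of A) Z hZ
  let gA : Z.right →ₐ[A] C := { g.right.hom with commutes' := fun r => congr($(Under.w g).hom r) }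
  obtain ⟨W, iW1, iW2, hW, u, v, huv⟩ := h Z.right gA
  refine ⟨Under.mk (CommRingCat.ofHom (algebraMap A W)),
    Under.homMk (CommRingCat.ofHom u.toRingHom) ?_,
    Under.homMk (CommRingCat.ofHom v.toRingHom) ?_, ?_, ?_⟩
  · ext r
    exact u.commutes r
  · ext r
    exact v.commutes r
  · ext z
    exact congr($(huv) z)
  · have e : (CommRingCat.Hom.hom (Under.mk (CommRingCat.ofHom (algebraMap A W))).hom).toAlgebra =
        iW2 := Algebra.algebra_ext _ _ (fun r => rfl)
    have key : ∀ (inst' : Algebra A W), inst' = iW2 →
        @Algebra.IsLocalIso A W _ _ inst' := by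
      intro i' hi'
      rw [hi']
      exact hW
    exact key _ e

theorem hasFactZ_of_isIndZariski {C : Type u} [CommRing C] [Algebra A C]
    (h : EtPBC.IsIndZariski A C) : HasFactZ A C := by
  have h' := ind_of_isIndZariski h
  rw [ObjectProperty.ind_iff_exists (zarP_le A)] at h'
  intro Y _ _ _ g
  have hZ : IsFinitelyPresentable.{u} (Under.mk (CommRingCat.ofHom (algebraMap A Y))) := by
    apply CommRingCat.isFinitelyPresentable_under
    exact (RingHom.finitePresentation_algebraMap (A := A) (B := Y)).2 inferInstance
  obtain ⟨W, u, v, huv, hW⟩ := h' (Z := Under.mk (CommRingCat.ofHom (algebraMap A Y)))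
    (Under.homMk (CommRingCat.ofHom g.toRingHom) (by ext r; exact g.commutes r))
  let _ : Algebra A W.right := W.hom.hom.toAlgebra
  have hW' : Algebra.IsLocalIso A W.right := hW
  refine ⟨W.right, inferInstance, inferInstance, hW',
    { u.right.hom with commutes' := fun r => congr($(Under.w u).hom r) },
    { v.right.hom with commutes' := fun r => congr($(Under.w v).hom r) }, ?_⟩
  ext y
  exact congr($(huv).right.hom y)

end Groth.Agent.Helper2.IndZar
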