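import Mathlib
import Groth.Prelude.Def_PBC
import Groth.Agent.Lib.Helper2.IndZar1
import Groth.Agent.Lib.Helper2.IdLoc1

/-!
# Ind-Zariski maps identify local rings (helper2)
-/

set_option autoImplicit false

universe u

namespace Groth.Agent.Helper2.IdLoc

open Groth.Agent.Helper2.IndZar

/-- elementwise form of "identifies local rings" -/
def ElemId (A C : Type*) [CommRing A] [CommRing C] [Algebra A C] : Prop :=
  ∀ (q : Ideal C) [q.IsPrime],
    (∀ c s : C, s ∉ q → ∃ (a u : A) (t : C), algebraMap A C u ∉ q ∧ t ∉ q ∧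
      t * (algebraMap A C u * c - algebraMap A C a * s) = 0) ∧
    (∀ a : A, (∃ t : C, t ∉ q ∧ t * algebraMap A C a = 0) →
      ∃ u : A, algebraMap A C u ∉ q ∧ u * a = 0)

theorem identifies_of_elemId {A C : Type u} [CommRing A] [CommRing C] [Algebra A C]
    (h : ElemId A C) : EtPBC.IdentifiesLocalRings A C := by
  intro y
  obtain ⟨hs, hi⟩ := h y.asIdeal
  constructor
  · rw [injective_iff_map_eq_zero]
    intro x hx
    obtain ⟨a, u, rfl⟩ :=
      IsLocalization.exists_mk'_eq (y.asIdeal.comap (algebraMap A C)).primeCompl x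
    rw [Localization.localRingHom_mk', IsLocalization.mk'_eq_zero_iff] at hx
    obtain ⟨t, ht⟩ := hx
    obtain ⟨u₀, hu₀, hu₀a⟩ := hi a ⟨t.1, t.2, ht⟩
    rw [IsLocalization.mk'_eq_zero_iff]
    exact ⟨⟨u₀, hu₀⟩, hu₀a⟩
  · intro z
    obtain ⟨c, s, rfl⟩ := IsLocalization.exists_mk'_eq y.asIdeal.primeCompl z
    obtain ⟨a, u, t, hu, ht, hrel⟩ := hs c s.1 s.2
    refine ⟨IsLocalization.mk' _ a
      (⟨u, hu⟩ : (y.asIdeal.comap (algebraMap A C)).primeCompl), ?_⟩
    rw [Localization.localRingHom_mk', IsLocalization.eq]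
    refine ⟨⟨t, ht⟩, ?_⟩
    change t * ((s : C) * algebraMap A C a) = t * (algebraMap A C u * c)
    rw [mul_sub, sub_eq_zero] at hrel
    rw [hrel]
    ring

section LocalIso

variable {A W : Type*} [CommRing A] [CommRing W] [Algebra A W]

theorem elemId_of_isLocalIso [Algebra.IsLocalIso A W] : ElemId A W := by
  intro q hq
  obtain ⟨g, hg, hstd⟩ := Algebra.IsLocalIso.exists_notMem_isStandardOpenImmersion (R := A) q
  obtain ⟨r, hr⟩ := Algebra.IsStandardOpenImmersion.exists_away A (Localization.Away g)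
  have hgpow : ∀ m : ℕ, g ^ m ∉ q := fun m hm => hg (hq.mem_of_pow_mem m hm)
  -- F1
  have F1 : ∀ w : W, ∃ (a : A) (k m : ℕ),
      g ^ m * (algebraMap A W r ^ k * w - algebraMap A W a) = 0 := by
    intro w
    obtain ⟨⟨a, c⟩, h⟩ := IsLocalization.surj (Submonoid.powers r)
      (algebraMap W (Localization.Away g) w)
    obtain ⟨k, hk⟩ := (Submonoid.mem_powers_iff _ _).mp c.2
    change algebraMap W (Localization.Away g) w * algebraMap A (Localization.Away g) (c : A) =
      algebraMap A (Localization.Away g) a at h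
    rw [← hk, IsScalarTower.algebraMap_apply A W (Localization.Away g),
      IsScalarTower.algebraMap_apply A W (Localization.Away g), ← map_mul,
      IsLocalization.eq_iff_exists (Submonoid.powers g) (Localization.Away g)] at h
    obtain ⟨d, hd⟩ := h
    obtain ⟨m, hm⟩ := (Submonoid.mem_powers_iff _ _).mp d.2
    refine ⟨a, k, m, ?_⟩
    rw [hm, mul_sub, sub_eq_zero, ← hd, map_pow]
    ring
  -- F2
  have F2 : algebraMap A W r ∉ q := by
    intro hmem
    have hdisj : Disjoint (Submonoid.powers g : Set W) (q : Set W) := by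
      rw [Set.disjoint_left]
      rintro x ⟨m, rfl⟩ hx
      exact hgpow m hx
    have hprime := IsLocalization.isPrime_of_isPrime_disjoint (Submonoid.powers g)
      (Localization.Away g) q hq hdisj
    have hu : IsUnit (algebraMap A (Localization.Away g) r) :=
      IsLocalization.map_units (Localization.Away g)
        (⟨r, Submonoid.mem_powers r⟩ : Submonoid.powers r)
    rw [IsScalarTower.algebraMap_apply A W (Localization.Away g)] at hu
    exact hprime.ne_top (Ideal.eq_top_of_isUnit_mem _ (Ideal.mem_map_of_mem _ hmem) hu)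
  have F2pow : ∀ k : ℕ, algebraMap A W r ^ k ∉ q := fun k hk => F2 (hq.mem_of_pow_mem k hk)
  -- F3
  have F3 : ∀ b : A, algebraMap A (Localization.Away g) b = 0 → ∃ n : ℕ, r ^ n * b = 0 := by
    intro b hb
    rw [IsLocalization.map_eq_zero_iff (Submonoid.powers r) (Localization.Away g)] at hb
    obtain ⟨d, hd⟩ := hb
    obtain ⟨n, hn⟩ := (Submonoid.mem_powers_iff _ _).mp d.2
    exact ⟨n, by rw [hn]; exact hd⟩
  -- auxiliary: from F1 relation, alg a ∉ q when w ∉ q
  have aux : ∀ (w : W) (a : A) (k m : ℕ), w ∉ q →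
      g ^ m * (algebraMap A W r ^ k * w - algebraMap A W a) = 0 → algebraMap A W a ∉ q := by
    intro w a k m hw h ha
    have h1 : algebraMap A W r ^ k * w - algebraMap A W a ∈ q := by
      have : g ^ m * (algebraMap A W r ^ k * w - algebraMap A W a) ∈ q := by
        rw [h]; exact q.zero_mem
      exact (hq.mem_or_mem this).resolve_left (hgpow m)
    have h2 : algebraMap A W r ^ k * w ∈ q := by
      have := q.add_mem h1 ha
      rwa [sub_add_cancel] at this
    rcases hq.mem_or_mem h2 with h3 | h3
    exacts [F2pow k h3, hw h3]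
  constructor
  · intro c s hs
    obtain ⟨a₁, k₁, m₁, h₁⟩ := F1 c
    obtain ⟨a₂, k₂, m₂, h₂⟩ := F1 s
    have ha₂ := aux s a₂ k₂ m₂ hs h₂
    refine ⟨a₁ * r ^ k₂, a₂ * r ^ k₁, g ^ (m₁ + m₂), ?_, hgpow _, ?_⟩
    · rw [map_mul, map_pow]
      intro hmem
      rcases hq.mem_or_mem hmem with h | h
      exacts [ha₂ h, F2pow k₁ h]
    · rw [map_mul, map_mul, map_pow, map_pow, pow_add]
      linear_combination (g ^ m₂ * algebraMap A W a₂) * h₁ - (g ^ m₁ * algebraMap A W a₁) * h₂
  · rintro a ⟨t, ht, hta⟩
    obtain ⟨b, k, m, hb⟩ := F1 t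
    have hbq := aux t b k m ht hb
    have h0 : algebraMap A (Localization.Away g) (b * a) = 0 := by
      rw [IsScalarTower.algebraMap_apply A W (Localization.Away g),
        IsLocalization.map_eq_zero_iff (Submonoid.powers g) (Localization.Away g)]
      refine ⟨⟨g ^ m, m, rfl⟩, ?_⟩
      change g ^ m * algebraMap A W (b * a) = 0
      rw [map_mul]
      linear_combination (-(algebraMap A W a)) * hb + (g ^ m * algebraMap A W r ^ k) * hta
    obtain ⟨n, hn⟩ := F3 (b * a) h0
    refine ⟨r ^ n * b, ?_, ?_⟩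
    · rw [map_mul, map_pow]
      intro hmem
      rcases hq.mem_or_mem hmem with h | h
      exacts [F2pow n h, hbq h]
    · rw [mul_assoc]
      exact hn

end LocalIso

theorem elemId_of_hasFactZ {A C : Type u} [CommRing A] [CommRing C] [Algebra A C]
    (h : HasFactZ A C) : ElemId A C := by
  intro q hq
  constructor
  · intro c s hs
    let g : MvPolynomial (Fin 2) A →ₐ[A] C := MvPolynomial.aeval ![c, s]
    obtain ⟨W, _, _, _, u, v, huv⟩ := h (MvPolynomial (Fin 2) A) g
    have hv0 : v (u (MvPolynomial.X 0)) = c := by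
      have := AlgHom.congr_fun huv (MvPolynomial.X 0)
      simpa [g] using this
    have hv1 : v (u (MvPolynomial.X 1)) = s := by
      have := AlgHom.congr_fun huv (MvPolynomial.X 1)
      simpa [g] using this
    haveI : (q.comap v.toRingHom).IsPrime := Ideal.comap_isPrime _ _
    obtain ⟨hsW, -⟩ := elemId_of_isLocalIso (A := A) (W := W) (q.comap v.toRingHom)
    have hs' : u (MvPolynomial.X 1) ∉ q.comap v.toRingHom := by
      intro hmem
      apply hs
      rw [← hv1]
      exact hmem
    obtain ⟨a, u₀, t, hu₀, ht, hrel⟩ := hsW (u (MvPolynomial.X 0)) (u (MvPolynomial.X 1)) hs'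
    refine ⟨a, u₀, v t, ?_, ht, ?_⟩
    · intro hmem
      apply hu₀
      change v (algebraMap A W u₀) ∈ q
      rw [v.commutes]
      exact hmem
    · have := congrArg v hrel
      rw [map_mul, map_sub, map_mul, map_mul, v.commutes, v.commutes, hv0, hv1, map_zero] at this
      exact this
  · rintro a ⟨t, ht, hta⟩
    let J : Ideal (MvPolynomial (Fin 1) A) :=
      Ideal.span {MvPolynomial.C a * MvPolynomial.X 0}
    have hJfg : J.FG := ⟨{MvPolynomial.C a * MvPolynomial.X 0}, by simp [J]⟩
    haveI : Algebra.FinitePresentation A (MvPolynomial (Fin 1) A ⧸ J) :=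
      Algebra.FinitePresentation.quotient hJfg
    let g₀ : MvPolynomial (Fin 1) A →ₐ[A] C := MvPolynomial.aeval (fun _ => t)
    have hker : ∀ x ∈ J, g₀ x = 0 := by
      intro x hx
      have hle : J ≤ RingHom.ker g₀.toRingHom := by
        rw [Ideal.span_le, Set.singleton_subset_iff]
        change g₀ (MvPolynomial.C a * MvPolynomial.X 0) = 0
        simp only [g₀, map_mul, MvPolynomial.aeval_C, MvPolynomial.aeval_X]
        rw [mul_comm]
        exact hta
      exact hle hx
    let g : (MvPolynomial (Fin 1) A ⧸ J) →ₐ[A] C := Ideal.Quotient.liftₐ J g₀ hker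
    obtain ⟨W, _, _, _, u, v, huv⟩ := h (MvPolynomial (Fin 1) A ⧸ J) g
    set w : W := u (Ideal.Quotient.mk J (MvPolynomial.X 0)) with hw
    have hvw : v w = t := by
      have := AlgHom.congr_fun huv (Ideal.Quotient.mk J (MvPolynomial.X 0))
      rw [AlgHom.comp_apply] at this
      rw [hw, this]
      change g₀ (MvPolynomial.X 0) = t
      simp [g₀]
    have hwa : w * algebraMap A W a = 0 := by
      have h1 : Ideal.Quotient.mk J (MvPolynomial.X 0) *
          algebraMap A (MvPolynomial (Fin 1) A ⧸ J) a = 0 := by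
        have : algebraMap A (MvPolynomial (Fin 1) A ⧸ J) a =
            Ideal.Quotient.mk J (MvPolynomial.C a) := rfl
        rw [this, ← map_mul, Ideal.Quotient.eq_zero_iff_mem, mul_comm]
        exact Ideal.subset_span rfl
      have := congrArg u h1
      rw [map_mul, u.commutes, map_zero] at this
      exact this
    haveI : (q.comap v.toRingHom).IsPrime := Ideal.comap_isPrime _ _
    obtain ⟨-, hiW⟩ := elemId_of_isLocalIso (A := A) (W := W) (q.comap v.toRingHom)
    have hw' : w ∉ q.comap v.toRingHom := by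
      intro hmem
      apply ht
      rw [← hvw]
      exact hmem
    obtain ⟨u₀, hu₀, hu₀a⟩ := hiW a ⟨w, hw', hwa⟩
    refine ⟨u₀, ?_, hu₀a⟩
    intro hmem
    apply hu₀
    change v (algebraMap A W u₀) ∈ q
    rw [v.commutes]
    exact hmem

theorem identifies_of_isIndZariski {A C : Type u} [CommRing A] [CommRing C] [Algebra A C]
    (h : EtPBC.IsIndZariski A C) : EtPBC.IdentifiesLocalRings A C :=
  identifies_of_elemId (elemId_of_hasFactZ (hasFactZ_of_isIndZariski h))

end Groth.Agent.Helper2.IdLoc
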