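import Mathlib
import Groth.Prelude.Def_PBC
import Groth.Prelude.Def_ProEtW
import Groth.Agent.Lib.Helper29.IndEtFact

/-!
# Algebraic residue field extensions: elementwise form, ind-étale maps, base change
-/

namespace Groth.Agent.Helper2.WC

universe u

open Polynomial

section AlgAt

variable {A B : Type u} [CommRing A] [CommRing B] [Algebra A B]

/-- `b` is algebraic modulo `q` over `A` -/
def AlgAt (A : Type u) {B : Type u} [CommRing A] [CommRing B] [Algebra A B] (q : Ideal B)
    (b : B) : Prop :=
  ∃ P : Polynomial A, (∃ n, algebraMap A B (P.coeff n) ∉ q) ∧ aeval b P ∈ q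

theorem eval₂_mk (q : Ideal B) (b : B) (P : Polynomial A) :
    eval₂ (algebraMap (A ⧸ q.comap (algebraMap A B)) (B ⧸ q)) (Ideal.Quotient.mk q b)
      (P.map (Ideal.Quotient.mk (q.comap (algebraMap A B)))) =
      Ideal.Quotient.mk q (aeval b P) := by
  rw [eval₂_map, aeval_def, hom_eval₂]
  rfl

theorem isAlgebraic_mk_iff (q : Ideal B) (b : B) :
    IsAlgebraic (A ⧸ q.comap (algebraMap A B)) (Ideal.Quotient.mk q b) ↔ AlgAt A q b := by
  constructor
  · rintro ⟨P', hP', hev⟩
    obtain ⟨P, rfl⟩ := map_surjective (Ideal.Quotient.mk (q.comap (algebraMap A B)))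
      Ideal.Quotient.mk_surjective P'
    rw [aeval_def, eval₂_mk] at hev
    refine ⟨P, ?_, Ideal.Quotient.eq_zero_iff_mem.1 hev⟩
    by_contra hcon
    apply hP'
    ext n
    rw [coeff_map, coeff_zero]
    refine Ideal.Quotient.eq_zero_iff_mem.2 ?_
    by_contra hn
    exact hcon ⟨n, hn⟩
  · rintro ⟨P, ⟨n, hn⟩, hev⟩
    refine ⟨P.map (Ideal.Quotient.mk (q.comap (algebraMap A B))), ?_, ?_⟩
    · intro h0
      have := congrArg (fun Q => Q.coeff n) h0
      simp only [coeff_map, coeff_zero] at this
      have h2 : P.coeff n ∈ q.comap (algebraMap A B) := Ideal.Quotient.eq_zero_iff_mem.1 this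
      exact hn h2
    · rw [aeval_def, eval₂_mk]
      exact Ideal.Quotient.eq_zero_iff_mem.2 hev

theorem algRes_iff : ProEtW.AlgebraicResidueExtensions A B ↔
    ∀ (q : Ideal B) [q.IsPrime] (b : B), AlgAt A q b := by
  constructor
  · intro h q _ b
    exact (isAlgebraic_mk_iff q b).1 ((h q).isAlgebraic _)
  · intro h q _
    refine ⟨fun x => ?_⟩
    obtain ⟨b, rfl⟩ := Ideal.Quotient.mk_surjective x
    exact (isAlgebraic_mk_iff q b).2 (h q b)

theorem algRes_of_quasiFinite [Algebra.QuasiFinite A B] :
    ProEtW.AlgebraicResidueExtensions A B := by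
  intro q _
  let p : Ideal A := q.under A
  letI := Localization.AtPrime.algebraOfLiesOver p q
  haveI : Module.Finite p.ResidueField q.ResidueField := inferInstance
  haveI : Algebra.IsAlgebraic p.ResidueField q.ResidueField := Algebra.IsAlgebraic.of_finite _ _
  letI : Algebra (A ⧸ p) q.ResidueField :=
    ((algebraMap (B ⧸ q) q.ResidueField).comp (algebraMap (A ⧸ p) (B ⧸ q))).toAlgebra
  haveI : IsScalarTower (A ⧸ p) (B ⧸ q) q.ResidueField := .of_algebraMap_eq' rfl
  haveI : IsScalarTower (A ⧸ p) p.ResidueField q.ResidueField := by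
    refine .of_algebraMap_eq fun x ↦ ?_
    obtain ⟨x, rfl⟩ := Ideal.Quotient.mk_surjective x
    simp [RingHom.algebraMap_toAlgebra, ← IsScalarTower.algebraMap_apply]
  haveI : Algebra.IsAlgebraic (A ⧸ p) q.ResidueField := .trans _ p.ResidueField _
  refine ⟨fun x => ?_⟩
  have h1 : IsAlgebraic (A ⧸ p) (algebraMap (B ⧸ q) q.ResidueField x) :=
    Algebra.IsAlgebraic.isAlgebraic _
  exact (isAlgebraic_algebraMap_iff (Ideal.injective_algebraMap_quotient_residueField q)).1 h1

/-- ind-étale maps induce algebraic residue field extensions -/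
theorem algRes_of_isIndEtale (h : EtPBC.IsIndEtale A B) :
    ProEtW.AlgebraicResidueExtensions A B := by
  rw [algRes_iff]
  intro q _ b
  obtain ⟨W, _, _, hW, u, v, huv⟩ :=
    Groth.Agent.Helper29.IndEtFact.hasFact_of_isIndEtale A B h (Polynomial A) (aeval b)
  have hvw : v (u X) = b := by
    have := congr($huv X)
    simpa using this
  haveI : (q.comap v).IsPrime := Ideal.comap_isPrime _ _
  obtain ⟨P, ⟨n, hn⟩, hev⟩ := (algRes_iff.1 (algRes_of_quasiFinite (A := A) (B := W)))
    (q.comap v) (u X)
  refine ⟨P, ⟨n, ?_⟩, ?_⟩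
  · intro hmem
    apply hn
    rw [Ideal.mem_comap, AlgHom.commutes]
    exact hmem
  · rw [Ideal.mem_comap, ← aeval_algHom_apply, hvw] at hev
    exact hev

end AlgAt

section BaseChange

variable {A B C T : Type u} [CommRing A] [CommRing B] [CommRing C] [CommRing T]
  [Algebra A B] [Algebra A C] [Algebra C T] [Algebra B T] [Algebra A T]
  [IsScalarTower A C T] [IsScalarTower A B T]

/-- algebraic residue extensions are stable under base change (generation form) -/
theorem algRes_of_span (h : ProEtW.AlgebraicResidueExtensions A B)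
    (hspan : ∀ t : T, t ∈ Submodule.span C (Set.range (algebraMap B T))) :
    ProEtW.AlgebraicResidueExtensions C T := by
  intro Q _
  let 𝔄 := Subalgebra.algebraicClosure (C ⧸ Q.comap (algebraMap C T)) (T ⧸ Q)
  have key : ∀ t : T, Ideal.Quotient.mk Q t ∈ 𝔄 := by
    intro t
    refine Submodule.span_induction ?_ ?_ ?_ ?_ (hspan t)
    · rintro _ ⟨b, rfl⟩
      change IsAlgebraic _ _
      rw [isAlgebraic_mk_iff]
      haveI : (Q.comap (algebraMap B T)).IsPrime := Ideal.comap_isPrime _ _
      obtain ⟨P, ⟨n, hn⟩, hev⟩ := algRes_iff.1 h (Q.comap (algebraMap B T)) b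
      refine ⟨P.map (algebraMap A C), ⟨n, ?_⟩, ?_⟩
      · rw [coeff_map, ← IsScalarTower.algebraMap_apply A C T,
          IsScalarTower.algebraMap_apply A B T]
        exact hn
      · rw [aeval_map_algebraMap, aeval_algebraMap_apply]
        exact hev
    · rw [map_zero]; exact 𝔄.zero_mem
    · intro x y _ _ hx hy
      rw [map_add]; exact 𝔄.add_mem hx hy
    · intro c x _ hx
      have : Ideal.Quotient.mk Q (c • x) =
          (Ideal.Quotient.mk (Q.comap (algebraMap C T)) c) • Ideal.Quotient.mk Q x := by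
        rw [Algebra.smul_def, map_mul, Algebra.smul_def]
        rfl
      rw [this]
      exact 𝔄.smul_mem hx _
  refine ⟨fun x => ?_⟩
  obtain ⟨t, rfl⟩ := Ideal.Quotient.mk_surjective x
  exact key t

end BaseChange

end Groth.Agent.Helper2.WC
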