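import Mathlib

/-!
# Weakly étale algebras: localizations and binary products (helper2)
-/

set_option autoImplicit false

namespace Groth.Agent.Helper2.WEt

open TensorProduct

variable {R : Type*} [CommRing R]

/-- A localization is an epimorphism of rings. -/
theorem isEpi_of_isLocalization (S : Submonoid R) (B : Type*) [CommRing B] [Algebra R B]
    [IsLocalization S B] : Algebra.IsEpi R B := by
  rw [Algebra.isEpi_iff_forall_one_tmul_eq]
  intro b
  obtain ⟨⟨a, s⟩, h⟩ := IsLocalization.surj S b
  obtain ⟨u, hu⟩ := IsLocalization.map_units B s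
  have h' : b * (u : B) = algebraMap R B a := by rw [hu]; exact h
  have hb : b = a • (↑u⁻¹ : B) := by
    rw [Algebra.smul_def, ← h', mul_assoc, Units.mul_inv, mul_one]
  have h1 : (1 : B) = (s : R) • (↑u⁻¹ : B) := by
    rw [Algebra.smul_def, ← hu, Units.mul_inv]
  have h2 : (s : R) • b = a • (1 : B) := by
    rw [Algebra.smul_def, Algebra.smul_def, mul_one, ← hu, mul_comm, h']
  calc (1 : B) ⊗ₜ[R] b = ((s : R) • (↑u⁻¹ : B)) ⊗ₜ[R] b := by rw [← h1]
    _ = (↑u⁻¹ : B) ⊗ₜ[R] ((s : R) • b) := by rw [smul_tmul]
    _ = (↑u⁻¹ : B) ⊗ₜ[R] (a • (1 : B)) := by rw [h2]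
    _ = (a • (↑u⁻¹ : B)) ⊗ₜ[R] (1 : B) := by rw [smul_tmul]
    _ = b ⊗ₜ[R] 1 := by rw [← hb]

/-- For an epimorphism the multiplication map is bijective. -/
theorem lmul'_bijective_of_isEpi (B : Type*) [CommRing B] [Algebra R B] [Algebra.IsEpi R B] :
    Function.Bijective (Algebra.TensorProduct.lmul' R (S := B)) := by
  refine ⟨?_, fun b => ⟨b ⊗ₜ 1, by simp⟩⟩
  intro x y hxy
  apply Algebra.IsEpi.injective_lift_mul (R := R) (A := B)
  exact hxy

/-- A localization is weakly étale. -/
theorem weaklyEtale_of_isLocalization (S : Submonoid R) (B : Type*) [CommRing B] [Algebra R B]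
    [IsLocalization S B] : Algebra.WeaklyEtale R B where
  flat := IsLocalization.flat B S
  flat_lmul' := by
    haveI := isEpi_of_isLocalization S B
    exact RingHom.Flat.of_bijective (lmul'_bijective_of_isEpi B)

/-- a binary product of flat modules is flat -/
theorem flat_prod_module {Q X Y : Type*} [CommRing Q] [AddCommGroup X] [AddCommGroup Y]
    [Module Q X] [Module Q Y] [Module.Flat Q X] [Module.Flat Q Y] : Module.Flat Q (X × Y) := by
  rw [Module.Flat.iff_lTensor_injective']
  intro I
  have hX := Module.Flat.lTensor_preserves_injective_linearMap (M := X) I.subtype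
    Subtype.val_injective
  have hY := Module.Flat.lTensor_preserves_injective_linearMap (M := Y) I.subtype
    Subtype.val_injective
  have hcomm : (TensorProduct.prodLeft Q Q X Y Q).toLinearMap ∘ₗ (I.subtype.lTensor (X × Y)) =
      (LinearMap.prodMap (I.subtype.lTensor X) (I.subtype.lTensor Y)) ∘ₗ
        (TensorProduct.prodLeft Q Q X Y I).toLinearMap := by
    apply TensorProduct.ext'
    rintro ⟨x, y⟩ i
    simp
  have hinj : Function.Injective ((TensorProduct.prodLeft Q Q X Y Q).toLinearMap ∘ₗ
      (I.subtype.lTensor (X × Y))) := by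
    rw [hcomm]
    exact (Function.Injective.prodMap hX hY).comp (TensorProduct.prodLeft Q Q X Y I).injective
  rw [LinearMap.coe_comp] at hinj
  exact Function.Injective.of_comp hinj


/-- the first projection of a product of rings is flat -/
theorem flat_fst (X Y : Type*) [CommRing X] [CommRing Y] : (RingHom.fst X Y).Flat := by
  algebraize [RingHom.fst X Y]
  have hloc : IsLocalization.Away ((1, 0) : X × Y) X := by
    apply IsLocalization.away_of_isIdempotentElem
    · show ((1, 0) : X × Y) * (1, 0) = (1, 0)
      simp
    · ext ⟨x, y⟩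
      rw [RingHom.mem_ker, Ideal.mem_span_singleton']
      constructor
      · intro h
        have hx : x = 0 := h
        exact ⟨(0, y), by ext <;> simp [hx]⟩
      · rintro ⟨⟨a, b⟩, hab⟩
        have := congrArg Prod.fst hab
        show x = 0
        simpa using this.symm
    · exact fun x => ⟨(x, 0), rfl⟩
  exact IsLocalization.flat X (Submonoid.powers ((1, 0) : X × Y))

/-- the second projection of a product of rings is flat -/
theorem flat_snd (X Y : Type*) [CommRing X] [CommRing Y] : (RingHom.snd X Y).Flat := by
  algebraize [RingHom.snd X Y]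
  have hloc : IsLocalization.Away ((0, 1) : X × Y) Y := by
    apply IsLocalization.away_of_isIdempotentElem
    · show ((0, 1) : X × Y) * (0, 1) = (0, 1)
      simp
    · ext ⟨x, y⟩
      rw [RingHom.mem_ker, Ideal.mem_span_singleton']
      constructor
      · intro h
        have hy : y = 0 := h
        exact ⟨(x, 0), by ext <;> simp [hy]⟩
      · rintro ⟨⟨a, b⟩, hab⟩
        have := congrArg Prod.snd hab
        show y = 0
        simpa using this.symm
    · exact fun y => ⟨(0, y), rfl⟩
  exact IsLocalization.flat Y (Submonoid.powers ((0, 1) : X × Y))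

/-- a ring map to a product is flat if both components are -/
theorem flat_prod {Q X Y : Type*} [CommRing Q] [CommRing X] [CommRing Y] (m : Q →+* X × Y)
    (hX : ((RingHom.fst X Y).comp m).Flat) (hY : ((RingHom.snd X Y).comp m).Flat) : m.Flat := by
  letI mX : Module Q X := Module.compHom X ((RingHom.fst X Y).comp m)
  letI mY : Module Q Y := Module.compHom Y ((RingHom.snd X Y).comp m)
  have hX' : Module.Flat Q X := hX
  have hY' : Module.Flat Q Y := hY
  have hP : Module.Flat Q (X × Y) := flat_prod_module
  have heq : (Prod.instModule : Module Q (X × Y)) = m.toAlgebra.toModule := by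
    apply Module.ext'
    intro q p
    rfl
  show @Module.Flat Q (X × Y) _ _ m.toAlgebra.toModule
  rw [← heq]
  exact hP

/-- a binary product of weakly étale algebras is weakly étale -/
theorem weaklyEtale_prod (X Y : Type*) [CommRing X] [CommRing Y] [Algebra R X] [Algebra R Y]
    [Algebra.WeaklyEtale R X] [Algebra.WeaklyEtale R Y] : Algebra.WeaklyEtale R (X × Y) where
  flat := flat_prod_module
  flat_lmul' := by
    apply flat_prod
    · have h1 : (RingHom.fst X Y).comp (Algebra.TensorProduct.lmul' R (S := X × Y)).toRingHom =
          (Algebra.TensorProduct.lmul' R (S := X)).toRingHom.comp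
            (Algebra.TensorProduct.map (AlgHom.fst R X Y) (AlgHom.fst R X Y)).toRingHom := by
        have hA : (AlgHom.fst R X Y).comp (Algebra.TensorProduct.lmul' R (S := X × Y)) =
            (Algebra.TensorProduct.lmul' R (S := X)).comp
              (Algebra.TensorProduct.map (AlgHom.fst R X Y) (AlgHom.fst R X Y)) := by
          ext <;> simp
        exact RingHom.ext fun z => DFunLike.congr_fun hA z
      rw [h1]
      exact RingHom.Flat.comp
        (RingHom.Flat.tensorProductMap (R := R) (S := R) (f := AlgHom.fst R X Y)
          (g := AlgHom.fst R X Y) (flat_fst X Y) (flat_fst X Y))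
        (Algebra.WeaklyEtale.flat_lmul' R X)
    · have h1 : (RingHom.snd X Y).comp (Algebra.TensorProduct.lmul' R (S := X × Y)).toRingHom =
          (Algebra.TensorProduct.lmul' R (S := Y)).toRingHom.comp
            (Algebra.TensorProduct.map (AlgHom.snd R X Y) (AlgHom.snd R X Y)).toRingHom := by
        have hA : (AlgHom.snd R X Y).comp (Algebra.TensorProduct.lmul' R (S := X × Y)) =
            (Algebra.TensorProduct.lmul' R (S := Y)).comp
              (Algebra.TensorProduct.map (AlgHom.snd R X Y) (AlgHom.snd R X Y)) := by
          ext <;> simp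
        exact RingHom.ext fun z => DFunLike.congr_fun hA z
      rw [h1]
      exact RingHom.Flat.comp
        (RingHom.Flat.tensorProductMap (R := R) (S := R) (f := AlgHom.snd R X Y)
          (g := AlgHom.snd R X Y) (flat_snd X Y) (flat_snd X Y))
        (Algebra.WeaklyEtale.flat_lmul' R Y)

end Groth.Agent.Helper2.WEt
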