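import Mathlib
import Groth.Agent.S0427
import Groth.Agent.Lib.Helper2.IdLoc2
import Groth.Agent.Lib.Helper2.WC2
import Groth.Agent.Lib.Helper2.WEt1
import Groth.Agent.Lib.Helper3.WEResidue
import Groth.Agent.Lib.Helper3.DiagFlat

/-!
# Consequences of Olivier's theorem: weakly étale maps between suitable w-local rings identify
local rings
-/

namespace Groth.Agent.Helper2.Oli

universe u

open TensorProduct IsLocalRing

section AlgRes

variable {A B : Type u} [CommRing A] [CommRing B] [Algebra A B]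

/-- weakly étale maps induce (separable) algebraic residue field extensions -/
theorem algRes_of_weaklyEtale [Algebra.WeaklyEtale A B] :
    ProEtW.AlgebraicResidueExtensions A B := by
  intro q _
  let p : Ideal A := q.under A
  letI := Localization.AtPrime.algebraOfLiesOver p q
  haveI : Algebra.IsSeparable p.ResidueField q.ResidueField :=
    Groth.Agent.Helper3.WEResidue.residueField_isSeparable A B p q
  haveI : Algebra.IsAlgebraic p.ResidueField q.ResidueField := inferInstance
  letI : Algebra (A ⧸ p) q.ResidueField :=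
    ((algebraMap (B ⧸ q) q.ResidueField).comp (algebraMap (A ⧸ p) (B ⧸ q))).toAlgebra
  haveI : IsScalarTower (A ⧸ p) (B ⧸ q) q.ResidueField := .of_algebraMap_eq' rfl
  haveI : IsScalarTower (A ⧸ p) p.ResidueField q.ResidueField := by
    refine .of_algebraMap_eq fun x ↦ ?_
    obtain ⟨x, rfl⟩ := Ideal.Quotient.mk_surjective x
    simp [RingHom.algebraMap_toAlgebra, ← IsScalarTower.algebraMap_apply]
  haveI : Algebra.IsAlgebraic (A ⧸ p) q.ResidueField := .trans _ p.ResidueField _
  refine ⟨fun x => ?_⟩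
  have h1 : IsAlgebraic (A ⧸ p) (algebraMap (B ⧸ q) q.ResidueField x) :=
    Algebra.IsAlgebraic.isAlgebraic _
  exact (isAlgebraic_algebraMap_iff (Ideal.injective_algebraMap_quotient_residueField q)).1 h1

end AlgRes

section ElemIdAt

variable {A C : Type u} [CommRing A] [CommRing C] [Algebra A C]

/-- elementwise form of "identifies local rings" at one prime -/
def ElemIdAt (A : Type u) {C : Type u} [CommRing A] [CommRing C] [Algebra A C] (q : Ideal C) :
    Prop :=
  (∀ c s : C, s ∉ q → ∃ (a u : A) (t : C), algebraMap A C u ∉ q ∧ t ∉ q ∧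
      t * (algebraMap A C u * c - algebraMap A C a * s) = 0) ∧
    (∀ a : A, (∃ t : C, t ∉ q ∧ t * algebraMap A C a = 0) →
      ∃ u : A, algebraMap A C u ∉ q ∧ u * a = 0)

theorem elemId_of_forall (h : ∀ (q : Ideal C) [q.IsPrime], ElemIdAt A q) :
    Groth.Agent.Helper2.IdLoc.ElemId A C := fun q _ => h q

theorem elemIdAt_of_bijective (q : Ideal C) [q.IsPrime]
    (h : Function.Bijective
      (Localization.localRingHom (q.comap (algebraMap A C)) q (algebraMap A C) rfl)) :
    ElemIdAt A q := by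
  constructor
  · intro c s hs
    obtain ⟨x, hx⟩ := h.2 (IsLocalization.mk' (Localization.AtPrime q) c
      (⟨s, hs⟩ : q.primeCompl))
    obtain ⟨a, u, rfl⟩ :=
      IsLocalization.exists_mk'_eq (q.comap (algebraMap A C)).primeCompl x
    rw [Localization.localRingHom_mk', IsLocalization.eq] at hx
    obtain ⟨t, ht⟩ := hx
    refine ⟨a, u.1, t.1, u.2, t.2, ?_⟩
    change (t : C) * (s * algebraMap A C a) = t * (algebraMap A C u * c) at ht
    rw [mul_sub, sub_eq_zero, ← ht]
    ring
  · rintro a ⟨t, ht, hta⟩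
    have h0 : Localization.localRingHom (q.comap (algebraMap A C)) q (algebraMap A C) rfl
        (algebraMap A _ a) = 0 := by
      rw [Localization.localRingHom_to_map]
      rw [IsLocalization.map_eq_zero_iff q.primeCompl]
      exact ⟨⟨t, ht⟩, hta⟩
    have h1 := h.1 (h0.trans (map_zero _).symm)
    rw [IsLocalization.map_eq_zero_iff (q.comap (algebraMap A C)).primeCompl] at h1
    obtain ⟨u, hu⟩ := h1
    exact ⟨u.1, u.2, hu⟩

theorem elemIdAt_of_le {q q' : Ideal C} [q.IsPrime] [q'.IsPrime] (hle : q ≤ q')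
    (h : ElemIdAt A q') : ElemIdAt A q := by
  obtain ⟨hS, hI⟩ := h
  have one_notMem : (1 : C) ∉ q' := fun h1 => (Ideal.IsPrime.ne_top ‹_›) ((Ideal.eq_top_iff_one _).mpr h1)
  -- numerators of elements outside `q` are outside `q`
  have hnum : ∀ (s : C), s ∉ q → ∀ (a u : A) (t : C), algebraMap A C u ∉ q' → t ∉ q' →
      t * (algebraMap A C u * s - algebraMap A C a * 1) = 0 → algebraMap A C a ∉ q := by
    intro s hs a u t hu ht hrel ha
    rw [mul_sub, sub_eq_zero, mul_one] at hrel
    have h1 : t * (algebraMap A C u * s) ∈ q := by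
      rw [hrel]; exact Ideal.mul_mem_left _ _ ha
    rcases (Ideal.IsPrime.mem_or_mem ‹q.IsPrime› h1) with h2 | h2
    · exact ht (hle h2)
    · rcases (Ideal.IsPrime.mem_or_mem ‹q.IsPrime› h2) with h3 | h3
      · exact hu (hle h3)
      · exact hs h3
  constructor
  · intro c s hs
    obtain ⟨a₁, u₁, t₁, hu₁, ht₁, h₁⟩ := hS c 1 one_notMem
    obtain ⟨a₂, u₂, t₂, hu₂, ht₂, h₂⟩ := hS s 1 one_notMem
    have ha₂ := hnum s hs a₂ u₂ t₂ hu₂ ht₂ h₂
    refine ⟨a₁ * u₂, u₁ * a₂, t₁ * t₂, ?_, ?_, ?_⟩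
    · rw [map_mul]
      exact fun hm => (Ideal.IsPrime.mem_or_mem ‹q.IsPrime› hm).elim (fun h => hu₁ (hle h)) ha₂
    · exact fun hm => (Ideal.IsPrime.mem_or_mem ‹q.IsPrime› hm).elim (fun h => ht₁ (hle h))
        (fun h => ht₂ (hle h))
    · rw [map_mul, map_mul]
      rw [mul_one] at h₁ h₂
      linear_combination (t₂ * algebraMap A C a₂) * h₁ - (t₁ * algebraMap A C a₁) * h₂
  · rintro a ⟨t, ht, hta⟩
    obtain ⟨a₃, u₃, t₃, hu₃, ht₃, h₃⟩ := hS t 1 one_notMem
    have ha₃ := hnum t ht a₃ u₃ t₃ hu₃ ht₃ h₃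
    obtain ⟨u, hu, hua⟩ := hI (a₃ * a) ⟨t₃, ht₃, by
      rw [map_mul]
      rw [mul_one] at h₃
      linear_combination (-(algebraMap A C a)) * h₃ + (t₃ * algebraMap A C u₃) * hta⟩
    refine ⟨u * a₃, ?_, by rw [mul_assoc]; exact hua⟩
    rw [map_mul]
    exact fun hm => (Ideal.IsPrime.mem_or_mem ‹q.IsPrime› hm).elim (fun h => hu (hle h)) ha₃

end ElemIdAt

end Groth.Agent.Helper2.Oli
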