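import Mathlib
import Groth.Agent.Lib.Helper2.Oli4
import Groth.Prelude.Def_EtBase

/-!
# Weakly étale maps with strictly henselian source local rings at closed points identify local rings
-/

namespace Groth.Agent.Helper2.Oli

universe u

open TensorProduct IsLocalRing

section Loc

variable {C D : Type u} [CommRing C] [CommRing D] [Algebra C D] [Algebra.WeaklyEtale C D]

/-- Olivier's theorem applied to the local rings of a weakly étale map. -/
theorem bijective_localRingHom_of_strictlyHenselian (q : Ideal D) [q.IsPrime]
    (h : EtCoh.IsStrictlyHenselianLocalRing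
      (Localization.AtPrime (q.comap (algebraMap C D)))) :
    Function.Bijective
      (Localization.localRingHom (q.comap (algebraMap C D)) q (algebraMap C D) rfl) := by
  let p : Ideal C := q.comap (algebraMap C D)
  let Cp := Localization.AtPrime p
  let Dq := Localization.AtPrime q
  obtain ⟨hH, hS⟩ := h
  letI : Algebra Cp Dq := (Localization.localRingHom p q (algebraMap C D) rfl).toAlgebra
  haveI : IsLocalHom (algebraMap Cp Dq) :=
    Localization.isLocalHom_localRingHom p q (algebraMap C D) rfl
  haveI : IsScalarTower C Cp Dq := IsScalarTower.of_algebraMap_eq (fun c => by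
    change _ = Localization.localRingHom p q (algebraMap C D) rfl (algebraMap C Cp c)
    rw [Localization.localRingHom_to_map, ← IsScalarTower.algebraMap_apply])
  haveI : Algebra.WeaklyEtale D Dq :=
    Groth.Agent.Helper2.WEt.weaklyEtale_of_isLocalization q.primeCompl Dq
  haveI : Algebra.WeaklyEtale C Dq := Algebra.WeaklyEtale.trans C D Dq
  haveI : Algebra.WeaklyEtale C Cp :=
    Groth.Agent.Helper2.WEt.weaklyEtale_of_isLocalization p.primeCompl Cp
  haveI : Algebra.WeaklyEtale Cp Dq :=
    Groth.Agent.Helper3.DiagFlat.weaklyEtale_of_comp C Cp Dq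
  exact Groth.Agent.S0427.result (A := Cp) (B := Dq)

/-- If `C_m` is strictly henselian for all maximal `m`, and maximal ideals of `D` contract to
maximal ideals of `C`, a weakly étale map `C → D` identifies local rings. -/
theorem identifies_of_weaklyEtale
    (hmax : ∀ (m : Ideal D), m.IsMaximal → (m.comap (algebraMap C D)).IsMaximal)
    (hsh : ∀ (m : Ideal C) [m.IsMaximal],
      EtCoh.IsStrictlyHenselianLocalRing (Localization.AtPrime m)) :
    EtPBC.IdentifiesLocalRings C D := by
  apply Groth.Agent.Helper2.IdLoc.identifies_of_elemId
  apply elemId_of_forall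
  intro q hq
  obtain ⟨m, hm, hqm⟩ := Ideal.exists_le_maximal q hq.ne_top
  haveI := hm
  haveI := hmax m hm
  exact elemIdAt_of_le hqm (elemIdAt_of_bijective m
    (bijective_localRingHom_of_strictlyHenselian m (hsh _)))

end Loc

end Groth.Agent.Helper2.Oli
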