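import Mathlib
import Groth.Prelude.Def_PBC
import Groth.Prelude.Def_ProEtW
import Groth.Prelude.Def_EtBase
import Groth.Agent.Lib.Helper29.IndEtFact
import Groth.Agent.Lib.Helper1.IH1

/-!
# Auxiliary lemmas for w-contractible covers: algebraic residue extensions, ind-Zariski ⇒ ind-étale,
transfer of strict henselianity, lifting primes through quotient isomorphisms
-/

namespace Groth.Agent.Helper2.WC

universe u

open Polynomial

section LocalIso

theorem etale_of_isLocalIso {R S : Type u} [CommRing R] [CommRing S] [Algebra R S]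
    [Algebra.IsLocalIso R S] : Algebra.Etale R S := by
  rw [← RingHom.etale_algebraMap]
  apply RingHom.Etale.ofLocalizationSpanTarget (algebraMap R S)
    {g : S | Algebra.IsStandardOpenImmersion R (Localization.Away g)}
    (Algebra.IsLocalIso.span_isStandardOpenImmersion_eq_top R S)
  rintro ⟨g, hg⟩
  haveI : Algebra.IsStandardOpenImmersion R (Localization.Away g) := hg
  obtain ⟨r, hr⟩ := Algebra.IsStandardOpenImmersion.exists_away R (Localization.Away g)
  have : Algebra.Etale R (Localization.Away g) := Algebra.Etale.of_isLocalizationAway r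
  have h := RingHom.etale_algebraMap.2 this
  rwa [IsScalarTower.algebraMap_eq R S (Localization.Away g)] at h

theorem isIndEtale_of_isIndZariski {A B : Type u} [CommRing A] [CommRing B] [Algebra A B]
    (h : EtPBC.IsIndZariski A B) : EtPBC.IsIndEtale A B := by
  obtain ⟨J, i1, i2, D, c, hc, hloc, hiso⟩ := h
  exact ⟨J, i1, i2, D, c, hc, fun j => by
    letI := (D.obj j).hom.hom.toAlgebra
    haveI := hloc j
    exact etale_of_isLocalIso, hiso⟩

end LocalIso

section StrictHens

/-- transfer of separable closedness along a ring isomorphism -/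
theorem isSepClosed_of_ringEquiv {K K' : Type*} [Field K] [Field K'] [IsSepClosed K]
    (e : K ≃+* K') : IsSepClosed K' := by
  refine ⟨fun p hp => ?_⟩
  have h1 : (p.map e.symm.toRingHom).Splits := IsSepClosed.splits_of_separable _ hp.map
  have h2 := h1.map e.toRingHom
  rw [Polynomial.map_map] at h2
  have h3 : e.toRingHom.comp e.symm.toRingHom = RingHom.id K' := by
    ext x
    exact e.apply_symm_apply x
  rw [h3, Polynomial.map_id] at h2
  exact h2

theorem strictHens_of_ringEquiv {R S : Type u} [CommRing R] [CommRing S] (e : R ≃+* S)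
    (h : EtCoh.IsStrictlyHenselianLocalRing R) : EtCoh.IsStrictlyHenselianLocalRing S := by
  obtain ⟨hH, hsep⟩ := h
  haveI : IsLocalRing S := e.isLocalRing
  have hH' : HenselianLocalRing S :=
    Groth.Agent.Helper1.IH.henselianLocalRing_of_integral_ringHom e.toRingHom
      (RingHom.isIntegral_of_surjective _ e.surjective)
  exact ⟨hH', isSepClosed_of_ringEquiv
    (IsLocalRing.ResidueField.mapEquiv e)⟩

end StrictHens

section PrimeLift

variable {R S : Type u} [CommRing R] [CommRing S] [Algebra R S]

theorem exists_prime_of_bij (J : Ideal R)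
    (hbij : Function.Bijective (Ideal.quotientMap (J.map (algebraMap R S)) (algebraMap R S)
      Ideal.le_comap_map))
    (y : PrimeSpectrum R) (hy : J ≤ y.asIdeal) :
    ∃ z : PrimeSpectrum S, PrimeSpectrum.comap (algebraMap R S) z = y := by
  let e := RingEquiv.ofBijective _ hbij
  have hker : RingHom.ker (Ideal.Quotient.mk J) ≤ y.asIdeal := by
    rw [Ideal.mk_ker]; exact hy
  haveI hP' : (y.asIdeal.map (Ideal.Quotient.mk J)).IsPrime :=
    Ideal.map_isPrime_of_surjective Ideal.Quotient.mk_surjective hker
  let z : PrimeSpectrum S := PrimeSpectrum.comap (Ideal.Quotient.mk (J.map (algebraMap R S)))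
    (PrimeSpectrum.comap e.symm.toRingHom ⟨_, hP'⟩)
  refine ⟨z, PrimeSpectrum.ext ?_⟩
  ext r
  change e.symm (Ideal.Quotient.mk _ (algebraMap R S r)) ∈ y.asIdeal.map (Ideal.Quotient.mk J) ↔ _
  have h1 : e (Ideal.Quotient.mk J r) = Ideal.Quotient.mk _ (algebraMap R S r) := rfl
  rw [← h1, RingEquiv.symm_apply_apply]
  constructor
  · intro hr
    rw [Ideal.mem_map_iff_of_surjective _ Ideal.Quotient.mk_surjective] at hr
    obtain ⟨r', hr', hrr'⟩ := hr
    have h2 : r' - r ∈ J := Ideal.Quotient.eq.1 hrr'
    have h3 : r = r' - (r' - r) := by ring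
    rw [h3]
    exact Ideal.sub_mem _ hr' (hy h2)
  · intro hr
    exact Ideal.mem_map_of_mem _ hr

end PrimeLift

end Groth.Agent.Helper2.WC
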