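import Mathlib

/-!
# Explicit coproducts of finitely presented algebras (by generators and relations)
-/

namespace Groth.Agent.Helper2.CopAlg

universe u

open MvPolynomial

/-- a finite presentation datum -/
structure Pres (R : Type u) [CommRing R] : Type u where
  n : ℕ
  m : ℕ
  f : Fin m → MvPolynomial (Fin n) R

variable {R : Type u} [CommRing R]

/-- the presented algebra -/
abbrev Pres.E (p : Pres R) : Type u := MvPolynomial (Fin p.n) R ⧸ Ideal.span (Set.range p.f)

instance (p : Pres R) : Algebra.FinitePresentation R p.E :=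
  Algebra.FinitePresentation.quotient (Submodule.fg_span (Set.finite_range _))

variable {ι : Type u} (P : ι → Pres R)

/-- the variables of the coproduct -/
abbrev Var : Type u := Σ i, Fin (P i).n

/-- the inclusion of the variables -/
abbrev vmk (i : ι) : Fin (P i).n → Var P := fun j => ⟨i, j⟩

/-- the relations of the coproduct -/
noncomputable def rel (t : Σ i, Fin (P i).m) : MvPolynomial (Var P) R :=
  rename (vmk P t.1) ((P t.1).f t.2)

/-- the coproduct of the presented algebras -/
abbrev Cop : Type u := MvPolynomial (Var P) R ⧸ Ideal.span (Set.range (rel P))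

/-- the coprojection -/
noncomputable def incl (i : ι) : (P i).E →ₐ[R] Cop P :=
  Ideal.Quotient.liftₐ _ ((Ideal.Quotient.mkₐ R (Ideal.span (Set.range (rel P)))).comp
    (rename (vmk P i))) (by
      have h : Ideal.span (Set.range (P i).f) ≤ RingHom.ker
          ((Ideal.Quotient.mkₐ R (Ideal.span (Set.range (rel P)))).comp
            (rename (vmk P i))).toRingHom := by
        rw [Ideal.span_le]
        rintro _ ⟨k, rfl⟩
        change Ideal.Quotient.mk _ (rename (vmk P i) ((P i).f k)) = 0
        exact Ideal.Quotient.eq_zero_iff_mem.2 (Ideal.subset_span ⟨⟨i, k⟩, rfl⟩)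
      intro a ha
      exact h ha)

theorem incl_mk (i : ι) (x : MvPolynomial (Fin (P i).n) R) :
    incl P i (Ideal.Quotient.mk _ x) = Ideal.Quotient.mk _ (rename (vmk P i) x) := rfl

variable {P} {B : Type*} [CommRing B] [Algebra R B]

/-- the universal property: existence -/
noncomputable def desc (ψ : ∀ i, (P i).E →ₐ[R] B) : Cop P →ₐ[R] B :=
  Ideal.Quotient.liftₐ _ (aeval (fun s : Var P => ψ s.1 (Ideal.Quotient.mk _ (X s.2)))) (by
    have h : Ideal.span (Set.range (rel P)) ≤ RingHom.ker
        (aeval (R := R) (fun s : Var P => ψ s.1 (Ideal.Quotient.mk _ (X s.2)))).toRingHom := by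
      rw [Ideal.span_le]
      rintro _ ⟨⟨i, k⟩, rfl⟩
      change aeval _ (rename (vmk P i) ((P i).f k)) = 0
      rw [aeval_rename]
      have h1 : ((ψ i).comp (Ideal.Quotient.mkₐ R _)) ((P i).f k) = 0 := by
        change ψ i (Ideal.Quotient.mk _ ((P i).f k)) = 0
        have h0 : (Ideal.Quotient.mk (Ideal.span (Set.range (P i).f))) ((P i).f k) = 0 :=
          Ideal.Quotient.eq_zero_iff_mem.2 (Ideal.subset_span (Set.mem_range_self k))
        rw [h0, map_zero]
      rw [aeval_unique ((ψ i).comp (Ideal.Quotient.mkₐ R _))] at h1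
      exact h1
    intro a ha
    exact h ha)

theorem desc_mk_X (ψ : ∀ i, (P i).E →ₐ[R] B) (s : Var P) :
    desc ψ (Ideal.Quotient.mk _ (X s)) = ψ s.1 (Ideal.Quotient.mk _ (X s.2)) := by
  change aeval _ (X s) = _
  rw [aeval_X]

theorem desc_incl (ψ : ∀ i, (P i).E →ₐ[R] B) (i : ι) : (desc ψ).comp (incl P i) = ψ i := by
  apply Ideal.Quotient.algHom_ext
  apply MvPolynomial.algHom_ext
  intro j
  change desc ψ (incl P i (Ideal.Quotient.mk _ (X j))) = ψ i (Ideal.Quotient.mk _ (X j))
  rw [incl_mk, rename_X, desc_mk_X]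

theorem hom_ext {g g' : Cop P →ₐ[R] B} (h : ∀ i, g.comp (incl P i) = g'.comp (incl P i)) :
    g = g' := by
  apply Ideal.Quotient.algHom_ext
  apply MvPolynomial.algHom_ext
  rintro ⟨i, j⟩
  have := congr($(h i) (Ideal.Quotient.mk _ (X j)))
  simp only [AlgHom.comp_apply, incl_mk, rename_X] at this
  exact this

theorem desc_incl_apply (ψ : ∀ i, (P i).E →ₐ[R] B) (i : ι) (x : (P i).E) :
    desc ψ (incl P i x) = ψ i x := congr($(desc_incl ψ i) x)

variable (P)

theorem formallyEtale (h : ∀ i, Algebra.FormallyEtale R (P i).E) :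
    Algebra.FormallyEtale R (Cop P) := by
  rw [Algebra.FormallyEtale.iff_comp_bijective]
  intro B _ _ I hI
  constructor
  · intro g g' hgg
    apply hom_ext
    intro i
    apply (Algebra.FormallyEtale.comp_bijective R (P i).E I hI).1
    change (Ideal.Quotient.mkₐ R I).comp (g.comp (incl P i)) =
      (Ideal.Quotient.mkₐ R I).comp (g'.comp (incl P i))
    rw [← AlgHom.comp_assoc, ← AlgHom.comp_assoc]
    exact congrArg (fun φ => φ.comp (incl P i)) hgg
  · intro φ
    have hs := fun i => (Algebra.FormallyEtale.comp_bijective R (P i).E I hI).2 (φ.comp (incl P i))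
    choose ψ hψ using hs
    refine ⟨desc ψ, ?_⟩
    apply hom_ext
    intro i
    change ((Ideal.Quotient.mkₐ R I).comp (desc ψ)).comp (incl P i) = _
    rw [AlgHom.comp_assoc, desc_incl]
    exact hψ i

instance finitePresentation [Finite ι] : Algebra.FinitePresentation R (Cop P) :=
  Algebra.FinitePresentation.quotient (Submodule.fg_span (Set.finite_range _))

theorem etale [Finite ι] (h : ∀ i, Algebra.Etale R (P i).E) : Algebra.Etale R (Cop P) :=
  { formallyEtale := formallyEtale P (fun i => (h i).formallyEtale)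
    finitePresentation := inferInstance }

end Groth.Agent.Helper2.CopAlg
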