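import Mathlib
import Groth.Prelude.Def_PBC
import Groth.Agent.Lib.Helper2.Cop1

/-!
# The coproduct of presented algebras is the filtered colimit of its finite sub-coproducts
-/

namespace Groth.Agent.Helper2.CopAlg

universe u

open CategoryTheory CategoryTheory.Limits

variable {R : Type u} [CommRing R] {ι : Type u} (P : ι → Pres R)

/-- finite sub-coproduct -/
abbrev CopF (F : Finset ι) : Type u := Cop (fun i : F => P i.1)

/-- transition maps -/
noncomputable def trans {F G : Finset ι} (h : F ≤ G) : CopF P F →ₐ[R] CopF P G :=
  desc (P := fun i : F => P i.1) (fun i => incl (fun i : G => P i.1) ⟨i.1, h i.2⟩)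

/-- maps to the full coproduct -/
noncomputable def toCop (F : Finset ι) : CopF P F →ₐ[R] Cop P :=
  desc (P := fun i : F => P i.1) (fun i => incl P i.1)

theorem trans_incl {F G : Finset ι} (h : F ≤ G) (i : F) :
    (trans P h).comp (incl (fun i : F => P i.1) i) = incl (fun i : G => P i.1) ⟨i.1, h i.2⟩ :=
  desc_incl _ i

theorem toCop_incl (F : Finset ι) (i : F) :
    (toCop P F).comp (incl (fun i : F => P i.1) i) = incl P i.1 :=
  desc_incl _ i

theorem trans_id (F : Finset ι) : trans P (le_refl F) = AlgHom.id R _ := by
  apply hom_ext
  intro i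
  rw [trans_incl]
  rfl

theorem trans_comp {F G H : Finset ι} (h1 : F ≤ G) (h2 : G ≤ H) :
    (trans P h2).comp (trans P h1) = trans P (h1.trans h2) := by
  apply hom_ext
  intro i
  rw [AlgHom.comp_assoc, trans_incl, trans_incl, trans_incl]

theorem toCop_trans {F G : Finset ι} (h : F ≤ G) :
    (toCop P G).comp (trans P h) = toCop P F := by
  apply hom_ext
  intro i
  rw [AlgHom.comp_assoc, trans_incl, toCop_incl, toCop_incl]

/-- the diagram of finite sub-coproducts -/
noncomputable def Dfun : Finset ι ⥤ Under (CommRingCat.of R) where
  obj F := Under.mk (CommRingCat.ofHom (algebraMap R (CopF P F)))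
  map {F G} h := Under.homMk (CommRingCat.ofHom (trans P (leOfHom h)).toRingHom) (by
    ext r
    exact (trans P (leOfHom h)).commutes r)
  map_id F := by
    ext x
    exact congr($(trans_id P F) x)
  map_comp {F G H} f g := by
    ext x
    exact congr($(trans_comp P (leOfHom f) (leOfHom g)) x).symm

/-- the cocone -/
noncomputable def cocone : Cocone (Dfun P) where
  pt := Under.mk (CommRingCat.ofHom (algebraMap R (Cop P)))
  ι :=
    { app := fun F => Under.homMk (CommRingCat.ofHom (toCop P F).toRingHom) (by
        ext r
        exact (toCop P F).commutes r)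
      naturality := fun F G h => by
        ext x
        exact congr($(toCop_trans P (leOfHom h)) x) }

section Desc

variable (s : Cocone (Dfun P))

/-- the algebra structure on the point of a cocone -/
@[reducible] def algS : Algebra R s.pt.right := s.pt.hom.hom.toAlgebra

attribute [local instance] algS

/-- the legs as algebra maps -/
noncomputable def sHom (F : Finset ι) : CopF P F →ₐ[R] s.pt.right :=
  { toRingHom := (s.ι.app F).right.hom
    commutes' := fun r => congr($(Under.w (s.ι.app F)).hom r) }

theorem sHom_trans {F G : Finset ι} (h : F ≤ G) :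
    (sHom P s G).comp (trans P h) = sHom P s F := by
  ext x
  exact congr($(s.w (homOfLE h)).right.hom x)

/-- the induced map -/
noncomputable def descS : Cop P →ₐ[R] s.pt.right :=
  desc (fun i => (sHom P s {i}).comp
    (incl (fun j : ({i} : Finset ι) => P j.1) ⟨i, Finset.mem_singleton_self i⟩))

theorem descS_toCop (F : Finset ι) : (descS P s).comp (toCop P F) = sHom P s F := by
  apply hom_ext
  intro i
  rw [AlgHom.comp_assoc, toCop_incl]
  unfold descS
  rw [desc_incl, ← sHom_trans P s (Finset.singleton_subset_iff.2 i.2 : ({i.1} : Finset ι) ≤ F),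
    AlgHom.comp_assoc, trans_incl]

theorem descS_uniq (g : Cop P →ₐ[R] s.pt.right) (hg : ∀ F, g.comp (toCop P F) = sHom P s F) :
    g = descS P s := by
  apply hom_ext
  intro i
  have h1 := toCop_incl P {i} ⟨i, Finset.mem_singleton_self i⟩
  rw [← h1, ← AlgHom.comp_assoc, ← AlgHom.comp_assoc, hg, descS_toCop]

end Desc

attribute [local instance] algS in
/-- the cocone is colimiting -/
noncomputable def isColimit : IsColimit (cocone P) where
  desc s := Under.homMk (CommRingCat.ofHom (descS P s).toRingHom) (by
    ext r
    exact (descS P s).commutes r)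
  fac s F := by
    ext x
    exact congr($(descS_toCop P s F) x)
  uniq s m hm := by
    letI : Algebra R s.pt.right := algS P s
    let g : Cop P →ₐ[R] s.pt.right :=
      { toRingHom := m.right.hom
        commutes' := fun r => congr($(Under.w m).hom r) }
    have hg : g = descS P s := by
      apply descS_uniq
      intro F
      ext x
      exact congr($(hm F).right.hom x)
    ext x
    exact congr($hg x)

theorem etale_toAlgebra {X : Type u} [CommRing X] [inst : Algebra R X]
    [h : Algebra.Etale R X] : @Algebra.Etale R X _ _ (algebraMap R X).toAlgebra := by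
  have : (algebraMap R X).toAlgebra = inst := Algebra.algebra_ext _ _ (fun _ => rfl)
  rw [this]; exact h

/-- a coproduct of étale presented algebras is ind-étale -/
theorem isIndEtale_cop (h : ∀ i, Algebra.Etale R (P i).E) : EtPBC.IsIndEtale R (Cop P) :=
  ⟨Finset ι, inferInstance, inferInstance, Dfun P, cocone P, isColimit P,
    fun F => by
      have := etale (fun i : F => P i.1) (fun i => h i.1)
      exact etale_toAlgebra (R := R) (X := CopF P F),
    ⟨Iso.refl _⟩⟩

end Groth.Agent.Helper2.CopAlg
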