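import Mathlib.RingTheory.Flat.EquationalCriterion
import Mathlib.RingTheory.Etale.Weakly

/-!
# Flatness of "directed unions" of flat modules over varying rings
-/

universe u

namespace Groth.Agent.Helper2.FlatColim

open Module

section general

variable {R M : Type u} [CommRing R] [AddCommGroup M] [Module R M]
  {J : Type*} [Nonempty J]
  (Rj : J → Type u) (Mj : J → Type u) [∀ j, CommRing (Rj j)] [∀ j, AddCommGroup (Mj j)]
  [∀ j, Module (Rj j) (Mj j)]
  (ρ : ∀ j, Rj j →+* R) (μ : ∀ j, Mj j →+ M)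
  (hμ : ∀ j (r : Rj j) (m : Mj j), μ j (r • m) = ρ j r • μ j m)

/-- A transition between two stages. -/
structure Trans (j k : J) where
  σ : Rj j →+* Rj k
  τ : Mj j →+ Mj k
  hτ : ∀ (r : Rj j) (m : Mj j), τ (r • m) = σ r • τ m
  hρ : ∀ r, ρ k (σ r) = ρ j r
  hμ : ∀ m, μ k (τ m) = μ j m

variable (hdir : ∀ j₁ j₂ : J, ∃ k, Nonempty (Trans Rj Mj ρ μ j₁ k) ∧ Nonempty (Trans Rj Mj ρ μ j₂ k))
  (hsurjR : ∀ r : R, ∃ j, ∃ r' : Rj j, ρ j r' = r)
  (hsurjM : ∀ m : M, ∃ j, ∃ m' : Mj j, μ j m' = m)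
  (hinjM : ∀ j (m : Mj j), μ j m = 0 → ∃ k, ∃ t : Trans Rj Mj ρ μ j k, t.τ m = 0)

omit [Module R M] in
include hdir hsurjR hsurjM in
lemma exists_lift : ∀ (l : ℕ) (f : Fin l → R) (x : Fin l → M),
    ∃ (j : J) (f' : Fin l → Rj j) (x' : Fin l → Mj j),
      (∀ i, ρ j (f' i) = f i) ∧ ∀ i, μ j (x' i) = x i := by
  intro l
  induction l with
  | zero =>
    intro f x
    obtain ⟨j⟩ := ‹Nonempty J›
    exact ⟨j, Fin.elim0, Fin.elim0, fun i => i.elim0, fun i => i.elim0⟩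
  | succ l ih =>
    intro f x
    obtain ⟨j₂, f₂, x₂, hf₂, hx₂⟩ := ih (Fin.tail f) (Fin.tail x)
    obtain ⟨j₀, r₀, hr₀⟩ := hsurjR (f 0)
    obtain ⟨j₁, m₁, hm₁⟩ := hsurjM (x 0)
    obtain ⟨k₁, ⟨t₀⟩, ⟨t₁⟩⟩ := hdir j₀ j₁
    obtain ⟨k, ⟨s₁⟩, ⟨s₂⟩⟩ := hdir k₁ j₂
    refine ⟨k, Fin.cons (s₁.σ (t₀.σ r₀)) (fun i => s₂.σ (f₂ i)),
      Fin.cons (s₁.τ (t₁.τ m₁)) (fun i => s₂.τ (x₂ i)), ?_, ?_⟩
    · intro i
      refine Fin.cases ?_ (fun i => ?_) i
      · rw [Fin.cons_zero, s₁.hρ, t₀.hρ, hr₀]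
      · rw [Fin.cons_succ, s₂.hρ, hf₂]; rfl
    · intro i
      refine Fin.cases ?_ (fun i => ?_) i
      · rw [Fin.cons_zero, s₁.hμ, t₁.hμ, hm₁]
      · rw [Fin.cons_succ, s₂.hμ, hx₂]; rfl

include hμ hdir hsurjR hsurjM hinjM in
theorem flat_of_stages (hflat : ∀ j, Module.Flat (Rj j) (Mj j)) : Module.Flat R M := by
  rw [Module.Flat.iff_forall_isTrivialRelation]
  intro l f x hfx
  obtain ⟨j, f', x', hf', hx'⟩ := exists_lift Rj Mj ρ μ hdir hsurjR hsurjM l f x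
  have h0 : μ j (∑ i, f' i • x' i) = 0 := by
    rw [map_sum, ← hfx]
    exact Finset.sum_congr rfl (fun i _ => by rw [hμ, hf', hx'])
  obtain ⟨k, t, ht⟩ := hinjM j _ h0
  have hrel : ∑ i, t.σ (f' i) • t.τ (x' i) = 0 := by
    rw [← ht, map_sum]
    exact Finset.sum_congr rfl (fun i _ => (t.hτ _ _).symm)
  have := hflat k
  obtain ⟨κ, a, y, hy, ha⟩ := Module.Flat.isTrivialRelation_of_sum_smul_eq_zero hrel
  refine ⟨κ, fun i c => ρ k (a i c), fun c => μ k (y c), ?_, ?_⟩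
  · intro i
    have h1 : t.τ (x' i) = ∑ c, a i c • y c := hy i
    rw [← hx' i, ← t.hμ, h1, map_sum]
    exact Finset.sum_congr rfl (fun c _ => hμ k _ _)
  · intro c
    have h2 : ∑ i, t.σ (f' i) * a i c = 0 := ha c
    have := congrArg (ρ k) h2
    rw [map_sum, map_zero] at this
    rw [← this]
    exact Finset.sum_congr rfl (fun i _ => by rw [map_mul, t.hρ, hf'])

end general

section algebra

open TensorProduct

variable {A B : Type u} [CommRing A] [CommRing B] [Algebra A B]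
  {J : Type*} [Nonempty J] (C : J → Type u) [∀ j, CommRing (C j)] [∀ j, Algebra A (C j)]
  (φ : ∀ j, C j →ₐ[A] B)
  (hdir : ∀ j₁ j₂, ∃ k, ∃ f₁ : C j₁ →ₐ[A] C k, ∃ f₂ : C j₂ →ₐ[A] C k,
    (φ k).comp f₁ = φ j₁ ∧ (φ k).comp f₂ = φ j₂)
  (hsurj : ∀ b : B, ∃ j, ∃ c : C j, φ j c = b)
  (hinj : ∀ j (c : C j), φ j c = 0 → ∃ k, ∃ f : C j →ₐ[A] C k, (φ k).comp f = φ j ∧ f c = 0)

include hdir hsurj hinj in
theorem flat_of_algebra_stages (hflat : ∀ j, Module.Flat A (C j)) : Module.Flat A B := by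
  refine flat_of_stages (R := A) (M := B) (fun _ : J => A) C (fun _ => RingHom.id A)
    (fun j => (φ j).toRingHom.toAddMonoidHom) (fun j r m => map_smul (φ j) r m) ?_ ?_ ?_ ?_ hflat
  · intro j₁ j₂
    obtain ⟨k, f₁, f₂, h₁, h₂⟩ := hdir j₁ j₂
    exact ⟨k, ⟨⟨RingHom.id A, f₁.toRingHom.toAddMonoidHom, fun r m => map_smul f₁ r m,
      fun _ => rfl, fun m => DFunLike.congr_fun h₁ m⟩⟩,
      ⟨⟨RingHom.id A, f₂.toRingHom.toAddMonoidHom, fun r m => map_smul f₂ r m,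
      fun _ => rfl, fun m => DFunLike.congr_fun h₂ m⟩⟩⟩
  · intro r
    obtain ⟨j⟩ := ‹Nonempty J›
    exact ⟨j, r, rfl⟩
  · intro b
    obtain ⟨j, c, hc⟩ := hsurj b
    exact ⟨j, c, hc⟩
  · intro j m hm
    obtain ⟨k, f, hf, hfm⟩ := hinj j m hm
    exact ⟨k, ⟨RingHom.id A, f.toRingHom.toAddMonoidHom, fun r m => map_smul f r m,
      fun _ => rfl, fun m => DFunLike.congr_fun hf m⟩, hfm⟩

/-- The algebra structure on `S` over `S ⊗[A] S` given by multiplication. -/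
@[reducible] noncomputable def mulAlg (A S : Type u) [CommRing A] [CommRing S] [Algebra A S] :
    Algebra (S ⊗[A] S) S :=
  (Algebra.TensorProduct.lmul' A (S := S)).toRingHom.toAlgebra

lemma lmul'_map {S T : Type u} [CommRing S] [CommRing T] [Algebra A S] [Algebra A T]
    (f : S →ₐ[A] T) (x : S ⊗[A] S) :
    Algebra.TensorProduct.lmul' A (Algebra.TensorProduct.map f f x) =
      f (Algebra.TensorProduct.lmul' A x) := by
  induction x using TensorProduct.induction_on with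
  | zero => simp
  | tmul a b => simp
  | add x y hx hy => simp only [map_add, hx, hy]

include hdir hsurj in
lemma exists_tensor_lift (x : B ⊗[A] B) :
    ∃ j, ∃ r : C j ⊗[A] C j, Algebra.TensorProduct.map (φ j) (φ j) r = x := by
  induction x using TensorProduct.induction_on with
  | zero =>
    obtain ⟨j⟩ := ‹Nonempty J›
    exact ⟨j, 0, map_zero _⟩
  | tmul b₁ b₂ =>
    obtain ⟨j₁, c₁, rfl⟩ := hsurj b₁
    obtain ⟨j₂, c₂, rfl⟩ := hsurj b₂
    obtain ⟨k, f₁, f₂, h₁, h₂⟩ := hdir j₁ j₂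
    refine ⟨k, f₁ c₁ ⊗ₜ f₂ c₂, ?_⟩
    rw [Algebra.TensorProduct.map_tmul]
    congr 1
    · exact DFunLike.congr_fun h₁ c₁
    · exact DFunLike.congr_fun h₂ c₂
  | add x y hx hy =>
    obtain ⟨j₁, r₁, rfl⟩ := hx
    obtain ⟨j₂, r₂, rfl⟩ := hy
    obtain ⟨k, f₁, f₂, h₁, h₂⟩ := hdir j₁ j₂
    refine ⟨k, Algebra.TensorProduct.map f₁ f₁ r₁ + Algebra.TensorProduct.map f₂ f₂ r₂, ?_⟩
    rw [map_add]
    congr 1
    · rw [← AlgHom.comp_apply, ← Algebra.TensorProduct.map_comp, h₁]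
    · rw [← AlgHom.comp_apply, ← Algebra.TensorProduct.map_comp, h₂]

include hdir hsurj hinj in
theorem flat_lmul'_of_algebra_stages
    (hflat : ∀ j, (Algebra.TensorProduct.lmul' A (S := C j)).Flat) :
    (Algebra.TensorProduct.lmul' A (S := B)).Flat := by
  let _ : Algebra (B ⊗[A] B) B := mulAlg A B
  let _ : ∀ j, Algebra (C j ⊗[A] C j) (C j) := fun j => mulAlg A (C j)
  show Module.Flat (B ⊗[A] B) B
  refine flat_of_stages (R := B ⊗[A] B) (M := B) (fun j : J => C j ⊗[A] C j) C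
    (fun j => (Algebra.TensorProduct.map (φ j) (φ j)).toRingHom)
    (fun j => (φ j).toRingHom.toAddMonoidHom) ?_ ?_ ?_ ?_ ?_ hflat
  · intro j r m
    show φ j (Algebra.TensorProduct.lmul' A r * m) =
      Algebra.TensorProduct.lmul' A (Algebra.TensorProduct.map (φ j) (φ j) r) * φ j m
    rw [map_mul, lmul'_map]
  · intro j₁ j₂
    obtain ⟨k, f₁, f₂, h₁, h₂⟩ := hdir j₁ j₂
    refine ⟨k, ⟨⟨(Algebra.TensorProduct.map f₁ f₁).toRingHom, f₁.toRingHom.toAddMonoidHom,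
      ?_, ?_, fun m => DFunLike.congr_fun h₁ m⟩⟩,
      ⟨⟨(Algebra.TensorProduct.map f₂ f₂).toRingHom, f₂.toRingHom.toAddMonoidHom,
      ?_, ?_, fun m => DFunLike.congr_fun h₂ m⟩⟩⟩
    · intro r m
      show f₁ (Algebra.TensorProduct.lmul' A r * m) =
        Algebra.TensorProduct.lmul' A (Algebra.TensorProduct.map f₁ f₁ r) * f₁ m
      rw [map_mul, lmul'_map]
    · intro r
      show Algebra.TensorProduct.map (φ k) (φ k) (Algebra.TensorProduct.map f₁ f₁ r) = _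
      rw [← AlgHom.comp_apply, ← Algebra.TensorProduct.map_comp, h₁]
      rfl
    · intro r m
      show f₂ (Algebra.TensorProduct.lmul' A r * m) =
        Algebra.TensorProduct.lmul' A (Algebra.TensorProduct.map f₂ f₂ r) * f₂ m
      rw [map_mul, lmul'_map]
    · intro r
      show Algebra.TensorProduct.map (φ k) (φ k) (Algebra.TensorProduct.map f₂ f₂ r) = _
      rw [← AlgHom.comp_apply, ← Algebra.TensorProduct.map_comp, h₂]
      rfl
  · intro x
    exact exists_tensor_lift C φ hdir hsurj x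
  · intro b
    obtain ⟨j, c, hc⟩ := hsurj b
    exact ⟨j, c, hc⟩
  · intro j m hm
    obtain ⟨k, f, hf, hfm⟩ := hinj j m hm
    refine ⟨k, ⟨(Algebra.TensorProduct.map f f).toRingHom, f.toRingHom.toAddMonoidHom,
      ?_, ?_, fun m => DFunLike.congr_fun hf m⟩, hfm⟩
    · intro r m
      show f (Algebra.TensorProduct.lmul' A r * m) =
        Algebra.TensorProduct.lmul' A (Algebra.TensorProduct.map f f r) * f m
      rw [map_mul, lmul'_map]
    · intro r
      show Algebra.TensorProduct.map (φ k) (φ k) (Algebra.TensorProduct.map f f r) = _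
      rw [← AlgHom.comp_apply, ← Algebra.TensorProduct.map_comp, hf]
      rfl

include hdir hsurj hinj in
/-- A directed union of weakly étale algebras is weakly étale. -/
theorem weaklyEtale_of_algebra_stages (h : ∀ j, Algebra.WeaklyEtale A (C j)) :
    Algebra.WeaklyEtale A B :=
  { flat := flat_of_algebra_stages C φ hdir hsurj hinj (fun j => (h j).flat)
    flat_lmul' := flat_lmul'_of_algebra_stages C φ hdir hsurj hinj
      (fun j => Algebra.WeaklyEtale.flat_lmul' A (C j)) }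

end algebra

end Groth.Agent.Helper2.FlatColim
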