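import Mathlib
import Groth.Prelude.Def_PBC
import Groth.Agent.Lib.Helper2.Cop2
import Groth.Agent.S0736

/-!
# The coproduct of all faithfully flat étale algebras over a ring
-/

namespace Groth.Agent.Helper2.CopAlg

universe u

section Hom

variable {R : Type u} [CommRing R]

/-- a faithfully flat algebra of finite type maps to an algebraically closed extension of any
residue field at a maximal ideal -/
theorem exists_hom_algClosed (m : Ideal R) [hm : m.IsMaximal] (E : Type u) [CommRing E]
    [Algebra R E] [Algebra.FiniteType R E] [Module.FaithfullyFlat R E]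
    (K : Type u) [Field K] [Algebra (R ⧸ m) K] [IsAlgClosed K] [Algebra R K]
    [IsScalarTower R (R ⧸ m) K] : Nonempty (E →ₐ[R] K) := by
  obtain ⟨q, hq⟩ := PrimeSpectrum.comap_surjective_of_faithfullyFlat (B := E) ⟨m, hm.isPrime⟩
  obtain ⟨M, hM, hqM⟩ := Ideal.exists_le_maximal q.asIdeal q.2.ne_top
  have hle : m ≤ M.comap (algebraMap R E) := by
    have h1 : m = q.asIdeal.comap (algebraMap R E) := congrArg PrimeSpectrum.asIdeal hq.symm
    rw [h1]
    exact Ideal.comap_mono hqM
  have hne : M.comap (algebraMap R E) ≠ ⊤ := (Ideal.comap_isPrime _ _).ne_top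
  have heq : m = M.comap (algebraMap R E) := hm.eq_of_le hne hle
  haveI : M.LiesOver m := ⟨heq⟩
  letI : Field (R ⧸ m) := Ideal.Quotient.field m
  letI : Field (E ⧸ M) := Ideal.Quotient.field M
  haveI : Algebra.FiniteType R (E ⧸ M) :=
    Algebra.FiniteType.of_surjective (Ideal.Quotient.mkₐ R M) (Ideal.Quotient.mkₐ_surjective R M)
  haveI : Algebra.FiniteType (R ⧸ m) (E ⧸ M) :=
    Algebra.FiniteType.of_restrictScalars_finiteType R (R ⧸ m) (E ⧸ M)
  haveI : Module.Finite (R ⧸ m) (E ⧸ M) := finite_of_finite_type_of_isJacobsonRing _ _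
  haveI : Algebra.IsAlgebraic (R ⧸ m) (E ⧸ M) := Algebra.IsAlgebraic.of_finite _ _
  let φ : (E ⧸ M) →ₐ[R ⧸ m] K := IsAlgClosed.lift
  exact ⟨(φ.restrictScalars R).comp (Ideal.Quotient.mkₐ R M)⟩

end Hom

variable (R : Type u) [CommRing R]

/-- presentations of faithfully flat étale algebras -/
def Good : Type u := {p : Pres R // Algebra.Etale R p.E ∧ Module.FaithfullyFlat R p.E}

/-- the underlying presentation -/
abbrev TP : Good R → Pres R := fun p => p.1

/-- the coproduct of all faithfully flat étale algebras -/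
abbrev T : Type u := Cop (TP R)

theorem isIndEtale_T : EtPBC.IsIndEtale R (T R) := isIndEtale_cop (TP R) (fun p => p.2.1)

/-- every faithfully flat étale algebra maps to `T R` -/
theorem exists_hom_T (B : Type u) [CommRing B] [Algebra R B] [Algebra.Etale R B]
    [Module.FaithfullyFlat R B] : Nonempty (B →ₐ[R] T R) := by
  obtain ⟨n, m, ⟨Q⟩⟩ := Algebra.Presentation.exists_presentation_fin R B
  let p : Pres R := ⟨n, m, Q.relation⟩
  let e : p.E ≃ₐ[R] B := (Ideal.quotientEquivAlgOfEq R Q.span_range_relation_eq_ker).trans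
    (Q.quotientEquiv.restrictScalars R)
  have h1 : Algebra.Etale R p.E := Algebra.Etale.of_equiv e.symm
  have h2 : Module.FaithfullyFlat R p.E := Module.FaithfullyFlat.of_linearEquiv R B e.toLinearEquiv
  exact ⟨(incl (TP R) ⟨p, h1, h2⟩).comp e.symm.toAlgHom⟩

theorem faithfullyFlat_T : Module.FaithfullyFlat R (T R) := by
  have hw : Algebra.WeaklyEtale R (T R) := Groth.Agent.S0736.result R (T R) (isIndEtale_T R)
  refine { toFlat := hw.flat, submodule_ne_top := ?_ }
  intro m hm htop
  letI : Field (R ⧸ m) := Ideal.Quotient.field m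
  let K := AlgebraicClosure (R ⧸ m)
  haveI : IsScalarTower R (R ⧸ m) K := inferInstance
  have hex : ∀ p : Good R, Nonempty ((TP R p).E →ₐ[R] K) := by
    intro p
    haveI := p.2.1
    haveI := p.2.2
    exact exists_hom_algClosed m (TP R p).E K
  let τ : T R →ₐ[R] K := desc (fun p => (hex p).some)
  have hker : ∀ x ∈ m • (⊤ : Submodule R (T R)), τ x = 0 := by
    intro x hx
    refine Submodule.smul_induction_on hx ?_ ?_
    · intro r hr t _
      rw [map_smul, Algebra.smul_def]
      have : algebraMap R K r = 0 := by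
        rw [IsScalarTower.algebraMap_apply R (R ⧸ m) K]
        change algebraMap (R ⧸ m) K (Ideal.Quotient.mk m r) = 0
        rw [Ideal.Quotient.eq_zero_iff_mem.2 hr, map_zero]
      rw [this, zero_mul]
    · intro x y hx hy
      rw [map_add, hx, hy, add_zero]
  have h1 : τ 1 = 0 := hker 1 (by rw [htop]; trivial)
  rw [map_one] at h1
  exact one_ne_zero h1

end Groth.Agent.Helper2.CopAlg
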