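import Mathlib
import Groth.Prelude.Def_PBC
import Groth.Prelude.Def_ProEtW
import Groth.Agent.Lib.Helper2.Cop3
import Groth.Agent.Lib.Helper29.IndEtComp
import Groth.Agent.Lib.Helper16.Alg.EtFT

/-!
# Descent of faithful flatness to a stage, and towers of faithfully flat ind-étale maps
-/

namespace Groth.Agent.Helper2.CopAlg

universe u

open TensorProduct CategoryTheory CategoryTheory.Limits

section Stage

variable {ι : Type u} [Preorder ι] [IsDirected ι (· ≤ ·)] [Nonempty ι]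
    {A₀ : Type u} [CommRing A₀] {G : ι → Type u} [∀ i, CommRing (G i)] [∀ i, Algebra A₀ (G i)]
    (f : ∀ i j, i ≤ j → (G i →ₐ[A₀] G j)) {A : Type u} [CommRing A] [Algebra A₀ A]
    {g : ∀ i, G i →ₐ[A₀] A}
    (hg : ∀ i j (h : i ≤ j), (g j).comp (f i j h) = g i)
    (hsurj : ∀ a : A, ∃ i, ∃ x : G i, g i x = a)
    (hker : ∀ i (x : G i), g i x = 0 → ∃ j, ∃ h : i ≤ j, f i j h x = 0)

include hg hsurj in
theorem exists_stage_finset (t : Finset A) : ∃ j, ∀ a ∈ t, ∃ x : G j, g j x = a := by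
  classical
  induction t using Finset.induction_on with
  | empty => exact ⟨Classical.arbitrary ι, by simp⟩
  | insert a t _ ih =>
    obtain ⟨j₁, h₁⟩ := ih
    obtain ⟨j₂, y, hy⟩ := hsurj a
    obtain ⟨k, hk₁, hk₂⟩ := exists_ge_ge j₁ j₂
    refine ⟨k, fun b hb => ?_⟩
    rcases Finset.mem_insert.1 hb with rfl | hb
    · exact ⟨f j₂ k hk₂ y, by rw [← hy, ← hg j₂ k hk₂]; rfl⟩
    · obtain ⟨x, hx⟩ := h₁ b hb
      exact ⟨f j₁ k hk₁ x, by rw [← hx, ← hg j₁ k hk₁]; rfl⟩

include hg hsurj hker in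
theorem map_eq_top_stage (J : Ideal A₀) (h : Ideal.map (algebraMap A₀ A) J = ⊤) :
    ∃ j, Ideal.map (algebraMap A₀ (G j)) J = ⊤ := by
  classical
  have h1 : (1 : A) ∈ Ideal.map (algebraMap A₀ A) J := by rw [h]; trivial
  obtain ⟨c, t, ht, -, hsum⟩ := Submodule.mem_span_iff_exists_finset_subset.1 h1
  have hpre : ∀ a ∈ t, ∃ r ∈ J, algebraMap A₀ A r = a := fun a ha => ht (Finset.mem_coe.2 ha)
  choose! fJ hfJ1 hfJ2 using hpre
  obtain ⟨j, hj⟩ := exists_stage_finset f hg hsurj (t.image c)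
  have hpre2 : ∀ a ∈ t, ∃ x : G j, g j x = c a := fun a ha => hj _ (Finset.mem_image_of_mem _ ha)
  choose! c' hc' using hpre2
  let e : G j := ∑ a ∈ t, c' a * algebraMap A₀ (G j) (fJ a) - 1
  have he : g j e = 0 := by
    simp only [e, map_sub, map_sum, map_mul, map_one, AlgHom.commutes]
    rw [sub_eq_zero, ← hsum]
    refine Finset.sum_congr rfl fun a ha => ?_
    rw [hc' a ha, hfJ2 a ha, smul_eq_mul]
  obtain ⟨k, hjk, hk⟩ := hker j e he
  refine ⟨k, (Ideal.eq_top_iff_one _).2 ?_⟩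
  have h2 : (1 : G k) = ∑ a ∈ t, f j k hjk (c' a) * algebraMap A₀ (G k) (fJ a) := by
    have := hk
    simp only [e, map_sub, map_sum, map_mul, map_one, AlgHom.commutes] at this
    exact (sub_eq_zero.1 this).symm
  rw [h2]
  exact Ideal.sum_mem _ fun a ha => Ideal.mul_mem_left _ _ (Ideal.mem_map_of_mem _ (hfJ1 a ha))

include hg hsurj hker in
/-- faithful flatness of an étale base change descends to a stage -/
theorem ff_stage (B₀ : Type u) [CommRing B₀] [Algebra A₀ B₀] [Algebra.Etale A₀ B₀]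
    [Module.FaithfullyFlat A (A ⊗[A₀] B₀)] :
    ∃ j, Module.FaithfullyFlat (G j) (G j ⊗[A₀] B₀) := by
  haveI : Module.Flat A₀ B₀ := inferInstance
  have hopen : IsOpen (Set.range (PrimeSpectrum.comap (algebraMap A₀ B₀))) :=
    (PrimeSpectrum.isOpenMap_comap_of_hasGoingDown_of_finitePresentation
      (R := A₀) (S := B₀)).isOpen_range
  obtain ⟨J, hJ⟩ := (PrimeSpectrum.isClosed_iff_zeroLocus_ideal _).1 hopen.isClosed_compl
  have hJtop : Ideal.map (algebraMap A₀ A) J = ⊤ := by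
    by_contra hne
    obtain ⟨m, hm, hle⟩ := Ideal.exists_le_maximal _ hne
    have h1 : PrimeSpectrum.comap (algebraMap A₀ A) ⟨m, hm.isPrime⟩ ∈
        PrimeSpectrum.zeroLocus (J : Set A₀) := by
      rw [PrimeSpectrum.mem_zeroLocus]
      intro x hx
      exact hle (Ideal.mem_map_of_mem _ hx)
    rw [← hJ] at h1
    exact h1 (Groth.Agent.Helper16.Alg.range_comap_subset (B₀ := B₀) ⟨_, rfl⟩)
  obtain ⟨j, hj⟩ := map_eq_top_stage f hg hsurj hker J hJtop
  refine ⟨j, Module.FaithfullyFlat.of_comap_surjective fun p' => ?_⟩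
  have hmem : PrimeSpectrum.comap (algebraMap A₀ (G j)) p' ∈
      Set.range (PrimeSpectrum.comap (algebraMap A₀ B₀)) := by
    by_contra hn
    have h2 : PrimeSpectrum.comap (algebraMap A₀ (G j)) p' ∈
        PrimeSpectrum.zeroLocus (J : Set A₀) := by rw [← hJ]; exact hn
    rw [PrimeSpectrum.mem_zeroLocus] at h2
    have h3 : Ideal.map (algebraMap A₀ (G j)) J ≤ p'.asIdeal := Ideal.map_le_iff_le_comap.2 h2
    rw [hj] at h3
    exact p'.isPrime.ne_top (top_le_iff.1 h3)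
  obtain ⟨q₀, hq₀⟩ := hmem
  exact Groth.Agent.Helper16.Alg.exists_prime_tensor p' q₀ hq₀.symm

end Stage

end Groth.Agent.Helper2.CopAlg
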