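import Mathlib
import Groth.Prelude.Def_PBC
import Groth.Prelude.Def_ProEtW
import Groth.Agent.Lib.Helper2.Cop4
import Groth.Agent.Lib.Helper29.IndEtComp
import Groth.Agent.S0736

/-!
# Towers of faithfully flat ind-étale maps
-/

namespace Groth.Agent.Helper2.CopAlg

universe u

open TensorProduct CategoryTheory CategoryTheory.Limits MorphismProperty
open Groth.Agent.Helper29.FiltColim Groth.Agent.Helper29.IndEtComp

section Tower

/-- the natural numbers in the universe `u` -/
abbrev N : Type u := ULift.{u} ℕ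

instance : IsDirected N (· ≤ ·) :=
  ⟨fun a b => ⟨⟨max a.down b.down⟩, le_max_left a.down b.down, le_max_right a.down b.down⟩⟩

/-- the forgetful functor -/
def dn : N.{u} ⥤ ℕ := Monotone.functor (f := ULift.down) (fun _ _ h => h)

theorem map_le {C : Type*} [Category C] (W : MorphismProperty C) (hid : ∀ X, W (𝟙 X))
    (hcomp : ∀ {X Y Z : C} (f : X ⟶ Y) (g : Y ⟶ Z), W f → W g → W (f ≫ g))
    (D : ℕ ⥤ C) (hW : ∀ n, W (D.map (homOfLE (Nat.le_succ n)))) {i j : ℕ} (h : i ≤ j) :
    W (D.map (homOfLE h)) := by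
  induction j, h using Nat.le_induction with
  | base =>
    have : homOfLE (le_refl i) = 𝟙 i := rfl
    rw [this, D.map_id]
    exact hid _
  | succ j hij ih =>
    have : homOfLE (hij.trans (Nat.le_succ j)) = homOfLE hij ≫ homOfLE (Nat.le_succ j) := rfl
    rw [this, D.map_comp]
    exact hcomp _ _ ih (hW j)

variable (D' : ℕ ⥤ CommRingCat.{u}) (c : Cocone (dn.{u} ⋙ D')) (hc : IsColimit c)

theorem ind_map (h1 : ∀ n, ind.{u} Et.{u} (D'.map (homOfLE (Nat.le_succ n)))) {i j : ℕ}
    (h : i ≤ j) : ind.{u} Et.{u} (D'.map (homOfLE h)) := by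
  refine map_le (ind.{u} Et.{u}) (fun X => ?_) (fun f g hf hg => ?_) D' h1 h
  · apply le_ind
    exact RingHom.Etale.containsIdentities _
  · exact ind_comp.{u} (P := Et.{u}) Et_le.{u} _ _ hf hg

theorem ff_map (h2 : ∀ n, (D'.map (homOfLE (Nat.le_succ n))).hom.FaithfullyFlat) {i j : ℕ}
    (h : i ≤ j) : (D'.map (homOfLE h)).hom.FaithfullyFlat := by
  refine map_le (RingHom.toMorphismProperty RingHom.FaithfullyFlat) (fun X => ?_)
    (fun f g hf hg => ?_) D' h2 h
  · exact RingHom.FaithfullyFlat.of_bijective Function.bijective_id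
  · exact RingHom.FaithfullyFlat.stableUnderComposition _ _ hf hg

include hc in
theorem ind_ι (h1 : ∀ n, ind.{u} Et.{u} (D'.map (homOfLE (Nat.le_succ n)))) :
    ind.{u} Et.{u} (c.ι.app ⟨0⟩) := by
  rw [← ind_ind Et_le.{u}]
  let s : (Functor.const N.{u}).obj (D'.obj 0) ⟶ dn.{u} ⋙ D' :=
    { app := fun n => D'.map (homOfLE (Nat.zero_le n.down))
      naturality := fun n n' f => by
        simp only [Functor.const_obj_obj, Functor.const_obj_map, Category.id_comp,
          Functor.comp_map]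
        rw [← D'.map_comp]
        rfl }
  refine ⟨N.{u}, inferInstance, inferInstance, dn.{u} ⋙ D', s, c.ι, hc,
    fun n => ⟨ind_map D' h1 _, ?_⟩⟩
  exact c.w (homOfLE (show (⟨0⟩ : N.{u}) ≤ n from Nat.zero_le n.down))

attribute [local instance] algG algA

include hc in
theorem ff_ι (h1 : ∀ n, ind.{u} Et.{u} (D'.map (homOfLE (Nat.le_succ n))))
    (h2 : ∀ n, (D'.map (homOfLE (Nat.le_succ n))).hom.FaithfullyFlat) :
    (c.ι.app ⟨0⟩).hom.FaithfullyFlat := by
  let D := dn.{u} ⋙ D'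
  let i₀ : N.{u} := ⟨0⟩
  change Module.FaithfullyFlat (D.obj i₀) c.pt
  have hind : EtPBC.IsIndEtale (D.obj i₀) c.pt := (isIndEtale_iff _ _).2 (ind_ι D' c hc h1)
  have hw : Algebra.WeaklyEtale (D.obj i₀) c.pt := Groth.Agent.S0736.result _ _ hind
  refine { toFlat := hw.flat, submodule_ne_top := ?_ }
  intro m hm htop
  rw [Ideal.smul_top_eq_map, Submodule.restrictScalars_eq_top_iff] at htop
  obtain ⟨j, hj⟩ := map_eq_top_stage (fT D i₀) (hgT D c i₀) (hsurjT D c hc i₀)
    (hkerT D c hc i₀) m htop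
  have hff : (D'.map (homOfLE (Nat.zero_le j.1.down))).hom.FaithfullyFlat := ff_map D' h2 _
  have hff' : Module.FaithfullyFlat (D.obj i₀) (G D i₀ j) := hff
  have := hff'.submodule_ne_top hm
  rw [Ideal.smul_top_eq_map, hj] at this
  exact this rfl

end Tower

section Retr

attribute [local instance] algG algA

variable (D : N.{u} ⥤ CommRingCat.{u}) (c : Cocone D) (hc : IsColimit c)

include hc in
theorem retr
    (h3 : ∀ (n : N.{u}) (B' : Type u) [CommRing B'] [Algebra (D.obj n) B']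
      [Algebra.Etale (D.obj n) B'] [Module.FaithfullyFlat (D.obj n) B'],
      ∃ r : B' →+* D.obj ⟨n.down + 1⟩, r.comp (algebraMap (D.obj n) B') =
        (D.map (homOfLE (show n ≤ ⟨n.down + 1⟩ from Nat.le_succ n.down))).hom)
    (B : Type u) [CommRing B] [Algebra c.pt B] [Module.FaithfullyFlat c.pt B]
    [Algebra.Etale c.pt B] : Nonempty (B →ₐ[c.pt] c.pt) := by
  obtain ⟨a, Bi, _, _, hEt, ⟨e⟩⟩ := etale_poset D c hc B
  haveI : Module.FaithfullyFlat c.pt (c.pt ⊗[D.obj a] Bi) :=
    Module.FaithfullyFlat.of_linearEquiv c.pt B e.symm.toLinearEquiv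
  obtain ⟨j, hj⟩ := ff_stage (fT D a) (hgT D c a) (hsurjT D c hc a) (hkerT D c hc a) Bi
  obtain ⟨r, hr⟩ := h3 j.1 (G D a j ⊗[D.obj a] Bi)
  let j' : N.{u} := ⟨j.1.down + 1⟩
  have hjj' : j.1 ≤ j' := Nat.le_succ j.1.down
  let ψ0 : Bi →+* c.pt := (c.ι.app j').hom.comp (r.comp
    (Algebra.TensorProduct.includeRight (R := D.obj a) (A := G D a j) (B := Bi)).toRingHom)
  have hψ0 : ∀ x : D.obj a, ψ0 (algebraMap (D.obj a) Bi x) = algebraMap (D.obj a) c.pt x := by
    intro x
    change (c.ι.app j').hom (r ((Algebra.TensorProduct.includeRight (R := D.obj a)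
      (A := G D a j) (B := Bi)) (algebraMap (D.obj a) Bi x))) = _
    rw [AlgHom.commutes, IsScalarTower.algebraMap_apply (D.obj a) (G D a j)
      (G D a j ⊗[D.obj a] Bi)]
    have h4 := congr($hr (algebraMap (D.obj a) (G D a j) x))
    rw [RingHom.comp_apply] at h4
    rw [h4]
    have h5 := ι_map D c hjj' (algebraMap (D.obj a) (G D a j) x)
    have h6 := ι_map D c j.2 x
    exact h5.trans h6
  let ψ : Bi →ₐ[D.obj a] c.pt := { ψ0 with commutes' := hψ0 }
  exact ⟨(Algebra.TensorProduct.lift (Algebra.ofId c.pt c.pt) ψ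
    (fun _ _ => Commute.all _ _)).comp e.toAlgHom⟩

end Retr

end Groth.Agent.Helper2.CopAlg
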