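import Mathlib
import Groth.Agent.Lib.Helper2.IndZar1
import Groth.Agent.Lib.Helper21.EssFP3

/-!
# Localizations of `LocallyConstant T A` are ind-Zariski over `A` (helper2)
-/

set_option autoImplicit false

namespace Groth.Agent.Helper2.LCSpec

open LocallyConstant Topology TopologicalSpace
open Groth.Agent.Helper2.IndZar

universe u

/-- directed unions of local-iso subalgebras have the factorisation property -/
theorem hasFactZ_of_directedUnion {A C : Type u} [CommRing A] [CommRing C] [Algebra A C]
    (H : ∀ F : Finset C, ∃ C' : Subalgebra A C, (F : Set C) ⊆ C' ∧ Algebra.IsLocalIso A C') :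
    HasFactZ A C := by
  intro Y _ _ _ g
  classical
  obtain ⟨s, hs⟩ := (inferInstance : Algebra.FiniteType A Y).out
  obtain ⟨C', hF, hC'⟩ := H (s.image g)
  have hrange : ∀ y, g y ∈ C' := by
    intro y
    have hy : y ∈ Algebra.adjoin A (s : Set Y) := by rw [hs]; trivial
    induction hy using Algebra.adjoin_induction with
    | mem x hx =>
      apply hF
      rw [Finset.coe_image]
      exact ⟨x, hx, rfl⟩
    | algebraMap r =>
      rw [g.commutes]
      exact C'.algebraMap_mem r
    | add x y _ _ hx hy =>
      rw [map_add]
      exact C'.add_mem hx hy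
    | mul x y _ _ hx hy =>
      rw [map_mul]
      exact C'.mul_mem hx hy
  exact ⟨C', inferInstance, inferInstance, hC', g.codRestrict C' hrange, C'.val, by ext y; rfl⟩

theorem isLocalIso_range_of_injective {A W C : Type u} [CommRing A] [CommRing W] [CommRing C]
    [Algebra A W] [Algebra A C] (j : W →ₐ[A] C) (hj : Function.Injective j)
    [Algebra.IsLocalIso A W] : Algebra.IsLocalIso A j.range :=
  Algebra.IsLocalIso.of_algEquiv (AlgEquiv.ofInjective j hj)


section LC

variable {T : Type u} [TopologicalSpace T] [CompactSpace T]
variable {A : Type u} [CommRing A]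

/-- pullback of functions on a discrete quotient -/
def pull (Q : DiscreteQuotient T) : (Q → A) →ₐ[A] LocallyConstant T A where
  toFun φ := ⟨φ ∘ Q.proj, Q.proj_isLocallyConstant.comp φ⟩
  map_one' := rfl
  map_mul' _ _ := rfl
  map_zero' := rfl
  map_add' _ _ := rfl
  commutes' _ := rfl

theorem pull_injective (Q : DiscreteQuotient T) : Function.Injective (pull (A := A) Q) := by
  intro φ ψ h
  funext q
  obtain ⟨t, rfl⟩ := Q.proj_surjective q
  exact LocallyConstant.congr_fun h t

theorem exists_pull {α : Type*} [Finite α] (fam : α → LocallyConstant T A) :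
    ∃ (Q : DiscreteQuotient T) (bar : α → (Q → A)), ∀ a, pull Q (bar a) = fam a := by
  let Ψ : LocallyConstant T (α → A) := LocallyConstant.unflip fam
  refine ⟨Ψ.discreteQuotient, fun a q => Ψ.lift q a, fun a => ?_⟩
  ext t
  rfl

theorem isLocalIso_pi (Q : DiscreteQuotient T) : Algebra.IsLocalIso A (Q → A) :=
  Algebra.IsLocalIso.pi_of_finite A (fun _ : Q => A)

section AwayRange

variable (Q : DiscreteQuotient T) (sb : Q → A) (s : LocallyConstant T A) (hs : pull Q sb = s)

/-- the induced map on localizations -/
noncomputable def awayHom : Localization.Away sb →ₐ[A] Localization.Away s :=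
  IsLocalization.Away.liftAlgHom sb
    (f := (IsScalarTower.toAlgHom A (LocallyConstant T A) (Localization.Away s)).comp (pull Q)) (by
      change IsUnit (algebraMap (LocallyConstant T A) (Localization.Away s) (pull Q sb))
      rw [hs]
      exact IsLocalization.Away.algebraMap_isUnit s)

theorem awayHom_algebraMap (a : Q → A) :
    awayHom Q sb s hs (algebraMap (Q → A) (Localization.Away sb) a) =
      algebraMap (LocallyConstant T A) (Localization.Away s) (pull Q a) := by
  rw [awayHom, IsLocalization.Away.liftAlgHom_apply, IsLocalization.Away.lift_eq]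
  rfl

theorem awayHom_injective : Function.Injective (awayHom Q sb s hs) := by
  rw [injective_iff_map_eq_zero]
  intro w hw
  obtain ⟨n, a, hna⟩ := IsLocalization.Away.surj sb w
  have h1 : algebraMap (LocallyConstant T A) (Localization.Away s) (pull Q a) = 0 := by
    rw [← awayHom_algebraMap Q sb s hs, ← hna, map_mul, hw, zero_mul]
  obtain ⟨⟨c, m, rfl⟩, hc⟩ := (IsLocalization.map_eq_zero_iff (Submonoid.powers s) _ _).mp h1
  have h2 : sb ^ m * a = 0 := by
    apply pull_injective Q
    rw [map_mul, map_pow, hs, map_zero]
    exact hc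
  have h3 : algebraMap (Q → A) (Localization.Away sb) a = 0 :=
    (IsLocalization.map_eq_zero_iff (Submonoid.powers sb) _ _).mpr ⟨⟨sb ^ m, m, rfl⟩, h2⟩
  rw [h3] at hna
  have hu : IsUnit (algebraMap (Q → A) (Localization.Away sb) sb ^ n) :=
    (IsLocalization.Away.algebraMap_isUnit sb).pow n
  exact (hu.mul_left_eq_zero).mp hna

theorem mem_range_awayHom {z : Localization.Away s} {n : ℕ} {a : Q → A}
    (hz : z * algebraMap (LocallyConstant T A) (Localization.Away s) s ^ n = algebraMap (LocallyConstant T A) (Localization.Away s) (pull Q a)) :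
    z ∈ (awayHom Q sb s hs).range := by
  let w : Localization.Away sb :=
    IsLocalization.mk' (Localization.Away sb) a (⟨sb ^ n, n, rfl⟩ : Submonoid.powers sb)
  refine ⟨w, ?_⟩
  have hw : w * algebraMap (Q → A) (Localization.Away sb) sb ^ n =
      algebraMap (Q → A) (Localization.Away sb) a := by
    rw [← map_pow]
    exact IsLocalization.mk'_spec _ _ _
  have h1 := congrArg (awayHom Q sb s hs) hw
  rw [map_mul, map_pow, awayHom_algebraMap, awayHom_algebraMap, hs] at h1
  have hu : IsUnit (algebraMap (LocallyConstant T A) (Localization.Away s) s ^ n) :=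
    (IsLocalization.Away.algebraMap_isUnit s).pow n
  exact hu.mul_right_cancel (h1.trans hz.symm)

end AwayRange

theorem isLocalIso_awayPi (Q : DiscreteQuotient T) (sb : Q → A) :
    Algebra.IsLocalIso A (Localization.Away sb) := by
  have hli : Algebra.IsLocalIso A (Q → A) := isLocalIso_pi Q
  exact Algebra.IsLocalIso.trans A (Q → A) (Localization.Away sb)

theorem isLocalIso_range (Q : DiscreteQuotient T) (sb : Q → A) (s : LocallyConstant T A)
    (hs : pull Q sb = s) : Algebra.IsLocalIso A (awayHom Q sb s hs).range := by
  have hW := isLocalIso_awayPi Q sb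
  have hj : Function.Injective (awayHom Q sb s hs) :=
    awayHom_injective Q sb s hs
  exact isLocalIso_range_of_injective _ hj

theorem hasFactZ_away (s : LocallyConstant T A) : HasFactZ A (Localization.Away s) := by
  apply hasFactZ_of_directedUnion
  intro F
  classical
  have hsurj : ∀ z : Localization.Away s, ∃ (n : ℕ) (f : LocallyConstant T A),
      z * algebraMap _ (Localization.Away s) s ^ n = algebraMap _ (Localization.Away s) f :=
    fun z => IsLocalization.Away.surj s z
  choose n f hnf using hsurj
  let fam : Option F → LocallyConstant T A := fun o => o.elim s (fun z => f z.1)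
  obtain ⟨Q, bar, hbar⟩ := exists_pull fam
  have hs : pull Q (bar none) = s := hbar none
  refine ⟨(awayHom Q (bar none) s hs).range, ?_, isLocalIso_range Q (bar none) s hs⟩
  intro z hz
  have hz' : z ∈ F := hz
  have h1 : pull Q (bar (some ⟨z, hz'⟩)) = f z := hbar (some ⟨z, hz'⟩)
  have h2 := hnf z
  rw [← h1] at h2
  exact mem_range_awayHom Q (bar none) s hs h2

theorem hasFactZ_localization (S : Submonoid (LocallyConstant T A)) :
    HasFactZ A (Localization S) := by
  intro Y _ _ _ g
  obtain ⟨t, -, χ', lam, -, hlam⟩ :=
    Groth.Agent.Helper21.EssFP.exists_factor_away (R := A) (B := Y)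
      (C₀ := LocallyConstant T A) (S' := Localization S) S g
  obtain ⟨W, _, _, hW, u, v, huv⟩ := hasFactZ_away t Y χ'
  refine ⟨W, inferInstance, inferInstance, hW, u, lam.comp v, ?_⟩
  ext y
  have := DFunLike.congr_fun huv y
  simp only [AlgHom.comp_apply] at this ⊢
  rw [this, hlam]

theorem isIndZariski_localization (S : Submonoid (LocallyConstant T A)) :
    EtPBC.IsIndZariski A (Localization S) :=
  isIndZariski_of_hasFactZ (hasFactZ_localization S)

end LC

end Groth.Agent.Helper2.LCSpec
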