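import Mathlib.Topology.Spectral.Basic
import Mathlib.Topology.Spectral.ConstructibleTopology
import Mathlib.Topology.Spectral.Prespectral
import Mathlib.Topology.Inseparable

set_option autoImplicit false

namespace Groth.Agent.Helper2.SpectralCt

open Topology

section
variable {X : Type*} [TopologicalSpace X]

theorem isOpen_ct_of_isOpen [PrespectralSpace X] {U : Set X} (hU : IsOpen U) :
    IsOpen[constructibleTopology X] U := by
  obtain ⟨S, hS, rfl⟩ := (PrespectralSpace.isTopologicalBasis (X := X)).open_eq_sUnion hU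
  refine @isOpen_sUnion X (constructibleTopology X) S ?_
  intro s hs
  exact (hS hs).2.isOpen_constructibleTopology_of_isOpen (hS hs).1

theorem isClosed_ct_of_isClosed [PrespectralSpace X] {C : Set X} (hC : IsClosed C) :
    IsClosed[constructibleTopology X] C := by
  rw [← @isOpen_compl_iff X C (constructibleTopology X)]
  exact isOpen_ct_of_isOpen hC.isOpen_compl

theorem isClosed_ct_of_isCompact_isOpen {U : Set X} (hU : IsOpen U) (hc : IsCompact U) :
    IsClosed[constructibleTopology X] U := by
  rw [← @isOpen_compl_iff X U (constructibleTopology X)]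
  apply IsCompact.isOpen_constructibleTopology_of_isClosed
  · rwa [compl_compl]
  · exact hU.isClosed_compl

/-- Compactness of the constructible topology, phrased inside `X`. -/
theorem nonempty_iInter_of_directed_ct [CompactSpace X] [QuasiSober X] [PrespectralSpace X]
    [QuasiSeparatedSpace X] {ι : Type*} [Nonempty ι] (t : ι → Set X)
    (htd : Directed (· ⊇ ·) t) (htn : ∀ i, (t i).Nonempty)
    (htc : ∀ i, IsClosed[constructibleTopology X] (t i)) : (⋂ i, t i).Nonempty := by
  let t' : ι → Set (WithConstructibleTopology X) := fun i => WithTopology.ofTopology ⁻¹' (t i)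
  have h1 : (⋂ i, t' i).Nonempty := by
    apply IsCompact.nonempty_iInter_of_directed_nonempty_isCompact_isClosed t'
    · intro i j
      obtain ⟨k, hki, hkj⟩ := htd i j
      exact ⟨k, Set.preimage_mono hki, Set.preimage_mono hkj⟩
    · intro i
      obtain ⟨x, hx⟩ := htn i
      exact ⟨WithTopology.toTopology _ x, hx⟩
    · intro i
      apply IsClosed.isCompact
      rw [WithConstructibleTopology.isClosed_iff]
      exact htc i
    · intro i
      rw [WithConstructibleTopology.isClosed_iff]
      exact htc i
  obtain ⟨w, hw⟩ := h1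
  refine ⟨WithTopology.ofTopology w, ?_⟩
  rw [Set.mem_iInter] at hw ⊢
  exact hw

/-- In a spectral space, the closure of a pro-constructible set is the set of specializations of
its points. -/
theorem exists_specializes_of_mem_closure [CompactSpace X] [QuasiSober X] [PrespectralSpace X]
    [QuasiSeparatedSpace X] {S : Set X} (hS : IsClosed[constructibleTopology X] S) {z : X}
    (hz : z ∈ closure S) : ∃ w ∈ S, w ⤳ z := by
  let ι := {W : Set X // IsOpen W ∧ IsCompact W ∧ z ∈ W}
  haveI : Nonempty ι := ⟨⟨Set.univ, isOpen_univ, isCompact_univ, Set.mem_univ z⟩⟩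
  let t : ι → Set X := fun W => W.1 ∩ S
  have h := nonempty_iInter_of_directed_ct t ?_ ?_ ?_
  · obtain ⟨w, hw⟩ := h
    rw [Set.mem_iInter] at hw
    refine ⟨w, (hw ⟨Set.univ, isOpen_univ, isCompact_univ, Set.mem_univ z⟩).2, ?_⟩
    rw [specializes_iff_forall_open]
    intro s hs hzs
    obtain ⟨W, ⟨hWo, hWc⟩, hzW, hWs⟩ :=
      (PrespectralSpace.isTopologicalBasis (X := X)).exists_subset_of_mem_open hzs hs
    exact hWs (hw ⟨W, hWo, hWc, hzW⟩).1
  · intro W W'
    refine ⟨⟨W.1 ∩ W'.1, W.2.1.inter W'.2.1,
      QuasiSeparatedSpace.inter_isCompact _ _ W.2.1 W.2.2.1 W'.2.1 W'.2.2.1,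
      W.2.2.2, W'.2.2.2⟩, ?_, ?_⟩
    · exact Set.inter_subset_inter_left _ Set.inter_subset_left
    · exact Set.inter_subset_inter_left _ Set.inter_subset_right
  · intro W
    exact mem_closure_iff.mp hz W.1 W.2.1 W.2.2.2
  · intro W
    exact @IsClosed.inter X _ _ (constructibleTopology X)
      (isClosed_ct_of_isCompact_isOpen W.2.1 W.2.2.1) hS

end

end Groth.Agent.Helper2.SpectralCt
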