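import Mathlib.Topology.Spectral.Basic
import Mathlib.Topology.Spectral.ConstructibleTopology
import Mathlib.Topology.Spectral.Prespectral
import Mathlib.Topology.Inseparable
import Mathlib.Topology.Connected.Clopen
import Mathlib.Topology.Connected.TotallyDisconnected
import Groth.Agent.Lib.Helper2.SpectralCt

set_option autoImplicit false

namespace Groth.Agent.Helper2.WLocal

open Topology Set

section
variable {X : Type*} [TopologicalSpace X]

/-- In a spectral space, a pro-constructible set stable under specialization is closed. -/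
theorem isClosed_of_ct_of_stable [CompactSpace X] [QuasiSober X] [PrespectralSpace X]
    [QuasiSeparatedSpace X] {S : Set X} (hS : IsClosed[constructibleTopology X] S)
    (hst : ∀ x ∈ S, ∀ y, x ⤳ y → y ∈ S) : IsClosed S := by
  rw [← closure_subset_iff_isClosed]
  intro z hz
  obtain ⟨w, hw, hwz⟩ := SpectralCt.exists_specializes_of_mem_closure hS hz
  exact hst w hw z hwz

/-- The generalizations of a quasi-compact set form a pro-constructible set. -/
theorem isClosed_ct_generalizations [PrespectralSpace X] {Z : Set X} (hZ : IsCompact Z) :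
    IsClosed[constructibleTopology X] {x | ∃ z ∈ Z, x ⤳ z} := by
  have h : {x | ∃ z ∈ Z, x ⤳ z} =
      ⋂ W : {W : Set X // IsOpen W ∧ IsCompact W ∧ Z ⊆ W}, (W : Set X) := by
    ext x
    simp only [Set.mem_ofPred_eq, Set.mem_iInter, Subtype.forall]
    constructor
    · rintro ⟨z, hz, hxz⟩ W ⟨hWo, -, hZW⟩
      exact hxz.mem_open hWo (hZW hz)
    · intro h
      by_contra hcon
      push Not at hcon
      have hdisj : Z ⊆ (closure ({x} : Set X))ᶜ := by
        intro z hz hzx
        exact hcon z hz (specializes_iff_mem_closure.mpr hzx)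
      obtain ⟨W, hWc, hWo, hZW, hWx⟩ :=
        PrespectralSpace.exists_isCompact_and_isOpen_between hZ isClosed_closure.isOpen_compl hdisj
      exact hWx (h W ⟨hWo, hWc, hZW⟩) (subset_closure rfl)
  rw [h]
  exact @isClosed_iInter X _ (constructibleTopology X) _ fun W =>
    SpectralCt.isClosed_ct_of_isCompact_isOpen W.2.1 W.2.2.1

theorem isClosed_singleton_iff_spec (z : X) :
    IsClosed ({z} : Set X) ↔ ∀ z', z ⤳ z' → z' = z := by
  constructor
  · intro h z' hz'
    have := specializes_iff_mem_closure.mp hz'
    rw [h.closure_eq] at this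
    exact this
  · intro h
    have : closure ({z} : Set X) = {z} := by
      apply Subset.antisymm
      · intro z' hz'
        exact h z' (specializes_iff_mem_closure.mpr hz')
      · exact subset_closure
    rw [← this]
    exact isClosed_closure

theorem mk_eq_of_specializes {x x' : X} (h : x ⤳ x') :
    (ConnectedComponents.mk x : ConnectedComponents X) = ConnectedComponents.mk x' := by
  symm
  apply ConnectedComponents.coe_eq_coe'.mpr
  have hpre : IsPreconnected (closure ({x} : Set X)) := isPreconnected_singleton.closure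
  exact hpre.subset_connectedComponent (subset_closure rfl) (specializes_iff_mem_closure.mp h)

/-- In a w-local space, two closed points in the same connected component are equal. -/
theorem closedPoint_eq_of_mk_eq [SpectralSpace X]
    (hcl : IsClosed {x : X | IsClosed ({x} : Set X)})
    (huniq : ∀ x : X, ∃! y : X, IsClosed ({y} : Set X) ∧ x ⤳ y)
    {x y : X} (hx : IsClosed ({x} : Set X)) (hy : IsClosed ({y} : Set X))
    (hxy : (ConnectedComponents.mk x : ConnectedComponents X) = ConnectedComponents.mk y) :
    x = y := by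
  by_contra hne
  -- q-c open W with x ∈ W, y ∉ W
  obtain ⟨W, ⟨hWo, hWc⟩, hxW, hWy⟩ :=
    (PrespectralSpace.isTopologicalBasis (X := X)).exists_subset_of_mem_open
      (show x ∈ ({y} : Set X)ᶜ from hne) hy.isOpen_compl
  set Xc : Set X := {p : X | IsClosed ({p} : Set X)} with hXc
  set U₀ : Set X := W ∩ Xc with hU₀
  set V₀ : Set X := Xc ∩ Wᶜ with hV₀
  have hV₀cl : IsClosed V₀ := hcl.inter hWo.isClosed_compl
  have hU₀cl : IsClosed U₀ := by
    apply isClosed_of_ct_of_stable
    · exact @IsClosed.inter X _ _ (constructibleTopology X)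
        (SpectralCt.isClosed_ct_of_isCompact_isOpen hWo hWc)
        (SpectralCt.isClosed_ct_of_isClosed hcl)
    · intro p hp q hpq
      have : q = p := (isClosed_singleton_iff_spec p).mp hp.2 q hpq
      rw [this]; exact hp
  choose r hr hr' using huniq
  have hr_eq : ∀ p z, IsClosed ({z} : Set X) → p ⤳ z → z = r p := fun p z h1 h2 => hr' p z ⟨h1, h2⟩
  have hr_spec : ∀ p q, p ⤳ q → r q = r p := fun p q hpq =>
    hr_eq p (r q) (hr q).1 (hpq.trans (hr q).2)
  set U : Set X := {p | r p ∈ U₀} with hU
  set V : Set X := {p | r p ∈ V₀} with hV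
  have hUgen : U = {p | ∃ z ∈ U₀, p ⤳ z} := by
    ext p
    constructor
    · intro hp; exact ⟨r p, hp, (hr p).2⟩
    · rintro ⟨z, hz, hpz⟩
      have : z = r p := hr_eq p z hz.2 hpz
      change r p ∈ U₀
      rw [← this]; exact hz
  have hVgen : V = {p | ∃ z ∈ V₀, p ⤳ z} := by
    ext p
    constructor
    · intro hp; exact ⟨r p, hp, (hr p).2⟩
    · rintro ⟨z, hz, hpz⟩
      have : z = r p := hr_eq p z hz.1 hpz
      change r p ∈ V₀
      rw [← this]; exact hz
  have hUcl : IsClosed U := by
    apply isClosed_of_ct_of_stable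
    · rw [hUgen]; exact isClosed_ct_generalizations hU₀cl.isCompact
    · intro p hp q hpq
      change r q ∈ U₀
      rw [hr_spec p q hpq]; exact hp
  have hVcl : IsClosed V := by
    apply isClosed_of_ct_of_stable
    · rw [hVgen]; exact isClosed_ct_generalizations hV₀cl.isCompact
    · intro p hp q hpq
      change r q ∈ V₀
      rw [hr_spec p q hpq]; exact hp
  have hUV : U = Vᶜ := by
    ext p
    constructor
    · intro hp hp'
      exact hp'.2 hp.1
    · intro hp
      have h1 : r p ∈ Xc := (hr p).1
      by_cases h2 : r p ∈ W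
      · exact ⟨h2, h1⟩
      · exact absurd (show p ∈ V from ⟨h1, h2⟩) hp
  have hUclopen : IsClopen U := ⟨hUcl, hUV ▸ hVcl.isOpen_compl⟩
  have hrx : r x = x := (hr_eq x x hx specializes_rfl).symm
  have hry : r y = y := (hr_eq y y hy specializes_rfl).symm
  have hxU : x ∈ U := by
    change r x ∈ U₀
    rw [hrx]; exact ⟨hxW, hx⟩
  have hyU : y ∉ U := by
    intro h
    change r y ∈ U₀ at h
    rw [hry] at h
    exact hWy h.1 rfl
  have hyc : y ∈ connectedComponent x := ConnectedComponents.coe_eq_coe'.mp hxy.symm
  exact hyU (hUclopen.connectedComponent_subset hxU hyc)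
end
end Groth.Agent.Helper2.WLocal
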