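import Mathlib
import Groth.Prelude.Def_ProEtW
import Groth.Prelude.Def_PBC
import Groth.Agent.Lib.Helper2.LCSpec1
import Groth.Agent.Lib.Helper2.LCSpec2
import Groth.Agent.Lib.Helper2.FlatColim
import Groth.Agent.Lib.Helper2.WLocal

/-!
# The w-localization of a ring (helper2)

`Aw A := S⁻¹ LC(Spec A with the constructible topology, A)`.
-/

set_option autoImplicit false

namespace Groth.Agent.Helper2.WLoc

open LocallyConstant Topology TopologicalSpace Set
open Groth.Agent.Helper2.LCSpec

universe u

section Flat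

variable {T : Type u} [TopologicalSpace T] [CompactSpace T] (A : Type u) [CommRing A]

/-- restriction along a refinement -/
def refine {Q₁ Q₂ : DiscreteQuotient T} (h : Q₁ ≤ Q₂) : (Q₂ → A) →ₐ[A] (Q₁ → A) where
  toFun φ := φ ∘ DiscreteQuotient.ofLE h
  map_one' := rfl
  map_mul' _ _ := rfl
  map_zero' := rfl
  map_add' _ _ := rfl
  commutes' _ := rfl

theorem pull_refine {Q₁ Q₂ : DiscreteQuotient T} (h : Q₁ ≤ Q₂) :
    (pull (A := A) Q₁).comp (refine A h) = pull Q₂ := by
  ext φ t
  change φ (DiscreteQuotient.ofLE h (Q₁.proj t)) = φ (Q₂.proj t)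
  rw [DiscreteQuotient.ofLE_proj]

theorem flat_locallyConstant : Module.Flat A (LocallyConstant T A) := by
  haveI : Nonempty (DiscreteQuotient T) := ⟨⊤⟩
  refine FlatColim.flat_of_algebra_stages (A := A) (B := LocallyConstant T A)
    (J := DiscreteQuotient T) (fun Q => (Q → A)) (fun Q => pull Q) ?_ ?_ ?_ ?_
  · intro Q₁ Q₂
    exact ⟨Q₁ ⊓ Q₂, refine A inf_le_left, refine A inf_le_right, pull_refine A _, pull_refine A _⟩
  · intro f
    obtain ⟨Q, bar, hbar⟩ := exists_pull (fun _ : Unit => f)
    exact ⟨Q, bar (), hbar ()⟩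
  · intro Q c hc
    refine ⟨Q, AlgHom.id A _, AlgHom.comp_id _, ?_⟩
    apply pull_injective Q
    rw [AlgHom.id_apply, hc, map_zero]
  · intro Q
    infer_instance

theorem flat_localization (S : Submonoid (LocallyConstant T A)) :
    Module.Flat A (Localization S) := by
  haveI := flat_locallyConstant (T := T) A
  haveI : Module.Flat (LocallyConstant T A) (Localization S) := IsLocalization.flat _ S
  exact Module.Flat.trans A (LocallyConstant T A) (Localization S)

end Flat

variable (A : Type u) [CommRing A]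

/-- `Spec A` with the constructible topology -/
abbrev Tc : Type u := WithConstructibleTopology (PrimeSpectrum A)

/-- the underlying point -/
abbrev o (t : Tc A) : PrimeSpectrum A := WithTopology.ofTopology t

/-- a point of `Spec A` as a point of `Tc A` -/
abbrev ι (x : PrimeSpectrum A) : Tc A := WithTopology.toTopology _ x

/-- the clopen subset of `Tc A` attached to `f` -/
def Df (f : A) : Set (Tc A) := o A ⁻¹' (PrimeSpectrum.basicOpen f : Set (PrimeSpectrum A))

theorem mem_Df {f : A} {t : Tc A} : t ∈ Df A f ↔ f ∉ (o A t).asIdeal := Iff.rfl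

theorem isClopen_Df (f : A) : IsClopen (Df A f) := by
  constructor
  · rw [← isOpen_compl_iff, WithTopology.isOpen_iff]
    change IsOpen[constructibleTopology (PrimeSpectrum A)]
      ((PrimeSpectrum.basicOpen f : Set (PrimeSpectrum A))ᶜ)
    exact IsCompact.isOpen_constructibleTopology_of_isClosed
      (by rw [compl_compl]; exact PrimeSpectrum.isCompact_basicOpen f)
      (PrimeSpectrum.basicOpen f).2.isClosed_compl
  · rw [WithTopology.isOpen_iff]
    exact IsCompact.isOpen_constructibleTopology_of_isOpen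
      (PrimeSpectrum.isCompact_basicOpen f) (PrimeSpectrum.basicOpen f).2

instance : TotallySeparatedSpace (Tc A) := by
  rw [totallySeparatedSpace_iff_exists_isClopen]
  intro t t' hne
  have hne' : o A t ≠ o A t' := fun h => hne (WithTopology.ofTopology_injective _ h)
  have hne'' : (o A t).asIdeal ≠ (o A t').asIdeal := fun h => hne' (PrimeSpectrum.ext h)
  by_cases hle : (o A t').asIdeal ≤ (o A t).asIdeal
  · have : ¬ (o A t).asIdeal ≤ (o A t').asIdeal := fun h => hne'' (le_antisymm h hle)
    obtain ⟨f, hf, hf'⟩ := SetLike.not_le_iff_exists.mp this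
    exact ⟨(Df A f)ᶜ, (isClopen_Df A f).compl, fun h => h hf, fun h => h hf'⟩
  · obtain ⟨f, hf, hf'⟩ := SetLike.not_le_iff_exists.mp hle
    exact ⟨Df A f, isClopen_Df A f, hf', fun h => h hf⟩

/-- the generators of the multiplicative set -/
noncomputable def sEl (f : A) : LocallyConstant (Tc A) A :=
  algebraMap A (LocallyConstant (Tc A) A) f * charFn A (isClopen_Df A f) +
    charFn A (isClopen_Df A f).compl

theorem sEl_apply_mem {f : A} {t : Tc A} (ht : t ∈ Df A f) : sEl A f t = f := by
  have h' : t ∉ (Df A f)ᶜ := fun hc => hc ht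
  change f * charFn A (isClopen_Df A f) t + charFn A (isClopen_Df A f).compl t = f
  rw [charFn_apply_of_mem _ ht, charFn_apply_of_notMem _ h']
  ring

theorem sEl_apply_notMem {f : A} {t : Tc A} (ht : t ∉ Df A f) : sEl A f t = 1 := by
  have h' : t ∈ (Df A f)ᶜ := ht
  change f * charFn A (isClopen_Df A f) t + charFn A (isClopen_Df A f).compl t = 1
  rw [charFn_apply_of_notMem _ ht, charFn_apply_of_mem _ h']
  ring

/-- the multiplicative set -/
def Sw : Submonoid (LocallyConstant (Tc A) A) := Submonoid.closure (Set.range (sEl A))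

/-- the w-localization -/
abbrev Aw : Type u := Localization (Sw A)

theorem range_eq :
    {x : PrimeSpectrum A × Tc A | ∀ s ∈ Sw A, s x.2 ∉ x.1.asIdeal} =
      {p | p.1.asIdeal ≤ (o A p.2).asIdeal} := by
  ext ⟨x, t⟩
  simp only [Set.mem_ofPred_eq]
  constructor
  · intro H f hf
    by_contra hft
    have h1 := H (sEl A f) (Submonoid.subset_closure ⟨f, rfl⟩)
    rw [sEl_apply_mem A (mem_Df A |>.mpr hft)] at h1
    exact h1 hf
  · intro H s hs
    induction hs using Submonoid.closure_induction with
    | mem s hs =>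
      obtain ⟨f, rfl⟩ := hs
      by_cases ht : t ∈ Df A f
      · rw [sEl_apply_mem A ht]
        exact fun hf => ht (H hf)
      · rw [sEl_apply_notMem A ht]
        exact x.isPrime.one_notMem
    | one => exact x.isPrime.one_notMem
    | mul a b _ _ ha hb =>
      intro hmem
      rcases x.isPrime.mem_or_mem hmem with h | h
      exacts [ha h, hb h]

/-- the map `Spec (Aw A) → Spec A × Tc A` -/
noncomputable abbrev lm : PrimeSpectrum (Aw A) → PrimeSpectrum A × Tc A := locMap (Sw A)

theorem range_lm : Set.range (lm A) = {p | p.1.asIdeal ≤ (o A p.2).asIdeal} :=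
  (range_locMap (Sw A)).trans (range_eq A)

theorem lm_le (y : PrimeSpectrum (Aw A)) : (lm A y).1.asIdeal ≤ (o A (lm A y).2).asIdeal := by
  have : lm A y ∈ Set.range (lm A) := ⟨y, rfl⟩
  rw [range_lm] at this
  exact this

theorem lm_injective : Function.Injective (lm A) := (isEmbedding_locMap (Sw A)).injective

theorem lm_fst (y : PrimeSpectrum (Aw A)) :
    (lm A y).1 = PrimeSpectrum.comap (algebraMap A (Aw A)) y := rfl

theorem exists_lm {x : PrimeSpectrum A} {t : Tc A} (h : x.asIdeal ≤ (o A t).asIdeal) :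
    ∃ y, lm A y = (x, t) := by
  have : (x, t) ∈ Set.range (lm A) := by rw [range_lm]; exact h
  exact this

theorem specializes_iff (y y' : PrimeSpectrum (Aw A)) :
    y ⤳ y' ↔ (lm A y).1.asIdeal ≤ (lm A y').1.asIdeal ∧ (lm A y).2 = (lm A y').2 := by
  rw [← (isEmbedding_locMap (Sw A)).isInducing.specializes_iff]
  have key : (lm A y ⤳ lm A y') ↔ ((lm A y).1 ⤳ (lm A y').1 ∧ (lm A y).2 ⤳ (lm A y').2) :=
    specializes_prod (x₁ := (lm A y).1) (y₁ := (lm A y).2) (x₂ := (lm A y').1) (y₂ := (lm A y').2)
  change lm A y ⤳ lm A y' ↔ _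
  rw [key, ← PrimeSpectrum.le_iff_specializes, specializes_iff_eq (X := Tc A)]
  rfl

/-- the closed point below a point -/
theorem isClosed_singleton_iff (y : PrimeSpectrum (Aw A)) :
    IsClosed ({y} : Set (PrimeSpectrum (Aw A))) ↔ (lm A y).1 = o A (lm A y).2 := by
  rw [WLocal.isClosed_singleton_iff_spec]
  constructor
  · intro H
    obtain ⟨y', hy'⟩ := exists_lm A (x := o A (lm A y).2) (t := (lm A y).2) le_rfl
    have h1 : y ⤳ y' := by
      rw [specializes_iff, hy']
      exact ⟨lm_le A y, rfl⟩
    have h2 := H y' h1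
    rw [← h2, hy']
  · intro H y' hy'
    rw [specializes_iff] at hy'
    apply lm_injective A
    have h1 := lm_le A y'
    rw [← hy'.2, ← H] at h1
    exact Prod.ext (PrimeSpectrum.ext (le_antisymm h1 hy'.1)) hy'.2.symm

theorem isWLocal : ProEtW.IsWLocal (PrimeSpectrum (Aw A)) := by
  refine ⟨inferInstance, ?_, ?_⟩
  · -- closed points form a closed set
    rw [← isOpen_compl_iff, isOpen_iff_forall_mem_open]
    intro y hy
    have hy' : ¬ (lm A y).1 = o A (lm A y).2 := fun h => hy ((isClosed_singleton_iff A y).mpr h)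
    have hle := lm_le A y
    have hnle : ¬ (o A (lm A y).2).asIdeal ≤ (lm A y).1.asIdeal := fun h =>
      hy' (PrimeSpectrum.ext (le_antisymm hle h))
    obtain ⟨f, hf, hf'⟩ := SetLike.not_le_iff_exists.mp hnle
    refine ⟨lm A ⁻¹' ((PrimeSpectrum.basicOpen f : Set (PrimeSpectrum A)) ×ˢ (Df A f)ᶜ), ?_, ?_, ?_⟩
    · rintro y' ⟨h1, h2⟩ hcl
      have h3 := (isClosed_singleton_iff A y').mp hcl
      have h1' : f ∉ (lm A y').1.asIdeal := h1
      rw [h3] at h1'
      exact h2 h1'
    · exact ((PrimeSpectrum.basicOpen f).2.prod (isClopen_Df A f).compl.isOpen).preimage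
        (isEmbedding_locMap (Sw A)).continuous
    · exact ⟨hf', fun h => h hf⟩
  · intro y
    obtain ⟨yc, hyc⟩ := exists_lm A (x := o A (lm A y).2) (t := (lm A y).2) le_rfl
    have hcl : IsClosed ({yc} : Set (PrimeSpectrum (Aw A))) := by
      rw [isClosed_singleton_iff, hyc]
    refine ⟨yc, ⟨hcl, ?_⟩, ?_⟩
    · rw [specializes_iff, hyc]
      exact ⟨lm_le A y, rfl⟩
    · rintro y'' ⟨hcl'', hsp⟩
      rw [specializes_iff] at hsp
      have h3 := (isClosed_singleton_iff A y'').mp hcl''
      apply lm_injective A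
      rw [hyc]
      exact Prod.ext (by rw [h3, hsp.2]) hsp.2.symm

theorem bijOn : Set.BijOn (PrimeSpectrum.comap (algebraMap A (Aw A)))
    (ProEtW.closedPoints (PrimeSpectrum (Aw A))) Set.univ := by
  refine ⟨fun _ _ => trivial, ?_, ?_⟩
  · intro y hy y' hy' h
    have h1 := (isClosed_singleton_iff A y).mp hy
    have h2 := (isClosed_singleton_iff A y').mp hy'
    rw [← lm_fst, ← lm_fst] at h
    apply lm_injective A
    have h3 : (lm A y).2 = (lm A y').2 := by
      apply WithTopology.ofTopology_injective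
      exact h1.symm.trans (h.trans h2)
    exact Prod.ext h h3
  · intro x _
    obtain ⟨y, hy⟩ := exists_lm A (x := x) (t := ι A x) le_rfl
    refine ⟨y, ?_, ?_⟩
    · change IsClosed ({y} : Set (PrimeSpectrum (Aw A)))
      rw [isClosed_singleton_iff, hy]
    · rw [← lm_fst, hy]

theorem faithfullyFlat : Module.FaithfullyFlat A (Aw A) := by
  haveI : Module.Flat A (Aw A) := flat_localization A (Sw A)
  apply Module.FaithfullyFlat.of_comap_surjective
  intro x
  obtain ⟨y, -, hy⟩ := (bijOn A).surjOn (Set.mem_univ x)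
  exact ⟨y, hy⟩

theorem isIndZariski : EtPBC.IsIndZariski A (Aw A) := isIndZariski_localization (Sw A)

end Groth.Agent.Helper2.WLoc
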