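import Mathlib
import Groth.Prelude.Def_ProEtW
import Groth.Prelude.Def_PBC
import Groth.Agent.Lib.Helper2.WLoc1

/-!
# w-local ind-Zariski algebras attached to a profinite set over `Spec A` (helper2)

For a profinite `T` and a map `r : T → Spec A` which is continuous for the constructible topology,
`Br A r := S⁻¹ LC(T, A)` has spectrum `{(x, t) | x ⤳ r t}`, is w-local with `π₀ ≃ₜ T`.
-/

set_option autoImplicit false

namespace Groth.Agent.Helper2.WLoc

open LocallyConstant Topology TopologicalSpace Set
open Groth.Agent.Helper2.LCSpec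

universe u

variable (A : Type u) [CommRing A] {T : Type u} [TopologicalSpace T] (r : C(T, Tc A))

/-- the point of `Spec A` attached to `t` -/
abbrev oo (t : T) : PrimeSpectrum A := o A (r t)

/-- the clopen subset of `T` attached to `f` -/
def Dr (f : A) : Set T := r ⁻¹' Df A f

theorem mem_Dr {f : A} {t : T} : t ∈ Dr A r f ↔ f ∉ (oo A r t).asIdeal := Iff.rfl

theorem isClopen_Dr (f : A) : IsClopen (Dr A r f) := (isClopen_Df A f).preimage r.continuous

/-- the generators of the multiplicative set -/
noncomputable def sElr (f : A) : LocallyConstant T A :=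
  algebraMap A (LocallyConstant T A) f * charFn A (isClopen_Dr A r f) +
    charFn A (isClopen_Dr A r f).compl

theorem sElr_apply_mem {f : A} {t : T} (ht : t ∈ Dr A r f) : sElr A r f t = f := by
  have h' : t ∉ (Dr A r f)ᶜ := fun hc => hc ht
  change f * charFn A (isClopen_Dr A r f) t + charFn A (isClopen_Dr A r f).compl t = f
  rw [charFn_apply_of_mem _ ht, charFn_apply_of_notMem _ h']
  ring

theorem sElr_apply_notMem {f : A} {t : T} (ht : t ∉ Dr A r f) : sElr A r f t = 1 := by
  have h' : t ∈ (Dr A r f)ᶜ := ht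
  change f * charFn A (isClopen_Dr A r f) t + charFn A (isClopen_Dr A r f).compl t = 1
  rw [charFn_apply_of_notMem _ ht, charFn_apply_of_mem _ h']
  ring

/-- the multiplicative set -/
def Sr : Submonoid (LocallyConstant T A) := Submonoid.closure (Set.range (sElr A r))

/-- the algebra -/
abbrev Br : Type u := Localization (Sr A r)

theorem range_eq_r :
    {x : PrimeSpectrum A × T | ∀ s ∈ Sr A r, s x.2 ∉ x.1.asIdeal} =
      {p | p.1.asIdeal ≤ (oo A r p.2).asIdeal} := by
  ext ⟨x, t⟩
  simp only [Set.mem_ofPred_eq]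
  constructor
  · intro H f hf
    by_contra hft
    have h1 := H (sElr A r f) (Submonoid.subset_closure ⟨f, rfl⟩)
    rw [sElr_apply_mem A r (mem_Dr A r |>.mpr hft)] at h1
    exact h1 hf
  · intro H s hs
    induction hs using Submonoid.closure_induction with
    | mem s hs =>
      obtain ⟨f, rfl⟩ := hs
      by_cases ht : t ∈ Dr A r f
      · rw [sElr_apply_mem A r ht]
        exact fun hf => ht (H hf)
      · rw [sElr_apply_notMem A r ht]
        exact x.isPrime.one_notMem
    | one => exact x.isPrime.one_notMem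
    | mul a b _ _ ha hb =>
      intro hmem
      rcases x.isPrime.mem_or_mem hmem with h | h
      exacts [ha h, hb h]

variable [CompactSpace T] [T2Space T] [TotallyDisconnectedSpace T]

/-- the map `Spec (Br A r) → Spec A × T` -/
noncomputable abbrev lmr : PrimeSpectrum (Br A r) → PrimeSpectrum A × T := locMap (Sr A r)

theorem range_lmr : Set.range (lmr A r) = {p | p.1.asIdeal ≤ (oo A r p.2).asIdeal} :=
  (range_locMap (Sr A r)).trans (range_eq_r A r)

theorem lmr_le (y : PrimeSpectrum (Br A r)) :
    (lmr A r y).1.asIdeal ≤ (oo A r (lmr A r y).2).asIdeal := by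
  have : lmr A r y ∈ Set.range (lmr A r) := ⟨y, rfl⟩
  rw [range_lmr] at this
  exact this

theorem lmr_injective : Function.Injective (lmr A r) := (isEmbedding_locMap (Sr A r)).injective

theorem lmr_fst (y : PrimeSpectrum (Br A r)) :
    (lmr A r y).1 = PrimeSpectrum.comap (algebraMap A (Br A r)) y := rfl

theorem exists_lmr {x : PrimeSpectrum A} {t : T} (h : x.asIdeal ≤ (oo A r t).asIdeal) :
    ∃ y, lmr A r y = (x, t) := by
  have : (x, t) ∈ Set.range (lmr A r) := by rw [range_lmr]; exact h
  exact this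

theorem specializes_iff_r (y y' : PrimeSpectrum (Br A r)) :
    y ⤳ y' ↔ (lmr A r y).1.asIdeal ≤ (lmr A r y').1.asIdeal ∧ (lmr A r y).2 = (lmr A r y').2 := by
  rw [← (isEmbedding_locMap (Sr A r)).isInducing.specializes_iff]
  have key : (lmr A r y ⤳ lmr A r y') ↔
      ((lmr A r y).1 ⤳ (lmr A r y').1 ∧ (lmr A r y).2 ⤳ (lmr A r y').2) :=
    specializes_prod (x₁ := (lmr A r y).1) (y₁ := (lmr A r y).2) (x₂ := (lmr A r y').1)
      (y₂ := (lmr A r y').2)
  change lmr A r y ⤳ lmr A r y' ↔ _
  rw [key, ← PrimeSpectrum.le_iff_specializes, specializes_iff_eq (X := T)]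
  rfl

theorem isClosed_singleton_iff_r (y : PrimeSpectrum (Br A r)) :
    IsClosed ({y} : Set (PrimeSpectrum (Br A r))) ↔ (lmr A r y).1 = oo A r (lmr A r y).2 := by
  rw [WLocal.isClosed_singleton_iff_spec]
  constructor
  · intro H
    obtain ⟨y', hy'⟩ := exists_lmr A r (x := oo A r (lmr A r y).2) (t := (lmr A r y).2) le_rfl
    have h1 : y ⤳ y' := by
      rw [specializes_iff_r, hy']
      exact ⟨lmr_le A r y, rfl⟩
    have h2 := H y' h1
    rw [← h2, hy']
  · intro H y' hy'
    rw [specializes_iff_r] at hy'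
    apply lmr_injective A r
    have h1 := lmr_le A r y'
    rw [← hy'.2, ← H] at h1
    exact Prod.ext (PrimeSpectrum.ext (le_antisymm h1 hy'.1)) hy'.2.symm

theorem isWLocal_r : ProEtW.IsWLocal (PrimeSpectrum (Br A r)) := by
  refine ⟨inferInstance, ?_, ?_⟩
  · rw [← isOpen_compl_iff, isOpen_iff_forall_mem_open]
    intro y hy
    have hy' : ¬ (lmr A r y).1 = oo A r (lmr A r y).2 := fun h =>
      hy ((isClosed_singleton_iff_r A r y).mpr h)
    have hle := lmr_le A r y
    have hnle : ¬ (oo A r (lmr A r y).2).asIdeal ≤ (lmr A r y).1.asIdeal := fun h =>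
      hy' (PrimeSpectrum.ext (le_antisymm hle h))
    obtain ⟨f, hf, hf'⟩ := SetLike.not_le_iff_exists.mp hnle
    refine ⟨lmr A r ⁻¹' ((PrimeSpectrum.basicOpen f : Set (PrimeSpectrum A)) ×ˢ (Dr A r f)ᶜ),
      ?_, ?_, ?_⟩
    · rintro y' ⟨h1, h2⟩ hcl
      have h3 := (isClosed_singleton_iff_r A r y').mp hcl
      have h1' : f ∉ (lmr A r y').1.asIdeal := h1
      rw [h3] at h1'
      exact h2 h1'
    · exact ((PrimeSpectrum.basicOpen f).2.prod (isClopen_Dr A r f).compl.isOpen).preimage
        (isEmbedding_locMap (Sr A r)).continuous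
    · exact ⟨hf', fun h => h hf⟩
  · intro y
    obtain ⟨yc, hyc⟩ := exists_lmr A r (x := oo A r (lmr A r y).2) (t := (lmr A r y).2) le_rfl
    have hcl : IsClosed ({yc} : Set (PrimeSpectrum (Br A r))) := by
      rw [isClosed_singleton_iff_r, hyc]
    refine ⟨yc, ⟨hcl, ?_⟩, ?_⟩
    · rw [specializes_iff_r, hyc]
      exact ⟨lmr_le A r y, rfl⟩
    · rintro y'' ⟨hcl'', hsp⟩
      rw [specializes_iff_r] at hsp
      have h3 := (isClosed_singleton_iff_r A r y'').mp hcl''
      apply lmr_injective A r
      rw [hyc]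
      exact Prod.ext (by rw [h3, hsp.2]) hsp.2.symm

theorem isIndZariski_r : EtPBC.IsIndZariski A (Br A r) := isIndZariski_localization (Sr A r)

theorem faithfullyFlat_r (hr : Function.Surjective r) : Module.FaithfullyFlat A (Br A r) := by
  haveI : Module.Flat A (Br A r) := flat_localization A (Sr A r)
  apply Module.FaithfullyFlat.of_comap_surjective
  intro x
  obtain ⟨t, ht⟩ := hr (ι A x)
  have hx : oo A r t = x := by
    change o A (r t) = x
    rw [ht]
  obtain ⟨y, hy⟩ := exists_lmr A r (x := x) (t := t) (by rw [hx])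
  refine ⟨y, ?_⟩
  rw [← lmr_fst, hy]

/-- the projection to `T` -/
noncomputable def p2 (y : PrimeSpectrum (Br A r)) : T := (lmr A r y).2

theorem continuous_p2 : Continuous (p2 A r) :=
  continuous_snd.comp (isEmbedding_locMap (Sr A r)).continuous

theorem p2_surjective : Function.Surjective (p2 A r) := by
  intro t
  obtain ⟨y, hy⟩ := exists_lmr A r (x := oo A r t) (t := t) le_rfl
  exact ⟨y, by rw [p2, hy]⟩

theorem mk_eq_of_p2_eq {y y' : PrimeSpectrum (Br A r)} (h : p2 A r y = p2 A r y') :
    (ConnectedComponents.mk y : ConnectedComponents (PrimeSpectrum (Br A r))) =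
      ConnectedComponents.mk y' := by
  obtain ⟨yc, hyc⟩ := exists_lmr A r (x := oo A r (lmr A r y).2) (t := (lmr A r y).2) le_rfl
  have h1 : y ⤳ yc := by
    rw [specializes_iff_r, hyc]
    exact ⟨lmr_le A r y, rfl⟩
  have h2 : y' ⤳ yc := by
    rw [specializes_iff_r, hyc]
    have h' : (lmr A r y').2 = (lmr A r y).2 := h.symm
    refine ⟨?_, h'⟩
    have := lmr_le A r y'
    rw [h'] at this
    exact this
  rw [WLocal.mk_eq_of_specializes h1, WLocal.mk_eq_of_specializes h2]

/-- `π₀ (Spec (Br A r)) ≃ₜ T` -/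
noncomputable def pi0Homeo : ConnectedComponents (PrimeSpectrum (Br A r)) ≃ₜ T := by
  haveI : CompactSpace (ConnectedComponents (PrimeSpectrum (Br A r))) :=
    ConnectedComponents.isQuotientMap_coe.surjective.compactSpace
      ConnectedComponents.continuous_coe
  refine Continuous.homeoOfEquivCompactToT2
    (f := Equiv.ofBijective (continuous_p2 A r).connectedComponentsLift ⟨?_, ?_⟩)
    (continuous_p2 A r).connectedComponentsLift_continuous
  · intro a b hab
    obtain ⟨y, rfl⟩ := ConnectedComponents.surjective_coe a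
    obtain ⟨y', rfl⟩ := ConnectedComponents.surjective_coe b
    exact mk_eq_of_p2_eq A r hab
  · intro t
    obtain ⟨y, hy⟩ := p2_surjective A r t
    exact ⟨ConnectedComponents.mk y, hy⟩

theorem pi0Homeo_mk (y : PrimeSpectrum (Br A r)) :
    pi0Homeo A r (ConnectedComponents.mk y) = p2 A r y := rfl

end Groth.Agent.Helper2.WLoc
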