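import Mathlib
import Groth.Prelude.Def_ProEtW
import Groth.Prelude.Def_PBC
import Groth.Agent.Lib.Helper2.WLoc2

/-!
# w-localization along a profinite closed subset `V(I)` (helper2)

For `I ⊂ A` with `V(I)` profinite, `B := Br A (rI A I)` is ind-Zariski over `A`, has w-local
spectrum with closed points `V(IB)` and `A/I → B/IB` is bijective.
-/

set_option autoImplicit false

universe u

namespace Groth.Agent.Helper2.WLoc

open LocallyConstant Topology TopologicalSpace Set
open Groth.Agent.Helper2.LCSpec

section General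

variable {T : Type u} [TopologicalSpace T] [CompactSpace T] {A : Type u} [CommRing A]

theorem mem_map_of_forall_apply_mem (I : Ideal A) (G : LocallyConstant T A)
    (hG : ∀ t, G t ∈ I) : G ∈ I.map (algebraMap A (LocallyConstant T A)) := by
  set J := I.map (algebraMap A (LocallyConstant T A)) with hJ
  have key : ∃ (U : Set T) (hU : IsClopen U), Set.univ ⊆ U ∧ charFn A hU * G ∈ J := by
    apply IsCompact.induction_on isCompact_univ
      (p := fun S => ∃ (U : Set T) (hU : IsClopen U), S ⊆ U ∧ charFn A hU * G ∈ J)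
    · exact ⟨∅, isClopen_empty, subset_rfl, by rw [charFn_empty, zero_mul]; exact J.zero_mem⟩
    · rintro s t hst ⟨U, hU, htU, hUP⟩
      exact ⟨U, hU, hst.trans htU, hUP⟩
    · rintro s t ⟨U, hU, hsU, hUP⟩ ⟨V, hV, htV, hVP⟩
      refine ⟨U ∪ V, hU.union hV, Set.union_subset_union hsU htV, ?_⟩
      rw [charFn_union hU hV]
      have e : (charFn A hU + charFn A hV - charFn A hU * charFn A hV) * G =
          charFn A hU * G + charFn A hV * G - charFn A hU * (charFn A hV * G) := by ring
      rw [e]
      exact J.sub_mem (J.add_mem hUP hVP) (J.mul_mem_left _ hVP)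
    · intro t _
      let U : Set T := G ⁻¹' {G t}
      have hU : IsClopen U := G.isLocallyConstant.isClopen_fiber _
      refine ⟨U, mem_nhdsWithin_of_mem_nhds (hU.isOpen.mem_nhds rfl), U, hU, subset_rfl, ?_⟩
      have e : charFn A hU * G = charFn A hU * algebraMap A (LocallyConstant T A) (G t) := by
        ext x
        change charFn A hU x * G x = charFn A hU x * G t
        by_cases hx : x ∈ U
        · have : G x = G t := hx
          rw [this]
        · rw [charFn_apply_of_notMem hU hx, zero_mul, zero_mul]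
      rw [e]
      exact J.mul_mem_left _ (Ideal.mem_map_of_mem _ (hG t))
  obtain ⟨U, hU, hsub, hUP⟩ := key
  have hUu : U = Set.univ := Set.univ_subset_iff.mp hsub
  subst hUu
  rwa [charFn_univ, one_mul] at hUP

theorem apply_mem_of_mem_map (I : Ideal A) (G : LocallyConstant T A)
    (hG : G ∈ I.map (algebraMap A (LocallyConstant T A))) (t : T) : G t ∈ I := by
  have h := Ideal.mem_map_of_mem (evalRingHom (Y := A) t) hG
  rw [Ideal.map_map] at h
  have e : (evalRingHom (Y := A) t).comp (algebraMap A (LocallyConstant T A)) = RingHom.id A := by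
    ext a
    rfl
  rw [e, Ideal.map_id] at h
  exact h

end General

section VI

variable (A : Type u) [CommRing A] (I : Ideal A)

/-- the closed subset `V(I)` as a type -/
abbrev VI : Type u := ↥(PrimeSpectrum.zeroLocus (R := A) (I : Set A))

variable [CompactSpace (VI A I)] [T2Space (VI A I)] [TotallyDisconnectedSpace (VI A I)]

theorem continuous_val_constructible :
    Continuous[inferInstance, constructibleTopology (PrimeSpectrum A)]
      (Subtype.val : VI A I → PrimeSpectrum A) := by
  change Continuous[inferInstance, TopologicalSpace.generateFrom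
    (constructibleTopologySubbasis (PrimeSpectrum A))] (Subtype.val : VI A I → PrimeSpectrum A)
  rw [continuous_generateFrom_iff]
  rintro s (⟨ho, -⟩ | ⟨hcl, hc⟩)
  · exact ho.preimage continuous_subtype_val
  · have hemb : IsClosedEmbedding (Subtype.val : VI A I → PrimeSpectrum A) :=
      (PrimeSpectrum.isClosed_zeroLocus _).isClosedEmbedding_subtypeVal
    have h1 : IsCompact (Subtype.val ⁻¹' sᶜ : Set (VI A I)) := hemb.isCompact_preimage hc
    have h2 := h1.isClosed
    rw [Set.preimage_compl, isClosed_compl_iff] at h2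
    exact h2

/-- the inclusion `V(I) → Spec A` is continuous for the constructible topology -/
noncomputable def rI : C(VI A I, Tc A) where
  toFun t := ι A t.val
  continuous_toFun := by
    rw [continuous_def]
    intro s hs
    rw [WithConstructibleTopology.isOpen_iff] at hs
    exact (continuous_def.mp (continuous_val_constructible A I)) _ hs

theorem oo_rI (t : VI A I) : oo A (rI A I) t = t.val := rfl

theorem apply_notMem_of_mem_Sr {s : LocallyConstant (VI A I) A} (hs : s ∈ Sr A (rI A I))
    (t : VI A I) : s t ∉ t.val.asIdeal := by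
  have h : ((t.val, t) : PrimeSpectrum A × VI A I) ∈
      {x : PrimeSpectrum A × VI A I | ∀ s ∈ Sr A (rI A I), s x.2 ∉ x.1.asIdeal} := by
    rw [range_eq_r]
    exact le_refl t.val.asIdeal
  exact h s hs

theorem closedPoints_eq :
    ProEtW.closedPoints (PrimeSpectrum (Br A (rI A I))) =
      PrimeSpectrum.zeroLocus (I.map (algebraMap A (Br A (rI A I))) : Set (Br A (rI A I))) := by
  ext y
  change IsClosed ({y} : Set _) ↔ _
  rw [isClosed_singleton_iff_r, PrimeSpectrum.mem_zeroLocus, SetLike.coe_subset_coe,
    Ideal.map_le_iff_le_comap]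
  constructor
  · intro h
    change I ≤ (lmr A (rI A I) y).1.asIdeal
    rw [h]
    exact (lmr A (rI A I) y).2.property
  · intro h
    have hx : (lmr A (rI A I) y).1 ∈ PrimeSpectrum.zeroLocus (I : Set A) := h
    have hle := lmr_le A (rI A I) y
    have hspec : (⟨(lmr A (rI A I) y).1, hx⟩ : VI A I) ⤳ (lmr A (rI A I) y).2 := by
      rw [subtype_specializes_iff, ← PrimeSpectrum.le_iff_specializes]
      exact hle
    exact congrArg Subtype.val hspec.eq

theorem eq_top_of_forall_VI (J : Ideal A) (hIJ : I ≤ J)
    (h : ∀ t : VI A I, ∃ c, c ∉ t.val.asIdeal ∧ c ∈ J) : J = ⊤ := by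
  by_contra hne
  obtain ⟨m, hm, hJm⟩ := Ideal.exists_le_maximal J hne
  obtain ⟨c, hc, hcJ⟩ := h ⟨⟨m, hm.isPrime⟩, fun i hi => hJm (hIJ hi)⟩
  exact hc (hJm hcJ)

theorem algebraMap_mem_IB {G : LocallyConstant (VI A I) A}
    (hG : G ∈ I.map (algebraMap A (LocallyConstant (VI A I) A))) :
    algebraMap (LocallyConstant (VI A I) A) (Br A (rI A I)) G ∈
      I.map (algebraMap A (Br A (rI A I))) := by
  have h := Ideal.mem_map_of_mem (algebraMap (LocallyConstant (VI A I) A) (Br A (rI A I))) hG
  rwa [Ideal.map_map, ← IsScalarTower.algebraMap_eq] at h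

theorem kill {G s'' : LocallyConstant (VI A I) A} (hs'' : s'' ∈ Sr A (rI A I))
    (h : ∀ t, s'' t * G t ∈ I) :
    algebraMap (LocallyConstant (VI A I) A) (Br A (rI A I)) G ∈
      I.map (algebraMap A (Br A (rI A I))) := by
  have h1 : s'' * G ∈ I.map (algebraMap A (LocallyConstant (VI A I) A)) :=
    mem_map_of_forall_apply_mem I _ (fun t => h t)
  have h2 := algebraMap_mem_IB A I h1
  rw [map_mul] at h2
  have hu : IsUnit (algebraMap (LocallyConstant (VI A I) A) (Br A (rI A I)) s'') :=
    IsLocalization.map_units (Br A (rI A I)) (⟨s'', hs''⟩ : Sr A (rI A I))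
  exact (Ideal.unit_mul_mem_iff_mem _ hu).mp h2

theorem comap_IB_le :
    (I.map (algebraMap A (Br A (rI A I)))).comap (algebraMap A (Br A (rI A I))) ≤ I := by
  intro a ha
  rw [Ideal.mem_comap] at ha
  have e : I.map (algebraMap A (Br A (rI A I))) =
      (I.map (algebraMap A (LocallyConstant (VI A I) A))).map
        (algebraMap (LocallyConstant (VI A I) A) (Br A (rI A I))) := by
    rw [Ideal.map_map, ← IsScalarTower.algebraMap_eq]
  rw [e, IsScalarTower.algebraMap_apply A (LocallyConstant (VI A I) A) (Br A (rI A I)),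
    IsLocalization.mem_map_algebraMap_iff (Sr A (rI A I)) (Br A (rI A I))] at ha
  obtain ⟨⟨⟨j, hj⟩, s⟩, h⟩ := ha
  change algebraMap (LocallyConstant (VI A I) A) (Br A (rI A I))
      (algebraMap A (LocallyConstant (VI A I) A) a) *
    algebraMap (LocallyConstant (VI A I) A) (Br A (rI A I)) (s : LocallyConstant (VI A I) A) =
    algebraMap (LocallyConstant (VI A I) A) (Br A (rI A I)) j at h
  rw [← map_mul, IsLocalization.eq_iff_exists (Sr A (rI A I)) (Br A (rI A I))] at h
  obtain ⟨s', hs'⟩ := h
  -- the colon ideal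
  let J : Ideal A := Submodule.comap (LinearMap.mulRight A a) I
  have hJ : ∀ c, c ∈ J ↔ c * a ∈ I := fun c => Iff.rfl
  have hIJ : I ≤ J := fun i hi => (hJ i).mpr (I.mul_mem_right a hi)
  have htop : J = ⊤ := by
    apply eq_top_of_forall_VI A I J hIJ
    intro t
    refine ⟨(s' : LocallyConstant (VI A I) A) t * (s : LocallyConstant (VI A I) A) t, ?_, ?_⟩
    · intro hmem
      rcases t.val.isPrime.mem_or_mem hmem with h | h
      · exact apply_notMem_of_mem_Sr A I s'.2 t h
      · exact apply_notMem_of_mem_Sr A I s.2 t h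
    · rw [hJ]
      have hev := congrArg (fun G : LocallyConstant (VI A I) A => G t) hs'
      change (s' : LocallyConstant (VI A I) A) t * (a * (s : LocallyConstant (VI A I) A) t) =
        (s' : LocallyConstant (VI A I) A) t * j t at hev
      have : (s' : LocallyConstant (VI A I) A) t * (s : LocallyConstant (VI A I) A) t * a =
          (s' : LocallyConstant (VI A I) A) t * j t := by
        rw [← hev]
        ring
      rw [this]
      exact I.mul_mem_left _ (apply_mem_of_mem_map I j hj t)
  have h1 : (1 : A) ∈ J := by rw [htop]; exact Submodule.mem_top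
  have := (hJ 1).mp h1
  rwa [one_mul] at this

theorem exists_idem (U : Set (VI A I)) (hU : IsClopen U) :
    ∃ e : A, e * e - e ∈ I ∧ ∀ t : VI A I, e ∉ t.val.asIdeal ↔ t ∈ U := by
  have hκ : ∀ z : PrimeSpectrum (A ⧸ I), PrimeSpectrum.comap (Ideal.Quotient.mk I) z ∈
      PrimeSpectrum.zeroLocus (I : Set A) := by
    intro z i hi
    change Ideal.Quotient.mk I i ∈ z.asIdeal
    rw [Ideal.Quotient.eq_zero_iff_mem.mpr hi]
    exact z.asIdeal.zero_mem
  let κ' : PrimeSpectrum (A ⧸ I) → VI A I :=
    fun z => ⟨PrimeSpectrum.comap (Ideal.Quotient.mk I) z, hκ z⟩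
  have hcont : Continuous κ' :=
    Continuous.subtype_mk (PrimeSpectrum.continuous_comap (Ideal.Quotient.mk I)) _
  have hs : IsClopen (κ' ⁻¹' U) := hU.preimage hcont
  obtain ⟨ebar, hebar, hseq⟩ := PrimeSpectrum.exists_idempotent_basicOpen_eq_of_isClopen hs
  obtain ⟨e, rfl⟩ := Ideal.Quotient.mk_surjective ebar
  refine ⟨e, ?_, ?_⟩
  · rw [← Ideal.Quotient.eq, map_mul]
    exact hebar
  · intro t
    obtain ⟨z, hz⟩ : ∃ z, PrimeSpectrum.comap (Ideal.Quotient.mk I) z = t.val := by
      have : t.val ∈ Set.range (PrimeSpectrum.comap (Ideal.Quotient.mk I)) := by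
        rw [range_comap_of_surjective _ _ Ideal.Quotient.mk_surjective,
          Ideal.mk_ker]
        exact t.2
      exact this
    have hz' : κ' z = t := Subtype.ext hz
    have h1 : t ∈ U ↔ z ∈ κ' ⁻¹' U := by rw [Set.mem_preimage, hz']
    rw [h1, hseq, ← hz]
    rfl

/-- the ideal of `c` with `c • b ∈ A + IB` -/
def Jb (b : Br A (rI A I)) : Ideal A where
  carrier := {c | ∃ a, algebraMap A (Br A (rI A I)) c * b - algebraMap A (Br A (rI A I)) a ∈
    I.map (algebraMap A (Br A (rI A I)))}
  add_mem' := by
    rintro c c' ⟨a, h⟩ ⟨a', h'⟩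
    refine ⟨a + a', ?_⟩
    have e : algebraMap A (Br A (rI A I)) (c + c') * b - algebraMap A (Br A (rI A I)) (a + a') =
        (algebraMap A (Br A (rI A I)) c * b - algebraMap A (Br A (rI A I)) a) +
        (algebraMap A (Br A (rI A I)) c' * b - algebraMap A (Br A (rI A I)) a') := by
      rw [map_add, map_add]
      ring
    rw [e]
    exact Ideal.add_mem _ h h'
  zero_mem' := ⟨0, by simp⟩
  smul_mem' := by
    rintro x c ⟨a, h⟩
    refine ⟨x * a, ?_⟩
    have e : algebraMap A (Br A (rI A I)) (x • c) * b - algebraMap A (Br A (rI A I)) (x * a) =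
        algebraMap A (Br A (rI A I)) x *
          (algebraMap A (Br A (rI A I)) c * b - algebraMap A (Br A (rI A I)) a) := by
      rw [smul_eq_mul, map_mul, map_mul]
      ring
    rw [e]
    exact Ideal.mul_mem_left _ _ h

theorem mem_Jb {b : Br A (rI A I)} {c : A} : c ∈ Jb A I b ↔
    ∃ a, algebraMap A (Br A (rI A I)) c * b - algebraMap A (Br A (rI A I)) a ∈
      I.map (algebraMap A (Br A (rI A I))) := Iff.rfl

theorem le_Jb (b : Br A (rI A I)) : I ≤ Jb A I b := by
  intro i hi
  rw [mem_Jb]
  refine ⟨0, ?_⟩
  rw [map_zero, sub_zero]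
  exact Ideal.mul_mem_right _ _ (Ideal.mem_map_of_mem _ hi)

theorem exists_mem_Jb (b : Br A (rI A I)) (t₀ : VI A I) :
    ∃ c, c ∉ t₀.val.asIdeal ∧ c ∈ Jb A I b := by
  obtain ⟨F, s, rfl⟩ := IsLocalization.exists_mk'_eq (Sr A (rI A I)) b
  let U : Set (VI A I) := F ⁻¹' {F t₀} ∩
    (s : LocallyConstant (VI A I) A) ⁻¹' {(s : LocallyConstant (VI A I) A) t₀}
  have hU : IsClopen U := (F.isLocallyConstant.isClopen_fiber _).inter
    ((s : LocallyConstant (VI A I) A).isLocallyConstant.isClopen_fiber _)
  have ht₀U : t₀ ∈ U := ⟨rfl, rfl⟩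
  obtain ⟨e, he, heU⟩ := exists_idem A I U hU
  refine ⟨(s : LocallyConstant (VI A I) A) t₀ * e, ?_, ?_⟩
  · intro hmem
    rcases t₀.val.isPrime.mem_or_mem hmem with h | h
    · exact apply_notMem_of_mem_Sr A I s.2 t₀ h
    · exact (heU t₀).mpr ht₀U h
  · rw [mem_Jb]
    refine ⟨F t₀ * e, ?_⟩
    let G : LocallyConstant (VI A I) A :=
      algebraMap A (LocallyConstant (VI A I) A) ((s : LocallyConstant (VI A I) A) t₀ * e) * F -
        algebraMap A (LocallyConstant (VI A I) A) (F t₀ * e) * (s : LocallyConstant (VI A I) A)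
    have hGt : ∀ t, G t = (s : LocallyConstant (VI A I) A) t₀ * e * F t -
        F t₀ * e * (s : LocallyConstant (VI A I) A) t := fun t => rfl
    have hG : algebraMap (LocallyConstant (VI A I) A) (Br A (rI A I)) G ∈
        I.map (algebraMap A (Br A (rI A I))) := by
      apply kill A I (s'' := sElr A (rI A I) (1 - e)) (Submonoid.subset_closure ⟨_, rfl⟩)
      intro t
      by_cases ht : t ∈ U
      · have h1 : F t = F t₀ := ht.1
        have h2 : (s : LocallyConstant (VI A I) A) t = (s : LocallyConstant (VI A I) A) t₀ := ht.2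
        have : G t = 0 := by
          rw [hGt, h1, h2]
          ring
        rw [this, mul_zero]
        exact I.zero_mem
      · have hemem : e ∈ t.val.asIdeal := by
          by_contra h
          exact ht ((heU t).mp h)
        have h1e : (1 - e) ∉ t.val.asIdeal := by
          intro h
          apply t.val.isPrime.one_notMem
          have := Ideal.add_mem _ h hemem
          rwa [sub_add_cancel] at this
        have hs'' : sElr A (rI A I) (1 - e) t = 1 - e :=
          sElr_apply_mem A (rI A I) ((mem_Dr A (rI A I)).mpr h1e)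
        rw [hs'', hGt]
        have e2 : (1 - e) * ((s : LocallyConstant (VI A I) A) t₀ * e * F t -
            F t₀ * e * (s : LocallyConstant (VI A I) A) t) =
            -(e * e - e) * ((s : LocallyConstant (VI A I) A) t₀ * F t -
              F t₀ * (s : LocallyConstant (VI A I) A) t) := by ring
        rw [e2]
        exact I.mul_mem_right _ (I.neg_mem he)
    have hs_unit : IsUnit (algebraMap (LocallyConstant (VI A I) A) (Br A (rI A I))
        (s : LocallyConstant (VI A I) A)) := IsLocalization.map_units (Br A (rI A I)) s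
    have hsp : IsLocalization.mk' (Br A (rI A I)) F s *
        algebraMap (LocallyConstant (VI A I) A) (Br A (rI A I)) (s : LocallyConstant (VI A I) A) =
        algebraMap (LocallyConstant (VI A I) A) (Br A (rI A I)) F := IsLocalization.mk'_spec _ _ _
    have hrel : algebraMap (LocallyConstant (VI A I) A) (Br A (rI A I))
        (s : LocallyConstant (VI A I) A) *
        (algebraMap A (Br A (rI A I)) ((s : LocallyConstant (VI A I) A) t₀ * e) *
          IsLocalization.mk' (Br A (rI A I)) F s - algebraMap A (Br A (rI A I)) (F t₀ * e)) =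
        algebraMap (LocallyConstant (VI A I) A) (Br A (rI A I)) G := by
      change _ = algebraMap (LocallyConstant (VI A I) A) (Br A (rI A I))
        (algebraMap A (LocallyConstant (VI A I) A) ((s : LocallyConstant (VI A I) A) t₀ * e) * F -
        algebraMap A (LocallyConstant (VI A I) A) (F t₀ * e) * (s : LocallyConstant (VI A I) A))
      have hαβ : ∀ x : A, algebraMap (LocallyConstant (VI A I) A) (Br A (rI A I))
          (algebraMap A (LocallyConstant (VI A I) A) x) = algebraMap A (Br A (rI A I)) x :=
        fun x => (IsScalarTower.algebraMap_apply A (LocallyConstant (VI A I) A)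
          (Br A (rI A I)) x).symm
      rw [map_sub, map_mul (algebraMap (LocallyConstant (VI A I) A) (Br A (rI A I))),
        map_mul (algebraMap (LocallyConstant (VI A I) A) (Br A (rI A I))), hαβ, hαβ, ← hsp]
      ring
    rw [← Ideal.unit_mul_mem_iff_mem _ hs_unit, hrel]
    exact hG

theorem quotientMap_bijective :
    Function.Bijective (Ideal.quotientMap (I.map (algebraMap A (Br A (rI A I))))
      (algebraMap A (Br A (rI A I))) Ideal.le_comap_map) := by
  constructor
  · exact Ideal.quotientMap_injective' (comap_IB_le A I)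
  · intro x
    obtain ⟨b, rfl⟩ := Ideal.Quotient.mk_surjective x
    have htop : Jb A I b = ⊤ :=
      eq_top_of_forall_VI A I (Jb A I b) (le_Jb A I b) (exists_mem_Jb A I b)
    have h1 : (1 : A) ∈ Jb A I b := by rw [htop]; exact Submodule.mem_top
    rw [mem_Jb] at h1
    obtain ⟨a, ha⟩ := h1
    refine ⟨Ideal.Quotient.mk I a, ?_⟩
    rw [Ideal.quotientMap_mk, Ideal.Quotient.eq]
    rw [map_one, one_mul] at ha
    have := neg_mem ha
    rwa [neg_sub] at this

end VI

end Groth.Agent.Helper2.WLoc
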