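import Mathlib.RingTheory.Spectrum.Prime.Topology
import Mathlib.Topology.Connected.TotallyDisconnected
import Mathlib.Topology.Connected.Separation

/-! Zero-dimensional prime spectra are totally separated (hence profinite). -/

namespace Groth.Agent.Helper2

open PrimeSpectrum

theorem isClopen_basicOpen_of_dimZero (B : Type*) [CommRing B]
    (h : ∀ q q' : PrimeSpectrum B, q ≤ q' → q = q') (a : B) :
    IsClopen (PrimeSpectrum.basicOpen a : Set (PrimeSpectrum B)) := by
  refine ⟨?_, (PrimeSpectrum.basicOpen a).isOpen⟩
  rw [← PrimeSpectrum.localization_away_comap_range (Localization.Away a) a]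
  apply PrimeSpectrum.isClosed_range_of_stableUnderSpecialization
  intro x y hxy hx
  have := h x y ((PrimeSpectrum.le_iff_specializes x y).2 hxy)
  rwa [← this]

theorem totallySeparatedSpace_of_dimZero (B : Type*) [CommRing B]
    (h : ∀ q q' : PrimeSpectrum B, q ≤ q' → q = q') :
    TotallySeparatedSpace (PrimeSpectrum B) := by
  rw [totallySeparatedSpace_iff_exists_isClopen]
  intro q q' hne
  have hnle : ¬ q' ≤ q := fun hle => hne (h q' q hle).symm
  obtain ⟨a, ha', ha⟩ := Set.not_subset.1 hnle
  -- a ∈ q', a ∉ q
  exact ⟨PrimeSpectrum.basicOpen a, isClopen_basicOpen_of_dimZero B h a, ha, fun hq' => hq' ha'⟩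

end Groth.Agent.Helper2
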