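import Mathlib
import Groth.Prelude.Def_PBC
import Groth.Agent.Lib.Helper21.EssFP3

/-!
# Local factorisation for maps identifying local rings (helper2)
-/

namespace Groth.Agent.Helper2.IndZar

universe u

variable {A B : Type u} [CommRing A] [CommRing B] [Algebra A B]

/-- the statement that `χ ∘ g` and `lift ∘ φ` agree at `y` whenever `χ h`, `χ t` are units -/
def Agree {Y : Type u} [CommRing Y] [Algebra A Y] (g : Y →ₐ[A] B) (t : A)
    (φ : Y →ₐ[A] Localization.Away t) (h : B) (y : Y) : Prop :=
  ∀ (C : Type u) [CommRing C] (χ : B →+* C) (hu : IsUnit ((χ.comp (algebraMap A B)) t)),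
    IsUnit (χ h) → χ (g y) = IsLocalization.Away.lift t hu (φ y)

theorem agree_of_dvd {Y : Type u} [CommRing Y] [Algebra A Y] (g : Y →ₐ[A] B) (t : A)
    (φ : Y →ₐ[A] Localization.Away t) {h h' : B} (hd : h ∣ h') {y : Y} (H : Agree g t φ h y) :
    Agree g t φ h' y := by
  intro C _ χ hu hh
  apply H C χ hu
  obtain ⟨c, rfl⟩ := hd
  rw [map_mul] at hh
  exact isUnit_of_mul_isUnit_left hh

theorem agree_all {Y : Type u} [CommRing Y] [Algebra A Y] (g : Y →ₐ[A] B) (t : A)
    (φ : Y →ₐ[A] Localization.Away t) (h : B) (s : Set Y) (hs : Algebra.adjoin A s = ⊤)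
    (H : ∀ y ∈ s, Agree g t φ h y) : ∀ y, Agree g t φ h y := by
  intro y C _ χ hu hh
  have hy : y ∈ Algebra.adjoin A s := by rw [hs]; trivial
  induction hy using Algebra.adjoin_induction with
  | mem x hx => exact H x hx C χ hu hh
  | algebraMap r =>
    rw [AlgHom.commutes, AlgHom.commutes, IsLocalization.Away.lift_eq]
    rfl
  | add x y _ _ hx hy => rw [map_add, map_add, map_add, map_add, hx, hy]
  | mul x y _ _ hx hy => rw [map_mul, map_mul, map_mul, map_mul, hx, hy]

theorem local_factor (h1 : EtPBC.IdentifiesLocalRings A B) (Y : Type u) [CommRing Y] [Algebra A Y]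
    [Algebra.FinitePresentation A Y] (g : Y →ₐ[A] B) (q : PrimeSpectrum B) :
    ∃ (t : A) (h : B) (φ : Y →ₐ[A] Localization.Away t),
      algebraMap A B t ∉ q.asIdeal ∧ h ∉ q.asIdeal ∧ ∀ y, Agree g t φ h y := by
  classical
  set p : Ideal A := q.asIdeal.comap (algebraMap A B) with hp
  have hpp : p.IsPrime := Ideal.IsPrime.comap _
  set θ := Localization.localRingHom p q.asIdeal (algebraMap A B) rfl with hθ
  have hθb : Function.Bijective θ := h1 q
  let θe : Localization.AtPrime p ≃+* Localization.AtPrime q.asIdeal := RingEquiv.ofBijective θ hθb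
  have hθalg : ∀ a : A, θ (algebraMap A (Localization.AtPrime p) a) =
      algebraMap B (Localization.AtPrime q.asIdeal) (algebraMap A B a) := fun a =>
    Localization.localRingHom_to_map _ _ _ rfl a
  let χ₀ : Y →ₐ[A] Localization.AtPrime p :=
    { (θe.symm : _ →+* _).comp ((algebraMap B (Localization.AtPrime q.asIdeal)).comp g.toRingHom) with
      commutes' := fun a => by
        change θe.symm (algebraMap B _ (g (algebraMap A Y a))) = _
        rw [g.commutes, ← hθalg]
        exact θe.symm_apply_apply _ }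
  have hχ₀ : ∀ y, θ (χ₀ y) = algebraMap B (Localization.AtPrime q.asIdeal) (g y) := fun y =>
    θe.apply_symm_apply _
  obtain ⟨t, ht, χ', lam, hlam1, hlam2⟩ :=
    Groth.Agent.Helper21.EssFP.exists_factor_away (R := A) (B := Y) (C₀ := A)
      (S' := Localization.AtPrime p) p.primeCompl χ₀
  have htq : algebraMap A B t ∉ q.asIdeal := fun hmem => ht hmem
  -- single element
  have single : ∀ y : Y, ∃ h : B, h ∉ q.asIdeal ∧ Agree g t χ' h y := by
    intro y
    obtain ⟨n, a, hna⟩ := IsLocalization.Away.surj t (χ' y)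
    have e1 : algebraMap B (Localization.AtPrime q.asIdeal) (g y * algebraMap A B t ^ n) =
        algebraMap B (Localization.AtPrime q.asIdeal) (algebraMap A B a) := by
      have := congrArg (fun z => θ (lam z)) hna
      simp only [map_mul, map_pow] at this
      rw [hlam2, hχ₀, AlgHom.commutes, AlgHom.commutes, hθalg, hθalg] at this
      rw [map_mul, map_pow]
      exact this
    obtain ⟨c, hc⟩ := (IsLocalization.eq_iff_exists q.asIdeal.primeCompl _).mp e1
    refine ⟨c, c.2, ?_⟩
    intro C _ χ hu hh
    have e2 : χ (g y) * χ (algebraMap A B t) ^ n = χ (algebraMap A B a) := by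
      have := congrArg χ hc
      simp only [map_mul, map_pow] at this
      exact hh.mul_left_cancel this
    have e3 : IsLocalization.Away.lift t hu (χ' y) * χ (algebraMap A B t) ^ n =
        χ (algebraMap A B a) := by
      have := congrArg (IsLocalization.Away.lift t hu) hna
      simp only [map_mul, map_pow, IsLocalization.Away.lift_eq] at this
      exact this
    have hu' : IsUnit (χ (algebraMap A B t) ^ n) := IsUnit.pow n hu
    exact hu'.mul_right_cancel (e2.trans e3.symm)
  obtain ⟨s, hs⟩ := (inferInstance : Algebra.FiniteType A Y).out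
  choose hfun hfun1 hfun2 using single
  refine ⟨t, ∏ y ∈ s, hfun y, χ', htq, ?_, ?_⟩
  · intro hmem
    obtain ⟨y, _, hy⟩ := (Ideal.IsPrime.prod_mem_iff).mp hmem
    exact hfun1 y hy
  · apply agree_all g t χ' _ (s : Set Y) hs
    intro y hy
    exact agree_of_dvd g t χ' (Finset.dvd_prod_of_mem _ hy) (hfun2 y)

end Groth.Agent.Helper2.IndZar
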