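import Mathlib.Topology.Spectral.Basic
import Mathlib.Topology.Spectral.Prespectral
import Mathlib.Topology.Connected.Clopen
import Mathlib.Topology.Separation.Regular

set_option autoImplicit false

namespace Groth.Agent.Helper2.SpectralQC

open Topology Set

section
variable {X : Type*} [TopologicalSpace X]

/-- In a quasi-compact quasi-separated prespectral space (e.g. a spectral space), connected
components coincide with quasi-components. -/
theorem connectedComponent_eq_iInter_isClopen [CompactSpace X] [PrespectralSpace X]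
    [QuasiSeparatedSpace X] (x : X) :
    connectedComponent x = ⋂ s : { s : Set X // IsClopen s ∧ x ∈ s }, s := by
  apply Subset.antisymm connectedComponent_subset_iInter_isClopen
  refine IsPreconnected.subset_connectedComponent ?_ (mem_iInter.2 fun s => s.2.2)
  have hs : @IsClosed X _ (⋂ s : { s : Set X // IsClopen s ∧ x ∈ s }, s) :=
    isClosed_iInter fun s => s.2.1.1
  rw [isPreconnected_iff_subset_of_fully_disjoint_closed hs]
  intro a b ha hb hab ab_disj
  have hab' : ∀ z, z ∈ a → z ∈ b → False := fun z h1 h2 => Set.disjoint_left.mp ab_disj h1 h2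
  -- compact opens around a and b
  obtain ⟨u, huc, huo, hau, hub⟩ :=
    PrespectralSpace.exists_isCompact_and_isOpen_between ha.isCompact hb.isOpen_compl
      (fun z hz hzb => hab' z hz hzb)
  obtain ⟨v, hvc, hvo, hbv, hva⟩ :=
    PrespectralSpace.exists_isCompact_and_isOpen_between hb.isCompact ha.isOpen_compl
      (fun z hz hza => hab' z hza hz)
  -- the compact set K that the intersection avoids
  let K : Set X := (u ∪ v)ᶜ ∪ (u ∩ v)
  have hK : IsCompact K :=
    ((huo.union hvo).isClosed_compl.isCompact).union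
      (QuasiSeparatedSpace.inter_isCompact u v huo huc hvo hvc)
  have hSK : K ∩ (⋂ s : { s : Set X // IsClopen s ∧ x ∈ s }, (s : Set X)) = ∅ := by
    rw [Set.eq_empty_iff_forall_notMem]
    rintro z ⟨hzK, hzS⟩
    rcases hab hzS with hza | hzb
    · rcases hzK with h | h
      · exact h (Or.inl (hau hza))
      · exact hva h.2 hza
    · rcases hzK with h | h
      · exact h (Or.inr (hbv hzb))
      · exact hub h.1 hzb
  obtain ⟨s, H⟩ : ∃ s : Set X, IsClopen s ∧ x ∈ s ∧ s ∩ K = ∅ := by
    have H1 := hK.inter_iInter_nonempty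
      (fun s : { s : Set X // IsClopen s ∧ x ∈ s } => s) fun s => s.2.1.1
    have H2 : ¬ (K ∩ ⋂ s : { s : Set X // IsClopen s ∧ x ∈ s }, (s : Set X)).Nonempty := by
      rw [hSK]
      exact Set.not_nonempty_empty
    have H3 := mt H1 H2
    push Not at H3
    obtain ⟨si, hsi⟩ := H3
    refine ⟨⋂ U ∈ si, Subtype.val U, ?_, ?_, ?_⟩
    · exact isClopen_biInter_finset fun s _ => s.2.1
    · exact mem_iInter₂.2 fun s _ => s.2.2
    · rw [Set.inter_comm]
      exact hsi
  obtain ⟨hsclopen, hxs, hsK⟩ := H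
  have hs_cover : s ⊆ (s ∩ u) ∪ (s ∩ v) := by
    intro z hz
    by_contra hne
    have : z ∈ s ∩ K := by
      refine ⟨hz, Or.inl ?_⟩
      rintro (h | h)
      · exact hne (Or.inl ⟨hz, h⟩)
      · exact hne (Or.inr ⟨hz, h⟩)
    rw [hsK] at this
    exact this
  have hs_disj : Disjoint (s ∩ u) (s ∩ v) := by
    rw [Set.disjoint_left]
    rintro z ⟨hz, hzu⟩ ⟨-, hzv⟩
    have : z ∈ s ∩ K := ⟨hz, Or.inr ⟨hzu, hzv⟩⟩
    rw [hsK] at this
    exact this
  have H1 : IsClopen (s ∩ (s ∩ u)) :=
    isClopen_inter_of_disjoint_cover_clopen hsclopen hs_cover (hsclopen.2.inter huo)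
      (hsclopen.2.inter hvo) hs_disj
  have H2 : IsClopen (s ∩ (s ∩ v)) := by
    rw [Set.union_comm] at hs_cover
    exact isClopen_inter_of_disjoint_cover_clopen hsclopen hs_cover (hsclopen.2.inter hvo)
      (hsclopen.2.inter huo) hs_disj.symm
  by_cases hxu : x ∈ u
  · left
    intro z hz
    have hzu : z ∈ s ∩ (s ∩ u) :=
      (iInter_subset (fun s : { s : Set X // IsClopen s ∧ x ∈ s } => s.1)
        ⟨s ∩ (s ∩ u), H1, ⟨hxs, hxs, hxu⟩⟩) hz
    rcases hab hz with h | h
    · exact h
    · exact absurd h (hub hzu.2.2)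
  · right
    have hxv : x ∈ v := by
      rcases hs_cover hxs with h | h
      · exact absurd h.2 hxu
      · exact h.2
    intro z hz
    have hzv : z ∈ s ∩ (s ∩ v) :=
      (iInter_subset (fun s : { s : Set X // IsClopen s ∧ x ∈ s } => s.1)
        ⟨s ∩ (s ∩ v), H2, ⟨hxs, hxs, hxv⟩⟩) hz
    rcases hab hz with h | h
    · exact absurd h (hva hzv.2.2)
    · exact h

/-- A clopen neighbourhood of `x` inside an open set containing its connected component. -/
theorem exists_isClopen_between [CompactSpace X] [PrespectralSpace X]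
    [QuasiSeparatedSpace X] {x : X} {U : Set X} (hU : IsOpen U)
    (h : connectedComponent x ⊆ U) : ∃ C : Set X, IsClopen C ∧ x ∈ C ∧ C ⊆ U := by
  rw [connectedComponent_eq_iInter_isClopen x] at h
  have hK : IsCompact Uᶜ := hU.isClosed_compl.isCompact
  have H1 := hK.inter_iInter_nonempty
    (fun s : { s : Set X // IsClopen s ∧ x ∈ s } => s) fun s => s.2.1.1
  have H2 : ¬ (Uᶜ ∩ ⋂ s : { s : Set X // IsClopen s ∧ x ∈ s }, (s : Set X)).Nonempty := by
    rintro ⟨z, hzU, hz⟩
    exact hzU (h hz)
  have H3 := mt H1 H2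
  push Not at H3
  obtain ⟨si, hsi⟩ := H3
  refine ⟨⋂ U ∈ si, Subtype.val U, ?_, ?_, ?_⟩
  · exact isClopen_biInter_finset fun s _ => s.2.1
  · exact mem_iInter₂.2 fun s _ => s.2.2
  · intro z hz
    by_contra hzU
    have : z ∈ Uᶜ ∩ ⋂ i ∈ si, (i : Set X) := ⟨hzU, hz⟩
    rw [hsi] at this
    exact this

end

end Groth.Agent.Helper2.SpectralQC
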