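import Mathlib
import Groth.Prelude.Def_PBC
import Groth.Prelude.Def_ProEtW
import Groth.Agent.Lib.Helper2.IndZar1
import Groth.Agent.Lib.Helper2.IndZar2
import Groth.Agent.Lib.Helper2.WLocal
import Groth.Agent.Lib.Helper2.SpectralQC

/-!
# Identifies local rings + w-local ⇒ ind-Zariski (helper2)
-/

namespace Groth.Agent.Helper2.IndZar

universe u

section Prod

variable (A W₁ W₂ : Type*) [CommRing A] [CommRing W₁] [CommRing W₂] [Algebra A W₁] [Algebra A W₂]

theorem isLocalIso_prod [Algebra.IsLocalIso A W₁] [Algebra.IsLocalIso A W₂] :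
    Algebra.IsLocalIso A (W₁ × W₂) := by
  apply Algebra.IsLocalIso.of_span_eq_top (s := {((1, 0) : W₁ × W₂), ((0, 1) : W₁ × W₂)})
  · rw [Ideal.eq_top_iff_one]
    have : (1 : W₁ × W₂) = (1, 0) + (0, 1) := by ext <;> simp
    rw [this]
    exact Ideal.add_mem _ (Ideal.subset_span (by simp)) (Ideal.subset_span (by simp))
  · intro x hx
    rcases hx with rfl | rfl
    · letI := (RingHom.fst W₁ W₂).toAlgebra
      have : IsScalarTower A (W₁ × W₂) W₁ := IsScalarTower.of_algebraMap_eq (fun r => rfl)
      let e : W₁ ≃ₐ[A] Localization.Away ((1, 0) : W₁ × W₂) :=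
        (IsLocalization.algEquiv (Submonoid.powers ((1, 0) : W₁ × W₂)) W₁
          (Localization.Away ((1, 0) : W₁ × W₂))).restrictScalars A
      exact Algebra.IsLocalIso.of_algEquiv e
    · letI := (RingHom.snd W₁ W₂).toAlgebra
      have : IsScalarTower A (W₁ × W₂) W₂ := IsScalarTower.of_algebraMap_eq (fun r => rfl)
      let e : W₂ ≃ₐ[A] Localization.Away ((0, 1) : W₁ × W₂) :=
        (IsLocalization.algEquiv (Submonoid.powers ((0, 1) : W₁ × W₂)) W₂
          (Localization.Away ((0, 1) : W₁ × W₂))).restrictScalars A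
      exact Algebra.IsLocalIso.of_algEquiv e

end Prod

section Corner

variable {B : Type*} [CommRing B] {e : B} (he : IsIdempotentElem e)

/-- the projection onto the corner ring `eB` -/
def toCorner : B →+* he.Corner where
  toFun b := ⟨e * b * e, b, rfl⟩
  map_one' := Subtype.ext (by
    change e * 1 * e = e
    rw [mul_one, he.eq])
  map_mul' a b := Subtype.ext (by
    change e * (a * b) * e = (e * a * e) * (e * b * e)
    have := he.eq
    linear_combination (-(a * b * (e * e + e))) * this)
  map_zero' := Subtype.ext (by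
    change e * 0 * e = 0
    simp)
  map_add' a b := Subtype.ext (by
    change e * (a + b) * e = (e * a * e) + (e * b * e)
    ring)

/-- the (non-unital) inclusion of the corner ring -/
def cornerVal (x : he.Corner) : B := (show ↥(Subsemigroup.corner e) from x).1

theorem cornerVal_mul (x y : he.Corner) : cornerVal he (x * y) = cornerVal he x * cornerVal he y :=
  rfl

theorem cornerVal_add (x y : he.Corner) : cornerVal he (x + y) = cornerVal he x + cornerVal he y :=
  rfl

theorem cornerVal_one : cornerVal he 1 = e := rfl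

theorem cornerVal_injective : Function.Injective (cornerVal he) := fun _ _ h => Subtype.ext h

theorem toCorner_val (b : B) : cornerVal he (toCorner he b) = e * b := by
  change e * b * e = e * b
  rw [mul_right_comm, he.eq]

end Corner

variable {A B : Type u} [CommRing A] [CommRing B] [Algebra A B]
variable {Y : Type u} [CommRing Y] [Algebra A Y]

/-- partial factorisation on the `e`-part -/
def Fac (g : Y →ₐ[A] B) (e : B) : Prop :=
  ∃ (W : Type u) (_ : CommRing W) (_ : Algebra A W) (_ : Algebra.IsLocalIso A W)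
    (u : Y →ₐ[A] W) (v : W → B), (∀ w w', v (w * w') = v w * v w') ∧
      (∀ w w', v (w + w') = v w + v w') ∧ ∀ y, v (u y) = e * g y

theorem fac_zero (g : Y →ₐ[A] B) : Fac g 0 := by
  have hl : Algebra.IsLocalIso A PUnit.{u+1} := ⟨fun q hq => absurd (Subsingleton.elim _ _) hq.ne_top⟩
  refine ⟨PUnit.{u+1}, inferInstance, inferInstance, hl,
    { toFun := fun _ => PUnit.unit, map_one' := rfl, map_mul' := fun _ _ => rfl,
      map_zero' := rfl, map_add' := fun _ _ => rfl, commutes' := fun _ => rfl },
    fun _ => 0, ?_, ?_, ?_⟩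
  · intro _ _; simp
  · intro _ _; simp
  · intro _; simp

theorem fac_union (g : Y →ₐ[A] B) {e₁ e₂ : B} (he₁ : IsIdempotentElem e₁)
    (he₂ : IsIdempotentElem e₂) (h₁ : Fac g e₁) (h₂ : Fac g e₂) :
    Fac g (e₁ + e₂ - e₁ * e₂) := by
  obtain ⟨W₁, _, _, hW₁, u₁, v₁, hm₁, ha₁, hg₁⟩ := h₁
  obtain ⟨W₂, _, _, hW₂, u₂, v₂, hm₂, ha₂, hg₂⟩ := h₂
  have hv₁ : ∀ w, v₁ w = v₁ w * e₁ := by
    intro w
    have h1 : v₁ 1 = e₁ := by
      have := hg₁ 1
      rwa [map_one, map_one, mul_one] at this
    conv_lhs => rw [← mul_one w, hm₁, h1]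
  refine ⟨W₁ × W₂, inferInstance, inferInstance, isLocalIso_prod A W₁ W₂, u₁.prod u₂,
    fun w => v₁ w.1 + (1 - e₁) * v₂ w.2, ?_, ?_, ?_⟩
  · intro w w'
    simp only [Prod.fst_mul, Prod.snd_mul, hm₁, hm₂]
    have e1 := hv₁ w.1
    have e2 := hv₁ w'.1
    have := he₁.eq
    generalize v₁ w.1 = a at *
    generalize v₁ w'.1 = a' at *
    generalize v₂ w.2 = b at *
    generalize v₂ w'.2 = b' at *
    linear_combination (-(b * b')) * this - b' * e1 - b * e2
  · intro w w'
    simp only [Prod.fst_add, Prod.snd_add, ha₁, ha₂]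
    ring
  · intro y
    simp only [AlgHom.prod_apply, hg₁, hg₂]
    ring

theorem fac_local (g : Y →ₐ[A] B)
    (t : A) (h : B) (φ : Y →ₐ[A] Localization.Away t) (hag : ∀ y, Agree g t φ h y)
    {e : B} (he : IsIdempotentElem e)
    (hsub : (PrimeSpectrum.basicOpen e : Set (PrimeSpectrum B)) ⊆
      PrimeSpectrum.basicOpen (h * algebraMap A B t)) :
    Fac g e := by
  have hspan : Ideal.span {h * algebraMap A B t, 1 - e} = ⊤ := by
    by_contra hne
    obtain ⟨m, hm, hle⟩ := Ideal.exists_le_maximal _ hne
    have h1e : 1 - e ∈ m := hle (Ideal.subset_span (by simp))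
    have hht : h * algebraMap A B t ∈ m := hle (Ideal.subset_span (by simp))
    have hem : e ∉ m := fun hem => hm.ne_top ((Ideal.eq_top_iff_one m).2 (by
      have := m.add_mem h1e hem
      rwa [sub_add_cancel] at this))
    have hmem : (⟨m, hm.isPrime⟩ : PrimeSpectrum B) ∈
        (PrimeSpectrum.basicOpen (h * algebraMap A B t) : Set (PrimeSpectrum B)) :=
      hsub (show (⟨m, hm.isPrime⟩ : PrimeSpectrum B) ∈ PrimeSpectrum.basicOpen e from hem)
    exact hmem hht
  obtain ⟨a, b, hab⟩ := Ideal.mem_span_pair.mp ((Ideal.eq_top_iff_one _).mp hspan)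
  let χ : B →+* he.Corner := toCorner he
  have hχ1 : χ (a * (h * algebraMap A B t)) = 1 := by
    apply cornerVal_injective he
    rw [toCorner_val, cornerVal_one]
    have := he.eq
    linear_combination e * hab + b * this
  have hunit : IsUnit (χ h * χ (algebraMap A B t)) := by
    rw [map_mul, map_mul] at hχ1
    exact IsUnit.of_mul_eq_one _ (by rw [mul_comm]; exact hχ1)
  have hu : IsUnit ((χ.comp (algebraMap A B)) t) := (IsUnit.mul_iff.mp hunit).2
  have hh : IsUnit (χ h) := (IsUnit.mul_iff.mp hunit).1
  refine ⟨Localization.Away t, inferInstance, inferInstance, inferInstance, φ,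
    fun w => cornerVal he (IsLocalization.Away.lift t hu w), ?_, ?_, ?_⟩
  · intro w w'
    simp only [map_mul, cornerVal_mul]
  · intro w w'
    simp only [map_add, cornerVal_add]
  · intro y
    change cornerVal he ((IsLocalization.Away.lift t hu) (φ y)) = e * g y
    rw [← hag y he.Corner χ hu hh]
    exact toCorner_val he _

theorem hasFactZ_of_identifies (h1 : EtPBC.IdentifiesLocalRings A B)
    (h3 : ProEtW.IsWLocal (PrimeSpectrum B)) : HasFactZ A B := by
  intro Y _ _ _ g
  obtain ⟨hsp, hcl, huniq⟩ := h3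
  have key : ∃ e : B, IsIdempotentElem e ∧
      (Set.univ : Set (PrimeSpectrum B)) ⊆ PrimeSpectrum.basicOpen e ∧ Fac g e := by
    apply IsCompact.induction_on (isCompact_univ)
      (p := fun S => ∃ e : B, IsIdempotentElem e ∧
        S ⊆ (PrimeSpectrum.basicOpen e : Set (PrimeSpectrum B)) ∧ Fac g e)
    · exact ⟨0, IsIdempotentElem.zero, Set.empty_subset _, fac_zero g⟩
    · rintro s t hst ⟨e, he, hte, hf⟩
      exact ⟨e, he, hst.trans hte, hf⟩
    · rintro s t ⟨e₁, he₁, hs, hf₁⟩ ⟨e₂, he₂, ht, hf₂⟩
      refine ⟨e₁ + e₂ - e₁ * e₂, ?_, ?_, fac_union g he₁ he₂ hf₁ hf₂⟩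
      · have := (he₁.one_sub.mul he₂.one_sub).one_sub
        convert this using 1
        ring
      · intro q hq he
        have e1 : e₁ = e₁ * (e₁ + e₂ - e₁ * e₂) := by
          have := he₁.eq
          linear_combination (e₂ - 1) * this
        have e2 : e₂ = e₂ * (e₁ + e₂ - e₁ * e₂) := by
          have := he₂.eq
          linear_combination (e₁ - 1) * this
        rcases hq with hq | hq
        · apply hs hq
          rw [e1]
          exact Ideal.mul_mem_left _ _ he
        · apply ht hq
          rw [e2]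
          exact Ideal.mul_mem_left _ _ he
    · intro x _
      obtain ⟨c, ⟨hc, hxc⟩, -⟩ := huniq x
      obtain ⟨t, h, φ, ht, hh, hag⟩ := local_factor h1 Y g c
      have hcU : c ∈ (PrimeSpectrum.basicOpen (h * algebraMap A B t) : Set (PrimeSpectrum B)) := by
        intro hmem
        rcases c.isPrime.mem_or_mem hmem with h' | h'
        · exact hh h'
        · exact ht h'
      have hcc : connectedComponent c ⊆
          (PrimeSpectrum.basicOpen (h * algebraMap A B t) : Set (PrimeSpectrum B)) := by
        intro z hz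
        obtain ⟨r, ⟨hr, hzr⟩, -⟩ := huniq z
        have e1 : (ConnectedComponents.mk z : ConnectedComponents (PrimeSpectrum B)) =
            ConnectedComponents.mk c := ConnectedComponents.coe_eq_coe'.mpr hz
        have e2 := WLocal.mk_eq_of_specializes hzr
        have e3 : r = c := WLocal.closedPoint_eq_of_mk_eq hcl huniq hr hc (e2.symm.trans e1)
        rw [e3] at hzr
        exact hzr.mem_open (PrimeSpectrum.basicOpen _).2 hcU
      obtain ⟨Z, hZ, hcZ, hZU⟩ := SpectralQC.exists_isClopen_between
        (PrimeSpectrum.basicOpen (h * algebraMap A B t)).2 hcc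
      obtain ⟨e, he, hZe⟩ := PrimeSpectrum.exists_idempotent_basicOpen_eq_of_isClopen hZ
      refine ⟨Z, ?_, e, he, hZe.le, ?_⟩
      · rw [nhdsWithin_univ]
        exact hZ.2.mem_nhds (hxc.mem_open hZ.2 hcZ)
      · apply fac_local g t h φ hag he
        rw [← hZe]
        exact hZU
  obtain ⟨e, he, hcov, W, _, _, hW, u, v, hm, ha, hg⟩ := key
  have heu : IsUnit e := by
    by_contra hne
    obtain ⟨m, hm, hem⟩ := exists_max_ideal_of_mem_nonunits hne
    exact hcov (Set.mem_univ (⟨m, hm.isPrime⟩ : PrimeSpectrum B)) hem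
  have he1 : e = 1 := by
    have := he.eq
    exact heu.mul_left_cancel (by rw [this, mul_one])
  subst he1
  have hv0 : v 0 = 0 := by
    have := ha 0 0
    rw [add_zero] at this
    exact left_eq_add.mp this
  refine ⟨W, inferInstance, inferInstance, hW, u,
    { toFun := v
      map_one' := by
        have := hg 1
        rwa [map_one, map_one, mul_one] at this
      map_mul' := hm
      map_zero' := hv0
      map_add' := ha
      commutes' := fun r => by
        have := hg (algebraMap A Y r)
        rwa [AlgHom.commutes, AlgHom.commutes, one_mul] at this }, ?_⟩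
  ext y
  have := hg y
  rwa [one_mul] at this

/-- S0700 -/
theorem isIndZariski_of_identifies (h1 : EtPBC.IdentifiesLocalRings A B)
    (h3 : ProEtW.IsWLocal (PrimeSpectrum B)) : EtPBC.IsIndZariski A B :=
  isIndZariski_of_hasFactZ (hasFactZ_of_identifies h1 h3)

end Groth.Agent.Helper2.IndZar
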