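import Mathlib
import Groth.Prelude.Def_PBC
import Groth.Agent.Lib.Helper26.IndEtRec2

/-!
# The category of étale algebras mapping to a fixed algebra is filtered (helper2)
-/

set_option autoImplicit false

namespace Groth.Agent.Helper2.IndEtQuot

universe u
open CategoryTheory Limits TensorProduct
open Groth.Agent.Helper26.IndEtRec

section Coeq

variable {R C₁ C₂ : Type u} [CommRing R] [CommRing C₁] [CommRing C₂] [Algebra R C₁] [Algebra R C₂]
  [Algebra.Etale R C₁] [Algebra.Etale R C₂]

/-- coequalizers of étale algebras are étale -/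
theorem exists_coeq (f g : C₁ →ₐ[R] C₂) :
    ∃ (Q : Type u) (_ : CommRing Q) (_ : Algebra R Q) (_ : Algebra.Etale R Q) (h : C₂ →ₐ[R] Q),
      h.comp f = h.comp g ∧ ∀ (B : Type u) [CommRing B] [Algebra R B] (φ : C₂ →ₐ[R] B),
        φ.comp f = φ.comp g → ∃ ψ : Q →ₐ[R] B, ψ.comp h = φ := by
  let t : C₁ ⊗[R] C₁ := Algebra.FormallyUnramified.elem R C₁
  let ρ : C₁ ⊗[R] C₁ →ₐ[R] C₂ := Algebra.TensorProduct.productMap f g
  let τ : C₂ := ρ t
  have h1 : ∀ x : C₁, (g x - f x) * τ = 0 := by
    intro x
    have := congrArg ρ (Algebra.FormallyUnramified.one_tmul_sub_tmul_one_mul_elem (R := R) x)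
    rw [map_mul, map_sub, map_zero] at this
    simpa [ρ] using this
  have : Algebra.Etale C₂ (Localization.Away τ) := Algebra.Etale.of_isLocalizationAway τ
  have hQ : Algebra.Etale R (Localization.Away τ) := Algebra.Etale.comp R C₂ _
  refine ⟨Localization.Away τ, inferInstance, inferInstance, hQ,
    IsScalarTower.toAlgHom R C₂ (Localization.Away τ), ?_, ?_⟩
  · ext x
    change algebraMap C₂ (Localization.Away τ) (f x) = algebraMap C₂ (Localization.Away τ) (g x)
    rw [IsLocalization.eq_iff_exists (Submonoid.powers τ)]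
    refine ⟨⟨τ, Submonoid.mem_powers τ⟩, ?_⟩
    have := h1 x
    change τ * f x = τ * g x
    linear_combination -this
  · intro B _ _ φ hφ
    have hτ : φ τ = 1 := by
      have e1 : φ.comp ρ = (φ.comp f).comp (Algebra.TensorProduct.lmul' R) := by
        apply Algebra.TensorProduct.ext'
        intro a b
        have := DFunLike.congr_fun hφ b
        simp only [AlgHom.comp_apply] at this
        simp [ρ, this]
      have := DFunLike.congr_fun e1 t
      simp only [AlgHom.comp_apply] at this
      rw [this, Algebra.FormallyUnramified.lmul_elem, map_one, map_one]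
    have hu : IsUnit (φ τ) := by rw [hτ]; exact isUnit_one
    refine ⟨IsLocalization.Away.liftAlgHom τ (f := φ) hu, ?_⟩
    ext x
    simp

end Coeq

variable (R : Type u) [CommRing R] (B : Type u) [CommRing B] [Algebra R B]

instance isFilteredIdx : IsFiltered (Idx R B) where
  cocone_objs i j := by
    haveI : Algebra.Etale R (i.ring ⊗[R] j.ring) := Algebra.Etale.comp R i.ring _
    obtain ⟨k, e, he⟩ := exists_idx (i.ring ⊗[R] j.ring)
      (Algebra.TensorProduct.productMap i.φ j.φ)
    refine ⟨k, ⟨(e : (i.ring ⊗[R] j.ring) →ₐ[R] k.ring).comp Algebra.TensorProduct.includeLeft, ?_⟩,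
      ⟨(e : (i.ring ⊗[R] j.ring) →ₐ[R] k.ring).comp Algebra.TensorProduct.includeRight, ?_⟩,
      trivial⟩
    · rw [← AlgHom.comp_assoc, he]
      exact Algebra.TensorProduct.productMap_left _ _
    · rw [← AlgHom.comp_assoc, he]
      exact Algebra.TensorProduct.productMap_right _ _
  cocone_maps i j f g := by
    obtain ⟨Q, _, _, _, h, hfg, huniv⟩ := exists_coeq f.1 g.1
    obtain ⟨ψ, hψ⟩ := huniv B j.φ (by rw [f.2, g.2])
    obtain ⟨k, e, he⟩ := exists_idx Q ψ
    refine ⟨k, ⟨(e : Q →ₐ[R] k.ring).comp h, ?_⟩, ?_⟩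
    · rw [← AlgHom.comp_assoc, he, hψ]
    · apply Subtype.ext
      rw [Idx.comp_val, Idx.comp_val, AlgHom.comp_assoc, AlgHom.comp_assoc, hfg]
  nonempty := by
    obtain ⟨k, -, -⟩ := exists_idx R (Algebra.ofId R B)
    exact ⟨k⟩

end Groth.Agent.Helper2.IndEtQuot
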