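import Mathlib
import Groth.Prelude.Def_PBC
import Groth.Agent.Lib.Helper26.EtLift1
import Groth.Agent.Lib.Helper29.IndEtFact

/-!
# Killing kernel elements modulo `I` in a further étale algebra (helper2)
-/

set_option autoImplicit false

namespace Groth.Agent.Helper2.IndEtQuot

universe u
open TensorProduct
open Groth.Agent.Helper29.IndEtFact

variable {A : Type u} [CommRing A] (I : Ideal A) {Cb : Type u} [CommRing Cb]
  [Algebra (A ⧸ I) Cb] [Algebra A Cb] [IsScalarTower A (A ⧸ I) Cb]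

theorem algebraMap_eq_zero_of_mem {a : A} (ha : a ∈ I) : algebraMap A Cb a = 0 := by
  rw [IsScalarTower.algebraMap_apply A (A ⧸ I) Cb, Ideal.Quotient.algebraMap_eq,
    Ideal.Quotient.eq_zero_iff_mem.mpr ha, map_zero]

theorem algHom_map_eq_zero {B₀ : Type u} [CommRing B₀] [Algebra A B₀] (φ₀ : B₀ →ₐ[A] Cb)
    {x : B₀} (hx : x ∈ I.map (algebraMap A B₀)) : φ₀ x = 0 := by
  have : I.map (algebraMap A B₀) ≤ RingHom.ker φ₀.toRingHom := by
    rw [Ideal.map_le_iff_le_comap]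
    intro a ha
    rw [Ideal.mem_comap, RingHom.mem_ker]
    change φ₀ (algebraMap A B₀ a) = 0
    rw [φ₀.commutes, algebraMap_eq_zero_of_mem I ha]
  exact this hx

set_option maxHeartbeats 800000 in
theorem exists_kill (hfact : HasFact (A ⧸ I) Cb) (B₀ : Type u) [CommRing B₀] [Algebra A B₀]
    [Algebra.Etale A B₀] (φ₀ : B₀ →ₐ[A] Cb) (b : B₀) (hb : φ₀ b = 0) :
    ∃ (B₂ : Type u) (_ : CommRing B₂) (_ : Algebra A B₂) (_ : Algebra.Etale A B₂)
      (p : B₀ →ₐ[A] B₂) (φ₂ : B₂ →ₐ[A] Cb), φ₂.comp p = φ₀ ∧ p b ∈ I.map (algebraMap A B₂) := by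
  set I₀ : Ideal B₀ := I.map (algebraMap A B₀) with hI₀
  have hY : Algebra.Etale (A ⧸ I) (B₀ ⧸ I₀) :=
    Algebra.Etale.of_equiv (Algebra.TensorProduct.quotIdealMapEquivQuotTensor B₀ I).symm
  have hφ₀I : ∀ x ∈ I₀, φ₀.toRingHom x = 0 := fun x hx => algHom_map_eq_zero I φ₀ hx
  let gbar : (B₀ ⧸ I₀) →ₐ[A ⧸ I] Cb :=
    { toRingHom := Ideal.Quotient.lift I₀ φ₀.toRingHom hφ₀I
      commutes' := by
        intro r
        obtain ⟨a, rfl⟩ := Ideal.Quotient.mk_surjective r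
        have e1 : algebraMap (A ⧸ I) (B₀ ⧸ I₀) (Ideal.Quotient.mk I a) =
            Ideal.Quotient.mk I₀ (algebraMap A B₀ a) := rfl
        change Ideal.Quotient.lift I₀ φ₀.toRingHom hφ₀I
          (algebraMap (A ⧸ I) (B₀ ⧸ I₀) (Ideal.Quotient.mk I a)) = _
        rw [e1, Ideal.Quotient.lift_mk]
        change φ₀ (algebraMap A B₀ a) = _
        rw [φ₀.commutes, IsScalarTower.algebraMap_apply A (A ⧸ I) Cb]
        rfl }
  have hgbar : ∀ x : B₀, gbar (Ideal.Quotient.mk I₀ x) = φ₀ x := fun x => rfl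
  -- the quotient by `b`
  set K : Ideal (B₀ ⧸ I₀) := Ideal.span {Ideal.Quotient.mk I₀ b} with hK
  have hfp : Algebra.FinitePresentation (A ⧸ I) ((B₀ ⧸ I₀) ⧸ K) :=
    Algebra.FinitePresentation.quotient ⟨{Ideal.Quotient.mk I₀ b}, by simp [hK]⟩
  have hgK : ∀ x ∈ K, gbar x = 0 := by
    intro x hx
    rw [hK, Ideal.mem_span_singleton'] at hx
    obtain ⟨c, rfl⟩ := hx
    rw [map_mul, hgbar, hb, mul_zero]
  let g' : ((B₀ ⧸ I₀) ⧸ K) →ₐ[A ⧸ I] Cb := Ideal.Quotient.liftₐ K gbar hgK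
  obtain ⟨W, _, _, hW, u, v, huv⟩ := hfact ((B₀ ⧸ I₀) ⧸ K) g'
  -- `W` as an algebra over `B₀ ⧸ I₀`
  let ρ : (B₀ ⧸ I₀) →+* W := u.toRingHom.comp (Ideal.Quotient.mk K)
  letI algYW : Algebra (B₀ ⧸ I₀) W := ρ.toAlgebra
  have towerY : IsScalarTower (A ⧸ I) (B₀ ⧸ I₀) W := IsScalarTower.of_algebraMap_eq (fun r => by
    change algebraMap (A ⧸ I) W r = u (Ideal.Quotient.mk K (algebraMap (A ⧸ I) (B₀ ⧸ I₀) r))
    have : Ideal.Quotient.mk K (algebraMap (A ⧸ I) (B₀ ⧸ I₀) r) =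
        algebraMap (A ⧸ I) ((B₀ ⧸ I₀) ⧸ K) r := rfl
    rw [this, u.commutes])
  have hWY : Algebra.Etale (B₀ ⧸ I₀) W := Algebra.Etale.of_restrictScalars (A ⧸ I) (B₀ ⧸ I₀) W
  letI algBW : Algebra B₀ W := (ρ.comp (Ideal.Quotient.mk I₀)).toAlgebra
  have towerB : IsScalarTower B₀ (B₀ ⧸ I₀) W := IsScalarTower.of_algebraMap_eq (fun r => rfl)
  obtain ⟨B₂, _, _, hB₂, φ, hφsurj, hφker⟩ :=
    Groth.Agent.Helper26.EtLift.exists_etale_lift B₀ I₀ W
  letI algAB₂ : Algebra A B₂ := ((algebraMap B₀ B₂).comp (algebraMap A B₀)).toAlgebra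
  have towerA : IsScalarTower A B₀ B₂ := IsScalarTower.of_algebraMap_eq (fun r => rfl)
  have hAB₂ : Algebra.Etale A B₂ := Algebra.Etale.comp A B₀ B₂
  -- key identity
  have key : ∀ x : B₀, v (φ (algebraMap B₀ B₂ x)) = φ₀ x := by
    intro x
    rw [φ.commutes]
    change v (u (Ideal.Quotient.mk K (Ideal.Quotient.mk I₀ x))) = φ₀ x
    have := DFunLike.congr_fun huv (Ideal.Quotient.mk K (Ideal.Quotient.mk I₀ x))
    rw [AlgHom.comp_apply] at this
    rw [this]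
    rfl
  refine ⟨B₂, inferInstance, algAB₂, hAB₂, IsScalarTower.toAlgHom A B₀ B₂,
    { toRingHom := v.toRingHom.comp φ.toRingHom
      commutes' := fun a => by
        change v (φ (algebraMap B₀ B₂ (algebraMap A B₀ a))) = _
        rw [key, φ₀.commutes] }, ?_, ?_⟩
  · ext x
    exact key x
  · have h0 : φ (algebraMap B₀ B₂ b) = 0 := by
      rw [φ.commutes]
      change u (Ideal.Quotient.mk K (Ideal.Quotient.mk I₀ b)) = 0
      have : Ideal.Quotient.mk K (Ideal.Quotient.mk I₀ b) = 0 :=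
        Ideal.Quotient.eq_zero_iff_mem.mpr (Ideal.subset_span rfl)
      rw [this, map_zero]
    have h1 : algebraMap B₀ B₂ b ∈ RingHom.ker φ := h0
    rw [hφker, hI₀, Ideal.map_map] at h1
    exact h1

end Groth.Agent.Helper2.IndEtQuot
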