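import Mathlib
import Groth.Prelude.Def_PBC
import Groth.Agent.Lib.Helper2.IndEtQuotA
import Groth.Agent.Lib.Helper2.IndEtQuotB

/-!
# Lifting ind-étale algebras along a quotient map (helper2)
-/

set_option autoImplicit false

namespace Groth.Agent.Helper2.IndEtQuot

universe u
open CategoryTheory Limits TensorProduct
open Groth.Agent.Helper26.IndEtRec Groth.Agent.Helper29.IndEtFact

section Elem

variable {A : CommRingCat.{u}} {J : Type u} [SmallCategory J] [IsFiltered J]

theorem under_colimit_surj (F : J ⥤ Under A) (c : Cocone F) (hc : IsColimit c) (x : c.pt.right) :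
    ∃ (i : J) (xi : (F.obj i).right), (c.ι.app i).right.hom xi = x := by
  have : IsConnected J := IsFiltered.isConnected J
  have hc' := isColimitOfPreserves (Under.forget A ⋙ forget CommRingCat.{u}) hc
  obtain ⟨i, xi, h⟩ := Types.jointly_surjective_of_isColimit hc' x
  exact ⟨i, xi, h⟩

end Elem

theorem map_mem_map {A S T : Type*} [CommRing A] [CommRing S] [CommRing T] [Algebra A S]
    [Algebra A T] (I : Ideal A) (θ : S →ₐ[A] T) {x : S} (hx : x ∈ I.map (algebraMap A S)) :
    θ x ∈ I.map (algebraMap A T) := by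
  have h1 : θ x ∈ (I.map (algebraMap A S)).map (θ : S →+* T) := Ideal.mem_map_of_mem _ hx
  rwa [Ideal.map_map, AlgHom.comp_algebraMap] at h1

variable (A : Type u) [CommRing A] (I : Ideal A) (Cb : Type u) [CommRing Cb] [Algebra (A ⧸ I) Cb]

set_option maxHeartbeats 1000000 in
theorem main (h : EtPBC.IsIndEtale (A ⧸ I) Cb) :
    ∃ (C : Type u) (_ : CommRing C) (_ : Algebra A C),
      EtPBC.IsIndEtale A C ∧ Nonempty ((C ⧸ I.map (algebraMap A C)) ≃ₐ[A ⧸ I] Cb) := by
  letI algACb : Algebra A Cb := ((algebraMap (A ⧸ I) Cb).comp (Ideal.Quotient.mk I)).toAlgebra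
  have tower : IsScalarTower A (A ⧸ I) Cb := IsScalarTower.of_algebraMap_eq (fun r => rfl)
  have hfact : HasFact (A ⧸ I) Cb := hasFact_of_isIndEtale _ _ h
  let D := diagU A Cb
  let c := colimit.cocone D
  let hc : IsColimit c := colimit.isColimit D
  letI algAC : Algebra A c.pt.right := c.pt.hom.hom.toAlgebra
  let d := hc.desc (coconeU A Cb)
  let ψ : c.pt.right →ₐ[A] Cb :=
    { d.right.hom with commutes' := fun r => congr($(Under.w d).hom r) }
  have hψι : ∀ (i : Idx A Cb) (x : i.ring), ψ ((c.ι.app i).right.hom x) = i.φ x := fun i x =>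
    congr($(hc.fac (coconeU A Cb) i).right.hom x)
  let ι : ∀ i : Idx A Cb, i.ring →ₐ[A] c.pt.right := fun i =>
    { (c.ι.app i).right.hom with commutes' := fun r => congr($(Under.w (c.ι.app i)).hom r) }
  have hιnat : ∀ {i k : Idx A Cb} (f : i ⟶ k) (x : i.ring), ι k (f.1 x) = ι i x := fun f x =>
    congr($(c.w f).right.hom x)
  have hψι' : ∀ (i : Idx A Cb) (x : i.ring), ψ (ι i x) = i.φ x := hψι
  have hsurjC : ∀ x : c.pt.right, ∃ (i : Idx A Cb) (xi : i.ring), ι i xi = x := fun x =>
    under_colimit_surj D c hc x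
  -- surjectivity
  have hψsurj : Function.Surjective ψ := by
    intro y
    obtain ⟨W, _, _, hW, u, v, huv⟩ := hfact (MvPolynomial (Fin 1) (A ⧸ I))
      (MvPolynomial.aeval (fun _ => y))
    letI algAW : Algebra A W := ((algebraMap (A ⧸ I) W).comp (Ideal.Quotient.mk I)).toAlgebra
    have towerW : IsScalarTower A (A ⧸ I) W := IsScalarTower.of_algebraMap_eq (fun r => rfl)
    obtain ⟨R', _, _, hR', φ, hφsurj, -⟩ := Groth.Agent.Helper26.EtLift.exists_etale_lift A I W
    obtain ⟨r', hr'⟩ := hφsurj (u (MvPolynomial.X 0))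
    obtain ⟨i, e, he⟩ := exists_idx R' ((v.restrictScalars A).comp φ)
    refine ⟨ι i (e r'), ?_⟩
    rw [hψι']
    have h1 := DFunLike.congr_fun he r'
    have h2 := DFunLike.congr_fun huv (MvPolynomial.X 0)
    simp only [AlgHom.comp_apply, MvPolynomial.aeval_X] at h1 h2
    change i.φ (e r') = y
    rw [← h2, ← hr']
    exact h1
  -- kernel
  have hker : RingHom.ker ψ = I.map (algebraMap A c.pt.right) := by
    apply le_antisymm
    · intro x hx
      obtain ⟨i, b, rfl⟩ := hsurjC x
      have hb : i.φ b = 0 := by rw [← hψι']; exact hx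
      obtain ⟨B₂, _, _, _, p, φ₂, hcomp, hmem⟩ := exists_kill I hfact i.ring i.φ b hb
      obtain ⟨k, e, he⟩ := exists_idx B₂ φ₂
      let f : i ⟶ k := ⟨(e : B₂ →ₐ[A] k.ring).comp p, by rw [← AlgHom.comp_assoc, he, hcomp]⟩
      rw [← hιnat f b]
      apply map_mem_map I (ι k)
      exact map_mem_map I (e : B₂ →ₐ[A] k.ring) hmem
    · intro x hx
      exact algHom_map_eq_zero I ψ hx
  refine ⟨c.pt.right, inferInstance, algAC, ?_, ?_⟩
  · refine ⟨Idx A Cb, inferInstance, inferInstance, D, c, hc, ?_, ⟨Iso.refl _⟩⟩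
    intro i
    have h : ((diagU A Cb).obj i).hom.hom.toAlgebra = (inferInstance : Algebra A i.ring) :=
      Algebra.algebra_ext _ _ (fun r => rfl)
    change @Algebra.Etale A i.ring _ _ ((diagU A Cb).obj i).hom.hom.toAlgebra
    rw [h]
    exact i.etale
  · let e₁ : (c.pt.right ⧸ RingHom.ker ψ) ≃ₐ[A] Cb := Ideal.quotientKerAlgEquivOfSurjective hψsurj
    let e₂ : (c.pt.right ⧸ I.map (algebraMap A c.pt.right)) ≃ₐ[A] (c.pt.right ⧸ RingHom.ker ψ) :=
      Ideal.quotientEquivAlgOfEq A hker.symm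
    exact ⟨AlgEquiv.extendScalarsOfSurjective Ideal.Quotient.mk_surjective (e₂.trans e₁)⟩

end Groth.Agent.Helper2.IndEtQuot
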