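import Mathlib
import Groth.Prelude.Def_PBC
import Groth.Agent.S0176
import Groth.Agent.S0755
import Groth.Agent.S0736

/-!
# Lifting weakly étale algebras along a quotient (ring level)
-/

namespace Groth.Agent.Helper2.CILift

universe u

open TensorProduct

theorem exists_lift_ring (A : Type u) [CommRing A] (I : Ideal A) (B : Type u) [CommRing B]
    [Algebra (A ⧸ I) B] [Algebra.WeaklyEtale (A ⧸ I) B] :
    ∃ (C : Type u) (_ : CommRing C) (_ : Algebra A C), Algebra.WeaklyEtale A C ∧
      ∃ ψ : B →+* (C ⧸ I.map (algebraMap A C)),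
        ψ.comp (algebraMap (A ⧸ I) B) = algebraMap (A ⧸ I) (C ⧸ I.map (algebraMap A C)) ∧
        Function.Surjective (PrimeSpectrum.comap ψ) := by
  obtain ⟨B', _, _, _, _, hff, -, hind⟩ := Groth.Agent.S0176.result (A ⧸ I) B
  obtain ⟨C, _, _, hC, ⟨e⟩⟩ := Groth.Agent.S0755.result A I B' hind
  refine ⟨C, inferInstance, inferInstance, Groth.Agent.S0736.result A C hC, ?_⟩
  refine ⟨(e.symm : B' →+* (C ⧸ I.map (algebraMap A C))).comp (algebraMap B B'), ?_, ?_⟩
  · ext x
    simp only [RingHom.comp_apply]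
    rw [← IsScalarTower.algebraMap_apply (A ⧸ I) B B']
    exact e.symm.commutes _
  · intro p
    obtain ⟨q, hq⟩ := PrimeSpectrum.comap_surjective_of_faithfullyFlat (A := B) (B := B') p
    refine ⟨PrimeSpectrum.comap (e : (C ⧸ I.map (algebraMap A C)) →+* B') q, ?_⟩
    rw [← hq]
    ext x
    simp only [PrimeSpectrum.comap_asIdeal, Ideal.mem_comap, RingHom.comp_apply]
    change (e (e.symm (algebraMap B B' x))) ∈ q.asIdeal ↔ _
    rw [AlgEquiv.apply_symm_apply]

end Groth.Agent.Helper2.CILift
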