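import Mathlib
import Groth.Prelude.Def_PBC
import Groth.Agent.Lib.Helper2.CILift1
import Groth.Agent.Lib.Helper3.WEStalk
import Groth.Agent.Lib.Helper1.WE2

/-!
# Lifting weakly étale affine schemes along a closed immersion (Spec form)
-/

namespace Groth.Agent.Helper2.CILift

universe u

open CategoryTheory CategoryTheory.Limits AlgebraicGeometry TensorProduct

set_option backward.isDefEq.respectTransparency.types false in
theorem exists_lift_spec {A Ab B : CommRingCat.{u}} (φ : A ⟶ Ab)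
    (hφ : Function.Surjective φ.hom) (β : Ab ⟶ B) [WeaklyEtale (Spec.map β)] :
    ∃ (C : CommRingCat.{u}) (g : A ⟶ C), WeaklyEtale (Spec.map g) ∧
      ∃ h : pullback (Spec.map g) (Spec.map φ) ⟶ Spec B,
        h ≫ Spec.map β = pullback.snd _ _ ∧
        ∀ τ : Spec B, ∃ y : Spec C,
          (Spec.map g).base y = (Spec.map φ).base ((Spec.map β).base τ) := by
  let I : Ideal A := RingHom.ker φ.hom
  let e₀ : (A ⧸ I) ≃+* Ab := RingHom.quotientKerEquivOfSurjective hφ
  let f₀ : (A ⧸ I) →+* B := β.hom.comp e₀.toRingHom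
  letI : Algebra (A ⧸ I) B := f₀.toAlgebra
  have hwe : Algebra.WeaklyEtale (A ⧸ I) B := by
    rw [← Groth.Agent.Helper3.WEStalk.q_iff]
    have hq := (Groth.Agent.Helper3.WEStalk.spec_iff (CommRingCat.ofHom f₀)).mp ?_
    · exact hq
    have h1 : CommRingCat.ofHom f₀ = CommRingCat.ofHom e₀.toRingHom ≫ β := rfl
    rw [h1, Spec.map_comp]
    haveI : IsIso (CommRingCat.ofHom e₀.toRingHom) :=
      (e₀.toCommRingCatIso).isIso_hom
    infer_instance
  obtain ⟨C, _, _, hC, ψ, hψ, hsurj⟩ := exists_lift_ring A I B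
  letI : Algebra A Ab := φ.hom.toAlgebra
  let g : A ⟶ CommRingCat.of C := CommRingCat.ofHom (algebraMap A C)
  haveI hg : WeaklyEtale (Spec.map g) := Groth.Agent.Helper1.WE.weaklyEtale_Spec_map A C
  -- the map C/IC → C ⊗ Ab
  have hker : I.map (algebraMap A C) ≤
      RingHom.ker (Algebra.TensorProduct.includeLeftRingHom : C →+* C ⊗[A] Ab) := by
    rw [Ideal.map_le_iff_le_comap]
    intro a ha
    rw [Ideal.mem_comap, RingHom.mem_ker]
    change (algebraMap A C a) ⊗ₜ[A] (1 : Ab) = 0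
    rw [Algebra.algebraMap_eq_smul_one, TensorProduct.smul_tmul, Algebra.smul_def, mul_one]
    have : algebraMap A Ab a = 0 := ha
    rw [this, TensorProduct.tmul_zero]
  let ρ : (C ⧸ I.map (algebraMap A C)) →+* C ⊗[A] Ab :=
    Ideal.Quotient.lift _ Algebra.TensorProduct.includeLeftRingHom (fun x hx => hker hx)
  let θ : B →+* C ⊗[A] Ab := ρ.comp ψ
  have hθ : θ.comp β.hom =
      (Algebra.TensorProduct.includeRight : Ab →ₐ[A] C ⊗[A] Ab).toRingHom := by
    ext ab
    obtain ⟨a, rfl⟩ := hφ ab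
    have h1 : β.hom (φ.hom a) = algebraMap (A ⧸ I) B (Ideal.Quotient.mk I a) := by
      change _ = β.hom (e₀ (Ideal.Quotient.mk I a))
      rw [RingHom.quotientKerEquivOfSurjective_apply_mk]
    have h2 : ψ (algebraMap (A ⧸ I) B (Ideal.Quotient.mk I a)) =
        algebraMap (A ⧸ I) (C ⧸ I.map (algebraMap A C)) (Ideal.Quotient.mk I a) := by
      rw [← hψ]
      rfl
    have h3 : algebraMap (A ⧸ I) (C ⧸ I.map (algebraMap A C)) (Ideal.Quotient.mk I a) =
        Ideal.Quotient.mk _ (algebraMap A C a) := rfl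
    change ρ (ψ (β.hom (φ.hom a))) = (1 : C) ⊗ₜ[A] (φ.hom a)
    rw [h1, h2, h3]
    change (algebraMap A C a) ⊗ₜ[A] (1 : Ab) = _
    rw [Algebra.algebraMap_eq_smul_one, TensorProduct.smul_tmul, Algebra.smul_def, mul_one]
    rfl
  refine ⟨CommRingCat.of C, g, hg, ?_⟩
  let h : pullback (Spec.map g) (Spec.map φ) ⟶ Spec B :=
    (pullbackSpecIso A C Ab).hom ≫ Spec.map (CommRingCat.ofHom θ)
  refine ⟨h, ?_, ?_⟩
  · change ((pullbackSpecIso A C Ab).hom ≫ Spec.map (CommRingCat.ofHom θ)) ≫ Spec.map β = _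
    rw [Category.assoc, ← Spec.map_comp]
    have : β ≫ CommRingCat.ofHom θ = CommRingCat.ofHom
        (Algebra.TensorProduct.includeRight : Ab →ₐ[A] C ⊗[A] Ab).toRingHom := by
      ext x
      exact congrFun (congrArg DFunLike.coe hθ) x
    rw [this]
    exact pullbackSpecIso_hom_snd A C Ab
  · intro τ
    obtain ⟨q, hq⟩ := hsurj τ
    refine ⟨PrimeSpectrum.comap (Ideal.Quotient.mk (I.map (algebraMap A C))) q, ?_⟩
    rw [← hq]
    change PrimeSpectrum.comap (algebraMap A C) _ =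
      PrimeSpectrum.comap φ.hom (PrimeSpectrum.comap β.hom _)
    ext a
    simp only [PrimeSpectrum.comap_asIdeal, Ideal.mem_comap]
    have h1 : β.hom (φ.hom a) = algebraMap (A ⧸ I) B (Ideal.Quotient.mk I a) := by
      change _ = β.hom (e₀ (Ideal.Quotient.mk I a))
      rw [RingHom.quotientKerEquivOfSurjective_apply_mk]
    have h2 : ψ (algebraMap (A ⧸ I) B (Ideal.Quotient.mk I a)) =
        algebraMap (A ⧸ I) (C ⧸ I.map (algebraMap A C)) (Ideal.Quotient.mk I a) := by
      rw [← hψ]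
      rfl
    rw [h1, h2]
    rfl

end Groth.Agent.Helper2.CILift
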