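import Mathlib
import Groth.Prelude.Def_PBC
import Groth.Agent.Lib.Helper3.WEStalk

/-!
# Sections of weakly étale covers of w-contractible affine schemes
-/

namespace Groth.Agent.Helper2.WCov

universe u

open CategoryTheory CategoryTheory.Limits AlgebraicGeometry Opposite

/-- A surjective weakly étale morphism between affine schemes with w-contractible target has a
section. -/
theorem exists_section_of_wContractible {T Y : Scheme.{u}} [IsAffine T] [IsAffine Y] (π : Y ⟶ T)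
    [WeaklyEtale π] [Surjective π] (hT : EtPBC.IsWContractible ↥(Γ(T, ⊤))) :
    ∃ σ : T ⟶ Y, σ ≫ π = 𝟙 T := by
  let φ : Γ(T, ⊤) ⟶ Γ(Y, ⊤) := π.appTop
  have hnat : Spec.map φ = Y.isoSpec.inv ≫ π ≫ T.isoSpec.hom := by
    rw [← Scheme.isoSpec_hom_naturality, Iso.inv_hom_id_assoc]
  haveI hwe : WeaklyEtale (Spec.map φ) := by rw [hnat]; infer_instance
  haveI hsurj : Surjective (Spec.map φ) := by rw [hnat]; infer_instance
  have hff : φ.hom.FaithfullyFlat :=
    (flat_and_surjective_SpecMap_iff φ).mp ⟨inferInstance, hsurj⟩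
  have hQ := (Groth.Agent.Helper3.WEStalk.spec_iff φ).mp hwe
  letI : Algebra ↥(Γ(T, ⊤)) ↥(Γ(Y, ⊤)) := φ.hom.toAlgebra
  have h1 : Algebra.WeaklyEtale ↥(Γ(T, ⊤)) ↥(Γ(Y, ⊤)) :=
    (Groth.Agent.Helper3.WEStalk.q_iff _).mp hQ
  have h2 : Module.FaithfullyFlat ↥(Γ(T, ⊤)) ↥(Γ(Y, ⊤)) := hff
  obtain ⟨r⟩ := hT ↥(Γ(Y, ⊤)) h2 h1
  let ρ : Γ(Y, ⊤) ⟶ Γ(T, ⊤) := CommRingCat.ofHom r.toRingHom
  have hρ : φ ≫ ρ = 𝟙 _ := by
    ext a
    exact r.commutes a
  refine ⟨T.isoSpec.hom ≫ Spec.map ρ ≫ Y.isoSpec.inv, ?_⟩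
  have hnat' : Y.isoSpec.inv ≫ π = Spec.map φ ≫ T.isoSpec.inv := by
    rw [hnat]; simp
  rw [Category.assoc, Category.assoc, hnat', ← Spec.map_comp_assoc, hρ, Spec.map_id,
    Category.id_comp, Iso.hom_inv_id]

/-- Core refinement lemma: a pro-étale covering family of an affine scheme with w-contractible
ring of functions is refined by a finite decomposition into open and closed pieces. -/
theorem exists_clopen_refinement {T : Scheme.{u}} [IsAffine T]
    (hT : EtPBC.IsWContractible ↥(Γ(T, ⊤))) {I : Type*} (Z : I → Scheme.{u})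
    (p : ∀ i, Z i ⟶ T) (hp : Presieve.ofArrows Z p ∈ Scheme.proetalePrecoverage T) :
    ∃ (n : ℕ) (W : Fin n → T.Opens),
      (∀ k, IsClopen ((W k : Set ↥T))) ∧
      Pairwise (fun k l => Disjoint (W k : Set ↥T) (W l)) ∧ (⋃ k, (W k : Set ↥T)) = Set.univ ∧
      ∀ k, ∃ (i : I) (h : (W k : Scheme.{u}) ⟶ Z i), h ≫ p i = (W k).ι := by
  let 𝒰 : PreZeroHypercover.{_} T := ⟨I, Z, p⟩
  have hp' : 𝒰.presieve₀ ∈ Scheme.proetalePrecoverage T := hp
  haveI hqc : QuasiCompactCover 𝒰 := Scheme.presieve₀_mem_qcPrecoverage_iff.mp hp'.1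
  have hwe : ∀ i, WeaklyEtale (p i) := by
    have := hp'.2
    rw [Scheme.ofArrows_mem_precoverage_iff] at this
    exact this.2
  have hc : IsCompact ((⊤ : T.Opens) : Set ↥T) := by
    simpa using CompactSpace.isCompact_univ
  obtain ⟨n, f, V', hV', hcov⟩ := QuasiCompactCover.exists_isAffineOpen_of_isCompact 𝒰 hc
  let Yc : Fin n → Scheme.{u} := fun j => (V' j : Scheme.{u})
  let m : ∀ j, Yc j ⟶ T := fun j => (V' j).ι ≫ p (f j)
  haveI : ∀ j, IsAffine (Yc j) := fun j => hV' j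
  haveI : ∀ j, WeaklyEtale (m j) := fun j => by
    haveI := hwe (f j)
    dsimp only [m]
    infer_instance
  let Y : Scheme.{u} := ∐ Yc
  let π : Y ⟶ T := Sigma.desc m
  haveI : WeaklyEtale π := IsZariskiLocalAtSource.sigmaDesc (fun j => inferInstance)
  haveI : Surjective π := by
    refine ⟨fun t => ?_⟩
    have ht : t ∈ ⋃ i, (𝒰.f (f i)) '' (V' i : Set _) := by rw [hcov]; trivial
    obtain ⟨j, y, hy, rfl⟩ := Set.mem_iUnion.mp ht
    refine ⟨Sigma.ι Yc j ⟨y, hy⟩, ?_⟩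
    rw [← Scheme.Hom.comp_apply, Sigma.ι_desc]
    rfl
  obtain ⟨σ, hσ⟩ := exists_section_of_wContractible π hT
  let W : Fin n → T.Opens := fun k => σ ⁻¹ᵁ (Sigma.ι Yc k).opensRange
  have hdisj : Pairwise (fun k l => Disjoint (W k : Set ↥T) (W l)) := by
    intro k l hkl
    rw [Set.disjoint_left]
    intro t hk hl
    have h1 := disjoint_opensRange_sigmaι Yc k l hkl
    exact (Set.disjoint_left.mp ((TopologicalSpace.Opens.coe_disjoint).mpr h1)) hk hl
  have hcover : (⋃ k, (W k : Set ↥T)) = Set.univ := by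
    rw [Set.eq_univ_iff_forall]
    intro t
    obtain ⟨k, y, hy⟩ := (sigmaOpenCover Yc).exists_eq (σ t)
    exact Set.mem_iUnion.mpr ⟨k, ⟨y, hy⟩⟩
  refine ⟨n, W, ?_, hdisj, hcover, ?_⟩
  · intro k
    refine ⟨?_, (W k).isOpen⟩
    have hcompl : ((W k : Set ↥T))ᶜ = ⋃ l ∈ {l | l ≠ k}, (W l : Set ↥T) := by
      ext t
      simp only [Set.mem_compl_iff, Set.mem_iUnion, Set.mem_ofPred_eq, exists_prop]
      constructor
      · intro hk
        have : t ∈ ⋃ l, (W l : Set ↥T) := by rw [hcover]; trivial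
        obtain ⟨l, hl⟩ := Set.mem_iUnion.mp this
        exact ⟨l, fun h => hk (h ▸ hl), hl⟩
      · rintro ⟨l, hlk, hl⟩ hk
        exact Set.disjoint_left.mp (hdisj hlk) hl hk
    rw [← isOpen_compl_iff, hcompl]
    exact isOpen_biUnion (fun l _ => (W l).isOpen)
  · intro k
    have hrange : Set.range ((W k).ι ≫ σ) ⊆ Set.range (Sigma.ι Yc k) := by
      rintro _ ⟨w, rfl⟩
      exact w.2
    let h' : (W k : Scheme.{u}) ⟶ Yc k :=
      IsOpenImmersion.lift (Sigma.ι Yc k) ((W k).ι ≫ σ) hrange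
    have hh' : h' ≫ Sigma.ι Yc k = (W k).ι ≫ σ := IsOpenImmersion.lift_fac _ _ _
    refine ⟨f k, h' ≫ (V' k).ι, ?_⟩
    have e1 : (V' k).ι ≫ p (f k) = Sigma.ι Yc k ≫ π := (Sigma.ι_desc m k).symm
    rw [Category.assoc, e1, ← Category.assoc, hh', Category.assoc, hσ, Category.comp_id]

end Groth.Agent.Helper2.WCov
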