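import Mathlib
import Groth.Prelude.Def_PBC
import Groth.Agent.Lib.Helper1.WE2

/-!
# Gluing sections over a finite clopen decomposition; w-contractibility from sections
-/

namespace Groth.Agent.Helper2.WCov

universe u

open CategoryTheory CategoryTheory.Limits AlgebraicGeometry Opposite

/-- Glue local sections over a pairwise disjoint open cover. -/
theorem exists_section_of_disjoint_cover {T Y : Scheme.{u}} (π : Y ⟶ T) {ι : Type*}
    (W : ι → T.Opens)
    (hd : Pairwise (fun k l => Disjoint (W k : Set ↥T) (W l)))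
    (hc : (⋃ k, (W k : Set ↥T)) = Set.univ)
    (a : ∀ k, (W k : Scheme.{u}) ⟶ Y) (ha : ∀ k, a k ≫ π = (W k).ι) :
    ∃ σ : T ⟶ Y, σ ≫ π = 𝟙 T := by
  have hU : TopologicalSpace.IsOpenCover W := by
    apply TopologicalSpace.IsOpenCover.mk
    apply TopologicalSpace.Opens.ext
    simpa using hc
  let 𝒰 := T.openCoverOfIsOpenCover W hU
  have hf : ∀ x y : ι, pullback.fst (𝒰.f x) (𝒰.f y) ≫ a x = pullback.snd _ _ ≫ a y := by
    intro x y
    by_cases hxy : x = y
    · subst hxy
      have : pullback.fst (𝒰.f x) (𝒰.f x) = pullback.snd _ _ := by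
        rw [← cancel_mono (𝒰.f x)]
        exact pullback.condition
      exact congrArg (fun z => z ≫ a x) this
    · haveI : IsEmpty ↥(pullback (𝒰.f x) (𝒰.f y)) := by
        refine ⟨fun z => ?_⟩
        have h1 : (pullback.fst (𝒰.f x) (𝒰.f y) ≫ 𝒰.f x) z ∈ (W x : Set ↥T) := by
          rw [Scheme.Hom.comp_apply]
          exact (pullback.fst (𝒰.f x) (𝒰.f y) z).2
        have h2 : (pullback.fst (𝒰.f x) (𝒰.f y) ≫ 𝒰.f x) z ∈ (W y : Set ↥T) := by
          rw [pullback.condition, Scheme.Hom.comp_apply]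
          exact (pullback.snd (𝒰.f x) (𝒰.f y) z).2
        exact Set.disjoint_left.mp (hd hxy) h1 h2
      exact (isInitialOfIsEmpty (X := pullback (𝒰.f x) (𝒰.f y))).hom_ext _ _
  refine ⟨𝒰.glueMorphisms a hf, ?_⟩
  refine Scheme.Cover.hom_ext 𝒰 _ _ (fun k => ?_)
  rw [Scheme.Cover.ι_glueMorphisms_assoc, Category.comp_id]
  exact ha k

/-- If every surjective weakly étale morphism from an affine scheme to the affine scheme `T`
has a section, then the ring of functions of `T` is w-contractible. -/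
theorem isWContractible_of_sections {T : Scheme.{u}} [IsAffine T]
    (h : ∀ (B : CommRingCat.{u}) (π : Spec B ⟶ T), WeaklyEtale π → Surjective π →
      ∃ σ : T ⟶ Spec B, σ ≫ π = 𝟙 T) :
    EtPBC.IsWContractible ↥(Γ(T, ⊤)) := by
  intro B _ _ hff hwe
  let α : Γ(T, ⊤) ⟶ CommRingCat.of B := CommRingCat.ofHom (algebraMap _ B)
  let π : Spec (CommRingCat.of B) ⟶ T := Spec.map α ≫ T.isoSpec.inv
  haveI : WeaklyEtale (Spec.map α) := Groth.Agent.Helper1.WE.weaklyEtale_Spec_map _ B
  haveI : Surjective (Spec.map α) := by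
    have : α.hom.FaithfullyFlat := (RingHom.faithfullyFlat_algebraMap_iff).mpr hff
    exact ((flat_and_surjective_SpecMap_iff α).mpr this).2
  have hπw : WeaklyEtale π := inferInstance
  have hπs : Surjective π := inferInstance
  obtain ⟨σ, hσ⟩ := h _ π hπw hπs
  obtain ⟨ρ, hρ⟩ := Spec.map_surjective (T.isoSpec.inv ≫ σ)
  have hαρ : α ≫ ρ = 𝟙 _ := by
    apply Spec.map_injective
    rw [Spec.map_comp, hρ, Spec.map_id, Category.assoc]
    have : σ ≫ Spec.map α = T.isoSpec.hom := by
      have h2 := congrArg (fun z => z ≫ T.isoSpec.hom) hσ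
      simpa [π] using h2
    rw [this, Iso.inv_hom_id]
  exact ⟨{ ρ.hom with commutes' := fun r => congrArg (fun z => z.hom r) hαρ }⟩

end Groth.Agent.Helper2.WCov
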