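import Mathlib
import Groth.Prelude.Def_ProEtS
import Groth.Prelude.Def_PBC
import Groth.Agent.S0757
import Groth.Agent.Lib.Helper2.CILift3

/-!
# Lifting pro-étale coverings along a closed immersion with retrocompact complement
-/

namespace Groth.Agent.Helper2.CILift

universe u

open CategoryTheory CategoryTheory.Limits AlgebraicGeometry Opposite

set_option backward.isDefEq.respectTransparency.types false in
theorem exists_cover_lift {Z X : Scheme.{u}} (i : Z ⟶ X) [IsClosedImmersion i]
    (hr : IsRetrocompact (Set.range i.base)ᶜ) (V : X.ProEt) [IsAffine V.left]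
    (S : Sieve ((ProEtS.bcP i).obj V))
    (hS : S ∈ Scheme.ProEt.topology Z ((ProEtS.bcP i).obj V)) :
    ∃ R : Presieve V, Sieve.generate R ∈ Scheme.ProEt.topology X V ∧
      ∀ ⦃W : X.ProEt⦄ (g : W ⟶ V), R g →
        (S ((ProEtS.bcP i).map g) ∨ IsEmpty ((ProEtS.bcP i).obj W).left) := by
  let P : Scheme.{u} := pullback V.hom i
  let c : P ⟶ V.left := pullback.fst V.hom i
  haveI : IsClosedImmersion c := inferInstance
  haveI hPaff : IsAffine P := (IsClosedImmersion.isAffine_surjective_of_isAffine c).1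
  rw [Precoverage.mem_toGrothendieck_iff_of_isStableUnderComposition] at hS
  obtain ⟨S₀, hS₀, hle⟩ := hS
  obtain ⟨ι, Y, p, rfl⟩ := S₀.exists_eq_ofArrows
  change (Presieve.ofArrows Y p).map (Scheme.ProEt.forget Z ⋙ Over.forget Z) ∈
    Scheme.proetalePrecoverage _ at hS₀
  rw [Presieve.map_ofArrows] at hS₀
  let 𝒰 : PreZeroHypercover.{_} P := ⟨ι, fun a => (Y a).left, fun a => (p a).left⟩
  have hp' : 𝒰.presieve₀ ∈ Scheme.proetalePrecoverage P := hS₀
  haveI hqc : QuasiCompactCover 𝒰 := Scheme.presieve₀_mem_qcPrecoverage_iff.mp hp'.1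
  have hc : IsCompact ((⊤ : P.Opens) : Set ↥P) := by
    simpa using CompactSpace.isCompact_univ
  obtain ⟨n, f, V', hV', hcov⟩ := QuasiCompactCover.exists_isAffineOpen_of_isCompact 𝒰 hc
  let T : Fin n → Z.ProEt := fun k => Scheme.ProEt.mk ((V' k).ι ≫ (Y (f k)).hom)
  let q : ∀ k, T k ⟶ Y (f k) := fun k => MorphismProperty.Over.homMk (V' k).ι rfl
  let t : ∀ k, T k ⟶ (ProEtS.bcP i).obj V := fun k => q k ≫ p (f k)
  haveI : ∀ k, IsAffine (T k).left := fun k => hV' k
  have ht : ∀ k, (t k).left = (V' k).ι ≫ (p (f k)).left := fun k => rfl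
  have hSt : ∀ k, S (t k) := fun k =>
    S.downward_closed (hle _ _ (Presieve.ofArrows.mk (f k))) (q k)
  have key := fun k => exists_lift_proet i V (T k) (t k)
  choose W w h hWaff hh hpts using key
  haveI := hWaff
  -- the open complement
  let U : X.Opens := ⟨(Set.range i.base)ᶜ, i.isClosedEmbedding.isClosed_range.isOpen_compl⟩
  haveI hUqc : QuasiCompact U.ι :=
    quasiCompact_iff_isSpectralMap.mpr (IsRetrocompact_iff_isSpectralMap_subtypeVal.mp hr)
  let O : V.left.Opens := V.hom ⁻¹ᵁ U
  haveI hOqc : QuasiCompact O.ι :=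
    MorphismProperty.of_isPullback (P := @QuasiCompact) (isPullback_morphismRestrict V.hom U) hUqc
  let V₀ : X.ProEt := Scheme.ProEt.mk (O.ι ≫ V.hom)
  let v₀ : V₀ ⟶ V := MorphismProperty.Over.homMk O.ι rfl
  let Wf : Option (Fin n) → X.ProEt := fun o => o.elim V₀ W
  let wf : ∀ o, Wf o ⟶ V := fun o => match o with
    | none => v₀
    | some k => w k
  refine ⟨Presieve.ofArrows Wf wf, ?_, ?_⟩
  · apply Precoverage.generate_mem_toGrothendieck
    change (Presieve.ofArrows Wf wf).map (Scheme.ProEt.forget X ⋙ Over.forget X) ∈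
      Scheme.proetalePrecoverage _
    rw [Presieve.map_ofArrows]
    have hsurj : ∀ v : V.left, ∃ o : Option (Fin n), v ∈ Set.range (wf o).left.base := by
      intro v
      by_cases hv : V.hom.base v ∈ Set.range i.base
      · obtain ⟨ζ, hζ⟩ := hv
        obtain ⟨z, hz1, hz2⟩ := Scheme.Pullback.exists_preimage_pullback v ζ hζ.symm
        have hz' : z ∈ ⋃ k, (𝒰.f (f k)) '' (V' k : Set _) := by rw [hcov]; trivial
        obtain ⟨k, y, hy, hyz⟩ := Set.mem_iUnion.mp hz'
        have hyz' : (t k).left.base ⟨y, hy⟩ = z := by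
          rw [ht k, Scheme.Hom.comp_base]
          exact hyz
        obtain ⟨y', hy'⟩ := hpts k ⟨y, hy⟩
        refine ⟨some k, y', ?_⟩
        change (w k).left.base y' = v
        rw [hy', hyz']
        exact hz1
      · have hvU : v ∈ O := hv
        refine ⟨none, ⟨v, hvU⟩, ?_⟩
        rfl
    have hqcf : ∀ o, QuasiCompact (wf o).left := by
      intro o
      cases o with
      | none => exact hOqc
      | some k =>
        change QuasiCompact (w k).left
        infer_instance
    refine ⟨?_, ?_⟩
    · let 𝒱 : PreZeroHypercover.{_} V.left :=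
        ⟨Option (Fin n), fun o => (Wf o).left, fun o => (wf o).left⟩
      haveI : ∀ o, QuasiCompact (𝒱.f o) := hqcf
      haveI : QuasiCompactCover 𝒱 :=
        { isCompactOpenCovered_of_isAffineOpen := fun {O'} hO' => by
            refine .of_finite_of_isSpectralMap (fun o ↦ (𝒱.f o).isSpectralMap) ?_ O'.2
              hO'.isCompact
            exact fun x _ => hsurj x }
      exact Scheme.presieve₀_mem_qcPrecoverage_iff.mpr ‹QuasiCompactCover 𝒱›
    · rw [Scheme.ofArrows_mem_precoverage_iff]
      refine ⟨hsurj, fun o => ?_⟩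
      have h1 : WeaklyEtale ((wf o).left ≫ V.hom) := by
        rw [MorphismProperty.Over.w (wf o)]
        infer_instance
      exact WeaklyEtale.of_comp (wf o).left V.hom
  · rintro W' g ⟨o⟩
    cases o with
    | none =>
      right
      change IsEmpty ↥(pullback (O.ι ≫ V.hom) i)
      refine ⟨fun z => ?_⟩
      have hcond := pullback.condition (f := O.ι ≫ V.hom) (g := i)
      have h1 : (O.ι ≫ V.hom).base ((pullback.fst (O.ι ≫ V.hom) i).base z) =
          i.base ((pullback.snd (O.ι ≫ V.hom) i).base z) := by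
        change (pullback.fst (O.ι ≫ V.hom) i ≫ (O.ι ≫ V.hom)).base z =
          (pullback.snd (O.ι ≫ V.hom) i ≫ i).base z
        rw [hcond]
      have h2 : (O.ι ≫ V.hom).base ((pullback.fst (O.ι ≫ V.hom) i).base z) ∈
          (Set.range i.base)ᶜ := ((pullback.fst (O.ι ≫ V.hom) i).base z).2
      exact h2 ⟨_, h1.symm⟩
    | some k =>
      left
      change S ((ProEtS.bcP i).map (w k))
      rw [← hh k]
      exact S.downward_closed (hSt k) (h k)

end Groth.Agent.Helper2.CILift
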