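import Mathlib
import Groth.Prelude.Def_ProEtS
import Groth.Prelude.Def_PBC
import Groth.Agent.Lib.Helper2.CILift2
import Groth.Agent.Lib.Helper2.CILift5

/-!
# Lifting weakly étale affine objects along a closed immersion (pro-étale site form), with surjectivity
-/

namespace Groth.Agent.Helper2.CILift

universe u

open CategoryTheory CategoryTheory.Limits AlgebraicGeometry Opposite

set_option backward.isDefEq.respectTransparency.types false in
theorem exists_lift_proet' {Z X : Scheme.{u}} (i : Z ⟶ X) [IsClosedImmersion i] (V : X.ProEt)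
    [IsAffine V.left] (T : Z.ProEt) [IsAffine T.left] (t : T ⟶ (ProEtS.bcP i).obj V) :
    ∃ (W : X.ProEt) (w : W ⟶ V) (h : (ProEtS.bcP i).obj W ⟶ T), IsAffine W.left ∧
      h ≫ t = (ProEtS.bcP i).map w ∧ Function.Surjective h.left.base ∧
      ∀ τ : T.left, ∃ y : W.left,
        w.left.base y = (pullback.fst V.hom i).base (t.left.base τ) := by
  -- notation
  let P : Scheme.{u} := pullback V.hom i
  let c : P ⟶ V.left := pullback.fst V.hom i
  haveI : IsClosedImmersion c := inferInstance
  haveI hPaff : IsAffine P := (IsClosedImmersion.isAffine_surjective_of_isAffine c).1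
  let tl : T.left ⟶ P := t.left
  let φ : Γ(V.left, ⊤) ⟶ Γ(P, ⊤) := c.appTop
  have hφ : Function.Surjective φ.hom := (IsClosedImmersion.isAffine_surjective_of_isAffine c).2
  let β : Γ(P, ⊤) ⟶ Γ(T.left, ⊤) := tl.appTop
  have hnatφ : Spec.map φ = P.isoSpec.inv ≫ c ≫ V.left.isoSpec.hom := by
    rw [← Scheme.isoSpec_hom_naturality, Iso.inv_hom_id_assoc]
  have hnatβ : Spec.map β = T.left.isoSpec.inv ≫ tl ≫ P.isoSpec.hom := by
    rw [← Scheme.isoSpec_hom_naturality, Iso.inv_hom_id_assoc]
  haveI htl : WeaklyEtale tl := by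
    have h1 : WeaklyEtale (tl ≫ pullback.snd V.hom i) := by
      have := MorphismProperty.Over.w t
      change WeaklyEtale (t.left ≫ ((ProEtS.bcP i).obj V).hom)
      rw [this]
      infer_instance
    haveI : WeaklyEtale (pullback.snd V.hom i) := inferInstance
    exact WeaklyEtale.of_comp tl (pullback.snd V.hom i)
  haveI : WeaklyEtale (Spec.map β) := by rw [hnatβ]; infer_instance
  obtain ⟨C, g, hg, h₀, hh₀, hsurj₀, hpts⟩ := exists_lift_spec' φ hφ β
  haveI := hg
  obtain ⟨w, hw⟩ : ∃ w : Spec C ⟶ V.left, w = Spec.map g ≫ V.left.isoSpec.inv := ⟨_, rfl⟩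
  haveI : WeaklyEtale w := by rw [hw]; infer_instance
  let W : X.ProEt := Scheme.ProEt.mk (w ≫ V.hom)
  let wk : W ⟶ V := MorphismProperty.Over.homMk w rfl
  let Q : Scheme.{u} := pullback (w ≫ V.hom) i
  let bw : Q ⟶ P := ((ProEtS.bcP i).map wk).left
  have hbw1 : bw ≫ pullback.fst V.hom i = pullback.fst (w ≫ V.hom) i ≫ w := by
    dsimp [bw, ProEtS.bcP]
    exact pullback.lift_fst _ _ _
  have hbw2 : bw ≫ pullback.snd V.hom i = pullback.snd (w ≫ V.hom) i := by
    dsimp [bw, ProEtS.bcP]
    exact pullback.lift_snd _ _ _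
  have hcomp : pullback.fst (w ≫ V.hom) i ≫ Spec.map g =
      (bw ≫ P.isoSpec.hom) ≫ Spec.map φ := by
    have e1 : Spec.map g = w ≫ V.left.isoSpec.hom := by
      rw [hw, Category.assoc, Iso.inv_hom_id, Category.comp_id]
    have e2 : P.isoSpec.hom ≫ Spec.map φ = c ≫ V.left.isoSpec.hom := by
      rw [hnatφ, Iso.hom_inv_id_assoc]
    rw [e1, Category.assoc, e2, ← Category.assoc, ← Category.assoc, hbw1]
  let ℓ : Q ⟶ pullback (Spec.map g) (Spec.map φ) :=
    pullback.lift (pullback.fst (w ≫ V.hom) i) (bw ≫ P.isoSpec.hom) hcomp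
  let hl : Q ⟶ T.left := ℓ ≫ h₀ ≫ T.left.isoSpec.inv
  have hhl : hl ≫ tl = bw := by
    have h1 : T.left.isoSpec.inv ≫ tl = Spec.map β ≫ P.isoSpec.inv := by
      rw [hnatβ]
      simp only [Category.assoc, Iso.hom_inv_id, Category.comp_id]
    simp only [hl, Category.assoc]
    rw [h1, ← Category.assoc h₀, hh₀, ← Category.assoc ℓ, pullback.lift_snd, Category.assoc,
      Iso.hom_inv_id, Category.comp_id]
  have hover : hl ≫ T.hom = pullback.snd (w ≫ V.hom) i := by
    have h1 : tl ≫ pullback.snd V.hom i = T.hom := MorphismProperty.Over.w t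
    rw [← h1, ← Category.assoc, hhl, hbw2]
  let hk : (ProEtS.bcP i).obj W ⟶ T := MorphismProperty.Over.homMk hl hover
  refine ⟨W, wk, hk, ?_, ?_, ?_, ?_⟩
  · change IsAffine (Spec C)
    infer_instance
  · apply MorphismProperty.Over.Hom.ext
    exact hhl
  · -- surjectivity of `hl`
    change Function.Surjective hl.base
    have hℓ : Function.Surjective ℓ.base := by
      intro z
      let y : Spec C := (pullback.fst (Spec.map g) (Spec.map φ)).base z
      let p : Spec Γ(P, ⊤) := (pullback.snd (Spec.map g) (Spec.map φ)).base z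
      let p' : P := P.isoSpec.inv.base p
      let ζ : Z := (pullback.snd V.hom i).base p'
      have hcondz : (Spec.map g).base y = (Spec.map φ).base p := by
        change (pullback.fst (Spec.map g) (Spec.map φ) ≫ Spec.map g).base z =
          (pullback.snd (Spec.map g) (Spec.map φ) ≫ Spec.map φ).base z
        rw [pullback.condition]
      have hwy : w.base y = c.base p' := by
        have e1 : Spec.map g = w ≫ V.left.isoSpec.hom := by
          rw [hw, Category.assoc, Iso.inv_hom_id, Category.comp_id]
        rw [e1, hnatφ] at hcondz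
        have hinj : Function.Injective V.left.isoSpec.hom.base :=
          (TopCat.homeoOfIso (Scheme.forgetToTop.mapIso V.left.isoSpec)).injective
        apply hinj
        exact hcondz
      have hyζ : (w ≫ V.hom).base y = i.base ζ := by
        change V.hom.base (w.base y) = (pullback.snd V.hom i ≫ i).base p'
        rw [← pullback.condition, hwy]
        rfl
      obtain ⟨z', hz1, hz2⟩ := Scheme.Pullback.exists_preimage_pullback y ζ hyζ
      refine ⟨z', ?_⟩
      haveI : IsClosedImmersion (Spec.map φ) := IsClosedImmersion.spec_of_surjective φ hφ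
      have hinj : Function.Injective (pullback.fst (Spec.map g) (Spec.map φ)).base :=
        (pullback.fst (Spec.map g) (Spec.map φ)).isClosedEmbedding.injective
      apply hinj
      change (ℓ ≫ pullback.fst (Spec.map g) (Spec.map φ)).base z' = y
      rw [pullback.lift_fst]
      exact hz1
    have hiso : Function.Surjective T.left.isoSpec.inv.base :=
      (TopCat.homeoOfIso (Scheme.forgetToTop.mapIso T.left.isoSpec.symm)).surjective
    change Function.Surjective (ℓ ≫ h₀ ≫ T.left.isoSpec.inv).base
    rw [Scheme.Hom.comp_base, Scheme.Hom.comp_base]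
    exact (hiso.comp hsurj₀).comp hℓ
  · intro τ
    obtain ⟨y, hy⟩ := hpts (T.left.isoSpec.hom.base τ)
    refine ⟨y, ?_⟩
    change w.base y = (tl ≫ c).base τ
    rw [hw]
    rw [Scheme.Hom.comp_base, TopCat.comp_app, hy]
    have h2 : tl ≫ c = T.left.isoSpec.hom ≫ Spec.map β ≫ Spec.map φ ≫ V.left.isoSpec.inv := by
      rw [hnatβ, hnatφ]
      simp only [Category.assoc, Iso.hom_inv_id, Category.comp_id, Iso.hom_inv_id_assoc]
    rw [h2]
    rfl

end Groth.Agent.Helper2.CILift
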