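import Mathlib
import Groth.Prelude.Def_EtMod2
import Groth.Prelude.Def_WeakSerre
import Groth.Agent.S6644
import Groth.Agent.S6646
import Groth.Agent.Lib.Helper10.LanExactMod
import Groth.Agent.Lib.Helper10.LcExact

/-!
# Constructible sheaves of `Λ`-modules on the small étale site form a weak Serre subcategory
-/

namespace Groth.Agent.Helper2.ConsWS

universe u

open CategoryTheory CategoryTheory.Limits AlgebraicGeometry Opposite ZeroObject

variable (Λ : Type (u + 1)) [CommRing Λ]

theorem pull_exact {X Y : Scheme.{u}} (f : X ⟶ Y) :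
    PreservesFiniteLimits (EtModW.pull Λ f) :=
  Groth.Agent.Helper10.LanExactMod.preservesFiniteLimits_sheafPullback_mod Λ (EtCoh.bc f) _ _

theorem pull_additive {X Y : Scheme.{u}} (f : X ⟶ Y) : (EtModW.pull Λ f).Additive := by
  have adj : EtModW.pull Λ f ⊣ EtModW.push Λ f :=
    (EtCoh.bc f).sheafAdjunctionContinuous (ModuleCat.{u + 1} Λ) Y.smallEtaleTopology
      X.smallEtaleTopology
  exact adj.left_adjoint_additive

theorem pull_rightExact {X Y : Scheme.{u}} (f : X ⟶ Y) :
    PreservesFiniteColimits (EtModW.pull Λ f) := by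
  have adj : EtModW.pull Λ f ⊣ EtModW.push Λ f :=
    (EtCoh.bc f).sheafAdjunctionContinuous (ModuleCat.{u + 1} Λ) Y.smallEtaleTopology
      X.smallEtaleTopology
  have : PreservesColimitsOfSize.{0, 0} (EtModW.pull Λ f) := adj.leftAdjoint_preservesColimits
  exact PreservesColimitsOfSize.preservesFiniteColimits _

set_option backward.isDefEq.respectTransparency.types false in
theorem isFT_of_isZero {T : Scheme.{u}} (F : EtModW.Mod Λ T) (hF : IsZero F) :
    EtModW.IsFTLocConst Λ F := by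
  refine ⟨PUnit.{u + 1}, fun _ => Scheme.Etale.mk (𝟙 T), ?_, fun i => ?_⟩
  · intro x
    exact ⟨PUnit.unit, x, rfl⟩
  · refine ⟨PUnit.{u + 2}, inferInstance, inferInstance, inferInstance, ⟨IsZero.iso ?_ ?_⟩⟩
    · exact (T.smallEtaleTopology.overPullback (ModuleCat.{u + 1} Λ) _).map_isZero hF
    · apply Functor.map_isZero
      exact ModuleCat.isZero_of_subsingleton _

theorem isConstructible_of_iso {X : Scheme.{u}} {F G : EtModW.Mod Λ X} (e : F ≅ G)
    (hF : EtModW.IsConstructible Λ F) : EtModW.IsConstructible Λ G := by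
  intro U hU
  obtain ⟨n, T, g, hi, hc, hd, hu, hl⟩ := hF U hU
  exact ⟨n, T, g, hi, hc, hd, hu, fun i =>
    Groth.Agent.S6644.isFT_of_iso Λ ((EtModW.pull Λ (g i)).mapIso e) (hl i)⟩

theorem isConstructible_of_isZero {X : Scheme.{u}} (F : EtModW.Mod Λ X) (hF : IsZero F) :
    EtModW.IsConstructible Λ F := by
  intro U hU
  haveI := pull_additive Λ U.ι
  refine ⟨1, fun _ => U, fun _ => U.ι, fun _ => inferInstance, fun _ => ?_, ?_, ?_, fun _ => ?_⟩
  · have : (Subtype.val : ↥(U : Set X) → X) ⁻¹' Set.range U.ι = Set.univ := by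
      ext x
      simp only [Set.mem_preimage, Set.mem_univ, iff_true]
      rw [Scheme.Opens.range_ι]
      exact x.2
    rw [this]
    exact Topology.IsConstructible.univ
  · intro i j hij
    exact absurd (Subsingleton.elim i j) hij
  · ext x
    simp only [Set.mem_iUnion]
    constructor
    · rintro ⟨_, h⟩
      rw [Scheme.Opens.range_ι] at h
      exact h
    · intro h
      refine ⟨0, ?_⟩
      rw [Scheme.Opens.range_ι]
      exact h
  · exact isFT_of_isZero Λ _ ((EtModW.pull Λ U.ι).map_isZero hF)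

variable [IsNoetherianRing Λ]

theorem cons_kernel_cokernel {X : Scheme.{u}} (F G : EtModW.Mod Λ X) (φ : F ⟶ G)
    (hF : EtModW.IsConstructible Λ F) (hG : EtModW.IsConstructible Λ G) :
    EtModW.IsConstructible Λ (kernel φ) ∧ EtModW.IsConstructible Λ (cokernel φ) := by
  constructor
  · intro U hU
    obtain ⟨n, T, g, hi, hc, hd, hu, hl⟩ :=
      Groth.Agent.S6644.adaptedStrata_common Λ F G _ (hF U hU) (hG U hU)
    refine ⟨n, T, g, hi, hc, hd, hu, fun i => ?_⟩
    haveI := pull_exact Λ (g i)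
    haveI := pull_additive Λ (g i)
    have := (Groth.Agent.S6646.result Λ (T i)).1 _ _ ((EtModW.pull Λ (g i)).map φ)
      (hl i).1 (hl i).2
    exact Groth.Agent.S6644.isFT_of_iso Λ (PreservesKernel.iso (EtModW.pull Λ (g i)) φ).symm this.1
  · intro U hU
    obtain ⟨n, T, g, hi, hc, hd, hu, hl⟩ :=
      Groth.Agent.S6644.adaptedStrata_common Λ F G _ (hF U hU) (hG U hU)
    refine ⟨n, T, g, hi, hc, hd, hu, fun i => ?_⟩
    haveI := pull_rightExact Λ (g i)
    haveI := pull_additive Λ (g i)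
    have := (Groth.Agent.S6646.result Λ (T i)).1 _ _ ((EtModW.pull Λ (g i)).map φ)
      (hl i).1 (hl i).2
    exact Groth.Agent.S6644.isFT_of_iso Λ (PreservesCokernel.iso (EtModW.pull Λ (g i)) φ).symm
      this.2

theorem cons_ext {X : Scheme.{u}} (T : ShortComplex (EtModW.Mod Λ X)) (hT : T.ShortExact)
    (h₁ : EtModW.IsConstructible Λ T.X₁) (h₃ : EtModW.IsConstructible Λ T.X₃) :
    EtModW.IsConstructible Λ T.X₂ := by
  intro U hU
  obtain ⟨n, S, g, hi, hc, hd, hu, hl⟩ :=
    Groth.Agent.S6644.adaptedStrata_common Λ T.X₁ T.X₃ _ (h₁ U hU) (h₃ U hU)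
  refine ⟨n, S, g, hi, hc, hd, hu, fun i => ?_⟩
  haveI := pull_exact Λ (g i)
  haveI := pull_rightExact Λ (g i)
  haveI := pull_additive Λ (g i)
  have hT' : (T.map (EtModW.pull Λ (g i))).ShortExact := hT.map_of_exact _
  haveI := (Groth.Agent.S6646.result Λ (S i)).2
  exact ObjectProperty.prop_X₂_of_shortExact
    (P := fun F : EtModW.Mod Λ (S i) => EtModW.IsFTLocConst Λ F) hT' (hl i).1 (hl i).2

instance cons_weakSerre (X : Scheme.{u}) :
    WSerre.IsWeakSerre (fun E : EtModW.Mod Λ X => EtModW.IsConstructible Λ E) := by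
  refine @WSerre.IsWeakSerre.mk _ _ _ _ ⟨?_⟩ ⟨?_⟩ ⟨?_⟩ ⟨?_⟩
  · exact ⟨0, isZero_zero _, isConstructible_of_isZero Λ _ (isZero_zero _)⟩
  · rintro _ ⟨f, k, hk, hX, hY⟩
    exact isConstructible_of_iso Λ
      (IsLimit.conePointUniqueUpToIso (limit.isLimit (parallelPair f 0)) hk)
      (cons_kernel_cokernel Λ _ _ f hX hY).1
  · rintro _ ⟨f, k, hk, hX, hY⟩
    exact isConstructible_of_iso Λ
      (IsColimit.coconePointUniqueUpToIso (colimit.isColimit (parallelPair f 0)) hk)
      (cons_kernel_cokernel Λ _ _ f hX hY).2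
  · intro T hT h₁ h₃
    exact cons_ext Λ T hT h₁ h₃

end Groth.Agent.Helper2.ConsWS
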