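import Mathlib

/-!
# Pointwise left Kan extensions along flat functors turn coproducts into products
-/

namespace Groth.Agent.Helper2.LanProd

universe w v₁ v₂ u₁ u₂

open CategoryTheory CategoryTheory.Limits Opposite

variable {C : Type u₁} [Category.{v₁} C] {D : Type u₂} [Category.{v₂} D]
variable (u : D ⥤ C) {F : Dᵒᵖ ⥤ Type w} (E : Functor.LeftExtension u.op F)

/-- The class in `G(P)` of a triple `(V, g : P ⟶ uV, s ∈ F(V))`. -/
def cls {P : C} {V : D} (g : P ⟶ u.obj V) (s : F.obj (op V)) : E.right.obj (op P) :=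
  E.right.map g.op (E.hom.app (op V) s)

theorem cls_comp_map {P : C} {V V' : D} (h : V' ⟶ V) (g' : P ⟶ u.obj V') (s : F.obj (op V)) :
    cls u E (g' ≫ u.map h) s = cls u E g' (F.map h.op s) := by
  unfold cls
  have h1 := NatTrans.naturality_apply E.hom h.op s
  rw [h1]
  rw [op_comp, Functor.map_comp]
  rfl

theorem map_cls {P P' : C} {V : D} (q : P' ⟶ P) (g : P ⟶ u.obj V) (s : F.obj (op V)) :
    E.right.map q.op (cls u E g s) = cls u E (q ≫ g) s := by
  unfold cls
  rw [op_comp, Functor.map_comp]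
  rfl

variable {E}

theorem exists_cls (hE : E.IsPointwiseLeftKanExtension) {P : C} (t : E.right.obj (op P)) :
    ∃ (V : D) (g : P ⟶ u.obj V) (s : F.obj (op V)), cls u E g s = t := by
  obtain ⟨a, s, hs⟩ := Types.jointly_surjective_of_isColimit (hE (op P)) t
  exact ⟨a.left.unop, a.hom.unop, s, hs⟩

theorem exists_cls₂ [RepresentablyFlat u] (hE : E.IsPointwiseLeftKanExtension) {P : C}
    (t t' : E.right.obj (op P)) :
    ∃ (V : D) (g : P ⟶ u.obj V) (s s' : F.obj (op V)), cls u E g s = t ∧ cls u E g s' = t' := by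
  obtain ⟨a, s, s', hs, hs'⟩ :=
    Types.FilteredColimit.jointly_surjective_of_isColimit₂ (hE (op P)) t t'
  exact ⟨a.left.unop, a.hom.unop, s, s', hs, hs'⟩

theorem cls_eq_iff [RepresentablyFlat u] (hE : E.IsPointwiseLeftKanExtension) {P : C} {V : D}
    (g : P ⟶ u.obj V) (s s' : F.obj (op V)) (h : cls u E g s = cls u E g s') :
    ∃ (V' : D) (h : V' ⟶ V) (g' : P ⟶ u.obj V'), g' ≫ u.map h = g ∧
      F.map h.op s = F.map h.op s' := by
  let a : CostructuredArrow u.op (op P) := CostructuredArrow.mk (Y := op V) g.op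
  have h' : (E.coconeAt (op P)).ι.app a s = (E.coconeAt (op P)).ι.app a s' := h
  rw [Types.FilteredColimit.isColimit_eq_iff' (hE (op P))] at h'
  obtain ⟨b, f, hf⟩ := h'
  refine ⟨b.left.unop, f.left.unop, b.hom.unop, ?_, hf⟩
  have := CostructuredArrow.w f
  exact congrArg Quiver.Hom.unop this

/-- Main theorem. -/
theorem existsUnique_of_pointwise [RepresentablyFlat u] (hE : E.IsPointwiseLeftKanExtension)
    {I : Type*}
    (hD : ∀ V : I → D, ∃ (P : D) (j : ∀ k, V k ⟶ P),
      (∀ x : ∀ k, F.obj (op (V k)), ∃! t : F.obj (op P), ∀ k, F.map (j k).op t = x k) ∧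
      (∀ (T : D) (h : ∀ k, V k ⟶ T), ∃ h' : P ⟶ T, ∀ k, j k ≫ h' = h k))
    {A : I → C} (c : Cofan A) (hc : IsColimit c) (x : ∀ k, E.right.obj (op (A k))) :
    ∃! t : E.right.obj (op c.pt), ∀ k, E.right.map (c.inj k).op t = x k := by
  have huniq : ∀ t t' : E.right.obj (op c.pt),
      (∀ k, E.right.map (c.inj k).op t = E.right.map (c.inj k).op t') → t = t' := by
    intro t t' htt'
    obtain ⟨V, g, s, s', rfl, rfl⟩ := exists_cls₂ u hE t t'
    have hk : ∀ k, ∃ (V' : D) (h : V' ⟶ V) (g' : A k ⟶ u.obj V'), g' ≫ u.map h = c.inj k ≫ g ∧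
        F.map h.op s = F.map h.op s' := by
      intro k
      have := htt' k
      rw [map_cls, map_cls] at this
      exact cls_eq_iff u hE _ s s' this
    choose V' h g' hg' hs using hk
    obtain ⟨P', j, hprod, hdesc⟩ := hD V'
    obtain ⟨h', hh'⟩ := hdesc V h
    let g'' : c.pt ⟶ u.obj P' := Cofan.IsColimit.desc hc (fun k => g' k ≫ u.map (j k))
    have hg'' : g'' ≫ u.map h' = g := by
      refine Cofan.IsColimit.hom_ext hc _ _ (fun k => ?_)
      rw [Cofan.IsColimit.fac_assoc, Category.assoc, ← u.map_comp, hh' k, hg' k]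
    have hss' : F.map h'.op s = F.map h'.op s' := by
      obtain ⟨t0, -, ht0⟩ := hprod (fun k => F.map (h k).op s)
      have e1 : ∀ k, F.map (j k).op (F.map h'.op s) = F.map (h k).op s := by
        intro k
        rw [← hh' k, op_comp, Functor.map_comp]
        rfl
      have e2 : ∀ k, F.map (j k).op (F.map h'.op s') = F.map (h k).op s := by
        intro k
        rw [hs k, ← hh' k, op_comp, Functor.map_comp]
        rfl
      rw [ht0 _ e1, ht0 _ e2]
    rw [← hg'', cls_comp_map, cls_comp_map, hss']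
  have hex : ∃ t : E.right.obj (op c.pt), ∀ k, E.right.map (c.inj k).op t = x k := by
    have hk : ∀ k, ∃ (V : D) (g : A k ⟶ u.obj V) (s : F.obj (op V)), cls u E g s = x k :=
      fun k => exists_cls u hE (x k)
    choose V g s hs using hk
    obtain ⟨P', j, hprod, -⟩ := hD V
    obtain ⟨s0, hs0, -⟩ := hprod s
    let g0 : c.pt ⟶ u.obj P' := Cofan.IsColimit.desc hc (fun k => g k ≫ u.map (j k))
    refine ⟨cls u E g0 s0, fun k => ?_⟩
    rw [map_cls, Cofan.IsColimit.fac, cls_comp_map, hs0 k, hs k]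
  obtain ⟨t, ht⟩ := hex
  exact ⟨t, ht, fun t' ht' => huniq t' t (fun k => by rw [ht k, ht' k])⟩

end Groth.Agent.Helper2.LanProd
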