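import Mathlib
import Groth.Agent.Lib.Helper2.LanProd

/-!
# Generic criterion: the unit of `u⁻¹ ⊣ u_*` at a sheaf is bijective on sections
(Type-valued presheaves; `P = E.right` a pointwise left Kan extension along a flat functor `u`,
`φ : P ⟶ Q` a locally bijective map to a sheaf `Q`.)
-/

namespace Groth.Agent.Helper2.EpsU

universe w v₁ v₂ u₁ u₂

open CategoryTheory CategoryTheory.Limits Opposite Groth.Agent.Helper2.LanProd

variable {C : Type u₁} [Category.{v₁} C] {D : Type u₂} [Category.{v₂} D]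
variable (u : D ⥤ C) [RepresentablyFlat u] (K : GrothendieckTopology C)
variable {F : Dᵒᵖ ⥤ Type w} {E : Functor.LeftExtension u.op F}
variable (hE : E.IsPointwiseLeftKanExtension)
variable {Q : Cᵒᵖ ⥤ Type w} (φ : E.right ⟶ Q)

include hE in
/-- Separatedness of the Kan extension presheaf from a "local equality implies equality" input. -/
theorem injective_of_sep [Presheaf.IsLocallyInjective K φ]
    (hsep : ∀ (Z : C) (W : D) (g : Z ⟶ u.obj W) (s s' : F.obj (op W)) (R : Sieve Z), R ∈ K Z →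
      (∀ ⦃Z' : C⦄ (f : Z' ⟶ Z), R f → ∃ (W' : D) (h : W' ⟶ W) (g' : Z' ⟶ u.obj W'),
        g' ≫ u.map h = f ≫ g ∧ F.map h.op s = F.map h.op s') →
      ∃ (W₀ : D) (h₀ : W₀ ⟶ W) (g₀ : Z ⟶ u.obj W₀), g₀ ≫ u.map h₀ = g ∧
        F.map h₀.op s = F.map h₀.op s')
    (Z : C) : Function.Injective (φ.app (op Z)) := by
  intro t t' htt'
  obtain ⟨W, g, s, s', rfl, rfl⟩ := exists_cls₂ u hE t t'
  have hR := Presheaf.equalizerSieve_mem K φ (X := op Z) _ _ htt'
  obtain ⟨W₀, h₀, g₀, hg₀, hs⟩ := hsep Z W g s s' _ hR (by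
    intro Z' f hf
    have hf' : E.right.map f.op (cls u E g s) = E.right.map f.op (cls u E g s') := hf
    rw [map_cls, map_cls] at hf'
    obtain ⟨W', h, g', hg', hs⟩ := cls_eq_iff u hE _ s s' hf'
    exact ⟨W', h, g', hg', hs⟩)
  rw [← hg₀, cls_comp_map, cls_comp_map, hs]

/-- Surjectivity of `F(U) → Q(uU)` from a single covering `c : V ⟶ uU` with `φ_V` surjective and
descent for the Kan extension presheaf along `c`. -/
theorem surjective_of_cover
    (hQ : Presieve.IsSeparated K Q)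
    (hinj : ∀ Z : C, Function.Injective (φ.app (op Z)))
    {U : D} {V : C} (c : V ⟶ u.obj U)
    (hc : Sieve.generate (Presieve.singleton c) ∈ K (u.obj U))
    (hV : Function.Surjective (φ.app (op V)))
    (hdesc : ∀ tV : E.right.obj (op V),
      (∀ (Z : C) (f₁ f₂ : Z ⟶ V), f₁ ≫ c = f₂ ≫ c →
        E.right.map f₁.op tV = E.right.map f₂.op tV) →
      ∃ s : F.obj (op U), cls u E c s = tV)
    (t : Q.obj (op (u.obj U))) :
    ∃ s : F.obj (op U), φ.app (op (u.obj U)) (cls u E (𝟙 _) s) = t := by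
  obtain ⟨tV, htV⟩ := hV (Q.map c.op t)
  obtain ⟨s, hs⟩ := hdesc tV (by
    intro Z f₁ f₂ h12
    apply hinj Z
    have e1 := NatTrans.naturality_apply φ f₁.op tV
    have e2 := NatTrans.naturality_apply φ f₂.op tV
    rw [e1, e2, htV]
    have : ∀ f : Z ⟶ V, Q.map f.op (Q.map c.op t) = Q.map (f ≫ c).op t := by
      intro f
      rw [op_comp, Functor.map_comp]
      rfl
    rw [this, this, h12])
  refine ⟨s, ?_⟩
  refine (hQ _ hc).ext ?_
  rintro Y f ⟨Y', f', c', hc', rfl⟩
  obtain ⟨⟩ := hc'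
  have e0 : ∀ x : Q.obj (op (u.obj U)), Q.map (f' ≫ c).op x = Q.map f'.op (Q.map c.op x) := by
    intro x
    rw [op_comp, Functor.map_comp]
    rfl
  rw [e0, e0]
  congr 1
  have e1 := NatTrans.naturality_apply φ c.op (cls u E (𝟙 _) s)
  rw [← e1, map_cls, Category.comp_id, hs, htV]

end Groth.Agent.Helper2.EpsU
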