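import Mathlib
import Groth.Agent.Lib.Helper2.LanProd
import Groth.Agent.Lib.Helper2.EpsU1

/-!
# Wrapper: from sections to `IsIso` of the unit of `u⁻¹ ⊣ u_*` for sheaves valued in a concrete
category.
-/

namespace Groth.Agent.Helper2.EpsU

universe w v₁ v₂ u₁ u₂ u₃

open CategoryTheory CategoryTheory.Limits Opposite Groth.Agent.Helper2.LanProd

section

variable {C : Type u₁} [Category.{v₁} C] {D : Type u₂} [Category.{v₂} D]
variable (u : D ⥤ C) [RepresentablyFlat u]
variable {F : Dᵒᵖ ⥤ Type w} {E : Functor.LeftExtension u.op F}
variable (hE : E.IsPointwiseLeftKanExtension)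

include hE in
theorem cls_id_injective [u.Full] [u.Faithful] (U : D) :
    Function.Injective (fun s : F.obj (op U) => cls u E (𝟙 (u.obj U)) s) := by
  intro s s' h
  obtain ⟨W', h', g', hg', hs⟩ := cls_eq_iff u hE _ s s' h
  obtain ⟨g'', rfl⟩ := u.map_surjective g'
  have e : g'' ≫ h' = 𝟙 U := by
    apply u.map_injective
    rw [u.map_comp, hg', u.map_id]
  have e1 : ∀ x : F.obj (op U), F.map g''.op (F.map h'.op x) = x := by
    intro x
    have : F.map (g'' ≫ h').op x = x := by rw [e]; simp
    rw [op_comp, Functor.map_comp] at this
    exact this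
  rw [← e1 s, hs, e1 s']

end

section Wrapper

variable {C : Type u₁} [Category.{v₁} C] {D : Type u₂} [Category.{v₂} D]
variable (u : D ⥤ C) (J : GrothendieckTopology D) (K : GrothendieckTopology C)
variable (A : Type u₃) [Category.{w} A]
variable [u.IsContinuous J K] [HasWeakSheafify K A]
  [∀ (F : Dᵒᵖ ⥤ A), u.op.HasLeftKanExtension F]

theorem unit_hom (F : Sheaf J A) :
    ((Functor.sheafPullbackConstruction.sheafAdjunctionContinuous u A J K).unit.app F).hom =
      u.op.lanUnit.app F.obj ≫ Functor.whiskerLeft u.op (toSheafify K (u.op.lan.obj F.obj)) := by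
  have := Adjunction.map_restrictFullyFaithful_unit_app
    (L := Functor.sheafPullbackConstruction.sheafPullback u A J K)
    (R := u.sheafPushforwardContinuous A J K)
    ((u.op.lanAdjunction A).comp (sheafificationAdjunction K A))
    (fullyFaithfulSheafToPresheaf J A) (Functor.FullyFaithful.id _) (Iso.refl _) (Iso.refl _) F
  change ((Functor.sheafPullbackConstruction.sheafAdjunctionContinuous u A J K).unit.app F).hom = _
    at this
  rw [this]
  simp
  ext X
  simp
  erw [Category.comp_id, Category.comp_id]
  rfl

theorem isIso_unit_of_construction (F : Sheaf J A)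
    (h : IsIso ((Functor.sheafPullbackConstruction.sheafAdjunctionContinuous u A J K).unit.app F)) :
    IsIso ((u.sheafAdjunctionContinuous A J K).unit.app F) := by
  have e := Adjunction.unit_leftAdjointUniq_hom_app (u.sheafAdjunctionContinuous A J K)
    (Functor.sheafPullbackConstruction.sheafAdjunctionContinuous u A J K) F
  have e' : (u.sheafAdjunctionContinuous A J K).unit.app F =
      (Functor.sheafPullbackConstruction.sheafAdjunctionContinuous u A J K).unit.app F ≫
        inv ((u.sheafPushforwardContinuous A J K).map
          ((Adjunction.leftAdjointUniq (u.sheafAdjunctionContinuous A J K)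
            (Functor.sheafPullbackConstruction.sheafAdjunctionContinuous u A J K)).hom.app F)) := by
    rw [← e, Category.assoc, IsIso.hom_inv_id, Category.comp_id]
  rw [e']
  infer_instance

end Wrapper

end Groth.Agent.Helper2.EpsU
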