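import Mathlib
import Groth.Agent.Lib.Helper2.LanProd
import Groth.Agent.Lib.Helper2.EpsU1
import Groth.Agent.Lib.Helper2.EpsU2

/-!
# Criterion for the counit of `u⁻¹ ⊣ u_*` (continuous functor of sites) to be an isomorphism
-/

namespace Groth.Agent.Helper2.CounitC

universe w v₁ v₂ u₁ u₂ u₃

open CategoryTheory CategoryTheory.Limits Opposite Groth.Agent.Helper2.LanProd

section Wrapper

variable {C : Type u₁} [Category.{v₁} C] {D : Type u₂} [Category.{v₂} D]
variable (u : D ⥤ C) (J : GrothendieckTopology D) (K : GrothendieckTopology C)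
variable (A : Type u₃) [Category.{w} A]
variable [u.IsContinuous J K] [HasWeakSheafify K A]
  [∀ (F : Dᵒᵖ ⥤ A), u.op.HasLeftKanExtension F]

theorem counit_hom (G : Sheaf K A) :
    toSheafify K (u.op.lan.obj (u.op ⋙ G.obj)) ≫
      ((Functor.sheafPullbackConstruction.sheafAdjunctionContinuous u A J K).counit.app G).hom =
      (u.op.lanAdjunction A).counit.app G.obj := by
  have := Adjunction.map_restrictFullyFaithful_counit_app
    (L := Functor.sheafPullbackConstruction.sheafPullback u A J K)
    (R := u.sheafPushforwardContinuous A J K)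
    ((u.op.lanAdjunction A).comp (sheafificationAdjunction K A))
    (fullyFaithfulSheafToPresheaf J A) (Functor.FullyFaithful.id _) (Iso.refl _) (Iso.refl _) G
  change ((Functor.sheafPullbackConstruction.sheafAdjunctionContinuous u A J K).counit.app G) = _
    at this
  rw [this]
  simp
  erw [Category.id_comp]
  erw [toSheafify_sheafifyLift]
  erw [CategoryTheory.Functor.map_id u.op.lan, Category.id_comp]

theorem isIso_counit_of_construction (G : Sheaf K A)
    (h : IsIso ((Functor.sheafPullbackConstruction.sheafAdjunctionContinuous u A J K).counit.app G)) :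
    IsIso ((u.sheafAdjunctionContinuous A J K).counit.app G) := by
  rw [← Adjunction.leftAdjointUniq_hom_app_counit (u.sheafAdjunctionContinuous A J K)
    (Functor.sheafPullbackConstruction.sheafAdjunctionContinuous u A J K) G]
  infer_instance

end Wrapper

section Wrapper2

variable {C : Type u₁} [Category.{v₁} C] {D : Type u₂} [Category.{v₂} D]
variable (u : D ⥤ C) (J : GrothendieckTopology D) (K : GrothendieckTopology C)
variable (A : Type u₃) [Category.{w} A] {FA : A → A → Type*} {CA : A → Type w}
  [∀ X Y, FunLike (FA X Y) (CA X) (CA Y)] [ConcreteCategory.{w} A FA]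
variable [u.IsContinuous J K] [HasWeakSheafify K A]
  [∀ (F : Dᵒᵖ ⥤ A), u.op.HasLeftKanExtension F]
  [RepresentablyFlat u]
  [K.WEqualsLocallyBijective A]
  [(forget A).ReflectsIsomorphisms] [K.HasSheafCompose (forget A)]

set_option backward.isDefEq.respectTransparency.types false in
theorem isIso_counit_app (G : Sheaf K A)
    [u.op.HasPointwiseLeftKanExtension (u.op ⋙ G.obj)]
    [∀ Z : Cᵒᵖ, PreservesColimit (CostructuredArrow.proj u.op Z ⋙ (u.op ⋙ G.obj)) (forget A)]
    (Hs : ∀ (T : C) (g : ToType (G.obj.obj (op T))), ∃ S ∈ K T, ∀ ⦃T' : C⦄ (f : T' ⟶ T), S f →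
        ∃ (V : D) (t : T' ⟶ u.obj V) (s : ToType (G.obj.obj (op (u.obj V)))),
          G.obj.map t.op s = G.obj.map f.op g)
    (Hi : ∀ (T : C) (V : D) (t : T ⟶ u.obj V) (s s' : ToType (G.obj.obj (op (u.obj V)))),
        G.obj.map t.op s = G.obj.map t.op s' → ∃ S ∈ K T, ∀ ⦃T' : C⦄ (f : T' ⟶ T), S f →
          ∃ (W : D) (w : W ⟶ V) (h : T' ⟶ u.obj W), h ≫ u.map w = f ≫ t ∧
            G.obj.map (u.map w).op s = G.obj.map (u.map w).op s') :
    IsIso ((u.sheafAdjunctionContinuous A J K).counit.app G) := by
  apply isIso_counit_of_construction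
  rw [← Sheaf.isLocallyBijective_iff_isIso (A := A)]
  let F₀ : Dᵒᵖ ⥤ A := u.op ⋙ G.obj
  let E₀ : Functor.LeftExtension u.op F₀ :=
    Functor.LeftExtension.mk _ (u.op.lanUnit.app F₀)
  have hE₀ : E₀.IsPointwiseLeftKanExtension :=
    Functor.isPointwiseLeftKanExtensionOfIsLeftKanExtension _ _
  let E := (Functor.LeftExtension.postcompose₂ u.op F₀ (forget A)).obj E₀
  have hE : E.IsPointwiseLeftKanExtension := hE₀.postcompose (forget A)
  let ε : u.op.lan.obj F₀ ⟶ G.obj := (u.op.lanAdjunction A).counit.app G.obj
  have hfac : toSheafify K (u.op.lan.obj F₀) ≫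
      ((Functor.sheafPullbackConstruction.sheafAdjunctionContinuous u A J K).counit.app G).hom =
      ε := counit_hom u J K A G
  have key : ∀ (T : C) (V : D) (t : T ⟶ u.obj V) (s : ToType (G.obj.obj (op (u.obj V)))),
      ε.app (op T) (cls u E t s) = G.obj.map t.op s := by
    intro T V t s
    have hnat := ε.naturality t.op
    have htri : (u.op.lanUnit.app F₀).app (op V) ≫ ε.app (op (u.obj V)) = 𝟙 _ := by
      have h0 := (u.op.lanAdjunction A).right_triangle_components G.obj
      rw [Functor.lanAdjunction_unit] at h0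
      have h1 := congrArg (fun α => α.app (op V)) h0
      exact h1
    have h3 : cls u E t s =
        (u.op.lan.obj F₀).map t.op ((u.op.lanUnit.app F₀).app (op V) s) := rfl
    rw [h3, ← ConcreteCategory.comp_apply, hnat, ConcreteCategory.comp_apply]
    congr 1
    rw [← ConcreteCategory.comp_apply, htri]
    exact ConcreteCategory.id_apply _
  change Presheaf.IsLocallyInjective K
      ((Functor.sheafPullbackConstruction.sheafAdjunctionContinuous u A J K).counit.app G).hom ∧
    Presheaf.IsLocallySurjective K
      ((Functor.sheafPullbackConstruction.sheafAdjunctionContinuous u A J K).counit.app G).hom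
  have h1 := Presheaf.comp_isLocallyInjective_iff K (toSheafify K (u.op.lan.obj F₀))
    ((Functor.sheafPullbackConstruction.sheafAdjunctionContinuous u A J K).counit.app G).hom
  have h2 := Presheaf.comp_isLocallySurjective_iff K (toSheafify K (u.op.lan.obj F₀))
    ((Functor.sheafPullbackConstruction.sheafAdjunctionContinuous u A J K).counit.app G).hom
  rw [hfac] at h1 h2
  refine ⟨h1.mp ?_, h2.mp ?_⟩
  · constructor
    intro T x x' hxx'
    obtain ⟨V, t, s, s', rfl, rfl⟩ := exists_cls₂ u hE (P := unop T) x x'
    rw [key, key] at hxx'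
    obtain ⟨S, hS, hS'⟩ := Hi _ V t s s' hxx'
    refine K.superset_covering ?_ hS
    intro T' f hf
    obtain ⟨W, w, h, hh, hw⟩ := hS' f hf
    change E.right.map f.op (cls u E t s) = E.right.map f.op (cls u E t s')
    rw [map_cls, map_cls, ← hh, cls_comp_map, cls_comp_map]
    congr 1
  · constructor
    intro T g
    obtain ⟨S, hS, hS'⟩ := Hs T g
    refine K.superset_covering ?_ hS
    intro T' f hf
    obtain ⟨V, t, s, hs⟩ := hS' f hf
    exact ⟨cls u E t s, (key _ V t s).trans hs⟩

end Wrapper2

end Groth.Agent.Helper2.CounitC
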