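import Mathlib
import Groth.Agent.Lib.Helper2.LanProd
import Groth.Agent.Lib.Helper2.EpsU1
import Groth.Agent.Lib.Helper2.EpsU2

/-!
# Local description of the unit of `u⁻¹ ⊣ u_*` (construction form) for a flat continuous functor
-/

namespace Groth.Agent.Helper2.CounitC

universe w v₁ v₂ u₁ u₂ u₃

open CategoryTheory CategoryTheory.Limits Opposite Groth.Agent.Helper2.LanProd

section

variable {C : Type u₁} [Category.{v₁} C] {D : Type u₂} [Category.{v₂} D]
variable (u : D ⥤ C) (J : GrothendieckTopology D) (K : GrothendieckTopology C)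
variable (A : Type u₃) [Category.{w} A] {FA : A → A → Type*} {CA : A → Type w}
  [∀ X Y, FunLike (FA X Y) (CA X) (CA Y)] [ConcreteCategory.{w} A FA]
variable [u.IsContinuous J K] [HasWeakSheafify K A]
  [∀ (F : Dᵒᵖ ⥤ A), u.op.HasLeftKanExtension F]
  [RepresentablyFlat u]
  [K.WEqualsLocallyBijective A]

set_option backward.isDefEq.respectTransparency.types false in
theorem unit_eq_locally (F : Sheaf J A)
    [u.op.HasPointwiseLeftKanExtension F.obj]
    [∀ Z : Cᵒᵖ, PreservesColimit (CostructuredArrow.proj u.op Z ⋙ F.obj) (forget A)]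
    (V : D) (y y' : ToType (F.obj.obj (op V)))
    (h : ((Functor.sheafPullbackConstruction.sheafAdjunctionContinuous u A J K).unit.app F).hom.app
        (op V) y =
      ((Functor.sheafPullbackConstruction.sheafAdjunctionContinuous u A J K).unit.app F).hom.app
        (op V) y') :
    ∃ S ∈ K (u.obj V), ∀ ⦃T : C⦄ (t : T ⟶ u.obj V), S t →
      ∃ (W : D) (w : W ⟶ V) (h : T ⟶ u.obj W), h ≫ u.map w = t ∧
        F.obj.map w.op y = F.obj.map w.op y' := by
  let E₀ : Functor.LeftExtension u.op F.obj :=
    Functor.LeftExtension.mk _ (u.op.lanUnit.app F.obj)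
  have hE₀ : E₀.IsPointwiseLeftKanExtension :=
    Functor.isPointwiseLeftKanExtensionOfIsLeftKanExtension _ _
  let E := (Functor.LeftExtension.postcompose₂ u.op F.obj (forget A)).obj E₀
  have hE : E.IsPointwiseLeftKanExtension := hE₀.postcompose (forget A)
  let P : Cᵒᵖ ⥤ A := u.op.lan.obj F.obj
  let τ := toSheafify K P
  have hη := Groth.Agent.Helper2.EpsU.unit_hom u J K A F
  have key : ∀ (s : ToType (F.obj.obj (op V))),
      ((Functor.sheafPullbackConstruction.sheafAdjunctionContinuous u A J K).unit.app F).hom.app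
        (op V) s = τ.app (op (u.obj V)) (cls u E (𝟙 _) s) := by
    intro s
    rw [hη]
    have h1 : cls u E (𝟙 (u.obj V)) s = E.hom.app (op V) s := by
      unfold cls
      rw [op_id, E.right.map_id]
      rfl
    rw [h1]
    have h2 : (u.op.lanUnit.app F.obj ≫
        Functor.whiskerLeft u.op (toSheafify K (u.op.lan.obj F.obj))).app (op V) =
        (u.op.lanUnit.app F.obj).app (op V) ≫
        (toSheafify K (u.op.lan.obj F.obj)).app (op (u.obj V)) := rfl
    rw [h2]
    exact ConcreteCategory.comp_apply ((u.op.lanUnit.app F.obj).app (op V))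
      ((toSheafify K (u.op.lan.obj F.obj)).app (op (u.obj V))) s
  rw [key, key] at h
  have hmem := Presheaf.equalizerSieve_mem K τ _ _ h
  refine ⟨_, hmem, ?_⟩
  intro T t ht
  have ht' : E.right.map t.op (cls u E (𝟙 _) y) = E.right.map t.op (cls u E (𝟙 _) y') := ht
  rw [map_cls, map_cls] at ht'
  obtain ⟨W, w, g, hg, hs⟩ := cls_eq_iff u hE _ y y' ht'
  exact ⟨W, w, g, by rw [hg, Category.comp_id], hs⟩

set_option backward.isDefEq.respectTransparency.types false in
theorem unit_locally_surj (F : Sheaf J A)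
    [u.op.HasPointwiseLeftKanExtension F.obj]
    [∀ Z : Cᵒᵖ, PreservesColimit (CostructuredArrow.proj u.op Z ⋙ F.obj) (forget A)]
    (V : D)
    (z : ToType (((Functor.sheafPullbackConstruction.sheafPullback u A J K).obj F).obj.obj
      (op (u.obj V)))) :
    ∃ S ∈ K (u.obj V), ∀ ⦃T : C⦄ (t : T ⟶ u.obj V), S t →
      ∃ (W : D) (w : W ⟶ V) (h : T ⟶ u.obj W) (s : ToType (F.obj.obj (op W))),
        h ≫ u.map w = t ∧
        ((Functor.sheafPullbackConstruction.sheafPullback u A J K).obj F).obj.map t.op z =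
          ((Functor.sheafPullbackConstruction.sheafPullback u A J K).obj F).obj.map h.op
            (((Functor.sheafPullbackConstruction.sheafAdjunctionContinuous u A J K).unit.app
              F).hom.app (op W) s) := by
  let E₀ : Functor.LeftExtension u.op F.obj :=
    Functor.LeftExtension.mk _ (u.op.lanUnit.app F.obj)
  have hE₀ : E₀.IsPointwiseLeftKanExtension :=
    Functor.isPointwiseLeftKanExtensionOfIsLeftKanExtension _ _
  let E := (Functor.LeftExtension.postcompose₂ u.op F.obj (forget A)).obj E₀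
  have hE : E.IsPointwiseLeftKanExtension := hE₀.postcompose (forget A)
  let P : Cᵒᵖ ⥤ A := u.op.lan.obj F.obj
  let τ := toSheafify K P
  let Gc := (Functor.sheafPullbackConstruction.sheafPullback u A J K).obj F
  have hη := Groth.Agent.Helper2.EpsU.unit_hom u J K A F
  have key : ∀ (W : D) (s : ToType (F.obj.obj (op W))),
      ((Functor.sheafPullbackConstruction.sheafAdjunctionContinuous u A J K).unit.app F).hom.app
        (op W) s = τ.app (op (u.obj W)) (cls u E (𝟙 _) s) := by
    intro W s
    rw [hη]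
    have h1 : cls u E (𝟙 (u.obj W)) s = E.hom.app (op W) s := by
      unfold cls
      rw [op_id, E.right.map_id]
      rfl
    rw [h1]
    have h2 : (u.op.lanUnit.app F.obj ≫
        Functor.whiskerLeft u.op (toSheafify K (u.op.lan.obj F.obj))).app (op W) =
        (u.op.lanUnit.app F.obj).app (op W) ≫
        (toSheafify K (u.op.lan.obj F.obj)).app (op (u.obj W)) := rfl
    rw [h2]
    exact ConcreteCategory.comp_apply ((u.op.lanUnit.app F.obj).app (op W))
      ((toSheafify K (u.op.lan.obj F.obj)).app (op (u.obj W))) s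
  have hmem := Presheaf.imageSieve_mem K τ z
  refine ⟨_, hmem, ?_⟩
  rintro T t ⟨x, hx⟩
  obtain ⟨W₀, h₀, s₀, rfl⟩ := exists_cls u hE x
  haveI : IsFiltered (CostructuredArrow u.op (op T)) := inferInstance
  let a₀ : CostructuredArrow u.op (op T) := CostructuredArrow.mk (Y := op W₀) h₀.op
  let aV : CostructuredArrow u.op (op T) := CostructuredArrow.mk (Y := op V) t.op
  let a₁ := IsFiltered.max a₀ aV
  let f₀ : a₀ ⟶ a₁ := IsFiltered.leftToMax a₀ aV
  let fV : aV ⟶ a₁ := IsFiltered.rightToMax a₀ aV
  have hm₀ : a₁.hom.unop ≫ u.map f₀.left.unop = h₀ :=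
    congrArg Quiver.Hom.unop (CostructuredArrow.w f₀)
  have hw : a₁.hom.unop ≫ u.map fV.left.unop = t :=
    congrArg Quiver.Hom.unop (CostructuredArrow.w fV)
  refine ⟨a₁.left.unop, fV.left.unop, a₁.hom.unop, F.obj.map f₀.left.unop.op s₀, hw, ?_⟩
  rw [key]
  have hnat := NatTrans.naturality_apply τ a₁.hom.unop.op
    (cls u E (𝟙 _) (F.obj.map f₀.left.unop.op s₀))
  have e1 : P.map a₁.hom.unop.op (cls u E (𝟙 _) (F.obj.map f₀.left.unop.op s₀)) =
      cls u E h₀ s₀ := by
    have := map_cls u E a₁.hom.unop (𝟙 _) (F.obj.map f₀.left.unop.op s₀)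
    rw [Category.comp_id] at this
    refine this.trans ?_
    rw [← hm₀]
    exact (cls_comp_map u E f₀.left.unop a₁.hom.unop s₀).symm
  refine hx.symm.trans ?_
  rw [← e1]
  exact hnat

end

end Groth.Agent.Helper2.CounitC
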