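import Mathlib

namespace Groth.Agent.Lib.Helper2.CrimpRk2

section basic
variable {R : Type*} [CommRing R]

/-- Cramer's rule in rank two. -/
lemma cramer2 (x y v : Fin 2 → R) (D' : R) (hD : (x 0 * y 1 - x 1 * y 0) * D' = 1) :
    v = (D' * (v 0 * y 1 - v 1 * y 0)) • x + (D' * (x 0 * v 1 - x 1 * v 0)) • y := by
  ext i
  fin_cases i
  · simp only [Fin.zero_eta, Fin.isValue, Pi.add_apply, Pi.smul_apply, smul_eq_mul]
    linear_combination (-(v 0)) * hD
  · simp only [Fin.mk_one, Fin.isValue, Pi.add_apply, Pi.smul_apply, smul_eq_mul]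
    linear_combination (-(v 1)) * hD

/-- first coordinate w.r.t. the basis `x, y` -/
def coordA (y : Fin 2 → R) (D' : R) : (Fin 2 → R) →ₗ[R] R where
  toFun v := D' * (v 0 * y 1 - v 1 * y 0)
  map_add' := by intro v w; simp only [Pi.add_apply]; ring
  map_smul' := by intro c v; simp only [Pi.smul_apply, smul_eq_mul, RingHom.id_apply]; ring

/-- second coordinate w.r.t. the basis `x, y` -/
def coordB (x : Fin 2 → R) (D' : R) : (Fin 2 → R) →ₗ[R] R where
  toFun v := D' * (x 0 * v 1 - x 1 * v 0)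
  map_add' := by intro v w; simp only [Pi.add_apply]; ring
  map_smul' := by intro c v; simp only [Pi.smul_apply, smul_eq_mul, RingHom.id_apply]; ring

lemma coordA_apply (y : Fin 2 → R) (D' : R) (v : Fin 2 → R) :
    coordA y D' v = D' * (v 0 * y 1 - v 1 * y 0) := rfl

lemma coordB_apply (x : Fin 2 → R) (D' : R) (v : Fin 2 → R) :
    coordB x D' v = D' * (x 0 * v 1 - x 1 * v 0) := rfl

lemma coordA_comb (x y : Fin 2 → R) (D' : R) (hD : (x 0 * y 1 - x 1 * y 0) * D' = 1) (a b : R) :
    coordA y D' (a • x + b • y) = a := by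
  simp only [coordA_apply, Pi.add_apply, Pi.smul_apply, smul_eq_mul]
  linear_combination a * hD

lemma coordB_comb (x y : Fin 2 → R) (D' : R) (hD : (x 0 * y 1 - x 1 * y 0) * D' = 1) (a b : R) :
    coordB x D' (a • x + b • y) = b := by
  simp only [coordB_apply, Pi.add_apply, Pi.smul_apply, smul_eq_mul]
  linear_combination b * hD

lemma eq_comb (x y v : Fin 2 → R) (D' : R) (hD : (x 0 * y 1 - x 1 * y 0) * D' = 1) :
    v = coordA y D' v • x + coordB x D' v • y := cramer2 x y v D' hD

/-- The quotient of `R²` by `⟨t^m x, t^n y⟩` for a basis `x, y`. -/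
theorem quotEquiv (t : R) (m n : ℕ) (x y : Fin 2 → R) (hD : IsUnit (x 0 * y 1 - x 1 * y 0)) :
    Nonempty (((Fin 2 → R) ⧸ Submodule.span R {t ^ m • x, t ^ n • y}) ≃ₗ[R]
      (R ⧸ Ideal.span {t ^ m}) × (R ⧸ Ideal.span {t ^ n})) := by
  obtain ⟨D', hD'⟩ := hD.exists_right_inv
  let Ψ : (Fin 2 → R) →ₗ[R] (R ⧸ Ideal.span {t ^ m}) × (R ⧸ Ideal.span {t ^ n}) :=
    LinearMap.prod ((Ideal.Quotient.mkₐ R (Ideal.span {t ^ m})).toLinearMap.comp (coordA y D'))
      ((Ideal.Quotient.mkₐ R (Ideal.span {t ^ n})).toLinearMap.comp (coordB x D'))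
  have hΨ : ∀ v, Ψ v = (Ideal.Quotient.mk _ (coordA y D' v), Ideal.Quotient.mk _ (coordB x D' v)) :=
    fun v => rfl
  have hsurj : Function.Surjective Ψ := by
    rintro ⟨a, b⟩
    obtain ⟨a, rfl⟩ := Ideal.Quotient.mk_surjective a
    obtain ⟨b, rfl⟩ := Ideal.Quotient.mk_surjective b
    refine ⟨a • x + b • y, ?_⟩
    rw [hΨ, coordA_comb x y D' hD', coordB_comb x y D' hD']
  have hker : LinearMap.ker Ψ = Submodule.span R {t ^ m • x, t ^ n • y} := by
    apply le_antisymm
    · intro v hv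
      rw [LinearMap.mem_ker, hΨ, Prod.mk_eq_zero, Ideal.Quotient.eq_zero_iff_mem,
        Ideal.Quotient.eq_zero_iff_mem, Ideal.mem_span_singleton, Ideal.mem_span_singleton] at hv
      obtain ⟨⟨a, ha⟩, ⟨b, hb⟩⟩ := hv
      rw [Submodule.mem_span_pair]
      refine ⟨a, b, ?_⟩
      conv_rhs => rw [eq_comb x y v D' hD', ha, hb]
      simp only [smul_smul]
      congr 2 <;> ring
    · rw [Submodule.span_le]
      rintro v (rfl | rfl)
      · change _ ∈ LinearMap.ker Ψ
        rw [LinearMap.mem_ker, hΨ]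
        have h1 : t ^ m • x = (t ^ m) • x + (0 : R) • y := by simp
        rw [h1, coordA_comb x y D' hD', coordB_comb x y D' hD', Prod.mk_eq_zero]
        exact ⟨Ideal.Quotient.eq_zero_iff_mem.mpr (Ideal.mem_span_singleton_self _), map_zero _⟩
      · change _ ∈ LinearMap.ker Ψ
        rw [LinearMap.mem_ker, hΨ]
        have h1 : t ^ n • y = (0 : R) • x + (t ^ n) • y := by simp
        rw [h1, coordA_comb x y D' hD', coordB_comb x y D' hD', Prod.mk_eq_zero]
        exact ⟨map_zero _, Ideal.Quotient.eq_zero_iff_mem.mpr (Ideal.mem_span_singleton_self _)⟩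
  exact ⟨(Submodule.quotEquivOfEq _ _ hker.symm).trans (Ψ.quotKerEquivOfSurjective hsurj)⟩

end basic


section loc
variable {R : Type*} [CommRing R] [IsLocalRing R] (t : R)
  (ht : IsLocalRing.maximalIdeal R = Ideal.span {t})
include ht

lemma isUnit_or_dvd (a : R) : IsUnit a ∨ t ∣ a := by
  by_cases h : IsUnit a
  · exact Or.inl h
  · right
    have h1 : a ∈ IsLocalRing.maximalIdeal R := (IsLocalRing.mem_maximalIdeal a).mpr h
    rwa [ht, Ideal.mem_span_singleton] at h1

lemma not_isUnit_of_dvd {a : R} (h : t ∣ a) : ¬ IsUnit a := by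
  have h1 : a ∈ IsLocalRing.maximalIdeal R := by
    rw [ht, Ideal.mem_span_singleton]; exact h
  exact (IsLocalRing.mem_maximalIdeal a).mp h1

lemma not_dvd_one : ¬ t ∣ (1 : R) := fun h => not_isUnit_of_dvd t ht h isUnit_one

lemma residue_eq_zero_of_dvd {a : R} (h : t ∣ a) : IsLocalRing.residue R a = 0 := by
  rw [IsLocalRing.residue_eq_zero_iff, ht, Ideal.mem_span_singleton]
  exact h

omit [IsLocalRing R] ht in
lemma dvd_of_pow_dvd {n : ℕ} (hn : 1 ≤ n) {a : R} (h : t ^ n ∣ a) : t ∣ a :=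
  (dvd_pow_self t (by omega)).trans h

omit [IsLocalRing R] ht in
lemma mk_eq_one_imp (n : ℕ) (c : R)
    (h : (Ideal.Quotient.mk (Ideal.span {t ^ n}) c) = 1) : t ^ n ∣ c - 1 := by
  rw [← map_one (Ideal.Quotient.mk (Ideal.span {t ^ n})), Ideal.Quotient.eq,
    Ideal.mem_span_singleton] at h
  exact h

/-- `R/t^m × R/t^n` with `m, n ≥ 1` is not cyclic. -/
lemma not_cyclic (m n : ℕ) (hm : 1 ≤ m) (hn : 1 ≤ n)
    (z : (R ⧸ Ideal.span {t ^ m}) × (R ⧸ Ideal.span {t ^ n}))
    (a b : R) (ha : a • z = (1, 0)) (hb : b • z = (0, 1)) : False := by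
  obtain ⟨z1, z2⟩ := z
  obtain ⟨z1, rfl⟩ := Ideal.Quotient.mk_surjective z1
  obtain ⟨z2, rfl⟩ := Ideal.Quotient.mk_surjective z2
  simp only [Prod.smul_mk, Prod.mk.injEq] at ha hb
  obtain ⟨ha1, ha2⟩ := ha
  obtain ⟨-, hb2⟩ := hb
  rw [Algebra.smul_def, Ideal.Quotient.algebraMap_eq, ← map_mul] at ha1 ha2 hb2
  have h1 : t ^ m ∣ a * z1 - 1 := mk_eq_one_imp t m _ ha1
  have h2 : t ^ n ∣ a * z2 := by
    rw [Ideal.Quotient.eq_zero_iff_mem, Ideal.mem_span_singleton] at ha2
    exact ha2
  have h3 : t ^ n ∣ b * z2 - 1 := mk_eq_one_imp t n _ hb2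
  have h4 : t ∣ a := by
    have : a = b * (a * z2) - a * (b * z2 - 1) := by ring
    rw [this]
    exact dvd_sub (Dvd.dvd.mul_left (dvd_of_pow_dvd t hn h2) _)
      (Dvd.dvd.mul_left (dvd_of_pow_dvd t hn h3) _)
  have h5 : t ∣ (1 : R) := by
    have : (1 : R) = a * z1 - (a * z1 - 1) := by ring
    rw [this]
    exact dvd_sub (Dvd.dvd.mul_right h4 _) (dvd_of_pow_dvd t hm h1)
  exact not_dvd_one t ht h5

theorem exists_basis (m n : ℕ) (hmn : m ≤ n)
    (π : (Fin 2 → R) →ₗ[R] (R ⧸ Ideal.span {t ^ m}) × (R ⧸ Ideal.span {t ^ n}))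
    (hπs : Function.Surjective π) :
    ∃ x y : Fin 2 → R, IsUnit (x 0 * y 1 - x 1 * y 0) ∧ π x = (1, 0) ∧ π y = (0, 1) := by
  rcases Nat.eq_zero_or_pos m with hm | hm
  · subst hm
    have : Subsingleton (R ⧸ Ideal.span {t ^ 0}) := by
      rw [Ideal.Quotient.subsingleton_iff, pow_zero, Ideal.span_singleton_one]
    rcases Nat.eq_zero_or_pos n with hn | hn
    · subst hn
      refine ⟨![1, 0], ![0, 1], by simp, ?_, ?_⟩ <;>
      exact Prod.ext (Subsingleton.elim _ _) (Subsingleton.elim _ _)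
    · obtain ⟨y, hy⟩ := hπs (0, 1)
      have hcyc : ∀ w, ∃ c : R, π w = c • π y := by
        intro w
        obtain ⟨c, hc⟩ := Ideal.Quotient.mk_surjective (π w).2
        refine ⟨c, ?_⟩
        rw [hy]
        refine Prod.ext (Subsingleton.elim _ _) ?_
        change (π w).2 = c • (1 : R ⧸ Ideal.span {t ^ n})
        rw [Algebra.smul_def, Ideal.Quotient.algebraMap_eq, mul_one]
        exact hc.symm
      have hyu : IsUnit (y 0) ∨ IsUnit (y 1) := by
        by_contra hcon
        push Not at hcon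
        obtain ⟨w0, hw0⟩ := (isUnit_or_dvd t ht (y 0)).resolve_left hcon.1
        obtain ⟨w1, hw1⟩ := (isUnit_or_dvd t ht (y 1)).resolve_left hcon.2
        have hyw : y = t • ![w0, w1] := by
          ext i; fin_cases i <;> simp [hw0, hw1]
        obtain ⟨c, hc⟩ := hcyc ![w0, w1]
        have h1 : π y = (t * c) • π y := by
          conv_lhs => rw [hyw, map_smul, hc, smul_smul]
        rw [hy] at h1
        have h2 : (1 : R ⧸ Ideal.span {t ^ n}) = (t * c) • (1 : R ⧸ Ideal.span {t ^ n}) :=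
          congrArg Prod.snd h1
        rw [Algebra.smul_def, Ideal.Quotient.algebraMap_eq, mul_one] at h2
        have h3 := mk_eq_one_imp t n _ h2.symm
        have h4 : t ∣ (1 : R) := by
          have : (1 : R) = t * c - (t * c - 1) := by ring
          rw [this]
          exact dvd_sub (Dvd.intro _ rfl) (dvd_of_pow_dvd t hn h3)
        exact not_dvd_one t ht h4
      rcases hyu with hu | hu
      · obtain ⟨c, hc⟩ := hcyc ![0, 1]
        refine ⟨![0, 1] - c • y, y, ?_, ?_, hy⟩
        · have : ((![0, 1] : Fin 2 → R) - c • y) 0 * y 1 - ((![0, 1] : Fin 2 → R) - c • y) 1 * y 0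
              = - y 0 := by
            simp; ring
          rw [this]
          exact hu.neg
        · rw [map_sub, map_smul, hc, sub_self]
          exact Prod.ext (Subsingleton.elim _ _) rfl
      · obtain ⟨c, hc⟩ := hcyc ![1, 0]
        refine ⟨![1, 0] - c • y, y, ?_, ?_, hy⟩
        · have : ((![1, 0] : Fin 2 → R) - c • y) 0 * y 1 - ((![1, 0] : Fin 2 → R) - c • y) 1 * y 0
              = y 1 := by
            simp; ring
          rw [this]
          exact hu
        · rw [map_sub, map_smul, hc, sub_self]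
          exact Prod.ext (Subsingleton.elim _ _) rfl
  · have hn : 1 ≤ n := le_trans hm hmn
    obtain ⟨x, hx⟩ := hπs (1, 0)
    obtain ⟨y, hy⟩ := hπs (0, 1)
    refine ⟨x, y, ?_, hx, hy⟩
    -- step 1: the kernel lies in `t R²`
    have hker : ∀ v, π v = 0 → ∀ j, t ∣ v j := by
      intro v hv j
      by_contra hj
      have hu : IsUnit (v j) := (isUnit_or_dvd t ht (v j)).resolve_right hj
      obtain ⟨u, hu'⟩ := hu.exists_left_inv
      -- the other basis vector
      have hcyc : ∃ z, ∀ w, ∃ c : R, π w = c • z := by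
        fin_cases j
        · refine ⟨π ![0, 1], fun w => ⟨w 1 - u * w 0 * v 1, ?_⟩⟩
          have : w = (u * w 0) • v + (w 1 - u * w 0 * v 1) • ![0, 1] := by
            ext i
            fin_cases i
            · simp only [Fin.zero_eta, Fin.isValue, Pi.add_apply, Pi.smul_apply, smul_eq_mul,
                Matrix.cons_val_zero, mul_zero, add_zero]
              simp only [Fin.zero_eta, Fin.isValue] at hu'
              linear_combination (-(w 0)) * hu'
            · simp
          conv_lhs => rw [this, map_add, map_smul, map_smul, hv, smul_zero, zero_add]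
        · refine ⟨π ![1, 0], fun w => ⟨w 0 - u * w 1 * v 0, ?_⟩⟩
          have : w = (u * w 1) • v + (w 0 - u * w 1 * v 0) • ![1, 0] := by
            ext i
            fin_cases i
            · simp
            · simp only [Fin.mk_one, Fin.isValue, Pi.add_apply, Pi.smul_apply, smul_eq_mul,
                Matrix.cons_val_one, Matrix.cons_val_zero, mul_zero, add_zero]
              simp only [Fin.mk_one, Fin.isValue] at hu'
              linear_combination (-(w 1)) * hu'
          conv_lhs => rw [this, map_add, map_smul, map_smul, hv, smul_zero, zero_add]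
      obtain ⟨z, hz⟩ := hcyc
      obtain ⟨a, ha⟩ := hz x
      obtain ⟨b, hb⟩ := hz y
      exact not_cyclic t ht m n hm hn z a b (by rw [← ha, hx]) (by rw [← hb, hy])
    -- step 2: decomposition
    have hdec : ∀ w, ∃ a b : R, π (w - a • x - b • y) = 0 := by
      intro w
      obtain ⟨a, ha⟩ := Ideal.Quotient.mk_surjective (π w).1
      obtain ⟨b, hb⟩ := Ideal.Quotient.mk_surjective (π w).2
      refine ⟨a, b, ?_⟩
      rw [map_sub, map_sub, map_smul, map_smul, hx, hy]
      refine Prod.ext ?_ ?_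
      · simp [Algebra.smul_def, ha]
      · simp [Algebra.smul_def, hb]
    obtain ⟨a0, b0, h0⟩ := hdec ![1, 0]
    obtain ⟨a1, b1, h1⟩ := hdec ![0, 1]
    have r00 := residue_eq_zero_of_dvd t ht (hker _ h0 0)
    have r01 := residue_eq_zero_of_dvd t ht (hker _ h0 1)
    have r10 := residue_eq_zero_of_dvd t ht (hker _ h1 0)
    have r11 := residue_eq_zero_of_dvd t ht (hker _ h1 1)
    simp only [Fin.isValue, Pi.sub_apply, Matrix.cons_val_zero, Pi.smul_apply, smul_eq_mul,
      Matrix.cons_val_one, map_sub, map_mul, map_one, map_zero] at r00 r01 r10 r11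
    rw [← IsLocalRing.residue_ne_zero_iff_isUnit]
    intro hD
    simp only [map_sub, map_mul] at hD
    have key : (1 : IsLocalRing.ResidueField R) = 0 := by
      linear_combination r00 +
        (IsLocalRing.residue R a0 * IsLocalRing.residue R (x 0) +
          IsLocalRing.residue R b0 * IsLocalRing.residue R (y 0)) * r11 -
        (IsLocalRing.residue R a0 * IsLocalRing.residue R (x 1) +
          IsLocalRing.residue R b0 * IsLocalRing.residue R (y 1)) * r10 +
        (IsLocalRing.residue R a0 * IsLocalRing.residue R b1 -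
          IsLocalRing.residue R a1 * IsLocalRing.residue R b0) * hD
    exact one_ne_zero key

/-- Structure of a submodule of `R²` with quotient `R/t^m × R/t^n`. -/
theorem rank2_structure (m n : ℕ) (hmn : m ≤ n) (T : Submodule R (Fin 2 → R))
    (e : ((Fin 2 → R) ⧸ T) ≃ₗ[R] (R ⧸ Ideal.span {t ^ m}) × (R ⧸ Ideal.span {t ^ n})) :
    ∃ x y : Fin 2 → R, IsUnit (x 0 * y 1 - x 1 * y 0) ∧
      T = Submodule.span R {t ^ m • x, t ^ n • y} := by
  set π := e.toLinearMap.comp T.mkQ with hπ
  have hπs : Function.Surjective π := e.surjective.comp T.mkQ_surjective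
  have hπk : ∀ v, π v = 0 ↔ v ∈ T := by
    intro v
    rw [hπ, LinearMap.comp_apply, LinearEquiv.coe_coe, LinearEquiv.map_eq_zero_iff,
      Submodule.mkQ_apply, Submodule.Quotient.mk_eq_zero]
  obtain ⟨x, y, hD, hx, hy⟩ := exists_basis t ht m n hmn π hπs
  refine ⟨x, y, hD, ?_⟩
  obtain ⟨D', hD'⟩ := hD.exists_right_inv
  have hπv : ∀ a b : R, π (a • x + b • y) =
      (Ideal.Quotient.mk _ a, Ideal.Quotient.mk _ b) := by
    intro a b
    rw [map_add, map_smul, map_smul, hx, hy]
    refine Prod.ext ?_ ?_ <;> simp [Algebra.smul_def]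
  apply le_antisymm
  · intro v hv
    rw [← hπk, eq_comb x y v D' hD', hπv, Prod.mk_eq_zero, Ideal.Quotient.eq_zero_iff_mem,
      Ideal.Quotient.eq_zero_iff_mem, Ideal.mem_span_singleton, Ideal.mem_span_singleton] at hv
    obtain ⟨⟨a, ha⟩, ⟨b, hb⟩⟩ := hv
    rw [Submodule.mem_span_pair]
    refine ⟨a, b, ?_⟩
    conv_rhs => rw [eq_comb x y v D' hD', ha, hb]
    simp only [smul_smul]
    congr 2 <;> ring
  · rw [Submodule.span_le]
    rintro v (rfl | rfl)
    · rw [SetLike.mem_coe, ← hπk]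
      have h1 : t ^ m • x = (t ^ m) • x + (0 : R) • y := by simp
      rw [h1, hπv, Prod.mk_eq_zero]
      exact ⟨Ideal.Quotient.eq_zero_iff_mem.mpr (Ideal.mem_span_singleton_self _), map_zero _⟩
    · rw [SetLike.mem_coe, ← hπk]
      have h1 : t ^ n • y = (0 : R) • x + (t ^ n) • y := by simp
      rw [h1, hπv, Prod.mk_eq_zero]
      exact ⟨map_zero _, Ideal.Quotient.eq_zero_iff_mem.mpr (Ideal.mem_span_singleton_self _)⟩

end loc

section rho
variable {R : Type*} [CommRing R]

/-- the projection `R³ → R²` killing the diagonal -/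
def rho : (Fin 3 → R) →ₗ[R] (Fin 2 → R) where
  toFun v := ![v 1 - v 0, v 2 - v 0]
  map_add' := by intro v w; ext i; fin_cases i <;> simp <;> ring
  map_smul' := by intro c v; ext i; fin_cases i <;> simp <;> ring

/-- a section of `rho` -/
def lift3 (x : Fin 2 → R) : Fin 3 → R := ![0, x 0, x 1]

lemma lift3_add (x y : Fin 2 → R) : lift3 (x + y) = lift3 x + lift3 y := by
  ext i; fin_cases i <;> simp [lift3]

lemma lift3_smul (c : R) (x : Fin 2 → R) : lift3 (c • x) = c • lift3 x := by
  ext i; fin_cases i <;> simp [lift3]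

lemma rho_apply_zero (v : Fin 3 → R) : rho v 0 = v 1 - v 0 := rfl
lemma rho_apply_one (v : Fin 3 → R) : rho v 1 = v 2 - v 0 := rfl

lemma rho_lift3 (x : Fin 2 → R) : rho (lift3 x) = x := by
  ext i; fin_cases i <;> simp [rho, lift3]

lemma rho_surjective : Function.Surjective (rho (R := R)) := fun x => ⟨lift3 x, rho_lift3 x⟩

lemma rho_one : rho (1 : Fin 3 → R) = 0 := by
  ext i; fin_cases i <;> simp [rho]

lemma ker_rho : LinearMap.ker (rho (R := R)) = Submodule.span R {(1 : Fin 3 → R)} := by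
  apply le_antisymm
  · intro v hv
    rw [LinearMap.mem_ker] at hv
    have h0 := congrFun hv 0
    have h1 := congrFun hv 1
    rw [rho_apply_zero] at h0
    rw [rho_apply_one] at h1
    rw [Submodule.mem_span_singleton]
    refine ⟨v 0, ?_⟩
    ext i
    fin_cases i
    · simp
    · simp only [Fin.mk_one, Fin.isValue, Pi.smul_apply, Pi.one_apply, smul_eq_mul, mul_one]
      simp only [Fin.isValue, Pi.zero_apply] at h0
      linear_combination -h0
    · simp only [Fin.reduceFinMk, Fin.isValue, Pi.smul_apply, Pi.one_apply, smul_eq_mul, mul_one]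
      simp only [Fin.isValue, Pi.zero_apply] at h1
      linear_combination -h1
  · rw [Submodule.span_le]
    rintro v rfl
    exact rho_one

lemma comap_map_rho (S : Submodule R (Fin 3 → R)) (h1 : (1 : Fin 3 → R) ∈ S) :
    (S.map rho).comap rho = S := by
  rw [Submodule.comap_map_eq, ker_rho]
  apply sup_eq_left.mpr
  rw [Submodule.span_le]
  rintro v rfl
  exact h1

lemma mem_iff_rho_mem (S : Submodule R (Fin 3 → R)) (h1 : (1 : Fin 3 → R) ∈ S) (v : Fin 3 → R) :
    v ∈ S ↔ rho v ∈ S.map rho := by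
  conv_lhs => rw [← comap_map_rho S h1]
  rfl

/-- `R³/S ≃ R²/ρ(S)` when `1 ∈ S`. -/
noncomputable def quotEquivRho (S : Submodule R (Fin 3 → R)) (h1 : (1 : Fin 3 → R) ∈ S) :
    ((Fin 3 → R) ⧸ S) ≃ₗ[R] ((Fin 2 → R) ⧸ S.map rho) := by
  let f : (Fin 3 → R) →ₗ[R] ((Fin 2 → R) ⧸ S.map rho) := (S.map rho).mkQ.comp rho
  have hf : Function.Surjective f := (S.map rho).mkQ_surjective.comp rho_surjective
  have hk : LinearMap.ker f = S := by
    rw [LinearMap.ker_comp, Submodule.ker_mkQ, comap_map_rho S h1]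
  exact (Submodule.quotEquivOfEq _ _ hk.symm).trans (f.quotKerEquivOfSurjective hf)

lemma decomp3 (v : Fin 3 → R) : v = v 0 • (1 : Fin 3 → R) + lift3 (rho v) := by
  ext i
  fin_cases i <;> simp [lift3, rho]

/-- membership in `span {c} • ⊤` for function modules -/
lemma mem_span_smul_top {ι : Type*} (c : R) (v : ι → R) :
    v ∈ Ideal.span {c} • (⊤ : Submodule R (ι → R)) ↔ ∃ w : ι → R, v = c • w := by
  rw [Submodule.ideal_span_singleton_smul, Submodule.mem_smul_pointwise_iff_exists]
  constructor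
  · rintro ⟨w, -, rfl⟩
    exact ⟨w, rfl⟩
  · rintro ⟨w, rfl⟩
    exact ⟨w, Submodule.mem_top, rfl⟩

end rho

end Groth.Agent.Lib.Helper2.CrimpRk2
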