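import Mathlib.Algebra.Homology.DerivedCategory.TStructure
import Mathlib.Algebra.Homology.DerivedCategory.Fractions
import Mathlib.Algebra.Homology.DerivedCategory.ShortExact

/-! Truncation triangles in the derived category at the level of complexes, and vanishing of maps
`D^{≤ a} → D^{≥ a}` inducing zero on `H^a`. -/

namespace Groth.Agent.Helper2

open CategoryTheory Limits Pretriangulated DerivedCategory

universe w v u

variable {C : Type u} [Category.{v} C] [Abelian C] [HasDerivedCategory.{w} C]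

set_option backward.defeqAttrib.useBackward true in
set_option backward.isDefEq.respectTransparency false in
/-- The truncation triangle `τ_{≤ a} K → K → τ_{≥ a+1} K → ` in the derived category. -/
theorem exists_truncTriangle (K : CochainComplex C ℤ) (a b : ℤ) (h : a + 1 = b) :
    ∃ δ : Q.obj (K.truncGE b) ⟶ (Q.obj (K.truncLE a))⟦(1 : ℤ)⟧,
      Triangle.mk (Q.map (K.ιTruncLE a)) (Q.map (K.πTruncGE b)) δ ∈ distTriang _ := by
  have hS := K.shortComplexTruncLE_shortExact a
  refine ⟨inv (Q.map (K.shortComplexTruncLEX₃ToTruncGE a b h)) ≫ (triangleOfSES hS).mor₃, ?_⟩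
  refine isomorphic_distinguished _ (triangleOfSES_distinguished hS) _ (Iso.symm ?_)
  refine Triangle.isoMk _ _ (Iso.refl _) (Iso.refl _)
    (asIso (Q.map (K.shortComplexTruncLEX₃ToTruncGE a b h))) ?_ ?_ ?_
  · dsimp
    rw [Category.id_comp, Category.comp_id]
    rfl
  · dsimp
    rw [← Q.map_comp, CochainComplex.g_shortComplexTruncLEX₃ToTruncGE .., Category.id_comp]
  · simp

theorem exists_lift_truncLE (K : CochainComplex C ℤ) (a b : ℤ) (h : a + 1 = b)
    {X : DerivedCategory C} (f : X ⟶ Q.obj K) (hf : f ≫ Q.map (K.πTruncGE b) = 0) :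
    ∃ φ : X ⟶ Q.obj (K.truncLE a), φ ≫ Q.map (K.ιTruncLE a) = f := by
  obtain ⟨δ, hδ⟩ := exists_truncTriangle K a b h
  obtain ⟨φ, hφ⟩ := Triangle.coyoneda_exact₂ _ hδ f hf
  exact ⟨φ, hφ.symm⟩

theorem exists_desc_truncGE (K : CochainComplex C ℤ) (a b : ℤ) (h : a + 1 = b)
    {Y : DerivedCategory C} (f : Q.obj K ⟶ Y) (hf : Q.map (K.ιTruncLE a) ≫ f = 0) :
    ∃ φ : Q.obj (K.truncGE b) ⟶ Y, Q.map (K.πTruncGE b) ≫ φ = f := by
  obtain ⟨δ, hδ⟩ := exists_truncTriangle K a b h
  obtain ⟨φ, hφ⟩ := Triangle.yoneda_exact₂ _ hδ f hf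
  exact ⟨φ, hφ.symm⟩

omit [HasDerivedCategory.{w} C] in
/-- A chain map from a complex in degrees `≤ a` to a complex in degrees `≥ a` inducing zero on
`H^a` is zero. -/
theorem hom_eq_zero_of_homologyMap_eq_zero {M N : CochainComplex C ℤ} (a : ℤ)
    [M.IsStrictlyLE a] [N.IsStrictlyGE a] (g : M ⟶ N)
    (hg : HomologicalComplex.homologyMap g a = 0) : g = 0 := by
  ext i
  by_cases hi : i = a
  · subst hi
    have h1 : IsIso (M.iCycles i) :=
      M.isIso_iCycles i (i + 1) (by simp) ((M.isZero_of_isStrictlyLE i (i + 1) (by lia)).eq_of_tgt _ _)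
    have h2 : IsIso (N.pOpcycles i) :=
      N.isIso_pOpcycles (i - 1) i (by simp) ((N.isZero_of_isStrictlyGE i (i - 1) (by lia)).eq_of_src _ _)
    have e : M.iCycles i ≫ g.f i ≫ N.pOpcycles i = 0 := by
      rw [← HomologicalComplex.cyclesMap_i_assoc, ← HomologicalComplex.homology_π_ι,
        ← HomologicalComplex.homologyπ_naturality_assoc, hg]
      simp
    rw [← cancel_epi (M.iCycles i), ← cancel_mono (N.pOpcycles i)]
    simpa using e
  · rcases lt_or_gt_of_ne hi with hi | hi
    · exact (N.isZero_of_isStrictlyGE a i hi).eq_of_tgt _ _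
    · exact (M.isZero_of_isStrictlyLE a i hi).eq_of_src _ _

/-- A morphism in the derived category from a complex in degrees `≤ a` to a complex in degrees
`≥ a` which induces zero on `H^a` is zero. -/
theorem Q_hom_eq_zero_of_homology_map_eq_zero {M N : CochainComplex C ℤ} (a : ℤ)
    [M.IsStrictlyLE a] [N.IsStrictlyGE a] (f : Q.obj M ⟶ Q.obj N)
    (hf : (homologyFunctor C a).map f = 0) : f = 0 := by
  obtain ⟨M', _, s, hs, g, rfl⟩ := right_fac_of_isStrictlyLE f a
  have hg : HomologicalComplex.homologyMap g a = 0 := by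
    rw [Functor.map_comp, Functor.map_inv, IsIso.inv_comp_eq, comp_zero] at hf
    have nat := (homologyFunctorFactors C a).hom.naturality g
    simp only [Functor.comp_map, hf, zero_comp] at nat
    exact (cancel_epi ((homologyFunctorFactors C a).hom.app M')).1
      (nat.symm.trans comp_zero.symm)
  rw [hom_eq_zero_of_homologyMap_eq_zero a g hg, Q.map_zero, comp_zero]

end Groth.Agent.Helper2
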