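import Mathlib
import Groth.Prelude.Def_DRing2
import Groth.Agent.S6942
import Groth.Agent.Lib.Helper11.FlatPc5
import Groth.Agent.Lib.Helper11.FlatPc1

/-!
# Perfect diagonal: base change of `B` over `B ⊗ B` to a point (helper2)
-/

set_option autoImplicit false
set_option linter.style.haveILetI false
set_option linter.unusedSectionVars false

open CategoryTheory TensorProduct

attribute [local instance] HasDerivedCategory.standard

universe u

namespace Groth.Agent.Helper2.DiagPerf

/-- finite tor dimension of a finite module over a Noetherian ring bounds the projective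
dimension -/
theorem pdLT_of_hasTorDimLE {R : Type u} [CommRing R] [IsNoetherianRing R] (M : Type u)
    [AddCommGroup M] [Module R M] [Module.Finite R M] (d : ℕ) (h : DRing.HasTorDimLE R d M) :
    HasProjectiveDimensionLT (ModuleCat.of R M) (d + 1) := by
  have hpc : DRing.IsPseudoCoherentModule' R M :=
    ((Groth.Agent.S6942.result R 0 (Dual.inD R M) M).2).mpr inferInstance
  exact Groth.Agent.Helper11.FlatPc.pdLT_succ_of_tor (ModuleCat.of R M) hpc d (fun N p hp => by
    haveI := h N p hp
    exact ModuleCat.isZero_of_subsingleton _)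

section Point

variable {A B L : Type u} [CommRing A] [CommRing B] [CommRing L] [Algebra A B] [Algebra A L]
  [Algebra B L] [IsScalarTower A B L]

variable (A B L) in
/-- `B ⊗ B → L ⊗ B`, `b₁ ⊗ b₂ ↦ b₁ ⊗ b₂` -/
noncomputable def rho : B ⊗[A] B →ₐ[A] L ⊗[A] B :=
  Algebra.TensorProduct.map (IsScalarTower.toAlgHom A B L) (AlgHom.id A B)

variable (A B L) in
/-- the `L`-point `L ⊗ B → L` -/
noncomputable def ev : L ⊗[A] B →ₐ[L] L :=
  Algebra.TensorProduct.lift (AlgHom.id L L) (IsScalarTower.toAlgHom A B L)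
    (fun _ _ => Commute.all _ _)

@[simp] theorem ev_tmul (l : L) (b : B) : ev A B L (l ⊗ₜ b) = l * algebraMap B L b := by
  simp [ev]

@[simp] theorem rho_tmul (b₁ b₂ : B) : rho A B L (b₁ ⊗ₜ b₂) = algebraMap B L b₁ ⊗ₜ b₂ := by
  simp [rho]

/-- `L ⊗ B` as a `B ⊗ B`-algebra through `rho` -/
@[reducible] noncomputable def algRD : Algebra (B ⊗[A] B) (L ⊗[A] B) :=
  (rho A B L).toRingHom.toAlgebra

attribute [local instance] algRD

instance towerBRD : IsScalarTower B (B ⊗[A] B) (L ⊗[A] B) := by
  refine IsScalarTower.of_algebraMap_eq' ?_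
  ext b
  show (algebraMap B L b) ⊗ₜ[A] (1 : B) = rho A B L (b ⊗ₜ 1)
  rw [rho_tmul]

instance isPushout : Algebra.IsPushout B L (B ⊗[A] B) (L ⊗[A] B) := by
  refine ⟨IsBaseChange.of_equiv
    (TensorProduct.AlgebraTensorModule.cancelBaseChange A B L L B) (fun x => ?_)⟩
  induction x using TensorProduct.induction_on with
  | zero => simp
  | tmul b₁ b₂ =>
    rw [TensorProduct.AlgebraTensorModule.cancelBaseChange_tmul]
    show (b₁ • (1 : L)) ⊗ₜ[A] b₂ = rho A B L (b₁ ⊗ₜ b₂)
    rw [rho_tmul, Algebra.smul_def, mul_one]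
  | add x y hx hy =>
    rw [TensorProduct.tmul_add, map_add, hx, hy, map_add]

end Point

end Groth.Agent.Helper2.DiagPerf
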