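import Groth.Agent.Lib.Helper2.DiagPerf1

/-!
# Perfect diagonal: the base change of `B` to `L ⊗ B` is the residue field of the point (helper2)
-/

set_option autoImplicit false
set_option linter.style.haveILetI false
set_option linter.unusedSectionVars false

open CategoryTheory TensorProduct

attribute [local instance] HasDerivedCategory.standard

universe u

namespace Groth.Agent.Helper2.DiagPerf

section Point

variable {A B L : Type u} [CommRing A] [CommRing B] [CommRing L] [Algebra A B] [Algebra A L]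
  [Algebra B L] [IsScalarTower A B L]

attribute [local instance] algRD

variable [Algebra (B ⊗[A] B) B] (hmul : ∀ x y : B, algebraMap (B ⊗[A] B) B (x ⊗ₜ[A] y) = x * y)

include hmul

theorem tmul_eq_mul_tmul_one (x : L ⊗[A] B) (b : B) :
    x ⊗ₜ[B ⊗[A] B] b = (x * ((1 : L) ⊗ₜ[A] b)) ⊗ₜ[B ⊗[A] B] (1 : B) := by
  have h1 : b = ((1 : B) ⊗ₜ[A] b : B ⊗[A] B) • (1 : B) := by
    rw [Algebra.smul_def, hmul, one_mul, mul_one]
  conv_lhs => rw [h1]
  rw [← TensorProduct.smul_tmul]
  congr 1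
  rw [Algebra.smul_def, mul_comm]
  congr 1
  show rho A B L ((1 : B) ⊗ₜ[A] b) = _
  rw [rho_tmul, map_one]

theorem tmul_one_eq_ev (x : L ⊗[A] B) :
    x ⊗ₜ[B ⊗[A] B] (1 : B) = ((ev A B L x) ⊗ₜ[A] (1 : B)) ⊗ₜ[B ⊗[A] B] (1 : B) := by
  induction x using TensorProduct.induction_on with
  | zero => simp
  | tmul l b =>
    rw [ev_tmul]
    calc (l ⊗ₜ[A] b : L ⊗[A] B) ⊗ₜ[B ⊗[A] B] (1 : B)
        = (((l ⊗ₜ[A] (1 : B) : L ⊗[A] B)) * ((1 : L) ⊗ₜ[A] b)) ⊗ₜ[B ⊗[A] B] (1 : B) := by
          rw [Algebra.TensorProduct.tmul_mul_tmul, mul_one, one_mul]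
      _ = (l ⊗ₜ[A] (1 : B) : L ⊗[A] B) ⊗ₜ[B ⊗[A] B] b :=
          (tmul_eq_mul_tmul_one hmul (l ⊗ₜ[A] (1 : B)) b).symm
      _ = (l ⊗ₜ[A] (1 : B) : L ⊗[A] B) ⊗ₜ[B ⊗[A] B]
            ((b ⊗ₜ[A] (1 : B) : B ⊗[A] B) • (1 : B)) := by
          rw [Algebra.smul_def, hmul, mul_one, mul_one]
      _ = ((b ⊗ₜ[A] (1 : B) : B ⊗[A] B) • (l ⊗ₜ[A] (1 : B) : L ⊗[A] B))
            ⊗ₜ[B ⊗[A] B] (1 : B) := (TensorProduct.smul_tmul _ _ _).symm
      _ = ((l * algebraMap B L b) ⊗ₜ[A] (1 : B) : L ⊗[A] B) ⊗ₜ[B ⊗[A] B] (1 : B) := by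
          congr 1
          rw [Algebra.smul_def]
          show rho A B L (b ⊗ₜ[A] (1 : B)) * _ = _
          rw [rho_tmul, Algebra.TensorProduct.tmul_mul_tmul, mul_one, mul_comm]
  | add x y hx hy =>
    rw [TensorProduct.add_tmul, hx, hy, map_add, TensorProduct.add_tmul, TensorProduct.add_tmul]

theorem ev_rho (r : B ⊗[A] B) :
    ev A B L (rho A B L r) = algebraMap B L (algebraMap (B ⊗[A] B) B r) := by
  induction r using TensorProduct.induction_on with
  | zero => simp
  | tmul b₁ b₂ => rw [rho_tmul, ev_tmul, hmul, map_mul]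
  | add x y hx hy => rw [map_add, map_add, hx, hy, map_add, map_add]

variable (A B L) in
/-- the kernel of the point -/
noncomputable abbrev pt : Ideal (L ⊗[A] B) := RingHom.ker (ev A B L)

/-- `x ⊗ b ↦ [x (1 ⊗ b)]` -/
noncomputable def toQuot :
    (L ⊗[A] B) ⊗[B ⊗[A] B] B →ₗ[L ⊗[A] B] (L ⊗[A] B) ⧸ pt A B L :=
  TensorProduct.AlgebraTensorModule.lift
    { toFun := fun x =>
        { toFun := fun b => Ideal.Quotient.mk (pt A B L) (x * ((1 : L) ⊗ₜ[A] b))
          map_add' := fun b b' => by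
            rw [TensorProduct.tmul_add, mul_add, map_add]
          map_smul' := fun r b => by
            rw [RingHom.id_apply, Algebra.smul_def r b, Algebra.smul_def r
              (Ideal.Quotient.mk (pt A B L) (x * ((1 : L) ⊗ₜ[A] b)))]
            show _ = Ideal.Quotient.mk (pt A B L) (algebraMap (B ⊗[A] B) (L ⊗[A] B) r) * _
            rw [← map_mul, Ideal.Quotient.eq, RingHom.mem_ker, map_sub, sub_eq_zero]
            show ev A B L _ = ev A B L (rho A B L r * _)
            rw [map_mul, map_mul, map_mul, ev_tmul, ev_tmul, ev_rho hmul, map_mul]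
            ring }
      map_add' := fun x y => by
        ext b
        show Ideal.Quotient.mk (pt A B L) ((x + y) * _) = _
        rw [add_mul, map_add]
        rfl
      map_smul' := fun d x => by
        ext b
        show Ideal.Quotient.mk (pt A B L) ((d • x) * _) = _
        rw [smul_eq_mul, mul_assoc, map_mul]
        rfl }

theorem toQuot_tmul (x : L ⊗[A] B) (b : B) :
    toQuot hmul (x ⊗ₜ[B ⊗[A] B] b) = Ideal.Quotient.mk (pt A B L) (x * ((1 : L) ⊗ₜ[A] b)) := rfl

omit hmul in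
/-- `x ↦ x ⊗ 1` -/
noncomputable def tmulOne : (L ⊗[A] B) →ₗ[L ⊗[A] B] (L ⊗[A] B) ⊗[B ⊗[A] B] B where
  toFun := fun x => x ⊗ₜ[B ⊗[A] B] (1 : B)
  map_add' := fun x y => TensorProduct.add_tmul _ _ _
  map_smul' := fun d x => by
    rw [RingHom.id_apply, TensorProduct.smul_tmul']

/-- `[x] ↦ x ⊗ 1` -/
noncomputable def ofQuot :
    (L ⊗[A] B) ⧸ pt A B L →ₗ[L ⊗[A] B] (L ⊗[A] B) ⊗[B ⊗[A] B] B :=
  Submodule.liftQ (pt A B L) tmulOne (fun x hx => by
      rw [LinearMap.mem_ker]
      show x ⊗ₜ[B ⊗[A] B] (1 : B) = 0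
      have hx' : ev A B L x = 0 := hx
      rw [tmul_one_eq_ev hmul, hx', TensorProduct.zero_tmul, TensorProduct.zero_tmul])

theorem ofQuot_mk (x : L ⊗[A] B) :
    ofQuot hmul (Ideal.Quotient.mk (pt A B L) x) = x ⊗ₜ[B ⊗[A] B] (1 : B) := rfl

/-- the base change of `B` to `L ⊗ B` is the residue ring of the point -/
noncomputable def tensorEquivQuot :
    (L ⊗[A] B) ⊗[B ⊗[A] B] B ≃ₗ[L ⊗[A] B] (L ⊗[A] B) ⧸ pt A B L :=
  LinearEquiv.ofLinearMap (toQuot hmul) (ofQuot hmul)
    (by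
      refine LinearMap.ext fun x => ?_
      obtain ⟨x, rfl⟩ := Ideal.Quotient.mk_surjective x
      rw [LinearMap.comp_apply, ofQuot_mk, toQuot_tmul, LinearMap.id_apply]
      congr 1
      rw [show ((1 : L) ⊗ₜ[A] (1 : B) : L ⊗[A] B) = 1 from rfl, mul_one])
    (by
      refine LinearMap.ext fun t => ?_
      induction t using TensorProduct.induction_on with
      | zero => simp
      | tmul x b =>
        rw [LinearMap.comp_apply, toQuot_tmul, ofQuot_mk, LinearMap.id_apply]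
        exact (tmul_eq_mul_tmul_one hmul x b).symm
      | add x y hx hy => rw [map_add, hx, hy, map_add])

/-- the projective dimension of `B` over `B ⊗ B` bounds that of the residue ring of every point of
`L ⊗ B` -/
theorem pdLT_quot_pt [Module.Flat A B] (d : ℕ)
    (h : HasProjectiveDimensionLT (ModuleCat.of (B ⊗[A] B) B) (d + 1)) :
    HasProjectiveDimensionLT (ModuleCat.of (L ⊗[A] B) ((L ⊗[A] B) ⧸ pt A B L)) (d + 1) := by
  have hM : Module.Flat B ((ModuleCat.restrictScalars.{u} (algebraMap B (B ⊗[A] B))).obj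
      (ModuleCat.of (B ⊗[A] B) B)) := by
    let e : ((ModuleCat.restrictScalars.{u} (algebraMap B (B ⊗[A] B))).obj
        (ModuleCat.of (B ⊗[A] B) B)) ≃ₗ[B] B :=
      { toFun := fun x => x
        invFun := fun x => x
        map_add' := fun _ _ => rfl
        map_smul' := fun b x => by
          show (algebraMap B (B ⊗[A] B) b) • (show B from x) = b • (show B from x)
          rw [Algebra.smul_def]
          show algebraMap (B ⊗[A] B) B (b ⊗ₜ[A] (1 : B)) * _ = _
          rw [hmul, mul_one, smul_eq_mul]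
        left_inv := fun _ => rfl
        right_inv := fun _ => rfl }
    exact Module.Flat.of_linearEquiv e
  have h1 := Groth.Agent.Helper11.FlatPc.pdLT_es_of_flat B L (B ⊗[A] B) (L ⊗[A] B)
    (ModuleCat.of (B ⊗[A] B) B) hM d h
  let e := (Groth.Agent.Helper11.FlatPc.esEquiv (R := B ⊗[A] B) (S := L ⊗[A] B)
    (ModuleCat.of (B ⊗[A] B) B)) ≪≫ₗ tensorEquivQuot hmul
  exact hasProjectiveDimensionLT_of_iso e.toModuleIso (d + 1)

end Point

end Groth.Agent.Helper2.DiagPerf
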