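import Groth.Agent.Lib.Helper2.DiagPerf2
import Groth.Agent.Lib.Helper6.S2206Aux
import Groth.Agent.Lib.Helper6.PdLoc
import Groth.Agent.Lib.Helper12.FieldSm2
import Groth.Agent.S0562

/-!
# Perfect diagonal: the geometric fibres are smooth (helper2)
-/

set_option autoImplicit false
set_option linter.style.haveILetI false
set_option linter.unusedSectionVars false

open CategoryTheory TensorProduct

attribute [local instance] HasDerivedCategory.standard

universe u

namespace Groth.Agent.Helper2.DiagPerf

section Point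

variable {A B L : Type u} [CommRing A] [CommRing B] [CommRing L] [Algebra A B] [Algebra A L]
  [Algebra B L] [IsScalarTower A B L]

attribute [local instance] algRD

variable [Algebra (B ⊗[A] B) B] (hmul : ∀ x y : B, algebraMap (B ⊗[A] B) B (x ⊗ₜ[A] y) = x * y)

include hmul in
theorem isRegularLocalRing_pt [Module.Flat A B] [IsNoetherianRing (L ⊗[A] B)]
    (I : Ideal (L ⊗[A] B)) (hI : I.IsMaximal) (hpt : I = pt A B L) (d : ℕ)
    (h : HasProjectiveDimensionLT (ModuleCat.of (B ⊗[A] B) B) (d + 1)) :
    IsRegularLocalRing (Localization.AtPrime I) := by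
  subst hpt
  exact Groth.Agent.S0562.result _ (d + 1)
    (Groth.Agent.Helper6.PdLoc.pdLT_residueField_of_pdLT_quotient (pt A B L) d
      (pdLT_quot_pt hmul d h))

end Point

section Geom

variable {A B L : Type u} [CommRing A] [CommRing B] [Field L] [IsAlgClosed L] [Algebra A B]
  [Algebra A L] [Algebra.FiniteType A B] [Module.Flat A B]
  [Algebra (B ⊗[A] B) B] (hmul : ∀ x y : B, algebraMap (B ⊗[A] B) B (x ⊗ₜ[A] y) = x * y)

include hmul

theorem isRegularLocalRing_maximal (m : Ideal (L ⊗[A] B)) [hm : m.IsMaximal] (d : ℕ)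
    (h : HasProjectiveDimensionLT (ModuleCat.of (B ⊗[A] B) B) (d + 1)) :
    IsRegularLocalRing (Localization.AtPrime m) := by
  have hbij := Groth.Agent.Helper6.S2206Aux.bijective_algebraMap_quotient_maximal L (L ⊗[A] B) m
  let σ : L ≃ₐ[L] ((L ⊗[A] B) ⧸ m) := AlgEquiv.ofBijective (Algebra.ofId L _) hbij
  let ψ : B →ₐ[A] L := (σ.symm.toAlgHom.restrictScalars A).comp
    ((Ideal.Quotient.mkₐ A m).comp (Algebra.TensorProduct.includeRight : B →ₐ[A] L ⊗[A] B))
  letI : Algebra B L := ψ.toRingHom.toAlgebra
  haveI : IsScalarTower A B L := IsScalarTower.of_algebraMap_eq' ψ.comp_algebraMap.symm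
  haveI : IsNoetherianRing (L ⊗[A] B) := Algebra.FiniteType.isNoetherianRing L _
  have hev : ∀ x : L ⊗[A] B, ev A B L x = σ.symm (Ideal.Quotient.mk m x) := by
    intro x
    induction x using TensorProduct.induction_on with
    | zero => simp
    | tmul l b =>
      rw [ev_tmul]
      show l * σ.symm (Ideal.Quotient.mk m ((1 : L) ⊗ₜ[A] b)) = _
      rw [← smul_eq_mul, ← map_smul]
      congr 1
      have hl : (l ⊗ₜ[A] b : L ⊗[A] B) = l • ((1 : L) ⊗ₜ[A] b) := by
        rw [TensorProduct.smul_tmul', smul_eq_mul, mul_one]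
      rw [hl]
      rfl
    | add x y hx hy => rw [map_add, hx, hy, map_add, map_add]
  have hpt : m = pt A B L := by
    ext x
    rw [RingHom.mem_ker, hev, EmbeddingLike.map_eq_zero_iff, Ideal.Quotient.eq_zero_iff_mem]
  exact isRegularLocalRing_pt hmul m hm hpt d h

theorem formallySmooth_maximal (m : Ideal (L ⊗[A] B)) [hm : m.IsMaximal] (d : ℕ)
    (h : HasProjectiveDimensionLT (ModuleCat.of (B ⊗[A] B) B) (d + 1)) :
    Algebra.FormallySmooth L (Localization.AtPrime m) := by
  haveI := isRegularLocalRing_maximal hmul m d h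
  have hbij := Groth.Agent.Helper6.S2206Aux.bijective_algebraMap_quotient_maximal L (L ⊗[A] B) m
  refine Groth.Agent.Helper12.FieldSm.formallySmooth_of_regular_of_rational L _ ?_
  have h2 := Ideal.bijective_algebraMap_quotient_residueField m
  have : algebraMap L (IsLocalRing.ResidueField (Localization.AtPrime m)) =
      (algebraMap ((L ⊗[A] B) ⧸ m) m.ResidueField).comp (algebraMap L ((L ⊗[A] B) ⧸ m)) := by
    ext l
    rfl
  rw [this]
  exact h2.surjective.comp hbij.surjective

theorem smooth_geometricFibre (d : ℕ)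
    (h : HasProjectiveDimensionLT (ModuleCat.of (B ⊗[A] B) B) (d + 1)) :
    Algebra.Smooth L (L ⊗[A] B) := by
  haveI : Algebra.FinitePresentation L (L ⊗[A] B) :=
    Algebra.FinitePresentation.of_finiteType.mp inferInstance
  exact Groth.Agent.Helper6.S2206Aux.smooth_of_formallySmooth_at_maximal L (L ⊗[A] B)
    (fun m _ => formallySmooth_maximal hmul m d h)

end Geom

end Groth.Agent.Helper2.DiagPerf
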