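import Groth.Agent.Lib.Helper2.DiagPerf3
import Groth.Agent.S0565

/-!
# Perfect diagonal: regularity of `E ⊗ B` at every prime (helper2)
-/

set_option autoImplicit false
set_option linter.style.haveILetI false
set_option linter.unusedSectionVars false

open CategoryTheory TensorProduct

attribute [local instance] HasDerivedCategory.standard

universe u

namespace Groth.Agent.Helper2.DiagPerf

section Theta

variable {A B E L : Type u} [CommRing A] [CommRing B] [CommRing E] [CommRing L] [Algebra A B]
  [Algebra A E] [Algebra A L] [Algebra E L] [IsScalarTower A E L]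

variable (A B E L) in
/-- `E ⊗ B → L ⊗ B` -/
noncomputable def theta : E ⊗[A] B →ₐ[A] L ⊗[A] B :=
  Algebra.TensorProduct.map (IsScalarTower.toAlgHom A E L) (AlgHom.id A B)

@[simp] theorem theta_tmul (e : E) (b : B) :
    theta A B E L (e ⊗ₜ b) = algebraMap E L e ⊗ₜ b := by
  simp [theta]

theorem theta_flat [Module.Flat E L] : (theta A B E L).toRingHom.Flat := by
  letI : Algebra (E ⊗[A] B) (L ⊗[A] B) := (theta A B E L).toRingHom.toAlgebra
  haveI : IsScalarTower E (E ⊗[A] B) (L ⊗[A] B) := by
    refine IsScalarTower.of_algebraMap_eq' ?_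
    ext e
    show (algebraMap E L e) ⊗ₜ[A] (1 : B) = theta A B E L (e ⊗ₜ 1)
    rw [theta_tmul]
  have hpo : Algebra.IsPushout E L (E ⊗[A] B) (L ⊗[A] B) := by
    refine ⟨IsBaseChange.of_equiv
      (TensorProduct.AlgebraTensorModule.cancelBaseChange A E L L B) (fun x => ?_)⟩
    induction x using TensorProduct.induction_on with
    | zero => simp
    | tmul e b =>
      rw [TensorProduct.AlgebraTensorModule.cancelBaseChange_tmul]
      show (e • (1 : L)) ⊗ₜ[A] b = theta A B E L (e ⊗ₜ b)
      rw [theta_tmul, Algebra.smul_def, mul_one]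
    | add x y hx hy =>
      rw [TensorProduct.tmul_add, map_add, hx, hy, map_add]
  have hpo' := hpo.symm
  show Module.Flat (E ⊗[A] B) (L ⊗[A] B)
  exact Module.Flat.isBaseChange E (E ⊗[A] B) L (L ⊗[A] B) hpo'.out

end Theta

section Reg

variable {A B E : Type u} [CommRing A] [CommRing B] [Field E] [Algebra A B] [Algebra A E]
  [Algebra.EssFiniteType A B] [Module.Flat A B]
  [Algebra (B ⊗[A] B) B] (hmul : ∀ x y : B, algebraMap (B ⊗[A] B) B (x ⊗ₜ[A] y) = x * y)

attribute [local instance] Algebra.TensorProduct.rightAlgebra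

include hmul

theorem isRegularLocalRing_atPrime (n : Ideal (E ⊗[A] B)) [n.IsPrime] (d : ℕ)
    (h : HasProjectiveDimensionLT (ModuleCat.of (B ⊗[A] B) B) (d + 1)) :
    IsRegularLocalRing (Localization.AtPrime n) := by
  haveI : IsNoetherianRing (E ⊗[A] B) := Algebra.EssFiniteType.isNoetherianRing E _
  haveI : IsNoetherianRing (n.ResidueField ⊗[A] B) :=
    Algebra.EssFiniteType.isNoetherianRing n.ResidueField _
  haveI : IsScalarTower A B n.ResidueField := inferInstance
  have hcomp : ∀ x : E ⊗[A] B, ev A B n.ResidueField (theta A B E n.ResidueField x) =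
      algebraMap (E ⊗[A] B) n.ResidueField x := by
    intro x
    induction x using TensorProduct.induction_on with
    | zero => simp
    | tmul e b =>
      rw [theta_tmul, ev_tmul]
      have h1 : (e ⊗ₜ[A] b : E ⊗[A] B) = algebraMap E (E ⊗[A] B) e * algebraMap B (E ⊗[A] B) b := by
        show _ = (e ⊗ₜ[A] (1 : B)) * ((1 : E) ⊗ₜ[A] b)
        rw [Algebra.TensorProduct.tmul_mul_tmul, mul_one, one_mul]
      rw [h1, map_mul, ← IsScalarTower.algebraMap_apply, ← IsScalarTower.algebraMap_apply]
    | add x y hx hy => rw [map_add, map_add, hx, hy, map_add]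
  have hsurj : Function.Surjective (ev A B n.ResidueField) := fun l =>
    ⟨l ⊗ₜ 1, by rw [ev_tmul, map_one, mul_one]⟩
  haveI hmax : (pt A B n.ResidueField).IsMaximal :=
    RingHom.ker_isMaximal_of_surjective _ hsurj
  have hreg : IsRegularLocalRing (Localization.AtPrime (pt A B n.ResidueField)) :=
    isRegularLocalRing_pt hmul (pt A B n.ResidueField) hmax rfl d h
  have hn : n = Ideal.comap (theta A B E n.ResidueField).toRingHom (pt A B n.ResidueField) := by
    ext x
    rw [Ideal.mem_comap, RingHom.mem_ker]
    show _ ↔ ev A B n.ResidueField (theta A B E n.ResidueField x) = 0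
    rw [hcomp, Ideal.algebraMap_residueField_eq_zero]
  have hflat := RingHom.Flat.localRingHom (theta_flat (A := A) (B := B) (E := E)
    (L := n.ResidueField)) (pt A B n.ResidueField) n hn
  letI : Algebra (Localization.AtPrime n) (Localization.AtPrime (pt A B n.ResidueField)) :=
    (Localization.localRingHom n (pt A B n.ResidueField)
      (theta A B E n.ResidueField).toRingHom hn).toAlgebra
  haveI : IsLocalHom (algebraMap (Localization.AtPrime n)
      (Localization.AtPrime (pt A B n.ResidueField))) :=
    Localization.isLocalHom_localRingHom n (pt A B n.ResidueField) _ hn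
  have hfl := hflat
  rw [RingHom.Flat] at hfl
  exact @Groth.Agent.S0565.result (Localization.AtPrime n) _ _ _
    (Localization.AtPrime (pt A B n.ResidueField)) _ hreg _ _ hfl

end Reg

end Groth.Agent.Helper2.DiagPerf
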