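import Mathlib
namespace Groth.Agent.Lib.Helper2.DoubleCrimp
section
open Polynomial

variable {R : Type*} [CommRing R]
variable {S' : Type*} [CommRing S'] [Algebra R S']

/-- the model submodule `R·1 + c S'` -/
def T (c : R) : Submodule R S' :=
  Submodule.span R {(1 : S')} ⊔ Ideal.span {c} • (⊤ : Submodule R S')

lemma mem_span_smul_top (c : R) (v : S') :
    v ∈ Ideal.span {c} • (⊤ : Submodule R S') ↔ ∃ w : S', v = c • w := by
  rw [Submodule.ideal_span_singleton_smul, Submodule.mem_smul_pointwise_iff_exists]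
  constructor
  · rintro ⟨w, -, rfl⟩
    exact ⟨w, rfl⟩
  · rintro ⟨w, rfl⟩
    exact ⟨w, Submodule.mem_top, rfl⟩

variable (B : Module.Basis (Fin 2) R S') (hB0 : B 0 = 1)

include hB0 in
lemma decomp (s : S') : s = (B.repr s 0) • (1 : S') + (B.repr s 1) • B 1 := by
  conv_lhs => rw [← B.sum_repr s, Fin.sum_univ_two, hB0]

include hB0 in
lemma repr_comb (α β : R) : B.repr (α • (1 : S') + β • B 1) 0 = α ∧
    B.repr (α • (1 : S') + β • B 1) 1 = β := by
  rw [← hB0]
  simp [map_add, map_smul, B.repr_self]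

include hB0 in
lemma mem_T_iff (c : R) (s : S') : s ∈ T (S' := S') c ↔ c ∣ B.repr s 1 := by
  constructor
  · intro hs
    rw [T, Submodule.mem_sup] at hs
    obtain ⟨y, hy, z, hz, rfl⟩ := hs
    rw [Submodule.mem_span_singleton] at hy
    obtain ⟨α, rfl⟩ := hy
    rw [mem_span_smul_top] at hz
    obtain ⟨w, rfl⟩ := hz
    rw [map_add, map_smul, map_smul, Finsupp.add_apply, Finsupp.smul_apply, Finsupp.smul_apply]
    have h1 : B.repr (1 : S') 1 = 0 := by
      rw [← hB0, B.repr_self]; simp
    rw [h1, smul_zero, zero_add]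
    exact ⟨_, rfl⟩
  · rintro ⟨r, hr⟩
    rw [decomp B hB0 s, hr, T]
    apply Submodule.add_mem
    · exact Submodule.mem_sup_left (Submodule.smul_mem _ _ (Submodule.subset_span rfl))
    · apply Submodule.mem_sup_right
      rw [mem_span_smul_top]
      exact ⟨r • B 1, by rw [smul_smul]⟩


section DVR
variable [IsDomain R] [IsDiscreteValuationRing R]

include hB0 in
theorem structure_of_basis (ϖ : R) (hϖ : Irreducible ϖ) (S : Subalgebra R S')
    (bS : Module.Basis (Fin 2) R S) : ∃ n : ℕ, Subalgebra.toSubmodule S = T (ϖ ^ n) := by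
  set J : Ideal R := Submodule.map (B.coord 1) (Subalgebra.toSubmodule S) with hJdef
  have hJ : J ≠ ⊥ := by
    intro hJ0
    have hz : ∀ s : S, B.repr (s : S') 1 = 0 := by
      intro s
      have h1 : B.coord 1 (s : S') ∈ J := Submodule.mem_map_of_mem s.2
      rw [hJ0, Submodule.mem_bot] at h1
      exact h1
    have hs : ∀ s : S, (s : S') = (B.repr (s : S') 0) • (1 : S') := by
      intro s
      have := decomp B hB0 (s : S')
      rw [hz s, zero_smul, add_zero] at this
      exact this
    set α₀ := B.repr ((bS 0 : S) : S') 0 with hα₀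
    set α₁ := B.repr ((bS 1 : S) : S') 0 with hα₁
    have hrel : α₁ • bS 0 + (-α₀) • bS 1 = 0 := by
      apply Subtype.ext
      push_cast
      rw [hs (bS 0), hs (bS 1), ← hα₀, ← hα₁, smul_smul, smul_smul, mul_comm α₁ α₀, neg_mul,
        neg_smul, add_neg_cancel]
    have hli := Fintype.linearIndependent_iff.mp bS.linearIndependent ![α₁, -α₀]
      (by rw [Fin.sum_univ_two]; exact hrel)
    have h0 : α₀ = 0 := by
      have := hli 1
      simpa using this
    have hb0 : bS 0 = 0 := by
      apply Subtype.ext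
      rw [hs (bS 0), ← hα₀, h0, zero_smul]
      rfl
    exact bS.ne_zero 0 hb0
  obtain ⟨n, hn⟩ := IsDiscreteValuationRing.ideal_eq_span_pow_irreducible hJ hϖ
  refine ⟨n, ?_⟩
  ext s
  rw [Subalgebra.mem_toSubmodule, mem_T_iff B hB0]
  constructor
  · intro hs
    have h1 : B.coord 1 s ∈ J := Submodule.mem_map_of_mem hs
    rw [hn, Ideal.mem_span_singleton] at h1
    exact h1
  · rintro ⟨r, hr⟩
    have h1 : ϖ ^ n ∈ J := by rw [hn]; exact Ideal.mem_span_singleton_self _
    obtain ⟨s0, hs0, hs0'⟩ := h1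
    have h2 : (ϖ ^ n) • B 1 ∈ S := by
      have h3 := decomp B hB0 s0
      rw [show B.repr s0 1 = ϖ ^ n from hs0'] at h3
      have h4 : ϖ ^ n • B 1 = s0 - (B.repr s0 0) • (1 : S') := by
        rw [eq_sub_iff_add_eq']; exact h3.symm
      rw [h4]
      exact S.sub_mem hs0 (S.smul_mem S.one_mem _)
    rw [decomp B hB0 s, hr, mul_comm, ← smul_smul]
    exact S.add_mem (S.smul_mem S.one_mem _) (S.smul_mem h2 _)

end DVR


section Basis
variable [IsDomain R]

include hB0 in
lemma smul_mem_of_eq (c : R) (S : Subalgebra R S') (hS : Subalgebra.toSubmodule S = T c) :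
    c • B 1 ∈ S := by
  rw [← Subalgebra.mem_toSubmodule, hS, mem_T_iff B hB0]
  rw [map_smul, Finsupp.smul_apply, B.repr_self]
  simp

include hB0 in
/-- the basis `(1, c • e)` of `R·1 + c S'` -/
theorem exists_special_basis (c : R) (hc0 : c ≠ 0) (S : Subalgebra R S')
    (hS : Subalgebra.toSubmodule S = T c) :
    ∃ b : Module.Basis (Fin 2) R S, b 0 = 1 ∧ ((b 1 : S) : S') = c • B 1 := by
  set f : S := ⟨c • B 1, smul_mem_of_eq B hB0 c S hS⟩ with hf
  set v : Fin 2 → S := ![1, f] with hv
  have hli : LinearIndependent R v := by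
    rw [Fintype.linearIndependent_iff]
    intro g hg
    rw [Fin.sum_univ_two] at hg
    have hg' : (g 0) • (1 : S') + (g 1 * c) • B 1 = 0 := by
      have := congrArg (fun s : S => (s : S')) hg
      simp only [hv, Matrix.cons_val_zero, Matrix.cons_val_one] at this
      rw [← smul_smul]
      simpa [hf] using this
    have h1 := repr_comb B hB0 (g 0) (g 1 * c)
    have hz : B.repr (0 : S') = 0 := map_zero _
    rw [hg', hz] at h1
    simp only [Finsupp.coe_zero, Pi.zero_apply] at h1
    have h10 : g 0 = 0 := h1.1.symm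
    have h11 : g 1 = 0 := by
      have : g 1 * c = 0 := h1.2.symm
      rcases mul_eq_zero.mp this with h | h
      · exact h
      · exact absurd h hc0
    intro i
    fin_cases i
    · exact h10
    · exact h11
  have hsp : ⊤ ≤ Submodule.span R (Set.range v) := by
    intro s _
    have hs : (s : S') ∈ T (S' := S') c := by
      rw [← hS]; exact s.2
    rw [mem_T_iff B hB0] at hs
    obtain ⟨r, hr⟩ := hs
    have hs' : s = (B.repr (s : S') 0) • v 0 + r • v 1 := by
      apply Subtype.ext
      simp only [hv, Matrix.cons_val_zero, Matrix.cons_val_one]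
      push_cast
      rw [hf]
      simp only
      conv_lhs => rw [decomp B hB0 (s : S'), hr]
      rw [smul_smul, mul_comm r c]
    rw [hs']
    exact Submodule.add_mem _ (Submodule.smul_mem _ _ (Submodule.subset_span ⟨0, rfl⟩))
      (Submodule.smul_mem _ _ (Submodule.subset_span ⟨1, rfl⟩))
  refine ⟨Module.Basis.mk hli hsp, ?_, ?_⟩
  · rw [Module.Basis.mk_apply]; rfl
  · rw [Module.Basis.mk_apply]; rfl

end Basis


section Discr
variable {A : Type*} [CommRing A] [Algebra R A]

lemma span_discr_eq {ι : Type*} [Fintype ι] [DecidableEq ι] (b b' : Module.Basis ι R A) :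
    Ideal.span {Algebra.discr R b} = Ideal.span {Algebra.discr R b'} := by
  have h := Algebra.discr_of_matrix_vecMul (⇑b') (b'.toMatrix b)
  rw [Module.Basis.toMatrix_map_vecMul] at h
  have hu : IsUnit (b'.toMatrix b).det := by
    have h1 := Module.Basis.toMatrix_mul_toMatrix_flip b' b
    exact IsUnit.of_mul_eq_one _ (by rw [← Matrix.det_mul, h1, Matrix.det_one])
  rw [h, Ideal.span_singleton_mul_left_unit (hu.pow 2)]

lemma trace_special (b : Module.Basis (Fin 2) R A) (h0 : b 0 = 1) (d : R)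
    (hd : b 1 * b 1 = algebraMap R A d) : Algebra.trace R A (b 1) = 0 := by
  rw [Algebra.trace_eq_matrix_trace b, Matrix.trace_fin_two, Algebra.leftMulMatrix_eq_repr_mul,
    Algebra.leftMulMatrix_eq_repr_mul, hd, h0, mul_one, Algebra.algebraMap_eq_smul_one, ← h0,
    map_smul, b.repr_self, b.repr_self]
  simp

lemma discr_special (b : Module.Basis (Fin 2) R A) (h0 : b 0 = 1) (d : R)
    (hd : b 1 * b 1 = algebraMap R A d) : Algebra.discr R b = 4 * d := by
  rw [Algebra.discr_def, Matrix.det_fin_two]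
  simp only [Algebra.traceMatrix_apply, Algebra.traceForm_apply]
  rw [h0, one_mul, mul_one, one_mul, hd, trace_special b h0 d hd,
    Algebra.trace_algebraMap_of_basis b, ← map_one (algebraMap R A),
    Algebra.trace_algebraMap_of_basis b]
  simp only [Fintype.card_fin, nsmul_eq_mul]
  ring

end Discr


section AlgEquiv
variable {A : Type*} [CommRing A] [Algebra R A]

theorem nonempty_algEquiv [Nontrivial R] (b : Module.Basis (Fin 2) R A) (h0 : b 0 = 1) (d : R)
    (hd : b 1 * b 1 = algebraMap R A d) :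
    Nonempty (A ≃ₐ[R] AdjoinRoot (X ^ 2 - C d : R[X])) := by
  set g : R[X] := X ^ 2 - C d with hg
  have hmonic : g.Monic := monic_X_pow_sub_C d (by norm_num)
  have hdeg : g.natDegree = 2 := natDegree_X_pow_sub_C
  have hg1 : g ≠ 1 := by
    intro h
    rw [h, natDegree_one] at hdeg
    omega
  have hroot : g.eval₂ (Algebra.ofId R A : R →+* A) (b 1) = 0 := by
    rw [hg, eval₂_sub, eval₂_pow, eval₂_X, eval₂_C, pow_two, hd]
    simp
  let φ : AdjoinRoot g →ₐ[R] A := AdjoinRoot.liftAlgHom g (Algebra.ofId R A) (b 1) hroot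
  have hφroot : φ (AdjoinRoot.root g) = b 1 := AdjoinRoot.liftAlgHom_root g _ _ hroot
  have hsurj : Function.Surjective φ := by
    intro s
    refine ⟨(b.repr s 0) • 1 + (b.repr s 1) • AdjoinRoot.root g, ?_⟩
    rw [map_add, map_smul, map_smul, map_one, hφroot]
    conv_rhs => rw [← b.sum_repr s, Fin.sum_univ_two, h0]
  have hinj : Function.Injective φ := by
    rw [injective_iff_map_eq_zero]
    intro x hx
    obtain ⟨p, rfl⟩ := AdjoinRoot.mk_surjective x
    have h1 : AdjoinRoot.mk g p = AdjoinRoot.mk g (p %ₘ g) := by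
      rw [AdjoinRoot.mk_eq_mk]
      refine ⟨p /ₘ g, ?_⟩
      have := modByMonic_add_div p g
      rw [sub_eq_iff_eq_add, add_comm]
      exact this.symm
    rw [h1] at hx ⊢
    have hrdeg : (p %ₘ g).natDegree ≤ 1 := by
      have := natDegree_modByMonic_lt p hmonic hg1
      omega
    obtain ⟨α, β, hαβ⟩ := exists_eq_X_add_C_of_natDegree_le_one hrdeg
    rw [hαβ] at hx ⊢
    have hx' : α • b 1 + β • b 0 = 0 := by
      have : φ (AdjoinRoot.mk g (C α * X + C β)) =
          eval₂ (Algebra.ofId R A : R →+* A) (b 1) (C α * X + C β) := rfl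
      rw [this, eval₂_add, eval₂_mul, eval₂_C, eval₂_C, eval₂_X] at hx
      rw [h0, Algebra.smul_def, Algebra.smul_def, mul_one]
      exact hx
    have h2 := congrArg b.repr hx'
    rw [map_add, map_smul, map_smul, b.repr_self, b.repr_self, map_zero] at h2
    have hα : α = 0 := by
      have := congrArg (fun f => f 1) h2
      simpa using this
    have hβ : β = 0 := by
      have := congrArg (fun f => f 0) h2
      simpa using this
    rw [hα, hβ]
    simp
  exact ⟨(AlgEquiv.ofBijective φ ⟨hinj, hsurj⟩).symm⟩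

end AlgEquiv


section Main
variable [IsDomain R]

include hB0 in
/-- special basis with its square relation -/
theorem exists_special_basis' (c₀ : R) (he : B 1 * B 1 = algebraMap R S' c₀) (ϖ : R) (hϖ0 : ϖ ≠ 0)
    (n : ℕ) (S : Subalgebra R S') (hS : Subalgebra.toSubmodule S = T (ϖ ^ n)) :
    ∃ b : Module.Basis (Fin 2) R S, b 0 = 1 ∧
      b 1 * b 1 = algebraMap R S (ϖ ^ (2 * n) * c₀) := by
  obtain ⟨b, hb0, hb1⟩ := exists_special_basis B hB0 (ϖ ^ n) (pow_ne_zero n hϖ0) S hS
  refine ⟨b, hb0, ?_⟩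
  apply Subtype.ext
  push_cast
  rw [hb1, smul_mul_smul_comm, he, Algebra.smul_def, ← map_mul, ← pow_add, two_mul]
  simp

include hB0 in
theorem span_discr (c₀ : R) (he : B 1 * B 1 = algebraMap R S' c₀) (ϖ : R) (hϖ0 : ϖ ≠ 0)
    (h2 : IsUnit (2 : R))
    (n : ℕ) (S : Subalgebra R S') (hS : Subalgebra.toSubmodule S = T (ϖ ^ n))
    (bS : Module.Basis (Fin 2) R S) :
    Ideal.span {Algebra.discr R bS} = Ideal.span {ϖ ^ (2 * n) * c₀} := by
  obtain ⟨b, hb0, hb1⟩ := exists_special_basis' B hB0 c₀ he ϖ hϖ0 n S hS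
  rw [span_discr_eq bS b, discr_special b hb0 _ hb1]
  have h4 : IsUnit (4 : R) := by
    have : (4 : R) = 2 * 2 := by norm_num
    rw [this]
    exact h2.mul h2
  exact Ideal.span_singleton_mul_left_unit h4 _

include hB0 in
theorem algEquiv_of_eq (c₀ : R) (he : B 1 * B 1 = algebraMap R S' c₀) (ϖ : R) (hϖ0 : ϖ ≠ 0)
    (n : ℕ) (S : Subalgebra R S') (hS : Subalgebra.toSubmodule S = T (ϖ ^ n)) :
    Nonempty (S ≃ₐ[R] AdjoinRoot (X ^ 2 - C (ϖ ^ (2 * n) * c₀) : R[X])) := by
  obtain ⟨b, hb0, hb1⟩ := exists_special_basis' B hB0 c₀ he ϖ hϖ0 n S hS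
  exact nonempty_algEquiv b hb0 _ hb1

end Main

end
end Groth.Agent.Lib.Helper2.DoubleCrimp

namespace Groth.Agent.Lib.Helper2.DoubleCrimp
section Extra
variable {R : Type*} [CommRing R] [IsDomain R]

lemma pow_eq_of_span_eq {ϖ : R} (hϖ : Irreducible ϖ) {a b : ℕ}
    (h : Ideal.span {ϖ ^ a} = Ideal.span {ϖ ^ b}) : a = b := by
  rw [Ideal.span_singleton_eq_span_singleton] at h
  have h1 : a ≤ b := (pow_dvd_pow_iff hϖ.ne_zero hϖ.not_isUnit).mp h.dvd
  have h2 : b ≤ a := (pow_dvd_pow_iff hϖ.ne_zero hϖ.not_isUnit).mp h.symm.dvd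
  omega

/-- the basis `((1,1), (1,-1))` of `R × R` when 2 is invertible -/
theorem exists_basis_prod (h : R) (hh : 2 * h = 1) :
    ∃ B : Module.Basis (Fin 2) R (Fin 2 → R), B 0 = 1 ∧
      B 1 * B 1 = algebraMap R (Fin 2 → R) 1 := by
  let e : (Fin 2 → R) ≃ₗ[R] (Fin 2 → R) :=
    { toFun := fun x => ![h * (x 0 + x 1), h * (x 0 - x 1)]
      invFun := fun g => ![g 0 + g 1, g 0 - g 1]
      map_add' := by
        intro x y
        ext i
        fin_cases i <;> simp <;> ring
      map_smul' := by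
        intro c x
        ext i
        fin_cases i <;> simp <;> ring
      left_inv := by
        intro x
        ext i
        fin_cases i
        · simp
          linear_combination (x 0) * hh
        · simp
          linear_combination (x 1) * hh
      right_inv := by
        intro g
        ext i
        fin_cases i
        · simp
          linear_combination (g 0) * hh
        · simp
          linear_combination (g 1) * hh }
  refine ⟨Module.Basis.ofEquivFun e, ?_, ?_⟩
  · rw [Module.Basis.coe_ofEquivFun]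
    ext i
    fin_cases i <;> simp [e]
  · rw [Module.Basis.coe_ofEquivFun]
    ext i
    fin_cases i <;> simp [e]

end Extra
end Groth.Agent.Lib.Helper2.DoubleCrimp

namespace Groth.Agent.Lib.Helper2.DoubleCrimp
section Extra2
open Polynomial
variable {R : Type*} [CommRing R] [Nontrivial R]

/-- the basis `(1, root)` of `R[x]/(x² - c)` -/
theorem exists_basis_adjoinRoot (c : R) :
    ∃ B : Module.Basis (Fin 2) R (AdjoinRoot (X ^ 2 - C c : R[X])), B 0 = 1 ∧
      B 1 * B 1 = algebraMap R (AdjoinRoot (X ^ 2 - C c : R[X])) c := by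
  set g : R[X] := X ^ 2 - C c with hg
  have hmonic : g.Monic := monic_X_pow_sub_C c (by norm_num)
  have hdeg : g.natDegree = 2 := natDegree_X_pow_sub_C
  let pb := AdjoinRoot.powerBasis' hmonic
  have hdim : pb.dim = 2 := hdeg
  refine ⟨pb.basis.reindex (finCongr hdim), ?_, ?_⟩
  · rw [Module.Basis.reindex_apply, PowerBasis.basis_eq_pow]
    simp
  · rw [Module.Basis.reindex_apply, PowerBasis.basis_eq_pow]
    have h1 : (((finCongr hdim).symm 1 : Fin pb.dim) : ℕ) = 1 := by simp
    rw [h1, pow_one]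
    have h2 : pb.gen = AdjoinRoot.root g := rfl
    rw [h2]
    have h3 : eval₂ (AdjoinRoot.of g) (AdjoinRoot.root g) (X ^ 2 - C c) = 0 :=
      AdjoinRoot.eval₂_root g
    have h4 : eval₂ (AdjoinRoot.of g) (AdjoinRoot.root g) (X ^ 2 - C c) =
        AdjoinRoot.root g ^ 2 - AdjoinRoot.of g c := by
      rw [eval₂_sub, eval₂_pow, eval₂_X, eval₂_C]
    rw [h4, sub_eq_zero] at h3
    rw [← pow_two, h3]
    rfl

end Extra2
end Groth.Agent.Lib.Helper2.DoubleCrimp
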