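import Mathlib

/-!
# Rescaling the generators of a submersive presentation; the graph presentation
-/

universe u v w t

namespace Groth.Agent.Helper2.Elem

open MvPolynomial Algebra

section Scale

variable {R : Type*} [CommRing R] {ι : Type*}

/-- The substitution `X k ↦ u k * X k`. -/
noncomputable def scale (u : ι → R) : MvPolynomial ι R →ₐ[R] MvPolynomial ι R :=
  aeval (fun k => C (u k) * X k)

@[simp] lemma scale_X (u : ι → R) (k : ι) : scale u (X k) = C (u k) * X k := by
  simp [scale]

@[simp] lemma scale_C (u : ι → R) (a : R) : scale u (C a) = C a := by
  simp [scale]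

lemma scale_scale (u v : ι → R) (p : MvPolynomial ι R) :
    scale u (scale v p) = scale (fun k => u k * v k) p := by
  induction p using MvPolynomial.induction_on with
  | C a => simp
  | add p q hp hq => simp [hp, hq]
  | mul_X p k hp =>
    simp only [map_mul, hp, scale_X, scale_C, C_mul]
    ring

lemma scale_one (p : MvPolynomial ι R) : scale (fun _ : ι => (1 : R)) p = p := by
  induction p using MvPolynomial.induction_on with
  | C a => simp
  | add p q hp hq => simp [hp, hq]
  | mul_X p k hp => simp [hp]

/-- Chain rule for `scale`. -/
lemma pderiv_scale (u : ι → R) (i : ι) (p : MvPolynomial ι R) :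
    pderiv i (scale u p) = C (u i) * scale u (pderiv i p) := by
  classical
  induction p using MvPolynomial.induction_on with
  | C a => simp
  | add p q hp hq => simp [hp, hq, mul_add]
  | mul_X p k hp =>
    simp only [map_mul, scale_X, Derivation.leibniz, hp, pderiv_C, pderiv_X, smul_eq_mul,
      map_add, Pi.single_apply, smul_zero, zero_add]
    split_ifs with h
    · subst h
      simp only [mul_one, map_one]
      ring
    · simp only [mul_zero, map_zero, add_zero, zero_add]
      ring

lemma aeval_scale {S : Type*} [CommRing S] [Algebra R S] (u : ι → R) (x : ι → S)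
    (p : MvPolynomial ι R) :
    aeval x (scale u p) = aeval (fun k => u k • x k) p := by
  induction p using MvPolynomial.induction_on with
  | C a => simp
  | add p q hp hq => simp [hp, hq]
  | mul_X p k hp =>
    simp only [map_mul, hp, scale_X, aeval_C, aeval_X, Algebra.smul_def]

end Scale

section Graph

variable {B : Type*} [CommRing B] {ι : Type*}

/-- `p - C (p(a))` lies in the ideal generated by the `X i - C (a i)`. -/
lemma sub_C_aeval_mem (a : ι → B) (p : MvPolynomial ι B) :
    p - C (aeval a p) ∈ Ideal.span (Set.range fun i => (X i : MvPolynomial ι B) - C (a i)) := by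
  induction p using MvPolynomial.induction_on with
  | C b => simp
  | add p q hp hq =>
    have : p + q - C (aeval a (p + q)) = (p - C (aeval a p)) + (q - C (aeval a q)) := by
      simp only [map_add]
      ring
    rw [this]
    exact Ideal.add_mem _ hp hq
  | mul_X p k hp =>
    have : p * X k - C (aeval a (p * X k)) =
        (p - C (aeval a p)) * X k + C (aeval a p) * (X k - C (a k)) := by
      simp only [map_mul, aeval_X]
      ring
    rw [this]
    exact Ideal.add_mem _ (Ideal.mul_mem_right _ _ hp)
      (Ideal.mul_mem_left _ _ (Ideal.subset_span ⟨k, rfl⟩))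

/-- The graph presentation of `B` over itself with prescribed generators. -/
noncomputable def graphPre (a : ι → B) : PreSubmersivePresentation B B ι ι where
  val := a
  σ' := fun b => C b
  aeval_val_σ' := fun b => by simp
  relation := fun i => X i - C (a i)
  span_range_relation_eq_ker := by
    apply le_antisymm
    · rw [Ideal.span_le]
      rintro _ ⟨i, rfl⟩
      change _ ∈ RingHom.ker _
      rw [RingHom.mem_ker]
      change aeval a (X i - C (a i)) = 0
      simp
    · intro p hp
      have hp' : aeval a p = 0 := hp
      have := sub_C_aeval_mem a p
      rwa [hp', map_zero, sub_zero] at this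
  map := id
  map_inj := Function.injective_id

lemma graphPre_val (a : ι → B) : (graphPre a).val = a := rfl

lemma graphPre_jacobian [Finite ι] (a : ι → B) : (graphPre a).jacobian = 1 := by
  classical
  cases nonempty_fintype ι
  rw [PreSubmersivePresentation.jacobian_eq_jacobiMatrix_det]
  have h1 : (graphPre a).jacobiMatrix = 1 := by
    refine Matrix.ext fun i j => ?_
    rw [PreSubmersivePresentation.jacobiMatrix_apply]
    change pderiv i (X j - C (a j)) = _
    rw [map_sub, pderiv_C, sub_zero, pderiv_X, Matrix.one_apply, Pi.single_apply]
    simp only [eq_comm]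
  rw [h1, Matrix.det_one, map_one]

/-- The graph presentation is submersive. -/
noncomputable def graph [Finite ι] (a : ι → B) : SubmersivePresentation B B ι ι where
  toPreSubmersivePresentation := graphPre a
  jacobian_isUnit := by
    rw [graphPre_jacobian]
    exact isUnit_one

lemma graph_val [Finite ι] (a : ι → B) : (graph a).val = a := rfl

end Graph

section Rescale

variable {R : Type*} [CommRing R] {S : Type*} [CommRing S] [Algebra R S] {ι σ : Type*}

/-- Rescale the generators of a presentation by units of the base. -/
noncomputable def rescalePre (P : PreSubmersivePresentation R S ι σ) (u uinv : ι → R)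
    (h : ∀ k, u k * uinv k = 1) : PreSubmersivePresentation R S ι σ where
  val := fun k => u k • P.val k
  σ' := fun s => scale uinv (P.σ s)
  aeval_val_σ' := fun s => by
    rw [aeval_scale]
    have : (fun k => uinv k • u k • P.val k) = P.val := by
      ext k
      rw [smul_smul, mul_comm, h, one_smul]
    rw [this]
    exact P.aeval_val_σ s
  relation := fun j => scale uinv (P.relation j)
  span_range_relation_eq_ker := by
    have hval : ∀ x : MvPolynomial ι R,
        aeval (fun k => u k • P.val k) x = aeval P.val (scale u x) := fun x =>
      (aeval_scale u P.val x).symm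
    have hinv : ∀ x : MvPolynomial ι R, scale uinv (scale u x) = x := by
      intro x
      rw [scale_scale]
      have : (fun k => uinv k * u k) = fun _ => (1 : R) := by
        ext k
        rw [mul_comm, h]
      rw [this, scale_one]
    have hinv' : ∀ x : MvPolynomial ι R, scale u (scale uinv x) = x := by
      intro x
      rw [scale_scale]
      have : (fun k => u k * uinv k) = fun _ => (1 : R) := by
        ext k
        rw [h]
      rw [this, scale_one]
    apply le_antisymm
    · rw [Ideal.span_le]
      rintro _ ⟨j, rfl⟩
      change _ ∈ RingHom.ker _
      rw [RingHom.mem_ker]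
      change aeval (fun k => u k • P.val k) (scale uinv (P.relation j)) = 0
      rw [hval, hinv']
      exact P.aeval_val_relation j
    · intro x hx
      have hx' : aeval (fun k => u k • P.val k) x = 0 := hx
      rw [hval] at hx'
      have h1 : scale u x ∈ P.ker := by
        rw [P.ker_eq_ker_aeval_val, RingHom.mem_ker]
        exact hx'
      rw [← P.span_range_relation_eq_ker] at h1
      have h2 : scale uinv (scale u x) ∈
          Ideal.map (scale uinv : MvPolynomial ι R →+* MvPolynomial ι R)
            (Ideal.span (Set.range P.relation)) := Ideal.mem_map_of_mem _ h1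
      rw [hinv, Ideal.map_span, ← Set.range_comp] at h2
      exact h2
  map := P.map
  map_inj := P.map_inj

lemma rescalePre_val (P : PreSubmersivePresentation R S ι σ) (u uinv : ι → R)
    (h : ∀ k, u k * uinv k = 1) (k : ι) : (rescalePre P u uinv h).val k = u k • P.val k := rfl

lemma rescalePre_jacobian [Finite σ] (P : PreSubmersivePresentation R S ι σ) (u uinv : ι → R)
    (h : ∀ k, u k * uinv k = 1) :
    (rescalePre P u uinv h).jacobian =
      (∏ᶠ i : σ, uinv (P.map i)) • P.jacobian := by
  classical
  cases nonempty_fintype σ
  rw [PreSubmersivePresentation.jacobian_eq_jacobiMatrix_det,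
    PreSubmersivePresentation.jacobian_eq_jacobiMatrix_det, finprod_eq_prod_of_fintype]
  have h1 : (rescalePre P u uinv h).jacobiMatrix =
      Matrix.of fun i j => C (uinv (P.map i)) * scale uinv (P.jacobiMatrix i j) := by
    refine Matrix.ext fun i j => ?_
    rw [PreSubmersivePresentation.jacobiMatrix_apply]
    change pderiv (P.map i) (scale uinv (P.relation j)) = _
    rw [pderiv_scale, Matrix.of_apply, PreSubmersivePresentation.jacobiMatrix_apply]
  have h2 : (rescalePre P u uinv h).jacobiMatrix.det =
      (∏ i : σ, C (uinv (P.map i))) * scale uinv P.jacobiMatrix.det := by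
    rw [h1, Matrix.det_mul_column]
    congr 1
    rw [AlgHom.map_det]
    rfl
  rw [h2, map_mul, map_prod]
  have h3 : ∀ x : MvPolynomial ι R, algebraMap (rescalePre P u uinv h).Ring S (scale uinv x) =
      algebraMap P.Ring S x := by
    intro x
    rw [Generators.algebraMap_apply, Generators.algebraMap_apply]
    change aeval (fun k => u k • P.val k) (scale uinv x) = _
    rw [aeval_scale]
    have : (fun k => uinv k • u k • P.val k) = P.val := by
      funext k
      rw [smul_smul, mul_comm, h, one_smul]
    rw [this]
  rw [h3, Algebra.smul_def, map_prod]
  congr 1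
  refine Finset.prod_congr rfl fun i _ => ?_
  rw [Generators.algebraMap_apply]
  change aeval _ (C (uinv (P.map i))) = _
  rw [aeval_C]

/-- Rescaling the generators of a submersive presentation by units. -/
noncomputable def rescale [Finite σ] (P : SubmersivePresentation R S ι σ) (u uinv : ι → R)
    (h : ∀ k, u k * uinv k = 1) : SubmersivePresentation R S ι σ where
  toPreSubmersivePresentation := rescalePre P.toPreSubmersivePresentation u uinv h
  jacobian_isUnit := by
    classical
    cases nonempty_fintype σ
    rw [rescalePre_jacobian, finprod_eq_prod_of_fintype, Algebra.smul_def]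
    refine IsUnit.mul (RingHom.isUnit_map _ ?_) P.jacobian_isUnit
    refine IsUnit.of_mul_eq_one (∏ i : σ, u (P.map i)) ?_
    rw [← Finset.prod_mul_distrib]
    exact Finset.prod_eq_one fun i _ => by rw [mul_comm, h]

lemma rescale_val [Finite σ] (P : SubmersivePresentation R S ι σ) (u uinv : ι → R)
    (h : ∀ k, u k * uinv k = 1) (k : ι) : (rescale P u uinv h).val k = u k • P.val k := rfl

end Rescale

end Groth.Agent.Helper2.Elem
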