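import Mathlib
import Groth.Prelude.Def_Smoothing
import Groth.Agent.Lib.Helper26.Std6

/-!
# Elementary standard elements: a criterion with arbitrary finite index types
-/

universe u

namespace Groth.Agent.Helper2.Elem

open MvPolynomial

lemma map_span_range {P Q : Type*} [CommRing P] [CommRing Q] (r : P →+* Q) {γ : Type*}
    (s : γ → P) :
    (Ideal.span (Set.range s)).map r = Ideal.span (Set.range fun j => r (s j)) := by
  rw [Ideal.map_span, ← Set.range_comp]
  rfl

theorem isElementaryStandard_of_fintype {R A : Type u} [CommRing R] [CommRing A] [Algebra R A]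
    {ι κ τ : Type*} [Fintype ι] [Fintype κ] [Fintype τ] [DecidableEq τ]
    (f : κ → MvPolynomial ι R) (φ : MvPolynomial ι R →ₐ[R] A) (hφ : Function.Surjective φ)
    (hker : RingHom.ker φ.toRingHom = Ideal.span (Set.range f))
    (rows : τ ↪ κ) (cols : τ ↪ ι) (b b' : A)
    (hb : b = b' * φ (Matrix.det (Matrix.of fun j k : τ => pderiv (cols k) (f (rows j)))))
    (hkill : ∀ a₁, φ a₁ = b → ∀ ℓ, a₁ * f ℓ ∈
      Ideal.span (Set.range (f ∘ rows)) ⊔ Ideal.span (Set.range f) ^ 2) :
    Smoothing.IsElementaryStandard R A b := by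
  classical
  let eι : ι ≃ Fin (Fintype.card ι) := Fintype.equivFin ι
  let eκ : κ ≃ Fin (Fintype.card κ) := Fintype.equivFin κ
  let eτ : τ ≃ Fin (Fintype.card τ) := Fintype.equivFin τ
  let ρ : MvPolynomial ι R ≃ₐ[R] MvPolynomial (Fin (Fintype.card ι)) R := renameEquiv R eι
  have hρ : ∀ p, ρ p = rename eι p := fun p => rfl
  let ρr : MvPolynomial ι R →+* MvPolynomial (Fin (Fintype.card ι)) R := ρ.toAlgHom.toRingHom
  have hρr : ∀ p, ρr p = ρ p := fun p => rfl
  have hρrsurj : Function.Surjective ρr := ρ.surjective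
  have hρsymm : ∀ p, ρ.symm (ρ p) = p := fun p => ρ.symm_apply_apply p
  let f' : Fin (Fintype.card κ) → MvPolynomial (Fin (Fintype.card ι)) R :=
    fun j => ρ (f (eκ.symm j))
  let φ' : MvPolynomial (Fin (Fintype.card ι)) R →ₐ[R] A := φ.comp ρ.symm.toAlgHom
  have hφ'ρ : ∀ p, φ' (ρ p) = φ p := fun p => by
    change φ (ρ.symm (ρ p)) = φ p
    rw [hρsymm]
  have hφ' : Function.Surjective φ' := by
    intro a
    obtain ⟨p, rfl⟩ := hφ a
    exact ⟨ρ p, hφ'ρ p⟩
  have hrange' : Set.range f' = Set.range fun j => ρ (f j) := by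
    ext x
    constructor
    · rintro ⟨j, rfl⟩
      exact ⟨eκ.symm j, rfl⟩
    · rintro ⟨j, rfl⟩
      exact ⟨eκ j, by simp [f']⟩
  have hker' : RingHom.ker φ'.toRingHom = Ideal.span (Set.range f') := by
    rw [hrange']
    have hm := map_span_range ρr f
    simp only [hρr] at hm
    rw [← hm, ← hker]
    ext p
    rw [RingHom.mem_ker]
    constructor
    · intro hp
      have h1 : ρ.symm p ∈ RingHom.ker φ.toRingHom := by
        rw [RingHom.mem_ker]
        exact hp
      have h2 := Ideal.mem_map_of_mem ρr h1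
      have h3 : ρr (ρ.symm p) = p := ρ.apply_symm_apply p
      rwa [h3] at h2
    · intro hp
      rw [Ideal.mem_map_iff_of_surjective ρr hρrsurj] at hp
      obtain ⟨x, hx, rfl⟩ := hp
      change φ' (ρ x) = 0
      rw [hφ'ρ]
      exact hx
  let rows' : Fin (Fintype.card τ) ↪ Fin (Fintype.card κ) :=
    eτ.symm.toEmbedding.trans (rows.trans eκ.toEmbedding)
  let cols' : Fin (Fintype.card τ) ↪ Fin (Fintype.card ι) :=
    eτ.symm.toEmbedding.trans (cols.trans eι.toEmbedding)
  have hminor : Smoothing.jacobianMinor f' rows' cols' =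
      ρ (Matrix.det (Matrix.of fun j k : τ => pderiv (cols k) (f (rows j)))) := by
    unfold Smoothing.jacobianMinor
    rw [← Matrix.det_submatrix_equiv_self eτ.symm
      (Matrix.of fun j k : τ => pderiv (cols k) (f (rows j))), AlgEquiv.map_det]
    congr 1
    refine Matrix.ext fun j k => ?_
    simp only [Matrix.of_apply, AlgEquiv.mapMatrix_apply, Matrix.map_apply,
      Matrix.submatrix_apply, f', rows', cols', Function.Embedding.trans_apply,
      Equiv.coe_toEmbedding, Equiv.symm_apply_apply]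
    rw [hρ, hρ, pderiv_rename eι.injective]
  have hrows' : Set.range (f' ∘ rows') = Set.range fun j => ρ ((f ∘ rows) j) := by
    ext x
    constructor
    · rintro ⟨j, rfl⟩
      refine ⟨eτ.symm j, ?_⟩
      simp [f', rows']
    · rintro ⟨j, rfl⟩
      refine ⟨eτ j, ?_⟩
      simp [f', rows']
  refine Groth.Agent.Helper26.Std.isElementaryStandard_of_rows_cols f' φ' hφ' hker' rows' cols'
    b b' ?_ ?_
  · rw [hminor, hφ'ρ, hb]
  · intro a₁ ha₁ ℓ
    have h1 := hkill (ρ.symm a₁) ha₁ (eκ.symm ℓ)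
    have h2 := Ideal.mem_map_of_mem ρr h1
    have hm1 := map_span_range ρr f
    have hm2 := map_span_range ρr (f ∘ rows)
    simp only [hρr] at hm1 hm2
    rw [Ideal.map_sup, Ideal.map_pow, hm1, hm2, ← hrange', ← hrows'] at h2
    have h3 : ρr (ρ.symm a₁ * f (eκ.symm ℓ)) = a₁ * f' ℓ := by
      change ρ (ρ.symm a₁ * f (eκ.symm ℓ)) = a₁ * f' ℓ
      rw [map_mul, ρ.apply_symm_apply]
    rwa [h3] at h2

end Groth.Agent.Helper2.Elem
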