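import Mathlib
import Groth.Agent.Lib.Helper2.Elem1

/-!
# Clearing denominators in a submersive presentation over a localization
-/

universe u

namespace Groth.Agent.Helper2.Elem

open MvPolynomial Algebra

section Core

attribute [local instance] MvPolynomial.algebraMvPolynomial

variable {R Rₛ B Λ Λₛ : Type*} [CommRing R] [CommRing Rₛ] [Algebra R Rₛ] (S : Submonoid R)
  [IsLocalization S Rₛ] [CommRing B] [Algebra Rₛ B]
  [CommRing Λ] [Algebra R Λ] [CommRing Λₛ] [Algebra Rₛ Λₛ] [Algebra R Λₛ] [Algebra Λ Λₛ]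
  [IsScalarTower R Rₛ Λₛ] [IsScalarTower R Λ Λₛ]
  {ι σ : Type*} [Finite ι] [Finite σ]

set_option maxHeartbeats 1600000 in
theorem core [DecidableEq σ] [Fintype σ] (P : SubmersivePresentation Rₛ B ι σ) (h : B →ₐ[Rₛ] Λₛ)
    (hker : ∀ x : Λ, algebraMap Λ Λₛ x = 0 → ∃ s ∈ S, s • x = 0)
    (lam : ι → Λ) (hlam : ∀ k, h (P.val k) = algebraMap Λ Λₛ (lam k)) :
    ∃ F : σ → MvPolynomial ι R,
      (∀ j, aeval lam (F j) = 0) ∧
      (∀ G : MvPolynomial ι R, aeval P.val (map (algebraMap R Rₛ) G) = 0 →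
        ∃ s ∈ S, C s * G ∈ Ideal.span (Set.range F)) ∧
      ∃ (a₀ : MvPolynomial ι R) (s₀ : R), s₀ ∈ S ∧
        C s₀ - a₀ * Matrix.det (Matrix.of fun j k : σ => pderiv (P.map k) (F j)) ∈
          Ideal.span (Set.range F) := by
  classical
  haveI : IsLocalization (S.map (C : R →+* MvPolynomial ι R)) (MvPolynomial ι Rₛ) :=
    MvPolynomial.isLocalization S Rₛ
  have hmapdef : ∀ G : MvPolynomial ι R,
      algebraMap (MvPolynomial ι R) (MvPolynomial ι Rₛ) G = map (algebraMap R Rₛ) G := fun _ => rfl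
  -- clearing denominators
  have hclear : ∀ q : MvPolynomial ι Rₛ, ∃ (G : MvPolynomial ι R) (t : R), t ∈ S ∧
      map (algebraMap R Rₛ) G = C (algebraMap R Rₛ t) * q := by
    intro q
    obtain ⟨⟨G, ⟨m, hm⟩⟩, hq⟩ := IsLocalization.surj (S.map (C : R →+* MvPolynomial ι R)) q
    obtain ⟨t, ht, rfl⟩ := hm
    refine ⟨G, t, ht, ?_⟩
    rw [hmapdef, hmapdef, map_C] at hq
    rw [← hq, mul_comm]
  -- evaluation in `Λₛ`
  have heval : ∀ G : MvPolynomial ι R,
      algebraMap Λ Λₛ (aeval lam G) = h (aeval P.val (map (algebraMap R Rₛ) G)) := by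
    intro G
    have h1 : ((algebraMap Λ Λₛ).comp (aeval lam : MvPolynomial ι R →ₐ[R] Λ).toRingHom) =
        (h.toRingHom.comp (aeval P.val : MvPolynomial ι Rₛ →ₐ[Rₛ] B).toRingHom).comp
          (map (algebraMap R Rₛ)) := by
      apply MvPolynomial.ringHom_ext
      · intro r
        simp only [RingHom.comp_apply, AlgHom.toRingHom_eq_coe, RingHom.coe_coe, map_C,
          MvPolynomial.algHom_C, AlgHom.commutes]
        rw [← IsScalarTower.algebraMap_apply R Λ Λₛ, ← IsScalarTower.algebraMap_apply R Rₛ Λₛ]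
      · intro k
        simp only [RingHom.comp_apply, AlgHom.toRingHom_eq_coe, RingHom.coe_coe, map_X, aeval_X]
        exact (hlam k).symm
    exact congrArg (fun f => f G) h1
  -- unit scalars
  have hunit : ∀ t ∈ S, IsUnit (C (algebraMap R Rₛ t) : MvPolynomial ι Rₛ) := fun t ht =>
    (IsLocalization.map_units Rₛ (⟨t, ht⟩ : S)).map C
  -- first clearing of the relations
  choose F₀ t₀ ht₀ hF₀ using fun j : σ => hclear (P.relation j)
  have hF₀lam : ∀ j, ∃ s ∈ S, s • aeval lam (F₀ j) = 0 := by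
    intro j
    apply hker
    rw [heval, hF₀, map_mul, P.aeval_val_relation, mul_zero, map_zero]
  choose s' hs' hs'0 using hF₀lam
  let F : σ → MvPolynomial ι R := fun j => C (s' j) * F₀ j
  have hFmap : ∀ j, map (algebraMap R Rₛ) (F j) =
      C (algebraMap R Rₛ (s' j * t₀ j)) * P.relation j := by
    intro j
    simp only [F, map_mul, map_C, hF₀, C_mul]
    ring
  have hst : ∀ j, s' j * t₀ j ∈ S := fun j => S.mul_mem (hs' j) (ht₀ j)
  have hFlam : ∀ j, aeval lam (F j) = 0 := by
    intro j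
    simp only [F, map_mul, aeval_C]
    rw [← Algebra.smul_def]
    exact hs'0 j
  -- the extended ideal
  have hIF : Ideal.map (algebraMap (MvPolynomial ι R) (MvPolynomial ι Rₛ))
      (Ideal.span (Set.range F)) = Ideal.span (Set.range P.relation) := by
    rw [Ideal.map_span, ← Set.range_comp]
    apply le_antisymm
    · rw [Ideal.span_le]
      rintro _ ⟨j, rfl⟩
      change map (algebraMap R Rₛ) (F j) ∈ _
      rw [hFmap]
      exact Ideal.mul_mem_left _ _ (Ideal.subset_span ⟨j, rfl⟩)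
    · rw [Ideal.span_le]
      rintro _ ⟨j, rfl⟩
      have h1 : map (algebraMap R Rₛ) (F j) ∈ Ideal.span
          (Set.range (algebraMap (MvPolynomial ι R) (MvPolynomial ι Rₛ) ∘ F)) :=
        Ideal.subset_span ⟨j, rfl⟩
      rw [hFmap] at h1
      obtain ⟨v, hv⟩ := (hunit _ (hst j)).exists_left_inv
      have h2 := Ideal.mul_mem_left _ v h1
      rwa [← mul_assoc, hv, one_mul] at h2
  -- (K)
  have hK : ∀ G : MvPolynomial ι R, aeval P.val (map (algebraMap R Rₛ) G) = 0 →
      ∃ s ∈ S, C s * G ∈ Ideal.span (Set.range F) := by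
    intro G hG
    have h1 : map (algebraMap R Rₛ) G ∈ Ideal.span (Set.range P.relation) := by
      rw [P.span_range_relation_eq_ker, P.ker_eq_ker_aeval_val, RingHom.mem_ker]
      exact hG
    rw [← hIF, ← hmapdef,
      IsLocalization.mem_map_algebraMap_iff (S.map (C : R →+* MvPolynomial ι R))] at h1
    obtain ⟨⟨⟨G', hG'⟩, ⟨m, hm⟩⟩, h2⟩ := h1
    obtain ⟨s, hs, rfl⟩ := hm
    simp only at h2
    rw [← map_mul, IsLocalization.eq_iff_exists (S.map (C : R →+* MvPolynomial ι R))] at h2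
    obtain ⟨⟨c, hc⟩, h3⟩ := h2
    obtain ⟨s₂, hs₂, rfl⟩ := hc
    simp only at h3
    refine ⟨s₂ * s, S.mul_mem hs₂ hs, ?_⟩
    have h4 : C (s₂ * s) * G = C s₂ * (G * C s) := by
      rw [C_mul]
      ring
    rw [h4, h3]
    exact Ideal.mul_mem_left _ _ hG'
  refine ⟨F, hFlam, hK, ?_⟩
  -- (U)
  have hdet : map (algebraMap R Rₛ) (Matrix.det (Matrix.of fun j k : σ => pderiv (P.map k) (F j))) =
      (∏ j : σ, C (algebraMap R Rₛ (s' j * t₀ j))) * P.jacobiMatrix.det := by
    rw [RingHom.map_det, ← Matrix.det_transpose P.jacobiMatrix, ← Matrix.det_mul_column]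
    congr 1
    refine Matrix.ext fun j k => ?_
    simp only [RingHom.mapMatrix_apply, Matrix.map_apply, Matrix.of_apply, Matrix.transpose_apply]
    rw [← pderiv_map, hFmap, pderiv_C_mul, PreSubmersivePresentation.jacobiMatrix_apply]
  -- the jacobian is a unit
  have hjac : IsUnit (aeval P.val P.jacobiMatrix.det) := by
    have := P.jacobian_isUnit
    rwa [PreSubmersivePresentation.jacobian_eq_jacobiMatrix_det, Generators.algebraMap_apply] at this
  have hprod : IsUnit (aeval P.val (∏ j : σ, C (algebraMap R Rₛ (s' j * t₀ j)) :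
      MvPolynomial ι Rₛ)) := by
    rw [map_prod]
    refine (Finset.prod_induction _ IsUnit (fun _ _ => IsUnit.mul) isUnit_one ?_)
    intro j _
    exact (hunit _ (hst j)).map (aeval P.val)
  have hU : IsUnit (aeval P.val (map (algebraMap R Rₛ)
      (Matrix.det (Matrix.of fun j k : σ => pderiv (P.map k) (F j))))) := by
    rw [hdet, map_mul]
    exact hprod.mul hjac
  obtain ⟨w, hw⟩ := hU.exists_left_inv
  obtain ⟨q, tq, htq, hq⟩ := hclear (P.σ w)
  have h5 : aeval P.val (map (algebraMap R Rₛ)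
      (C tq - q * Matrix.det (Matrix.of fun j k : σ => pderiv (P.map k) (F j)))) = 0 := by
    rw [map_sub, map_mul, map_sub, map_mul, hq, map_mul, P.aeval_val_σ, mul_assoc, hw, mul_one,
      map_C, sub_self]
  obtain ⟨s, hs, hsG⟩ := hK _ h5
  refine ⟨C s * q, s * tq, S.mul_mem hs htq, ?_⟩
  have h6 : C (s * tq) - C s * q * Matrix.det (Matrix.of fun j k : σ => pderiv (P.map k) (F j)) =
      C s * (C tq - q * Matrix.det (Matrix.of fun j k : σ => pderiv (P.map k) (F j))) := by
    rw [C_mul]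
    ring
  rw [h6]
  exact hsG

end Core

end Groth.Agent.Helper2.Elem
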