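import Mathlib
import Groth.Agent.Lib.Helper2.LanProd
import Groth.Agent.Lib.Helper2.EpsU1
import Groth.Agent.Lib.Helper2.EpsU2

/-!
# Wrapper, part 2
-/

namespace Groth.Agent.Helper2.EpsU

universe w v₁ v₂ u₁ u₂ u₃

open CategoryTheory CategoryTheory.Limits Opposite Groth.Agent.Helper2.LanProd

section Wrapper2

variable {C : Type u₁} [Category.{v₁} C] {D : Type u₂} [Category.{v₂} D]
variable (u : D ⥤ C) (J : GrothendieckTopology D) (K : GrothendieckTopology C)
variable (A : Type u₃) [Category.{w} A] {FA : A → A → Type*} {CA : A → Type w}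
  [∀ X Y, FunLike (FA X Y) (CA X) (CA Y)] [ConcreteCategory.{w} A FA]
variable [u.IsContinuous J K] [HasWeakSheafify K A]
  [∀ (F : Dᵒᵖ ⥤ A), u.op.HasLeftKanExtension F]
  [RepresentablyFlat u]
  [K.WEqualsLocallyBijective A]
  [(forget A).ReflectsIsomorphisms] [J.HasSheafCompose (forget A)] [K.HasSheafCompose (forget A)]

set_option backward.isDefEq.respectTransparency.types false in
theorem isIso_unit_app (F : Sheaf J A)
    [u.op.HasPointwiseLeftKanExtension F.obj]
    [∀ Z : Cᵒᵖ, PreservesColimit (CostructuredArrow.proj u.op Z ⋙ F.obj) (forget A)]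
    (B : D → Prop)
    (hB : ∀ U : D, ∃ R : Presieve U, Sieve.generate R ∈ J U ∧ ∀ ⦃V : D⦄ (f : V ⟶ U), R f → B V)
    (H : ∀ (E : Functor.LeftExtension u.op (F.obj ⋙ forget A)) (_ : E.IsPointwiseLeftKanExtension)
        (Q : Cᵒᵖ ⥤ Type w) (_ : Presieve.IsSheaf K Q) (φ : E.right ⟶ Q)
        [Presheaf.IsLocallyInjective K φ] [Presheaf.IsLocallySurjective K φ],
        (∀ U : D, Function.Injective
          (fun s : (F.obj ⋙ forget A).obj (op U) => φ.app _ (cls u E (𝟙 (u.obj U)) s))) ∧
        (∀ U : D, B U → Function.Surjective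
          (fun s : (F.obj ⋙ forget A).obj (op U) => φ.app _ (cls u E (𝟙 (u.obj U)) s)))) :
    IsIso ((u.sheafAdjunctionContinuous A J K).unit.app F) := by
  apply isIso_unit_of_construction
  rw [← Sheaf.isLocallyBijective_iff_isIso (A := A)]
  let E₀ : Functor.LeftExtension u.op F.obj :=
    Functor.LeftExtension.mk _ (u.op.lanUnit.app F.obj)
  have hE₀ : E₀.IsPointwiseLeftKanExtension :=
    Functor.isPointwiseLeftKanExtensionOfIsLeftKanExtension _ _
  let E := (Functor.LeftExtension.postcompose₂ u.op F.obj (forget A)).obj E₀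
  have hE : E.IsPointwiseLeftKanExtension := hE₀.postcompose (forget A)
  let a := (presheafToSheaf K A).obj (u.op.lan.obj F.obj)
  let Q : Cᵒᵖ ⥤ Type w := a.obj ⋙ forget A
  have hQ : Presieve.IsSheaf K Q :=
    (isSheaf_iff_isSheaf_of_type _ _).1 ((sheafCompose K (forget A)).obj a).2
  let φ : E.right ⟶ Q := Functor.whiskerRight (toSheafify K (u.op.lan.obj F.obj)) (forget A)
  haveI : Presheaf.IsLocallyInjective K φ :=
    inferInstanceAs (Presheaf.IsLocallyInjective K
      (Functor.whiskerRight (toSheafify K (u.op.lan.obj F.obj)) (forget A)))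
  haveI : Presheaf.IsLocallySurjective K φ :=
    inferInstanceAs (Presheaf.IsLocallySurjective K
      (Functor.whiskerRight (toSheafify K (u.op.lan.obj F.obj)) (forget A)))
  obtain ⟨hinj, hsurj⟩ := H E hE Q hQ φ
  have key : ∀ (U : D) (s : ToType (F.obj.obj (op U))),
      (toSheafify K (u.op.lan.obj F.obj)).app (op (u.obj U))
        ((u.op.lanUnit.app F.obj).app (op U) s) = φ.app _ (cls u E (𝟙 _) s) := by
    intro U s
    have h1 : cls u E (𝟙 (u.obj U)) s = E.hom.app (op U) s := by
      unfold cls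
      rw [op_id, E.right.map_id]
      rfl
    rw [h1]
    rfl
  let η : F.obj ⟶ u.op ⋙ a.obj :=
    u.op.lanUnit.app F.obj ≫ Functor.whiskerLeft u.op (toSheafify K (u.op.lan.obj F.obj))
  have hη : ((Functor.sheafPullbackConstruction.sheafAdjunctionContinuous u A J K).unit.app F).hom
      = η := unit_hom u J K A F
  have key' : ∀ (U : D) (s : ToType (F.obj.obj (op U))),
      η.app (op U) s = φ.app _ (cls u E (𝟙 _) s) := by
    intro U s
    rw [← key]
    have h2 : η.app (op U) = (u.op.lanUnit.app F.obj).app (op U) ≫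
        (toSheafify K (u.op.lan.obj F.obj)).app (op (u.obj U)) := rfl
    rw [h2, ConcreteCategory.comp_apply]
  change Presheaf.IsLocallyInjective J
      ((Functor.sheafPullbackConstruction.sheafAdjunctionContinuous u A J K).unit.app F).hom ∧
    Presheaf.IsLocallySurjective J
      ((Functor.sheafPullbackConstruction.sheafAdjunctionContinuous u A J K).unit.app F).hom
  rw [hη]
  constructor
  · apply Presheaf.isLocallyInjective_of_injective
    rintro ⟨U⟩
    intro s s' h
    apply hinj U
    change φ.app _ (cls u E (𝟙 _) s) = φ.app _ (cls u E (𝟙 _) s')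
    rw [← key', ← key']
    exact h
  · constructor
    intro U t
    obtain ⟨R, hR, hRB⟩ := hB U
    refine J.superset_covering ?_ hR
    rw [Sieve.generate_le_iff]
    intro V f hf
    obtain ⟨s, hs⟩ := hsurj V (hRB f hf) (a.obj.map (u.map f).op t)
    exact ⟨s, (key' V s).trans hs⟩

end Wrapper2

end Groth.Agent.Helper2.EpsU
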