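import Mathlib

/-!
# Disjoint open decompositions are coproducts in the small pro-étale site; sheafification on
objects all of whose coverings are refined by "product-like" families.
-/

namespace Groth.Agent.Helper2.WCov

universe w v u

open CategoryTheory CategoryTheory.Limits AlgebraicGeometry Opposite

/-- Gluing morphisms over a pairwise disjoint open cover (uniqueness and existence). -/
theorem existsUnique_glue_of_disjoint_cover {T Y : Scheme.{u}} {ι : Type*}
    (W : ι → T.Opens)
    (hd : Pairwise (fun k l => Disjoint (W k : Set ↥T) (W l)))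
    (hc : (⋃ k, (W k : Set ↥T)) = Set.univ)
    (a : ∀ k, (W k : Scheme.{u}) ⟶ Y) :
    ∃! σ : T ⟶ Y, ∀ k, (W k).ι ≫ σ = a k := by
  have hU : TopologicalSpace.IsOpenCover W := by
    apply TopologicalSpace.IsOpenCover.mk
    apply TopologicalSpace.Opens.ext
    simpa using hc
  let 𝒰 := T.openCoverOfIsOpenCover W hU
  have hf : ∀ x y : ι, pullback.fst (𝒰.f x) (𝒰.f y) ≫ a x = pullback.snd _ _ ≫ a y := by
    intro x y
    by_cases hxy : x = y
    · subst hxy
      have : pullback.fst (𝒰.f x) (𝒰.f x) = pullback.snd _ _ := by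
        rw [← cancel_mono (𝒰.f x)]
        exact pullback.condition
      exact congrArg (fun z => z ≫ a x) this
    · haveI : IsEmpty ↥(pullback (𝒰.f x) (𝒰.f y)) := by
        refine ⟨fun z => ?_⟩
        have h1 : (pullback.fst (𝒰.f x) (𝒰.f y) ≫ 𝒰.f x) z ∈ (W x : Set ↥T) := by
          rw [Scheme.Hom.comp_apply]
          exact (pullback.fst (𝒰.f x) (𝒰.f y) z).2
        have h2 : (pullback.fst (𝒰.f x) (𝒰.f y) ≫ 𝒰.f x) z ∈ (W y : Set ↥T) := by
          rw [pullback.condition, Scheme.Hom.comp_apply]
          exact (pullback.snd (𝒰.f x) (𝒰.f y) z).2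
        exact Set.disjoint_left.mp (hd hxy) h1 h2
      exact (isInitialOfIsEmpty (X := pullback (𝒰.f x) (𝒰.f y))).hom_ext _ _
  refine ⟨𝒰.glueMorphisms a hf, fun k => Scheme.Cover.ι_glueMorphisms 𝒰 a hf k, ?_⟩
  intro σ hσ
  refine Scheme.Cover.hom_ext 𝒰 _ _ (fun k => ?_)
  rw [Scheme.Cover.ι_glueMorphisms]
  exact hσ k

set_option backward.isDefEq.respectTransparency.types false in
/-- A pairwise disjoint open cover of the underlying scheme of an object `U` of the small
pro-étale site exhibits `U` as a coproduct. -/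
noncomputable def isColimitCofanOfDisjointCover {X : Scheme.{u}} (U : X.ProEt) {ι : Type*}
    (W : ι → U.left.Opens)
    (hd : Pairwise (fun k l => Disjoint (W k : Set ↥U.left) (W l)))
    (hc : (⋃ k, (W k : Set ↥U.left)) = Set.univ) :
    IsColimit (Cofan.mk U (fun k => (MorphismProperty.Over.homMk (W k).ι :
          Scheme.ProEt.mk ((W k).ι ≫ U.hom) ⟶ U))) := by
  have key : ∀ t : Cofan (fun k => Scheme.ProEt.mk ((W k).ι ≫ U.hom)),
      ∃! σ : U.left ⟶ t.pt.left, ∀ k, (W k).ι ≫ σ = (t.inj k).left := fun t =>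
    existsUnique_glue_of_disjoint_cover W hd hc (fun k => (t.inj k).left)
  have hw : ∀ t : Cofan (fun k => Scheme.ProEt.mk ((W k).ι ≫ U.hom)),
      (key t).choose ≫ t.pt.hom = U.hom := by
    intro t
    obtain ⟨σ0, -, huniq⟩ :=
      existsUnique_glue_of_disjoint_cover W hd hc (fun k => (W k).ι ≫ U.hom)
    have h1 := huniq ((key t).choose ≫ t.pt.hom) (fun k => by
      rw [← Category.assoc, (key t).choose_spec.1 k]
      exact MorphismProperty.Over.w (t.inj k))
    have h2 := huniq U.hom (fun k => rfl)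
    exact h1.trans h2.symm
  refine Cofan.IsColimit.mk _ (fun t => MorphismProperty.Over.homMk (key t).choose (hw t)) ?_ ?_
  · intro t k
    apply MorphismProperty.Over.Hom.ext
    exact (key t).choose_spec.1 k
  · intro t m hm
    apply MorphismProperty.Over.Hom.ext
    refine (key t).choose_spec.2 m.left (fun k => ?_)
    exact congrArg (fun z => z.left) (hm k)

/-- A presheaf of types preserving products of shape `I` turns a colimit cofan into a product. -/
theorem existsUnique_of_preservesProduct {C : Type u} [Category.{v} C] {I : Type*}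
    (F : Cᵒᵖ ⥤ Type w) [PreservesLimitsOfShape (Discrete I) F] {W : I → C} (c : Cofan W)
    (hc : IsColimit c) (x : ∀ k, F.obj (op (W k))) :
    ∃! t : F.obj (op c.pt), ∀ k, F.map (c.inj k).op t = x k := by
  have hl : IsLimit (F.mapCone c.op) := isLimitOfPreserves F (Cofan.IsColimit.op hc)
  have := (Types.isLimit_iff _).mp ⟨hl⟩ (fun j => x j.as) (by
    rintro ⟨j⟩ ⟨j'⟩ ⟨⟨h⟩⟩
    cases h
    simp)
  obtain ⟨t, ht, huniq⟩ := this
  refine ⟨t, fun k => ht ⟨k⟩, fun t' ht' => huniq t' ?_⟩
  rintro ⟨k⟩
  exact ht' k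

end Groth.Agent.Helper2.WCov
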