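import Mathlib
import Groth.Prelude.Def_ProEtS

/-!
# Sheaves turn disjoint covers into products; finite coproducts in the small pro-étale site
-/

namespace Groth.Agent.Helper2.WCov

universe w v u

open CategoryTheory CategoryTheory.Limits AlgebraicGeometry Opposite

/-- A sheaf of types turns a covering family of monomorphisms with "empty" pairwise overlaps
into a product. -/
theorem existsUnique_of_disjoint_cover {C : Type u} [Category.{v} C]
    (J : GrothendieckTopology C) {U : C} (F : Sheaf J (Type w))
    {I : Type*} (W : I → C) (c : ∀ k, W k ⟶ U)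
    (hcov : Sieve.generate (Presieve.ofArrows W c) ∈ J U)
    (hmono : ∀ k, Mono (c k))
    (hdisj : ∀ k l, k ≠ l → ∀ (Z : C) (gk : Z ⟶ W k) (gl : Z ⟶ W l),
      gk ≫ c k = gl ≫ c l → ⊥ ∈ J Z)
    (x : ∀ k, F.obj.obj (op (W k))) :
    ∃! t : F.obj.obj (op U), ∀ k, F.obj.map (c k).op t = x k := by
  have hF : Presieve.IsSheaf J F.obj := (isSheaf_iff_isSheaf_of_type _ _).1 F.2
  have hForF : (Presieve.ofArrows W c).IsSheafFor F.obj :=
    (Presieve.isSheafFor_iff_generate _).mpr (hF _ hcov)
  have hcompat : Presieve.Arrows.Compatible F.obj c x := by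
    intro k l Z gk gl h
    by_cases hkl : k = l
    · subst hkl
      haveI := hmono k
      have : gk = gl := (cancel_mono (c k)).mp h
      rw [this]
    · have hbot := hdisj k l hkl Z gk gl h
      exact (hF _ hbot).isSeparatedFor.ext (fun Y f hf => hf.elim)
  exact (Presieve.isSheafFor_arrows_iff _ _).mp hForF x hcompat

set_option backward.isDefEq.respectTransparency.types false in
/-- Finite coproducts in the small pro-étale site, in the weak form used for Kan extensions:
an object `P` with maps `j k : V k ⟶ P` such that every sheaf of types turns `P` into the product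
of the `V k`, and such that families of maps out of the `V k` extend to `P`. -/
theorem exists_weak_coproduct {Y : Scheme.{u}} {n : ℕ} (V : Fin n → Y.ProEt)
    (F : Sheaf (Scheme.ProEt.topology Y) (Type w)) :
    ∃ (P : Y.ProEt) (j : ∀ k, V k ⟶ P),
      (∀ x : ∀ k, F.obj.obj (op (V k)), ∃! t : F.obj.obj (op P), ∀ k, F.obj.map (j k).op t = x k) ∧
      (∀ (T : Y.ProEt) (h : ∀ k, V k ⟶ T), ∃ h' : P ⟶ T, ∀ k, j k ≫ h' = h k) := by
  let T : Fin n → Scheme.{u} := fun k => (V k).left
  let m : ∀ k, T k ⟶ Y := fun k => (V k).hom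
  haveI : ∀ k, WeaklyEtale (m k) := fun k => by dsimp only [m]; infer_instance
  haveI : WeaklyEtale (Sigma.desc m) := IsZariskiLocalAtSource.sigmaDesc (fun i => inferInstance)
  let P : Y.ProEt := Scheme.ProEt.mk (Sigma.desc m)
  let j : ∀ k, V k ⟶ P := fun k => MorphismProperty.Over.homMk (Sigma.ι T k) (by
    change Sigma.ι T k ≫ Sigma.desc m = (V k).hom
    rw [Sigma.ι_desc])
  refine ⟨P, j, ?_, ?_⟩
  · refine existsUnique_of_disjoint_cover (Scheme.ProEt.topology Y) F V j ?_ ?_ ?_
    · apply Precoverage.generate_mem_toGrothendieck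
      change (Presieve.ofArrows _ _).map (Scheme.ProEt.forget Y ⋙ Over.forget Y) ∈
        Scheme.proetalePrecoverage _
      rw [Presieve.map_ofArrows]
      exact Scheme.zariskiPrecoverage_le_propQCPrecoverage _ (sigmaOpenCover T).mem₀
    · intro k
      constructor
      intro Z g1 g2 h
      apply MorphismProperty.Over.Hom.ext
      have := congrArg (fun z => z.left) h
      exact (cancel_mono (Sigma.ι T k)).mp this
    · intro k l hkl Z gk gl h
      haveI : IsEmpty ↥Z.left := by
        refine ⟨fun z => ?_⟩
        have e := congrArg (fun z => z.left) h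
        have e' : gk.left ≫ Sigma.ι T k = gl.left ≫ Sigma.ι T l := e
        have h1 : (gk.left ≫ Sigma.ι T k) z ∈ ((Sigma.ι T k).opensRange : Set _) := by
          rw [Scheme.Hom.comp_apply]
          exact ⟨_, rfl⟩
        have h2' : (gk.left ≫ Sigma.ι T k) z ∈ ((Sigma.ι T l).opensRange : Set _) := by
          rw [e', Scheme.Hom.comp_apply]
          exact ⟨_, rfl⟩
        have h3 := disjoint_opensRange_sigmaι T k l hkl
        exact Set.disjoint_left.mp ((TopologicalSpace.Opens.coe_disjoint).mpr h3) h1 h2'
      exact Scheme.ProEt.bot_mem_topology Z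
  · intro T' h
    let gl : P.left ⟶ T'.left := Sigma.desc (fun k => (h k).left)
    have hgl : gl ≫ T'.hom = P.hom := by
      apply Sigma.hom_ext
      intro k
      change Sigma.ι T k ≫ (Sigma.desc (fun k => (h k).left) ≫ T'.hom) =
        Sigma.ι T k ≫ Sigma.desc m
      rw [← Category.assoc, Sigma.ι_desc, Sigma.ι_desc]
      exact MorphismProperty.Over.w (h k)
    refine ⟨MorphismProperty.Over.homMk gl hgl, fun k => ?_⟩
    apply MorphismProperty.Over.Hom.ext
    exact Sigma.ι_desc _ _

end Groth.Agent.Helper2.WCov
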