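import Mathlib

/-!
# Surjectivity on sections from disjoint refinements (general sites)
-/

namespace Groth.Agent.Helper2.WCov

universe w v u

open CategoryTheory CategoryTheory.Limits Opposite

/-- If a section `s` of `G` over `U` lifts along `φ` on each member of a covering family of
monomorphisms with "empty" pairwise overlaps, then `s` lifts. -/
theorem exists_preimage_of_disjoint_cover {C : Type u} [Category.{v} C]
    (J : GrothendieckTopology C) {U : C}
    {F G : Sheaf J (Type w)} (φ : F ⟶ G)
    {I : Type*} (W : I → C) (c : ∀ k, W k ⟶ U)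
    (hcov : Sieve.generate (Presieve.ofArrows W c) ∈ J U)
    (hmono : ∀ k, Mono (c k))
    (hdisj : ∀ k l, k ≠ l → ∀ (Z : C) (gk : Z ⟶ W k) (gl : Z ⟶ W l),
      gk ≫ c k = gl ≫ c l → ⊥ ∈ J Z)
    (s : G.obj.obj (op U)) (hs : ∀ k, (Presheaf.imageSieve φ.hom s).arrows (c k)) :
    ∃ t, φ.hom.app (op U) t = s := by
  have hF : Presieve.IsSheaf J F.obj := (isSheaf_iff_isSheaf_of_type _ _).1 F.2
  have hG : Presieve.IsSheaf J G.obj := (isSheaf_iff_isSheaf_of_type _ _).1 G.2
  have hForF : (Presieve.ofArrows W c).IsSheafFor F.obj :=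
    (Presieve.isSheafFor_iff_generate _).mpr (hF _ hcov)
  have hForG : (Presieve.ofArrows W c).IsSheafFor G.obj :=
    (Presieve.isSheafFor_iff_generate _).mpr (hG _ hcov)
  choose t ht using hs
  have hcompat : Presieve.Arrows.Compatible F.obj c t := by
    intro k l Z gk gl h
    by_cases hkl : k = l
    · subst hkl
      haveI := hmono k
      have : gk = gl := (cancel_mono (c k)).mp h
      rw [this]
    · have hbot := hdisj k l hkl Z gk gl h
      exact (hF _ hbot).isSeparatedFor.ext (fun Y f hf => hf.elim)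
  obtain ⟨t0, ht0, -⟩ := (Presieve.isSheafFor_arrows_iff _ _).mp hForF t hcompat
  refine ⟨t0, ?_⟩
  refine hForG.isSeparatedFor.ext ?_
  rintro _ _ ⟨k⟩
  have h1 := NatTrans.naturality_apply φ.hom (c k).op t0
  rw [← h1, ht0 k]
  exact ht k

end Groth.Agent.Helper2.WCov
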