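import Mathlib
import Groth.Prelude.Def_ProEtS
import Groth.Prelude.Def_PBC
import Groth.Agent.S0725
import Groth.Agent.S0757
import Groth.Agent.S0715
import Groth.Agent.S0729
import Groth.Agent.Lib.Helper2.LanProd
import Groth.Agent.Lib.Helper2.WCov4
import Groth.Agent.Lib.Helper2.WCov5

/-!
# Kan extension along `ε : X_et → X_proet`: sections over affine w-contractible objects
-/

namespace Groth.Agent.Helper2.EpsU

universe w v' u' u

open CategoryTheory CategoryTheory.Limits AlgebraicGeometry Opposite Groth.Agent.Helper2.LanProd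

/-- If every covering sieve of `U` contains a covering family along which `P` is "a product",
then any locally bijective map from `P` to a sheaf is bijective on `U`. -/
theorem bijective_of_refinement {C : Type u'} [Category.{v'} C]
    (K : GrothendieckTopology C) {P Q : Cᵒᵖ ⥤ Type w} (φ : P ⟶ Q)
    [Presheaf.IsLocallyInjective K φ] [Presheaf.IsLocallySurjective K φ]
    (hQ : Presieve.IsSheaf K Q) (U : C)
    (H : ∀ R ∈ K U, ∃ (I : Type) (W : I → C) (c : ∀ k, W k ⟶ U), (∀ k, R.arrows (c k)) ∧
      Sieve.generate (Presieve.ofArrows W c) ∈ K U ∧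
      (∀ x : ∀ k, P.obj (op (W k)), ∃! t : P.obj (op U), ∀ k, P.map (c k).op t = x k)) :
    Function.Bijective (φ.app (op U)) := by
  constructor
  · intro x y hxy
    have hR := Presheaf.equalizerSieve_mem K φ (X := op U) x y hxy
    obtain ⟨I, W, c, hc, -, hex⟩ := H _ hR
    obtain ⟨t, -, huniq⟩ := hex (fun k => P.map (c k).op y)
    rw [huniq x (fun k => hc k), huniq y (fun k => rfl)]
  · intro t
    have hR := Presheaf.imageSieve_mem K φ (U := op U) t
    obtain ⟨I, W, c, hc, hcov, hex⟩ := H _ hR
    choose s hs using hc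
    obtain ⟨s0, hs0, -⟩ := hex s
    refine ⟨s0, ?_⟩
    have hFor : (Presieve.ofArrows W c).IsSheafFor Q :=
      (Presieve.isSheafFor_iff_generate _).mpr (hQ _ hcov)
    refine hFor.isSeparatedFor.ext ?_
    rintro _ _ ⟨k⟩
    have h1 := NatTrans.naturality_apply φ (c k).op s0
    rw [← h1, hs0 k]
    exact hs k

set_option backward.isDefEq.respectTransparency.types false in
instance flat_eps (X : Scheme.{u}) : RepresentablyFlat (ProEtS.eps X) := by
  haveI : PreservesFiniteLimits (ProEtS.eps X) := Groth.Agent.S0729.preservesFiniteLimits_eps X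
  exact flat_of_preservesFiniteLimits _

set_option backward.isDefEq.respectTransparency.types false in
/-- Finite coproducts in the small étale site, in the weak form used for Kan extensions. -/
theorem exists_weak_coproduct_et {X : Scheme.{u}} {n : ℕ} (V : Fin n → X.Etale)
    (F : X.Etaleᵒᵖ ⥤ Type w) (hF : Presieve.IsSheaf X.smallEtaleTopology F) :
    ∃ (P : X.Etale) (j : ∀ k, V k ⟶ P),
      (∀ x : ∀ k, F.obj (op (V k)), ∃! t : F.obj (op P), ∀ k, F.map (j k).op t = x k) ∧
      (∀ (T : X.Etale) (h : ∀ k, V k ⟶ T), ∃ h' : P ⟶ T, ∀ k, j k ≫ h' = h k) := by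
  let T : Fin n → Scheme.{u} := fun k => (V k).left
  let m : ∀ k, T k ⟶ X := fun k => (V k).hom
  haveI : ∀ k, Etale (m k) := fun k => by dsimp only [m]; infer_instance
  haveI : Etale (Sigma.desc m) := IsZariskiLocalAtSource.sigmaDesc (fun i => inferInstance)
  let P : X.Etale := Scheme.Etale.mk (Sigma.desc m)
  let j : ∀ k, V k ⟶ P := fun k => MorphismProperty.Over.homMk (Sigma.ι T k) (by
    change Sigma.ι T k ≫ Sigma.desc m = (V k).hom
    rw [Sigma.ι_desc])
  refine ⟨P, j, ?_, ?_⟩
  · let F' : Sheaf X.smallEtaleTopology (Type w) := ⟨F, (isSheaf_iff_isSheaf_of_type _ _).2 hF⟩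
    refine Groth.Agent.Helper2.WCov.existsUnique_of_disjoint_cover X.smallEtaleTopology F' V j
      ?_ ?_ ?_
    · change Sieve.ofArrows V j ∈ _
      rw [Scheme.ofArrows_mem_smallEtaleTopology_iff]
      rw [Set.eq_univ_iff_forall]
      intro t
      obtain ⟨k, y, hy⟩ := (sigmaOpenCover T).exists_eq t
      exact Set.mem_iUnion.mpr ⟨k, ⟨y, hy⟩⟩
    · intro k
      constructor
      intro Z g1 g2 h
      apply MorphismProperty.Over.Hom.ext
      have := congrArg (fun z => z.left) h
      exact (cancel_mono (Sigma.ι T k)).mp this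
    · intro k l hkl Z gk gl h
      haveI : IsEmpty ↥Z.left := by
        refine ⟨fun z => ?_⟩
        have e := congrArg (fun z => z.left) h
        have e' : gk.left ≫ Sigma.ι T k = gl.left ≫ Sigma.ι T l := e
        have h1 : (gk.left ≫ Sigma.ι T k) z ∈ ((Sigma.ι T k).opensRange : Set _) := by
          rw [Scheme.Hom.comp_apply]
          exact ⟨_, rfl⟩
        have h2' : (gk.left ≫ Sigma.ι T k) z ∈ ((Sigma.ι T l).opensRange : Set _) := by
          rw [e', Scheme.Hom.comp_apply]
          exact ⟨_, rfl⟩
        have h3 := disjoint_opensRange_sigmaι T k l hkl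
        exact Set.disjoint_left.mp ((TopologicalSpace.Opens.coe_disjoint).mpr h3) h1 h2'
      have hbot : (⊥ : Sieve Z) = Sieve.ofArrows (fun i : PEmpty.{1} => Z) (fun i => i.elim) := by
        apply le_antisymm bot_le
        rintro Y f ⟨_, _, _, ⟨i⟩, _⟩
        exact i.elim
      rw [hbot, Scheme.ofArrows_mem_smallEtaleTopology_iff]
      rw [Set.eq_univ_iff_forall]
      intro z
      exact (IsEmpty.false z).elim
  · intro T' h
    let gl : P.left ⟶ T'.left := Sigma.desc (fun k => (h k).left)
    have hgl : gl ≫ T'.hom = P.hom := by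
      apply Sigma.hom_ext
      intro k
      change Sigma.ι T k ≫ (Sigma.desc (fun k => (h k).left) ≫ T'.hom) =
        Sigma.ι T k ≫ Sigma.desc m
      rw [← Category.assoc, Sigma.ι_desc, Sigma.ι_desc]
      exact MorphismProperty.Over.w (h k)
    refine ⟨MorphismProperty.Over.homMk gl hgl, fun k => ?_⟩
    apply MorphismProperty.Over.Hom.ext
    exact Sigma.ι_desc _ _

set_option backward.isDefEq.respectTransparency.types false in
/-- For a pointwise left Kan extension `P` of an étale sheaf along `ε`, any locally bijective map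
from `P` to a pro-étale sheaf is bijective on affine w-contractible objects. -/
theorem bijective_on_wc {X : Scheme.{u}} {F : X.Etaleᵒᵖ ⥤ Type w}
    (hF : Presieve.IsSheaf X.smallEtaleTopology F)
    {E : Functor.LeftExtension (ProEtS.eps X).op F} (hE : E.IsPointwiseLeftKanExtension)
    {Q : X.ProEtᵒᵖ ⥤ Type w} (hQ : Presieve.IsSheaf (Scheme.ProEt.topology X) Q)
    (φ : E.right ⟶ Q) [Presheaf.IsLocallyInjective (Scheme.ProEt.topology X) φ]
    [Presheaf.IsLocallySurjective (Scheme.ProEt.topology X) φ]
    (W : X.ProEt) [IsAffine W.left] (hW : EtPBC.IsWContractible ↥(Γ(W.left, ⊤))) :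
    Function.Bijective (φ.app (op W)) := by
  apply bijective_of_refinement (Scheme.ProEt.topology X) φ hQ
  intro R hR
  obtain ⟨n, W', -, h2, h3, h4⟩ := Groth.Agent.S0757.fwd W hW R hR
  refine ⟨Fin n, fun k => Scheme.ProEt.mk ((W' k).ι ≫ W.hom),
    fun k => MorphismProperty.Over.homMk (W' k).ι, h4, Groth.Agent.S0725.cover_mem' W W' h3, ?_⟩
  exact Groth.Agent.Helper2.LanProd.existsUnique_of_pointwise (ProEtS.eps X) hE
    (fun V => exists_weak_coproduct_et V F hF) _
    (Groth.Agent.Helper2.WCov.isColimitCofanOfDisjointCover W W' h2 h3)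

end Groth.Agent.Helper2.EpsU
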