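import Mathlib
import Groth.Prelude.Def_ProEtS
import Groth.Prelude.Def_PBC
import Groth.Agent.S0757
import Groth.Agent.Lib.Helper2.EpsU4

/-!
# Separatedness input for the Kan extension along `ε : X_et → X_proet`
-/

namespace Groth.Agent.Helper2.EpsU

universe w u

open CategoryTheory CategoryTheory.Limits AlgebraicGeometry Opposite

set_option backward.isDefEq.respectTransparency.types false in
/-- Covering sieves of the small pro-étale site are jointly surjective. -/
theorem jointly_surjective_of_mem {X : Scheme.{u}} (Z : X.ProEt) (R : Sieve Z)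
    (hR : R ∈ Scheme.ProEt.topology X Z) (z : Z.left) :
    ∃ (Z' : X.ProEt) (f : Z' ⟶ Z) (z' : Z'.left), R f ∧ f.left z' = z := by
  rw [Precoverage.mem_toGrothendieck_iff_of_isStableUnderComposition] at hR
  obtain ⟨S, hS, hle⟩ := hR
  obtain ⟨ι, V, p, rfl⟩ := S.exists_eq_ofArrows
  change (Presieve.ofArrows V p).map (Scheme.ProEt.forget X ⋙ Over.forget X) ∈
    Scheme.proetalePrecoverage _ at hS
  rw [Presieve.map_ofArrows] at hS
  have h2 := hS.2
  rw [Scheme.ofArrows_mem_precoverage_iff] at h2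
  obtain ⟨i, z', hz'⟩ := h2.1 z
  exact ⟨V i, p i, z', hle _ _ (Presieve.ofArrows.mk i), hz'⟩

set_option backward.isDefEq.respectTransparency.types false in
theorem sep_eps {X : Scheme.{u}} {F : X.Etaleᵒᵖ ⥤ Type w}
    (hF : Presieve.IsSheaf X.smallEtaleTopology F)
    (Z : X.ProEt) (W : X.Etale) (g : Z ⟶ (ProEtS.eps X).obj W) (s s' : F.obj (op W))
    (R : Sieve Z) (hR : R ∈ Scheme.ProEt.topology X Z)
    (H : ∀ ⦃Z' : X.ProEt⦄ (f : Z' ⟶ Z), R f → ∃ (W' : X.Etale) (h : W' ⟶ W)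
        (g' : Z' ⟶ (ProEtS.eps X).obj W'),
        g' ≫ (ProEtS.eps X).map h = f ≫ g ∧ F.map h.op s = F.map h.op s') :
    ∃ (W₀ : X.Etale) (h₀ : W₀ ⟶ W) (g₀ : Z ⟶ (ProEtS.eps X).obj W₀),
      g₀ ≫ (ProEtS.eps X).map h₀ = g ∧ F.map h₀.op s = F.map h₀.op s' := by
  -- index type: arrows of `R`
  let I := Σ (Z' : X.ProEt), {f : Z' ⟶ Z // R f}
  have HI : ∀ i : I, ∃ (W' : X.Etale) (h : W' ⟶ W) (g' : i.1 ⟶ (ProEtS.eps X).obj W'),
      g' ≫ (ProEtS.eps X).map h = i.2.1 ≫ g ∧ F.map h.op s = F.map h.op s' :=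
    fun i => H i.2.1 i.2.2
  choose W' h g' hg' hs using HI
  let O : W.left.Opens := ⟨⋃ i, Set.range (h i).left,
    isOpen_iUnion (fun i => (h i).left.isOpenMap.isOpen_range)⟩
  haveI : Etale (O.ι ≫ W.hom) := inferInstance
  let W₀ : X.Etale := Scheme.Etale.mk (O.ι ≫ W.hom)
  let h₀ : W₀ ⟶ W := MorphismProperty.Over.homMk O.ι rfl
  -- the maps `W' i ⟶ W₀`
  have hrange : ∀ i, Set.range (h i).left ⊆ Set.range O.ι := by
    intro i
    rw [Scheme.Opens.range_ι]
    exact Set.subset_iUnion (fun i => Set.range (h i).left) i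
  let kl : ∀ i, (W' i).left ⟶ (O : Scheme.{u}) := fun i => IsOpenImmersion.lift O.ι (h i).left (hrange i)
  have hkl : ∀ i, kl i ≫ O.ι = (h i).left := fun i => IsOpenImmersion.lift_fac _ _ _
  let k : ∀ i, W' i ⟶ W₀ := fun i => MorphismProperty.Over.homMk (kl i) (by
    change kl i ≫ O.ι ≫ W.hom = (W' i).hom
    rw [← Category.assoc, hkl i]
    exact MorphismProperty.Over.w (h i))
  have hk : ∀ i, k i ≫ h₀ = h i := by
    intro i
    apply MorphismProperty.Over.Hom.ext
    exact hkl i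
  -- `g` factors through `O`
  have hOr : Set.range O.ι = (O : Set W.left) := Scheme.Opens.range_ι O
  have hgrange : Set.range g.left ⊆ Set.range O.ι := by
    rintro _ ⟨z, rfl⟩
    obtain ⟨Z', f, z', hf, rfl⟩ := jointly_surjective_of_mem Z R hR z
    let i : I := ⟨Z', ⟨f, hf⟩⟩
    have e := congrArg (fun q => q.left) (hg' i)
    have e' : (g' i).left ≫ (h i).left = f.left ≫ g.left := e
    have e'' : ((g' i).left ≫ (h i).left) z' = (f.left ≫ g.left) z' := by
      rw [e']
      rfl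
    have hmem : (f.left ≫ g.left) z' ∈ (O : Set W.left) :=
      Set.mem_iUnion.mpr ⟨i, (g' i).left z', e''⟩
    exact (Set.ext_iff.mp hOr _).mpr hmem
  let g₀l : Z.left ⟶ (O : Scheme.{u}) := IsOpenImmersion.lift O.ι g.left hgrange
  have hg₀l : g₀l ≫ O.ι = g.left := IsOpenImmersion.lift_fac _ _ _
  let g₀ : Z ⟶ (ProEtS.eps X).obj W₀ := MorphismProperty.Over.homMk g₀l (by
    change g₀l ≫ O.ι ≫ W.hom = Z.hom
    rw [← Category.assoc, hg₀l]
    exact MorphismProperty.Over.w g)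
  refine ⟨W₀, h₀, g₀, ?_, ?_⟩
  · apply MorphismProperty.Over.Hom.ext
    exact hg₀l
  · have hcov : Sieve.ofArrows W' k ∈ X.smallEtaleTopology W₀ := by
      rw [Scheme.ofArrows_mem_smallEtaleTopology_iff, Set.eq_univ_iff_forall]
      intro x
      have hx : O.ι x ∈ (O : Set W.left) := x.2
      obtain ⟨i, y, hy⟩ := Set.mem_iUnion.mp hx
      refine Set.mem_iUnion.mpr ⟨i, y, ?_⟩
      apply O.ι.isOpenEmbedding.injective
      have e3 : (kl i ≫ O.ι) y = O.ι x := by
        rw [hkl i]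
        exact hy
      exact e3
    refine (hF _ hcov).isSeparatedFor.ext ?_
    rintro Y f ⟨Y', a, b, ⟨i⟩, rfl⟩
    have e1 : ∀ x : F.obj (op W), F.map (a ≫ k i).op (F.map h₀.op x) =
        F.map a.op (F.map (h i).op x) := by
      intro x
      rw [← hk i]
      simp only [op_comp, Functor.map_comp]
      rfl
    rw [e1, e1, hs i]

end Groth.Agent.Helper2.EpsU
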