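import Mathlib
import Groth.Agent.Lib.Helper2.LanProd

/-!
# (1) The self fibre product of a cofiltered limit of schemes over a base is the limit of the self
fibre products. (2) A two-object version of `LanProd.cls_eq_iff`.
-/

namespace Groth.Agent.Helper2.EpsU

universe w v₁ v₂ u₁ u₂ u

open CategoryTheory CategoryTheory.Limits AlgebraicGeometry Opposite

section Dbl

variable {I : Type u} [Category.{u} I] {S : Scheme.{u}} (D : I ⥤ Scheme.{u})
  (t : D ⟶ (Functor.const I).obj S)

/-- The diagram `i ↦ D i ×_S D i`. -/
noncomputable abbrev dbl : I ⥤ Scheme.{u} where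
  obj i := pullback (t.app i) (t.app i)
  map {i j} f := pullback.lift (pullback.fst _ _ ≫ D.map f) (pullback.snd _ _ ≫ D.map f) (by
    have := t.naturality f
    simp only [Functor.const_obj_obj, Functor.const_obj_map, Category.comp_id] at this
    rw [Category.assoc, Category.assoc, this, pullback.condition])
  map_id i := by
    apply pullback.hom_ext
    · rw [pullback.lift_fst, D.map_id, Category.comp_id, Category.id_comp]
    · rw [pullback.lift_snd, D.map_id, Category.comp_id, Category.id_comp]
  map_comp f g := by
    apply pullback.hom_ext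
    · rw [pullback.lift_fst, Category.assoc, pullback.lift_fst, pullback.lift_fst_assoc,
        D.map_comp, Category.assoc]
    · rw [pullback.lift_snd, Category.assoc, pullback.lift_snd, pullback.lift_snd_assoc,
        D.map_comp, Category.assoc]

variable (c : Cone D) (tc : c.pt ⟶ S) (htc : ∀ i, c.π.app i ≫ t.app i = tc)

/-- The cone `lim D ×_S lim D` over `dbl D t`. -/
noncomputable abbrev dblCone : Cone (dbl D t) where
  pt := pullback tc tc
  π :=
    { app i := pullback.lift (pullback.fst _ _ ≫ c.π.app i) (pullback.snd _ _ ≫ c.π.app i) (by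
        rw [Category.assoc, Category.assoc, htc i, pullback.condition])
      naturality i j f := by
        have hw := c.w f
        apply pullback.hom_ext
        · simp only [Functor.const_obj_obj, Functor.const_obj_map, Category.id_comp]
          change _ = _ ≫ pullback.lift _ _ _ ≫ _
          rw [pullback.lift_fst, pullback.lift_fst, pullback.lift_fst_assoc, Category.assoc, hw]
        · simp only [Functor.const_obj_obj, Functor.const_obj_map, Category.id_comp]
          change _ = _ ≫ pullback.lift _ _ _ ≫ _
          rw [pullback.lift_snd, pullback.lift_snd, pullback.lift_snd_assoc, Category.assoc, hw] }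

@[simp]
lemma dblCone_π_fst (i : I) :
    (dblCone D t c tc htc).π.app i ≫ pullback.fst (t.app i) (t.app i) =
      pullback.fst tc tc ≫ c.π.app i := by
  change pullback.lift _ _ _ ≫ _ = _
  rw [pullback.lift_fst]

@[simp]
lemma dblCone_π_snd (i : I) :
    (dblCone D t c tc htc).π.app i ≫ pullback.snd (t.app i) (t.app i) =
      pullback.snd tc tc ≫ c.π.app i := by
  change pullback.lift _ _ _ ≫ _ = _
  rw [pullback.lift_snd]

@[simp]
lemma dbl_map_fst {i j : I} (f : i ⟶ j) :
    (dbl D t).map f ≫ pullback.fst (t.app j) (t.app j) =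
      pullback.fst (t.app i) (t.app i) ≫ D.map f := by
  change pullback.lift _ _ _ ≫ _ = _
  rw [pullback.lift_fst]

@[simp]
lemma dbl_map_snd {i j : I} (f : i ⟶ j) :
    (dbl D t).map f ≫ pullback.snd (t.app j) (t.app j) =
      pullback.snd (t.app i) (t.app i) ≫ D.map f := by
  change pullback.lift _ _ _ ≫ _ = _
  rw [pullback.lift_snd]

variable [Nonempty I]

/-- `dblCone` is a limit cone. -/
noncomputable def isLimitDblCone (hc : IsLimit c) : IsLimit (dblCone D t c tc htc) := by
  let c1 : ∀ s : Cone (dbl D t), Cone D := fun s =>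
    { pt := s.pt
      π :=
        { app i := s.π.app i ≫ pullback.fst _ _
          naturality i j f := by
            have := s.w f
            simp only [Functor.const_obj_obj, Functor.const_obj_map, Category.id_comp]
            rw [← this, Category.assoc, dbl_map_fst, Category.assoc] } }
  let c2 : ∀ s : Cone (dbl D t), Cone D := fun s =>
    { pt := s.pt
      π :=
        { app i := s.π.app i ≫ pullback.snd _ _
          naturality i j f := by
            have := s.w f
            simp only [Functor.const_obj_obj, Functor.const_obj_map, Category.id_comp]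
            rw [← this, Category.assoc, dbl_map_snd, Category.assoc] } }
  have hcond : ∀ s : Cone (dbl D t), hc.lift (c1 s) ≫ tc = hc.lift (c2 s) ≫ tc := by
    intro s
    obtain ⟨i⟩ := ‹Nonempty I›
    rw [← htc i, ← Category.assoc, ← Category.assoc, hc.fac, hc.fac]
    simp only [c1, c2, Category.assoc]
    rw [pullback.condition]
  refine
    { lift := fun s => pullback.lift (hc.lift (c1 s)) (hc.lift (c2 s)) (hcond s)
      fac := ?_
      uniq := ?_ }
  · intro s i
    apply pullback.hom_ext
    · rw [Category.assoc, dblCone_π_fst, pullback.lift_fst_assoc, hc.fac]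
    · rw [Category.assoc, dblCone_π_snd, pullback.lift_snd_assoc, hc.fac]
  · intro s m hm
    apply pullback.hom_ext
    · rw [pullback.lift_fst]
      apply hc.hom_ext
      intro i
      rw [hc.fac, Category.assoc, ← dblCone_π_fst D t c tc htc, ← Category.assoc, hm i]
    · rw [pullback.lift_snd]
      apply hc.hom_ext
      intro i
      rw [hc.fac, Category.assoc, ← dblCone_π_snd D t c tc htc, ← Category.assoc, hm i]

end Dbl

section Cls

open Groth.Agent.Helper2.LanProd

variable {C : Type u₁} [Category.{v₁} C] {D : Type u₂} [Category.{v₂} D]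
variable (u : D ⥤ C) {F : Dᵒᵖ ⥤ Type w} {E : Functor.LeftExtension u.op F}

theorem cls_eq_iff₂ [RepresentablyFlat u] (hE : E.IsPointwiseLeftKanExtension) {P : C} {V₁ V₂ : D}
    (g₁ : P ⟶ u.obj V₁) (g₂ : P ⟶ u.obj V₂) (s₁ : F.obj (op V₁)) (s₂ : F.obj (op V₂))
    (h : cls u E g₁ s₁ = cls u E g₂ s₂) :
    ∃ (V' : D) (h₁ : V' ⟶ V₁) (h₂ : V' ⟶ V₂) (g' : P ⟶ u.obj V'), g' ≫ u.map h₁ = g₁ ∧
      g' ≫ u.map h₂ = g₂ ∧ F.map h₁.op s₁ = F.map h₂.op s₂ := by
  let a₁ : CostructuredArrow u.op (op P) := CostructuredArrow.mk (Y := op V₁) g₁.op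
  let a₂ : CostructuredArrow u.op (op P) := CostructuredArrow.mk (Y := op V₂) g₂.op
  have h' : (E.coconeAt (op P)).ι.app a₁ s₁ = (E.coconeAt (op P)).ι.app a₂ s₂ := h
  rw [Types.FilteredColimit.isColimit_eq_iff _ (hE (op P))] at h'
  obtain ⟨b, f₁, f₂, hf⟩ := h'
  refine ⟨b.left.unop, f₁.left.unop, f₂.left.unop, b.hom.unop, ?_, ?_, hf⟩
  · have := CostructuredArrow.w f₁
    exact congrArg Quiver.Hom.unop this
  · have := CostructuredArrow.w f₂
    exact congrArg Quiver.Hom.unop this

end Cls

end Groth.Agent.Helper2.EpsU
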