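import Mathlib
import Groth.Agent.Lib.Helper2.EpsU6

/-!
# Scheme-level limit argument for descent along a pro-étale tower
-/

namespace Groth.Agent.Helper2.EpsU

universe u

open CategoryTheory CategoryTheory.Limits AlgebraicGeometry Opposite

set_option backward.isDefEq.respectTransparency.types false in
theorem scheme_level {S : Scheme.{u}} [IsAffine S] {I : Type u} [Category.{u} I] [IsCofiltered I]
    (D : I ⥤ Scheme.{u}) (t : D ⟶ (Functor.const I).obj S) [∀ i, IsAffine (D.obj i)]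
    [∀ i, Etale (t.app i)]
    (c : Cone D) (tc : c.pt ⟶ S) (htc : ∀ i, c.π.app i ≫ t.app i = tc) (hc : IsLimit c)
    (i : I) {W₄ : Scheme.{u}} (k₁ k₂ : W₄ ⟶ D.obj i) [Etale k₁]
    (hcond : k₁ ≫ t.app i = k₂ ≫ t.app i)
    (g₄ : pullback tc tc ⟶ W₄) (h₁ : g₄ ≫ k₁ = pullback.fst tc tc ≫ c.π.app i)
    (h₂ : g₄ ≫ k₂ = pullback.snd tc tc ≫ c.π.app i) :
    ∃ (k : I) (f : k ⟶ i), ∀ {Z : Scheme.{u}} (g₁ g₂ : Z ⟶ D.obj k),
      g₁ ≫ t.app k = g₂ ≫ t.app k →
      ∃ (Z' : Scheme.{u}) (z : Z' ⟶ Z) (w : Z' ⟶ W₄), Etale z ∧ (∀ x : Z, ∃ y : Z', z y = x) ∧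
        w ≫ k₁ = z ≫ g₁ ≫ D.map f ∧ w ≫ k₂ = z ≫ g₂ ≫ D.map f := by
  let q : W₄ ⟶ pullback (t.app i) (t.app i) := pullback.lift k₁ k₂ hcond
  have hq₁ : q ≫ pullback.fst (t.app i) (t.app i) = k₁ := pullback.lift_fst _ _ _
  have hq₂ : q ≫ pullback.snd (t.app i) (t.app i) = k₂ := pullback.lift_snd _ _ _
  haveI : Etale (q ≫ pullback.fst (t.app i) (t.app i)) := by rw [hq₁]; infer_instance
  haveI : Etale q := Etale.of_comp q (pullback.fst (t.app i) (t.app i))
  let O : (pullback (t.app i) (t.app i)).Opens := ⟨Set.range q, q.isOpenMap.isOpen_range⟩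
  have hfac : (dblCone D t c tc htc).π.app i = g₄ ≫ q := by
    apply pullback.hom_ext
    · rw [dblCone_π_fst, Category.assoc, hq₁, h₁]
    · rw [dblCone_π_snd, Category.assoc, hq₂, h₂]
  have hO : (dblCone D t c tc htc).π.app i ⁻¹ᵁ O = ⊤ := by
    ext x
    simp only [TopologicalSpace.Opens.coe_top, Set.mem_univ, iff_true]
    change (dblCone D t c tc htc).π.app i x ∈ Set.range q
    rw [hfac]
    exact ⟨g₄ x, rfl⟩
  haveI : Nonempty I := IsCofiltered.nonempty
  haveI haff : ∀ j, IsAffine ((dbl D t).obj j) := fun j => by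
    change IsAffine (pullback (t.app j) (t.app j))
    haveI : IsAffine (((Functor.const I).obj S).obj j) := ‹IsAffine S›
    infer_instance
  haveI : ∀ {a b : I} (f : a ⟶ b), IsAffineHom ((dbl D t).map f) := fun f => inferInstance
  haveI : ∀ j, CompactSpace ((dbl D t).obj j) := fun j => inferInstance
  obtain ⟨k, f, hk⟩ := exists_map_eq_top (dbl D t) (dblCone D t c tc htc)
    (isLimitDblCone D t c tc htc hc) O hO
  refine ⟨k, f, ?_⟩
  intro Z g₁ g₂ h12
  let r : Z ⟶ pullback (t.app k) (t.app k) := pullback.lift g₁ g₂ h12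
  let r' : Z ⟶ pullback (t.app i) (t.app i) := r ≫ (dbl D t).map f
  have hr₁ : r' ≫ pullback.fst (t.app i) (t.app i) = g₁ ≫ D.map f := by
    change (r ≫ (dbl D t).map f) ≫ _ = _
    rw [Category.assoc, dbl_map_fst, pullback.lift_fst_assoc]
  have hr₂ : r' ≫ pullback.snd (t.app i) (t.app i) = g₂ ≫ D.map f := by
    change (r ≫ (dbl D t).map f) ≫ _ = _
    rw [Category.assoc, dbl_map_snd, pullback.lift_snd_assoc]
  refine ⟨pullback r' q, pullback.fst r' q, pullback.snd r' q, inferInstance, ?_, ?_, ?_⟩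
  · intro x
    have hx : (dbl D t).map f (r x) ∈ (O : Set _) := by
      have : r x ∈ (((dbl D t).map f ⁻¹ᵁ O : TopologicalSpace.Opens _) : Set _) := by
        rw [hk]; trivial
      exact this
    obtain ⟨y, hy⟩ := hx
    obtain ⟨z', hz', -⟩ := Scheme.Pullback.exists_preimage_pullback (f := r') (g := q) x y (by
      rw [hy]; rfl)
    exact ⟨z', hz'⟩
  · rw [← hq₁, ← Category.assoc, ← pullback.condition, Category.assoc, hr₁]
  · rw [← hq₂, ← Category.assoc, ← pullback.condition, Category.assoc, hr₂]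

end Groth.Agent.Helper2.EpsU
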