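import Mathlib
import Groth.Prelude.Def_ProEtS
import Groth.Prelude.Def_PBC
import Groth.Agent.Lib.Helper2.LanProd
import Groth.Agent.Lib.Helper2.EpsU4
import Groth.Agent.Lib.Helper2.EpsU6
import Groth.Agent.Lib.Helper2.EpsU6b

/-!
# Descent for the Kan extension presheaf along a pro-étale tower `V = lim W_i → U`
-/

namespace Groth.Agent.Helper2.EpsU

universe w u

open CategoryTheory CategoryTheory.Limits AlgebraicGeometry Opposite Groth.Agent.Helper2.LanProd

section EtSheaf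

set_option backward.isDefEq.respectTransparency.types false in
theorem singleton_mem_of_surjective {X : Scheme.{u}} {W U : X.Etale} (p : W ⟶ U)
    (hp : ∀ x : U.left, ∃ y : W.left, p.left y = x) :
    Sieve.generate (Presieve.singleton p) ∈ X.smallEtaleTopology U := by
  have h : Sieve.ofArrows (fun _ : PUnit.{1} => W) (fun _ => p) ∈ X.smallEtaleTopology U := by
    rw [Scheme.ofArrows_mem_smallEtaleTopology_iff, Set.eq_univ_iff_forall]
    intro x
    obtain ⟨y, hy⟩ := hp x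
    exact Set.mem_iUnion.mpr ⟨PUnit.unit, y, hy⟩
  have e : Sieve.ofArrows (fun _ : PUnit.{1} => W) (fun _ => p) =
      Sieve.generate (Presieve.singleton p) := by
    unfold Sieve.ofArrows
    rw [Presieve.ofArrows_pUnit]
  rwa [e] at h

theorem inj_of_surjective {X : Scheme.{u}} {F : X.Etaleᵒᵖ ⥤ Type w}
    (hF : Presieve.IsSheaf X.smallEtaleTopology F) {W U : X.Etale} (p : W ⟶ U)
    (hp : ∀ x : U.left, ∃ y : W.left, p.left y = x) :
    Function.Injective (F.map p.op) := by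
  have h1 : Presieve.IsSheafFor F (Presieve.singleton p) :=
    (Presieve.isSheafFor_iff_generate _).mpr (hF _ (singleton_mem_of_surjective p hp))
  exact Presieve.isSeparatedFor_singleton.mp h1.isSeparatedFor

theorem descend_of_surjective {X : Scheme.{u}} {F : X.Etaleᵒᵖ ⥤ Type w}
    (hF : Presieve.IsSheaf X.smallEtaleTopology F) {W U : X.Etale} (p : W ⟶ U)
    (hp : ∀ x : U.left, ∃ y : W.left, p.left y = x) (s : F.obj (op W))
    (hs : ∀ (Z : X.Etale) (g₁ g₂ : Z ⟶ W), g₁ ≫ p = g₂ ≫ p → F.map g₁.op s = F.map g₂.op s) :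
    ∃ sU : F.obj (op U), F.map p.op sU = s := by
  have h1 : Presieve.IsSheafFor F (Presieve.singleton p) :=
    (Presieve.isSheafFor_iff_generate _).mpr (hF _ (singleton_mem_of_surjective p hp))
  obtain ⟨y, hy, -⟩ := Presieve.isSheafFor_singleton.mp h1 s (fun {Z} p₁ p₂ h => hs Z p₁ p₂ h)
  exact ⟨y, hy⟩

end EtSheaf

section Descent

variable {X : Scheme.{u}} (U : X.Etale)
  {I : Type u} [Category.{u} I] {D : I ⥤ Scheme.{u}}
  (tt : ∀ i, D.obj i ⟶ U.left) (htt : ∀ {i j : I} (f : i ⟶ j), D.map f ≫ tt j = tt i)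
  {c : Cone D} (tc : c.pt ⟶ U.left) (htc : ∀ i, c.π.app i ≫ tt i = tc)
  [∀ i, Etale (tt i)] [WeaklyEtale tc]

/-- The structure maps as a natural transformation. -/
noncomputable abbrev tN : D ⟶ (Functor.const I).obj U.left where
  app := tt
  naturality i j f := by
    simp only [Functor.const_obj_obj, Functor.const_obj_map, Category.comp_id]
    exact htt f

/-- The étale `X`-scheme `W_i`. -/
noncomputable abbrev Wj (i : I) : X.Etale := Scheme.Etale.mk (tt i ≫ U.hom)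

/-- `W_i → U`. -/
noncomputable abbrev pj (i : I) : Wj U tt i ⟶ U := MorphismProperty.Over.homMk (tt i) rfl

include htt in
theorem mj_aux {i j : I} (f : i ⟶ j) : D.map f ≫ (Wj U tt j).hom = (Wj U tt i).hom := by
  change D.map f ≫ tt j ≫ U.hom = tt i ≫ U.hom
  rw [← Category.assoc, htt f]

/-- Transition maps. -/
noncomputable abbrev mj {i j : I} (f : i ⟶ j) : Wj U tt i ⟶ Wj U tt j :=
  MorphismProperty.Over.homMk (D.map f) (mj_aux U tt htt f)

/-- The pro-étale `X`-scheme `V`. -/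
noncomputable abbrev Vp : X.ProEt := Scheme.ProEt.mk (tc ≫ U.hom)

/-- `V → εU`. -/
noncomputable abbrev cV : Vp U tc ⟶ (ProEtS.eps X).obj U := MorphismProperty.Over.homMk tc rfl

include htc in
theorem gj_aux (i : I) : c.π.app i ≫ ((ProEtS.eps X).obj (Wj U tt i)).hom = (Vp U tc).hom := by
  change c.π.app i ≫ tt i ≫ U.hom = tc ≫ U.hom
  rw [← Category.assoc, htc i]

/-- `V → εW_i`. -/
noncomputable abbrev gj (i : I) : Vp U tc ⟶ (ProEtS.eps X).obj (Wj U tt i) :=
  MorphismProperty.Over.homMk (c.π.app i) (gj_aux U tt tc htc i)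

theorem gj_comp_pj (i : I) :
    gj U tt tc htc i ≫ (ProEtS.eps X).map (pj U tt i) = cV U tc := by
  apply MorphismProperty.Over.Hom.ext
  exact htc i

theorem gj_comp_mj {i j : I} (f : i ⟶ j) :
    gj U tt tc htc i ≫ (ProEtS.eps X).map (mj U tt htt f) = gj U tt tc htc j := by
  apply MorphismProperty.Over.Hom.ext
  exact c.w f

theorem mj_comp_pj {i j : I} (f : i ⟶ j) :
    mj U tt htt f ≫ pj U tt j = pj U tt i := by
  apply MorphismProperty.Over.Hom.ext
  exact htt f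

variable {F : X.Etaleᵒᵖ ⥤ Type w} {E : Functor.LeftExtension (ProEtS.eps X).op F}
  (hE : E.IsPointwiseLeftKanExtension)

include hE htt in
theorem normal_form [IsCofiltered I] [∀ i, IsAffine (D.obj i)] (hc : IsLimit c)
    (tV : E.right.obj (op (Vp U tc))) :
    ∃ (i : I) (s : F.obj (op (Wj U tt i))),
      cls (ProEtS.eps X) E (gj U tt tc htc i) s = tV := by
  obtain ⟨W, g, sW, rfl⟩ := exists_cls (ProEtS.eps X) hE tV
  haveI : IsCofiltered (StructuredArrow (Vp U tc) (ProEtS.eps X)) :=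
    RepresentablyFlat.cofiltered _
  let a₁ : StructuredArrow (Vp U tc) (ProEtS.eps X) := StructuredArrow.mk g
  let a₂ : StructuredArrow (Vp U tc) (ProEtS.eps X) := StructuredArrow.mk (cV U tc)
  let a₃ := IsCofiltered.min a₁ a₂
  let f₁ : a₃ ⟶ a₁ := IsCofiltered.minToLeft a₁ a₂
  let f₂ : a₃ ⟶ a₂ := IsCofiltered.minToRight a₁ a₂
  have e₁ : a₃.hom ≫ (ProEtS.eps X).map f₁.right = g := StructuredArrow.w f₁
  have e₂ : a₃.hom ≫ (ProEtS.eps X).map f₂.right = cV U tc := StructuredArrow.w f₂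
  let W'' : X.Etale := a₃.right
  let hU : W'' ⟶ U := f₂.right
  let g'' : Vp U tc ⟶ (ProEtS.eps X).obj W'' := a₃.hom
  have e₂l : g''.left ≫ hU.left = tc := congrArg (fun q => q.left) e₂
  haveI : LocallyOfFinitePresentation hU.left := inferInstance
  obtain ⟨i, m, hm₁, hm₂⟩ := Scheme.exists_π_app_comp_eq_of_locallyOfFinitePresentation D
    (tN U tt htt) hU.left c hc g''.left (by
      ext i : 2
      simp only [NatTrans.comp_app, Functor.const_obj_obj, Functor.const_map_app]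
      exact (htc i).trans e₂l.symm)
  have hm₂' : m ≫ hU.left = tt i := hm₂
  let mE : Wj U tt i ⟶ W'' := MorphismProperty.Over.homMk m (by
    change m ≫ W''.hom = tt i ≫ U.hom
    rw [← hm₂', Category.assoc]
    congr 1
    exact (MorphismProperty.Over.w hU).symm)
  have e₃ : gj U tt tc htc i ≫ (ProEtS.eps X).map mE = g'' := by
    apply MorphismProperty.Over.Hom.ext
    exact hm₁
  refine ⟨i, F.map mE.op (F.map f₁.right.op sW), ?_⟩
  rw [← cls_comp_map, e₃, ← cls_comp_map, e₁]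

set_option backward.isDefEq.respectTransparency.types false in
include hE htt in
theorem descent_compat [IsCofiltered I] [∀ i, IsAffine (D.obj i)] [IsAffine U.left]
    (hc : IsLimit c) (hF : Presieve.IsSheaf X.smallEtaleTopology F)
    (i : I) (s : F.obj (op (Wj U tt i)))
    (heq : ∀ (Z : X.ProEt) (f₁ f₂ : Z ⟶ Vp U tc), f₁ ≫ cV U tc = f₂ ≫ cV U tc →
      E.right.map f₁.op (cls (ProEtS.eps X) E (gj U tt tc htc i) s) =
      E.right.map f₂.op (cls (ProEtS.eps X) E (gj U tt tc htc i) s)) :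
    ∃ (k : I) (f : k ⟶ i), ∀ (Z : X.Etale) (g₁ g₂ : Z ⟶ Wj U tt k),
      g₁ ≫ pj U tt k = g₂ ≫ pj U tt k →
      F.map g₁.op (F.map (mj U tt htt f).op s) = F.map g₂.op (F.map (mj U tt htt f).op s) := by
  haveI : WeaklyEtale (pullback.fst tc tc ≫ tc ≫ U.hom) := inferInstance
  let VV : X.ProEt := Scheme.ProEt.mk (pullback.fst tc tc ≫ tc ≫ U.hom)
  let pr₁ : VV ⟶ Vp U tc := MorphismProperty.Over.homMk (pullback.fst tc tc) rfl
  let pr₂ : VV ⟶ Vp U tc := MorphismProperty.Over.homMk (pullback.snd tc tc) (by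
    change pullback.snd tc tc ≫ tc ≫ U.hom = pullback.fst tc tc ≫ tc ≫ U.hom
    rw [← Category.assoc, ← pullback.condition, Category.assoc])
  have hpr : pr₁ ≫ cV U tc = pr₂ ≫ cV U tc := by
    apply MorphismProperty.Over.Hom.ext
    exact pullback.condition
  have h1 := heq VV pr₁ pr₂ hpr
  rw [map_cls, map_cls] at h1
  obtain ⟨W₃, h₁, h₂, g₃, hg₁, hg₂, hs⟩ := cls_eq_iff₂ (ProEtS.eps X) hE _ _ s s h1
  -- equalize `h₁ ≫ pj` and `h₂ ≫ pj`
  haveI : IsCofiltered (StructuredArrow VV (ProEtS.eps X)) := RepresentablyFlat.cofiltered _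
  let b₁ : StructuredArrow VV (ProEtS.eps X) := StructuredArrow.mk g₃
  let b₂ : StructuredArrow VV (ProEtS.eps X) := StructuredArrow.mk (pr₁ ≫ cV U tc)
  let φ₁ : b₁ ⟶ b₂ := StructuredArrow.homMk (h₁ ≫ pj U tt i) (by
    change g₃ ≫ (ProEtS.eps X).map (h₁ ≫ pj U tt i) = pr₁ ≫ cV U tc
    rw [Functor.map_comp, ← Category.assoc, hg₁, Category.assoc, gj_comp_pj])
  let φ₂ : b₁ ⟶ b₂ := StructuredArrow.homMk (h₂ ≫ pj U tt i) (by
    change g₃ ≫ (ProEtS.eps X).map (h₂ ≫ pj U tt i) = pr₁ ≫ cV U tc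
    rw [Functor.map_comp, ← Category.assoc, hg₂, Category.assoc, gj_comp_pj, hpr])
  let b₀ := IsCofiltered.eq φ₁ φ₂
  let e : b₀ ⟶ b₁ := IsCofiltered.eqHom φ₁ φ₂
  have he : e ≫ φ₁ = e ≫ φ₂ := IsCofiltered.eq_condition φ₁ φ₂
  let W₄ : X.Etale := b₀.right
  let g₄ : VV ⟶ (ProEtS.eps X).obj W₄ := b₀.hom
  let k₁ : W₄ ⟶ Wj U tt i := e.right ≫ h₁
  let k₂ : W₄ ⟶ Wj U tt i := e.right ≫ h₂
  have he' : g₄ ≫ (ProEtS.eps X).map e.right = g₃ := StructuredArrow.w e
  have hk₁ : g₄ ≫ (ProEtS.eps X).map k₁ = pr₁ ≫ gj U tt tc htc i := by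
    rw [Functor.map_comp, ← Category.assoc, he', hg₁]
  have hk₂ : g₄ ≫ (ProEtS.eps X).map k₂ = pr₂ ≫ gj U tt tc htc i := by
    rw [Functor.map_comp, ← Category.assoc, he', hg₂]
  have hk12 : k₁ ≫ pj U tt i = k₂ ≫ pj U tt i := by
    have := congrArg (fun q => q.right) he
    simpa [k₁, k₂, φ₁, φ₂] using this
  have hsk : F.map k₁.op s = F.map k₂.op s := by
    simp only [k₁, k₂, op_comp, Functor.map_comp]
    change F.map e.right.op (F.map h₁.op s) = F.map e.right.op (F.map h₂.op s)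
    rw [hs]
  -- scheme level
  have hcondq : k₁.left ≫ tt i = k₂.left ≫ tt i := congrArg (fun q => q.left) hk12
  haveI hk₁et : Etale k₁.left := inferInstance
  have e3 : g₄.left ≫ k₁.left = pullback.fst tc tc ≫ c.π.app i :=
    congrArg (fun q => q.left) hk₁
  have e4 : g₄.left ≫ k₂.left = pullback.snd tc tc ≫ c.π.app i :=
    congrArg (fun q => q.left) hk₂
  obtain ⟨k₁l, hk₁l⟩ : ∃ m : W₄.left ⟶ D.obj i, m = k₁.left := ⟨_, rfl⟩
  obtain ⟨k₂l, hk₂l⟩ : ∃ m : W₄.left ⟶ D.obj i, m = k₂.left := ⟨_, rfl⟩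
  haveI : Etale k₁l := by rw [hk₁l]; exact hk₁et
  rw [← hk₁l, ← hk₂l] at hcondq
  rw [← hk₁l] at e3
  rw [← hk₂l] at e4
  obtain ⟨k, f, hk⟩ := scheme_level (S := U.left) D (tN U tt htt) c tc htc hc i
    (W₄ := W₄.left) k₁l k₂l hcondq g₄.left e3 e4
  rw [hk₁l, hk₂l] at hk
  refine ⟨k, f, ?_⟩
  intro Z g₁ g₂ h12
  have h12l : g₁.left ≫ tt k = g₂.left ≫ tt k := congrArg (fun q => q.left) h12
  obtain ⟨Z'l, zl, wl, hzet, hzsurj, hw₁, hw₂⟩ := hk g₁.left g₂.left h12l
  haveI := hzet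
  haveI : Etale (zl ≫ Z.hom) := inferInstance
  let Z' : X.Etale := Scheme.Etale.mk (zl ≫ Z.hom)
  let z : Z' ⟶ Z := MorphismProperty.Over.homMk zl rfl
  let w' : Z' ⟶ W₄ := MorphismProperty.Over.homMk wl (by
    change wl ≫ W₄.hom = zl ≫ Z.hom
    have e1 : k₁.left ≫ (Wj U tt i).hom = W₄.hom := MorphismProperty.Over.w k₁
    have e2 : (g₁.left ≫ D.map f) ≫ (Wj U tt i).hom = Z.hom :=
      MorphismProperty.Over.w (g₁ ≫ mj U tt htt f)
    exact (congrArg (fun m => wl ≫ m) e1.symm).trans ((Category.assoc _ _ _).symm.trans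
      ((congrArg (fun m => m ≫ (Wj U tt i).hom) hw₁).trans
        ((Category.assoc _ _ _).trans (congrArg (fun m => zl ≫ m) e2)))))
  have hzw₁ : z ≫ g₁ ≫ mj U tt htt f = w' ≫ k₁ := by
    apply MorphismProperty.Over.Hom.ext
    exact hw₁.symm
  have hzw₂ : z ≫ g₂ ≫ mj U tt htt f = w' ≫ k₂ := by
    apply MorphismProperty.Over.Hom.ext
    exact hw₂.symm
  apply inj_of_surjective hF z hzsurj
  have e1 : ∀ g : Z ⟶ Wj U tt k, F.map z.op (F.map g.op (F.map (mj U tt htt f).op s)) =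
      F.map (z ≫ g ≫ mj U tt htt f).op s := by
    intro g
    simp only [op_comp, Functor.map_comp]
    rfl
  have e2 : ∀ k' : W₄ ⟶ Wj U tt i, F.map (w' ≫ k').op s = F.map w'.op (F.map k'.op s) := by
    intro k'
    simp only [op_comp, Functor.map_comp]
    rfl
  rw [e1, e1, hzw₁, hzw₂, e2, e2, hsk]

set_option backward.isDefEq.respectTransparency.types false in
include hE htt htc in
theorem hdesc [IsCofiltered I] [∀ i, IsAffine (D.obj i)] [IsAffine U.left]
    (hc : IsLimit c) (hF : Presieve.IsSheaf X.smallEtaleTopology F)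
    (hsurj : ∀ x : U.left, ∃ y : c.pt, tc y = x)
    (tV : E.right.obj (op (Vp U tc)))
    (heq : ∀ (Z : X.ProEt) (f₁ f₂ : Z ⟶ Vp U tc), f₁ ≫ cV U tc = f₂ ≫ cV U tc →
      E.right.map f₁.op tV = E.right.map f₂.op tV) :
    ∃ s : F.obj (op U), cls (ProEtS.eps X) E (cV U tc) s = tV := by
  obtain ⟨i, s, rfl⟩ := normal_form U tt htt tc htc hE hc tV
  obtain ⟨k, f, hk⟩ := descent_compat U tt htt tc htc hE hc hF i s heq
  have hpsurj : ∀ x : U.left, ∃ y : (Wj U tt k).left, (pj U tt k).left y = x := by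
    intro x
    obtain ⟨y, hy⟩ := hsurj x
    refine ⟨c.π.app k y, ?_⟩
    change tt k (c.π.app k y) = x
    rw [← Scheme.Hom.comp_apply, htc k]
    exact hy
  obtain ⟨sU, hsU⟩ := descend_of_surjective hF (pj U tt k) hpsurj _ hk
  refine ⟨sU, ?_⟩
  rw [← gj_comp_pj U tt tc htc k, cls_comp_map, hsU, ← cls_comp_map, gj_comp_mj]

end Descent

end Groth.Agent.Helper2.EpsU
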