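import Mathlib
import Groth.Prelude.Def_ProEtW
import Groth.Prelude.Def_PBC
import Groth.Agent.Lib.Helper2.WLoc2

/-!
# More on the constructible topology of `Spec A` and the algebras `Br A r` (helper2)
-/

set_option autoImplicit false

universe u

namespace Groth.Agent.Helper2.WLoc

open LocallyConstant Topology TopologicalSpace Set
open Groth.Agent.Helper2.LCSpec

variable (A : Type u) [CommRing A]

theorem continuous_o : Continuous (o A) := by
  rw [continuous_def]
  intro U hU
  rw [WithConstructibleTopology.isOpen_iff]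
  change IsOpen[constructibleTopology (PrimeSpectrum A)] U
  obtain ⟨S, hS, rfl⟩ := (PrimeSpectrum.isTopologicalBasis_basic_opens (R := A)).open_eq_sUnion hU
  apply @isOpen_sUnion _ (constructibleTopology (PrimeSpectrum A))
  intro s hs
  obtain ⟨f, rfl⟩ := hS hs
  exact IsCompact.isOpen_constructibleTopology_of_isOpen (PrimeSpectrum.isCompact_basicOpen f)
    (PrimeSpectrum.basicOpen f).2

theorem continuous_val_ct {E : Set (PrimeSpectrum A)} (hE : IsClosed E) [T2Space E] :
    Continuous[inferInstance, constructibleTopology (PrimeSpectrum A)]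
      (Subtype.val : E → PrimeSpectrum A) := by
  change Continuous[inferInstance, TopologicalSpace.generateFrom
    (constructibleTopologySubbasis (PrimeSpectrum A))] (Subtype.val : E → PrimeSpectrum A)
  rw [continuous_generateFrom_iff]
  rintro s (⟨ho, -⟩ | ⟨hcl, hc⟩)
  · exact ho.preimage continuous_subtype_val
  · have hemb : IsClosedEmbedding (Subtype.val : E → PrimeSpectrum A) :=
      hE.isClosedEmbedding_subtypeVal
    have h1 : IsCompact (Subtype.val ⁻¹' sᶜ : Set E) := hemb.isCompact_preimage hc
    have h2 := h1.isClosed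
    rw [Set.preimage_compl, isClosed_compl_iff] at h2
    exact h2

theorem continuous_ι_val {E : Set (PrimeSpectrum A)} (hE : IsClosed E) [T2Space E] :
    Continuous (fun e : E => ι A e.val) := by
  rw [continuous_def]
  intro s hs
  rw [WithConstructibleTopology.isOpen_iff] at hs
  exact (continuous_def.mp (continuous_val_ct A hE)) _ hs

section Br

variable {T : Type u} [TopologicalSpace T] (r : C(T, Tc A))
variable [CompactSpace T] [T2Space T] [TotallyDisconnectedSpace T]

theorem faithfullyFlat_r' (hr : ∀ x : PrimeSpectrum A, ∃ t, x.asIdeal ≤ (oo A r t).asIdeal) :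
    Module.FaithfullyFlat A (Br A r) := by
  haveI : Module.Flat A (Br A r) := flat_localization A (Sr A r)
  apply Module.FaithfullyFlat.of_comap_surjective
  intro x
  obtain ⟨t, ht⟩ := hr x
  obtain ⟨y, hy⟩ := exists_lmr A r (x := x) (t := t) ht
  refine ⟨y, ?_⟩
  rw [← lmr_fst, hy]

end Br

end Groth.Agent.Helper2.WLoc

namespace Groth.Agent.Helper2.WLoc

theorem isSpectralMap_comap {R S : Type*} [CommRing R] [CommRing S] (f : R →+* S) :
    IsSpectralMap (PrimeSpectrum.comap f) := by
  classical
  refine ⟨PrimeSpectrum.continuous_comap f, fun s hso hsc => ?_⟩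
  obtain ⟨t, rfl⟩ := PrimeSpectrum.isCompact_isOpen_iff.mp ⟨hsc, hso⟩
  rw [Set.preimage_compl, PrimeSpectrum.preimage_comap_zeroLocus]
  have e : f '' (t : Set R) = ((t.image f : Finset S) : Set S) := by simp
  rw [e]
  exact (PrimeSpectrum.isCompact_isOpen_iff.mpr ⟨_, rfl⟩).1

end Groth.Agent.Helper2.WLoc
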