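import Mathlib
import Groth.Prelude.Def_ProEtW
import Groth.Agent.Lib.Helper2.WLocal

/-!
# w-local spaces: the closed-point retraction (helper2)

For a w-local space `X`: the retraction `cpt : X → X` onto the closed points is continuous, the
closed points form a profinite space, and `π₀(X) ≃ₜ Xc X`.
-/

set_option autoImplicit false

universe u

namespace Groth.Agent.Helper2.WLocal

open Topology Set

section
variable {X : Type u} [TopologicalSpace X] (hX : ProEtW.IsWLocal X)

/-- the closed point a point specializes to -/
noncomputable def cpt (x : X) : X := (hX.2.2 x).choose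

theorem cpt_closed (x : X) : IsClosed ({cpt hX x} : Set X) := (hX.2.2 x).choose_spec.1.1

theorem cpt_spec (x : X) : x ⤳ cpt hX x := (hX.2.2 x).choose_spec.1.2

theorem cpt_unique {x z : X} (hz : IsClosed ({z} : Set X)) (h : x ⤳ z) : z = cpt hX x :=
  (hX.2.2 x).choose_spec.2 z ⟨hz, h⟩

theorem cpt_of_closed {x : X} (hx : IsClosed ({x} : Set X)) : cpt hX x = x :=
  (cpt_unique hX hx specializes_rfl).symm

theorem cpt_eq_of_specializes {x y : X} (h : x ⤳ y) : cpt hX y = cpt hX x :=
  cpt_unique hX (cpt_closed hX y) (h.trans (cpt_spec hX y))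

theorem continuous_cpt : Continuous (cpt hX) := by
  haveI : SpectralSpace X := hX.1
  rw [continuous_iff_isClosed]
  intro Z hZ
  set Z₀ : Set X := Z ∩ {p : X | IsClosed ({p} : Set X)} with hZ₀
  have hZ₀cl : IsClosed Z₀ := hZ.inter hX.2.1
  have hgen : cpt hX ⁻¹' Z = {p | ∃ z ∈ Z₀, p ⤳ z} := by
    ext p
    constructor
    · intro hp
      exact ⟨cpt hX p, ⟨hp, cpt_closed hX p⟩, cpt_spec hX p⟩
    · rintro ⟨z, ⟨hzZ, hzc⟩, hpz⟩
      have : z = cpt hX p := cpt_unique hX hzc hpz
      change cpt hX p ∈ Z
      rw [← this]
      exact hzZ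
  apply isClosed_of_ct_of_stable
  · rw [hgen]
    exact isClosed_ct_generalizations hZ₀cl.isCompact
  · intro p hp q hpq
    change cpt hX q ∈ Z
    rw [cpt_eq_of_specializes hX hpq]
    exact hp

/-- the closed points as a type -/
abbrev Xc (X : Type u) [TopologicalSpace X] : Type u := ↥{x : X | IsClosed ({x} : Set X)}

theorem isClosed_inter_Xc [SpectralSpace X] (hcl : IsClosed {x : X | IsClosed ({x} : Set X)})
    {W : Set X} (hWo : IsOpen W) (hWc : IsCompact W) :
    IsClosed (W ∩ {p : X | IsClosed ({p} : Set X)}) := by
  apply isClosed_of_ct_of_stable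
  · exact @IsClosed.inter X _ _ (constructibleTopology X)
      (SpectralCt.isClosed_ct_of_isCompact_isOpen hWo hWc)
      (SpectralCt.isClosed_ct_of_isClosed hcl)
  · intro p hp q hpq
    have : q = p := (isClosed_singleton_iff_spec p).mp hp.2 q hpq
    rw [this]
    exact hp

include hX in
theorem totallySeparatedSpace_Xc : TotallySeparatedSpace (Xc X) := by
  haveI : SpectralSpace X := hX.1
  apply totallySeparatedSpace_of_t0_of_basis_clopen
  apply TopologicalSpace.isTopologicalBasis_of_isOpen_of_nhds
  · intro s hs
    exact hs.isOpen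
  · intro a u hau huo
    obtain ⟨U, hUo, rfl⟩ := isOpen_induced_iff.mp huo
    obtain ⟨W, ⟨hWo, hWc⟩, haW, hWU⟩ :=
      (PrespectralSpace.isTopologicalBasis (X := X)).exists_subset_of_mem_open hau hUo
    refine ⟨Subtype.val ⁻¹' W, ⟨?_, hWo.preimage continuous_subtype_val⟩, haW,
      fun x hx => hWU hx⟩
    have e : (Subtype.val ⁻¹' W : Set (Xc X)) =
        Subtype.val ⁻¹' (W ∩ {p : X | IsClosed ({p} : Set X)}) := by
      ext x
      constructor
      · intro hx
        exact ⟨hx, x.2⟩
      · intro hx
        exact hx.1
    rw [e]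
    exact (isClosed_inter_Xc hX.2.1 hWo hWc).preimage continuous_subtype_val

include hX in
theorem compactSpace_Xc : CompactSpace (Xc X) := by
  haveI : SpectralSpace X := hX.1
  exact isCompact_iff_compactSpace.mp hX.2.1.isCompact

/-- the closed-point retraction, valued in the closed points -/
noncomputable def cptXc (x : X) : Xc X := ⟨cpt hX x, cpt_closed hX x⟩

theorem continuous_cptXc : Continuous (cptXc hX) := (continuous_cpt hX).subtype_mk _

/-- `π₀(X) ≃ₜ Xc X` for w-local `X` -/
noncomputable def pi0Equiv : ConnectedComponents X ≃ₜ Xc X := by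
  haveI := totallySeparatedSpace_Xc hX
  exact
  { toFun := (continuous_cptXc hX).connectedComponentsLift
    invFun := fun x => ConnectedComponents.mk x.val
    left_inv := by
      intro c
      obtain ⟨x, rfl⟩ := ConnectedComponents.surjective_coe c
      exact (mk_eq_of_specializes (cpt_spec hX x)).symm
    right_inv := by
      intro x
      apply Subtype.ext
      exact cpt_of_closed hX x.2
    continuous_toFun := (continuous_cptXc hX).connectedComponentsLift_continuous
    continuous_invFun := ConnectedComponents.continuous_coe.comp continuous_subtype_val }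

theorem pi0Equiv_mk (x : X) : (pi0Equiv hX (ConnectedComponents.mk x)).val = cpt hX x := rfl

theorem mk_pi0Equiv (c : ConnectedComponents X) :
    ConnectedComponents.mk (pi0Equiv hX c).val = c := (pi0Equiv hX).symm_apply_apply c

include hX in
theorem t2Space_pi0 : T2Space (ConnectedComponents X) := by
  haveI := totallySeparatedSpace_Xc hX
  exact (pi0Equiv hX).symm.t2Space

end

end Groth.Agent.Helper2.WLocal
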