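import Mathlib
import Groth.Prelude.Def_ProEtS
import Groth.Prelude.Def_PBC
import Groth.Agent.S0177
import Groth.Agent.S0736
import Groth.Agent.S7286
import Groth.Agent.Lib.Helper1.WE2

/-!
# Existence of a w-contractible pro-étale tower over an affine scheme
-/

namespace Groth.Agent.Helper2.EpsU

universe u

open CategoryTheory CategoryTheory.Limits AlgebraicGeometry Opposite

set_option backward.isDefEq.respectTransparency.types false in
theorem tower_exists (S : Scheme.{u}) [IsAffine S] :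
    ∃ (I : Type u) (_ : Category.{u} I) (_ : IsCofiltered I) (D : I ⥤ Scheme.{u})
      (tt : ∀ i, D.obj i ⟶ S) (_ : ∀ {i j : I} (f : i ⟶ j), D.map f ≫ tt j = tt i)
      (c : Cone D) (_ : IsLimit c) (tc : c.pt ⟶ S) (_ : ∀ i, c.π.app i ≫ tt i = tc),
      (∀ i, IsAffine (D.obj i)) ∧ (∀ i, Etale (tt i)) ∧ WeaklyEtale tc ∧ Surjective tc ∧
        IsAffine c.pt ∧ EtPBC.IsWContractible ↥(Γ(c.pt, ⊤)) := by
  let A₀ : CommRingCat.{u} := Γ(S, ⊤)
  obtain ⟨Dr, _, _, hff, hie, hwc⟩ := Groth.Agent.S0177.result ↑A₀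
  haveI hwe : Algebra.WeaklyEtale ↑A₀ Dr := Groth.Agent.S0736.result _ Dr hie
  obtain ⟨J, _, _, Dg, cc, hcc, het, ⟨eiso⟩⟩ := hie
  let D : Jᵒᵖ ⥤ Scheme.{u} := (Dg ⋙ Under.forget _).op ⋙ Scheme.Spec
  let tt : ∀ i : Jᵒᵖ, D.obj i ⟶ S := fun i => Spec.map (Dg.obj i.unop).hom ≫ S.isoSpec.inv
  have htt : ∀ {i j : Jᵒᵖ} (f : i ⟶ j), D.map f ≫ tt j = tt i := by
    intro i j f
    change Spec.map (Dg.map f.unop).right ≫ Spec.map (Dg.obj j.unop).hom ≫ S.isoSpec.inv =
      Spec.map (Dg.obj i.unop).hom ≫ S.isoSpec.inv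
    rw [← Category.assoc, ← Spec.map_comp, Under.w]
  let c : Cone D := Scheme.Spec.mapCone ((Under.forget _).mapCocone cc).op
  have hc : IsLimit c :=
    isLimitOfPreserves Scheme.Spec (isColimitOfPreserves (Under.forget _) hcc).op
  let tc : c.pt ⟶ S := Spec.map cc.pt.hom ≫ S.isoSpec.inv
  have htc : ∀ i, c.π.app i ≫ tt i = tc := by
    intro i
    change Spec.map (cc.ι.app i.unop).right ≫ Spec.map (Dg.obj i.unop).hom ≫ S.isoSpec.inv =
      Spec.map cc.pt.hom ≫ S.isoSpec.inv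
    rw [← Category.assoc, ← Spec.map_comp, Under.w]
    rfl
  have hw' : CommRingCat.ofHom (algebraMap ↑A₀ Dr) ≫ eiso.inv.right = cc.pt.hom :=
    Under.w eiso.inv
  haveI : IsIso eiso.inv.right :=
    inferInstanceAs (IsIso ((Under.forget _).map eiso.inv))
  haveI : IsIso (Spec.map eiso.inv.right) := inferInstance
  haveI h1 : WeaklyEtale (Spec.map (CommRingCat.ofHom (algebraMap ↑A₀ Dr))) :=
    Groth.Agent.Helper1.WE.weaklyEtale_Spec_map _ Dr
  haveI h2 : Surjective (Spec.map (CommRingCat.ofHom (algebraMap ↑A₀ Dr))) :=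
    ((flat_and_surjective_SpecMap_iff _).mpr (RingHom.faithfullyFlat_algebraMap_iff.mpr hff)).2
  let tc0 : Spec cc.pt.right ⟶ S := Spec.map cc.pt.hom ≫ S.isoSpec.inv
  have htc' : tc0 = Spec.map eiso.inv.right ≫
      Spec.map (CommRingCat.ofHom (algebraMap ↑A₀ Dr)) ≫ S.isoSpec.inv := by
    dsimp only [tc0]
    have e : Spec.map cc.pt.hom = Spec.map eiso.inv.right ≫
        Spec.map (CommRingCat.ofHom (algebraMap ↑A₀ Dr)) := by
      rw [← hw']
      exact Spec.map_comp _ _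
    rw [e, Category.assoc]
  have hwe0 : WeaklyEtale tc0 := by
    rw [htc']
    infer_instance
  have hsurj0 : Surjective tc0 := by
    rw [htc']
    infer_instance
  refine ⟨Jᵒᵖ, inferInstance, inferInstance, D, tt, htt, c, hc, tc, htc, ?_, ?_, ?_, ?_, ?_, ?_⟩
  · intro i
    change IsAffine (Spec _)
    infer_instance
  · intro i
    haveI : Etale (Spec.map (Dg.obj i.unop).hom) := by
      rw [HasRingHomProperty.Spec_iff (P := @Etale)]
      exact het i.unop
    haveI : Etale S.isoSpec.inv := inferInstance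
    exact MorphismProperty.comp_mem _ _ _ ‹Etale (Spec.map (Dg.obj i.unop).hom)› ‹Etale S.isoSpec.inv›
  · exact hwe0
  · exact hsurj0
  · change IsAffine (Spec _)
    infer_instance
  · change EtPBC.IsWContractible ↥(Γ(Spec cc.pt.right, ⊤))
    have e1 : Dr ≃+* ↑cc.pt.right :=
      ((Under.forget _).mapIso eiso).symm.commRingCatIsoToRingEquiv
    have h3 := Groth.Agent.S7286.isWContractible_of_ringEquiv e1 hwc
    exact Groth.Agent.S7286.isWContractible_of_ringEquiv
      (Scheme.ΓSpecIso cc.pt.right).symm.commRingCatIsoToRingEquiv h3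

end Groth.Agent.Helper2.EpsU
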