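import Mathlib
import Groth.Prelude.Def_ProEtS
import Groth.Prelude.Def_PBC
import Groth.Agent.Lib.Helper2.LanProd
import Groth.Agent.Lib.Helper2.EpsU1
import Groth.Agent.Lib.Helper2.EpsU2
import Groth.Agent.Lib.Helper2.EpsU3
import Groth.Agent.Lib.Helper2.EpsU4
import Groth.Agent.Lib.Helper2.EpsU5
import Groth.Agent.Lib.Helper2.EpsU7
import Groth.Agent.Lib.Helper2.EpsU8

/-!
# The unit of `ε⁻¹ ⊣ ε_*` is an isomorphism (generic value category)
-/

namespace Groth.Agent.Helper2.EpsU

universe u u₃

open CategoryTheory CategoryTheory.Limits AlgebraicGeometry Opposite Groth.Agent.Helper2.LanProd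

set_option backward.isDefEq.respectTransparency.types false in
instance eps_faithful (X : Scheme.{u}) : (ProEtS.eps X).Faithful where
  map_injective {U V} f g h := by
    apply MorphismProperty.Over.Hom.ext
    exact congrArg (fun q => q.left) h

set_option backward.isDefEq.respectTransparency.types false in
instance eps_full (X : Scheme.{u}) : (ProEtS.eps X).Full where
  map_surjective {U V} f :=
    ⟨MorphismProperty.Over.homMk f.left (MorphismProperty.Over.w f), by
      apply MorphismProperty.Over.Hom.ext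
      rfl⟩

set_option backward.isDefEq.respectTransparency.types false in
theorem affine_cover_et {X : Scheme.{u}} (U : X.Etale) :
    ∃ R : Presieve U, Sieve.generate R ∈ X.smallEtaleTopology U ∧
      ∀ ⦃V : X.Etale⦄ (f : V ⟶ U), R f → IsAffine V.left := by
  let 𝒰 := U.left.affineCover
  let V : 𝒰.I₀ → X.Etale := fun i => Scheme.Etale.mk (𝒰.f i ≫ U.hom)
  let f : ∀ i, V i ⟶ U := fun i => MorphismProperty.Over.homMk (𝒰.f i) rfl
  refine ⟨Presieve.ofArrows V f, ?_, ?_⟩
  · change Sieve.ofArrows V f ∈ _
    rw [Scheme.ofArrows_mem_smallEtaleTopology_iff, Set.eq_univ_iff_forall]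
    intro x
    obtain ⟨i, y, hy⟩ := 𝒰.exists_eq x
    exact Set.mem_iUnion.mpr ⟨i, y, hy⟩
  · rintro _ _ ⟨i⟩
    change IsAffine (𝒰.X i)
    infer_instance

set_option backward.isDefEq.respectTransparency.types false in
theorem eps_unit_isIso {X : Scheme.{u}} [ProEtS.EpsCont X]
    (A : Type u₃) [Category.{u + 1} A] {FA : A → A → Type*} {CA : A → Type (u + 1)}
    [∀ X Y, FunLike (FA X Y) (CA X) (CA Y)] [ConcreteCategory.{u + 1} A FA]
    [HasWeakSheafify (Scheme.ProEt.topology X) A]
    [∀ (F : X.Etaleᵒᵖ ⥤ A), (ProEtS.eps X).op.HasLeftKanExtension F]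
    [(Scheme.ProEt.topology X).WEqualsLocallyBijective A]
    [(forget A).ReflectsIsomorphisms] [X.smallEtaleTopology.HasSheafCompose (forget A)]
    [(Scheme.ProEt.topology X).HasSheafCompose (forget A)]
    (F : Sheaf X.smallEtaleTopology A)
    [(ProEtS.eps X).op.HasPointwiseLeftKanExtension F.obj]
    [∀ Z : X.ProEtᵒᵖ, PreservesColimit (CostructuredArrow.proj (ProEtS.eps X).op Z ⋙ F.obj)
      (forget A)] :
    IsIso (((ProEtS.eps X).sheafAdjunctionContinuous A X.smallEtaleTopology
      (Scheme.ProEt.topology X)).unit.app F) := by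
  haveI : (ProEtS.eps X).Full := inferInstance
  haveI : (ProEtS.eps X).Faithful := inferInstance
  apply isIso_unit_app (ProEtS.eps X) X.smallEtaleTopology (Scheme.ProEt.topology X) A F
    (fun U => IsAffine U.left) affine_cover_et
  intro E hE Q hQ φ _ _
  have hF : Presieve.IsSheaf X.smallEtaleTopology (F.obj ⋙ forget A) :=
    (isSheaf_iff_isSheaf_of_type _ _).1 ((sheafCompose X.smallEtaleTopology (forget A)).obj F).2
  have hinjφ : ∀ Z : X.ProEt, Function.Injective (φ.app (op Z)) :=
    injective_of_sep (ProEtS.eps X) (Scheme.ProEt.topology X) hE φ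
      (fun Z W g s s' R hR H => sep_eps hF Z W g s s' R hR H)
  refine ⟨fun U => (hinjφ _).comp (cls_id_injective (ProEtS.eps X) hE U), ?_⟩
  intro U hU
  haveI : IsAffine U.left := hU
  obtain ⟨I, _, _, D, tt, htt, c, hc, tc, htc, haff, het, hwe, hsurj, haffV, hwc⟩ :=
    tower_exists U.left
  haveI := haff
  haveI := het
  haveI := hwe
  haveI := hsurj
  haveI : IsAffine (Vp U tc).left := haffV
  have hcover : Sieve.generate (Presieve.singleton (cV U tc)) ∈
      Scheme.ProEt.topology X ((ProEtS.eps X).obj U) := by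
    apply Precoverage.generate_mem_toGrothendieck
    change (Presieve.singleton (cV U tc)).map (Scheme.ProEt.forget X ⋙ Over.forget X) ∈
      Scheme.proetalePrecoverage _
    rw [Presieve.map_singleton]
    haveI : QuasiCompact tc := inferInstance
    exact Scheme.Hom.singleton_mem_propQCPrecoverage (f := tc) hwe
  intro t
  obtain ⟨s, hs⟩ := surjective_of_cover (ProEtS.eps X) (Scheme.ProEt.topology X) φ
    hQ.isSeparated hinjφ (cV U tc) hcover
    (bijective_on_wc hF hE hQ φ (Vp U tc) hwc).2
    (fun tV h => hdesc U tt htt tc htc hE hc hF (fun x => tc.surjective x) tV h) t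
  exact ⟨s, hs⟩

end Groth.Agent.Helper2.EpsU
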