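import Mathlib
import Groth.Prelude.Def_ProEtS
import Groth.Prelude.Def_EtModW
import Groth.Agent.Lib.Helper2.EpsU9

/-!
# `ε⁻¹` on sheaves of `Λ`-modules is fully faithful
-/

namespace Groth.Agent.Helper2.EpsU

universe u

open CategoryTheory CategoryTheory.Limits AlgebraicGeometry Opposite

variable (Λ : Type (u + 1)) [CommRing Λ] (X : Scheme.{u}) [ProEtS.EpsCont X]

set_option backward.isDefEq.respectTransparency.types false in
theorem eps_unit_isIso_mod (F : EtModW.Mod Λ X) :
    IsIso (((ProEtS.eps X).sheafAdjunctionContinuous (ModuleCat.{u + 1} Λ) X.smallEtaleTopology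
      (Scheme.ProEt.topology X)).unit.app F) := by
  haveI : ∀ Z : X.ProEtᵒᵖ, IsFiltered (CostructuredArrow (ProEtS.eps X).op Z) :=
    fun Z => inferInstance
  haveI : (ProEtS.eps X).op.HasPointwiseLeftKanExtension F.obj := inferInstance
  haveI : PreservesFilteredColimitsOfSize.{u, u + 1} (forget (ModuleCat.{u + 1} Λ)) :=
    preservesFilteredColimitsOfSize_shrink.{u + 1, u + 1, u, u + 1} _
  haveI : ∀ Z : X.ProEtᵒᵖ, PreservesColimit (CostructuredArrow.proj (ProEtS.eps X).op Z ⋙ F.obj)
      (forget (ModuleCat.{u + 1} Λ)) := fun Z => inferInstance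
  exact eps_unit_isIso (ModuleCat.{u + 1} Λ) F

instance epsPullMod_full : (EtModW.epsPullMod Λ X).Full := by
  haveI : ∀ F : EtModW.Mod Λ X, IsIso (((ProEtS.eps X).sheafAdjunctionContinuous
      (ModuleCat.{u + 1} Λ) X.smallEtaleTopology (Scheme.ProEt.topology X)).unit.app F) :=
    fun F => eps_unit_isIso_mod Λ X F
  haveI : IsIso ((ProEtS.eps X).sheafAdjunctionContinuous
      (ModuleCat.{u + 1} Λ) X.smallEtaleTopology (Scheme.ProEt.topology X)).unit :=
    NatIso.isIso_of_isIso_app _
  exact ((ProEtS.eps X).sheafAdjunctionContinuous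
      (ModuleCat.{u + 1} Λ) X.smallEtaleTopology (Scheme.ProEt.topology X)).fullyFaithfulLOfIsIsoUnit.full

instance epsPullMod_faithful : (EtModW.epsPullMod Λ X).Faithful := by
  haveI : ∀ F : EtModW.Mod Λ X, IsIso (((ProEtS.eps X).sheafAdjunctionContinuous
      (ModuleCat.{u + 1} Λ) X.smallEtaleTopology (Scheme.ProEt.topology X)).unit.app F) :=
    fun F => eps_unit_isIso_mod Λ X F
  haveI : IsIso ((ProEtS.eps X).sheafAdjunctionContinuous
      (ModuleCat.{u + 1} Λ) X.smallEtaleTopology (Scheme.ProEt.topology X)).unit :=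
    NatIso.isIso_of_isIso_app _
  exact ((ProEtS.eps X).sheafAdjunctionContinuous
      (ModuleCat.{u + 1} Λ) X.smallEtaleTopology (Scheme.ProEt.topology X)).fullyFaithfulLOfIsIsoUnit.faithful

end Groth.Agent.Helper2.EpsU
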