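import Mathlib
import Groth.Prelude.Def_ProEtS
import Groth.Prelude.Def_EtModW
import Groth.Prelude.Def_ARSys
import Groth.Agent.S14009
import Groth.Agent.Lib.Helper2.AdicLim1
import Groth.Agent.Lib.Helper2.EpsU10

/-!
# Linear-algebra lemmas for `ε⁻¹` on sheaves of modules; lifting diagrams along fully faithful
functors; quotient maps modulo an ideal
-/

namespace Groth.Agent.Helper2.EpsU

universe w v₁ v₂ v₃ u₁ u₂ u₃ u

open CategoryTheory CategoryTheory.Limits AlgebraicGeometry Opposite Groth.Agent.Helper2.AdicLim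

section Lift

variable {J : Type u₁} [Category.{v₁} J] {C : Type u₂} [Category.{v₂} C] {D : Type u₃}
  [Category.{v₃} D] (L : C ⥤ D) [L.Full] [L.Faithful] (Q : J ⥤ D) (E : J → C)
  (e : ∀ j, L.obj (E j) ≅ Q.obj j)

/-- Lift a diagram whose objects are in the essential image of a fully faithful functor. -/
noncomputable def liftDiag : J ⥤ C where
  obj := E
  map {i j} f := L.preimage ((e i).hom ≫ Q.map f ≫ (e j).inv)
  map_id j := by
    apply L.map_injective
    simp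
  map_comp f g := by
    apply L.map_injective
    simp

noncomputable def liftDiagIso : liftDiag L Q E e ⋙ L ≅ Q :=
  NatIso.ofComponents e (by
    intro i j f
    simp [liftDiag])

end Lift

section Lin

variable {A : Type w} [CommRing A] {C : Type u₂} [Category.{v₂} C] {D : Type u₃}
  [Category.{v₃} D] [Preadditive C] [Linear A C] [Preadditive D] [Linear A D]

theorem map_smul_of_adj (L : C ⥤ D) (R : D ⥤ C) (adj : L ⊣ R)
    (hR : ∀ {Y Y' : D} (a : A) (f : Y ⟶ Y'), R.map (a • f) = a • R.map f)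
    {X Y : C} (a : A) (f : X ⟶ Y) : L.map (a • f) = a • L.map f := by
  apply (adj.homEquiv _ _).injective
  rw [Adjunction.homEquiv_unit, Adjunction.homEquiv_unit, adj.unit_naturality, hR,
    Linear.comp_smul, adj.unit_naturality, Linear.smul_comp]

/-- A fully faithful linear functor reflects `KilledBy`. -/
theorem killedBy_of_map (L : C ⥤ D) [L.Faithful]
    (hL : ∀ {X Y : C} (a : A) (f : X ⟶ Y), L.map (a • f) = a • L.map f)
    (J : Ideal A) {X : C} (h : ARSys.KilledBy J (L.obj X)) : ARSys.KilledBy J X := by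
  intro a ha
  apply L.map_injective
  have hz : L.map (0 : X ⟶ X) = 0 := by
    have := hL (0 : A) (0 : X ⟶ X)
    rwa [zero_smul, zero_smul] at this
  rw [hL, L.map_id, h a ha, hz]

theorem homKilledBy_map (L : C ⥤ D)
    (hL : ∀ {X Y : C} (a : A) (f : X ⟶ Y), L.map (a • f) = a • L.map f)
    (J : Ideal A) {X Y : C} (φ : X ⟶ Y) (h : ARSys.HomKilledBy J φ) :
    ARSys.HomKilledBy J (L.map φ) := by
  intro a ha
  have hz : L.map (0 : X ⟶ Y) = 0 := by
    have := hL (0 : A) (0 : X ⟶ Y)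
    rwa [zero_smul, zero_smul] at this
  rw [← hL, h a ha, hz]

/-- A fully faithful linear functor reflects quotient maps modulo an ideal. -/
theorem isQuot_of_map (L : C ⥤ D) [L.Full] [L.Faithful]
    (hL : ∀ {X Y : C} (a : A) (f : X ⟶ Y), L.map (a • f) = a • L.map f)
    (J : Ideal A) {X Q : C} (p : X ⟶ Q) (h : ARSys.IsQuot J (L.map p)) : ARSys.IsQuot J p := by
  refine ⟨killedBy_of_map L hL J h.1, ?_⟩
  intro Y φ hφ
  obtain ⟨ψ', hψ', huniq⟩ := h.2 _ (L.map φ) (homKilledBy_map L hL J φ hφ)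
  obtain ⟨ψ, rfl⟩ := L.map_surjective ψ'
  refine ⟨ψ, ?_, ?_⟩
  · apply L.map_injective
    rw [L.map_comp]
    exact hψ'
  · intro ψ₂ hψ₂
    apply L.map_injective
    apply huniq
    rw [← L.map_comp, hψ₂]

/-- Transport of quotient maps along isomorphisms. -/
theorem isQuot_of_iso (J : Ideal A) {X Q X' Q' : C} (p : X ⟶ Q) (hp : ARSys.IsQuot J p)
    (eX : X' ≅ X) (eQ : Q ≅ Q') : ARSys.IsQuot J (eX.hom ≫ p ≫ eQ.hom) := by
  have h1 : ARSys.IsQuot J (p ≫ eQ.hom) := isQuot_comp_iso J p hp eQ.hom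
  refine ⟨h1.1, ?_⟩
  intro Y φ hφ
  have hφ' : ARSys.HomKilledBy J (eX.inv ≫ φ) := by
    intro a ha
    rw [← Linear.comp_smul, hφ a ha, comp_zero]
  obtain ⟨ψ, hψ, huniq⟩ := h1.2 Y (eX.inv ≫ φ) hφ'
  refine ⟨ψ, ?_, ?_⟩
  · change (eX.hom ≫ p ≫ eQ.hom) ≫ ψ = φ
    rw [Category.assoc, hψ, Iso.hom_inv_id_assoc]
  · intro ψ₂ hψ₂
    apply huniq
    rw [← hψ₂]
    simp

/-- If `p_m : F ⟶ Q_m` and `p_n = p_m ≫ t : F ⟶ Q_n` are quotient maps modulo `J' ≤ J`, then `t` is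
a quotient map modulo `J`. -/
theorem isQuot_of_comp (J J' : Ideal A) (hJ : J' ≤ J) {F Qm Qn : C} (pm : F ⟶ Qm)
    (hpm : ARSys.IsQuot J' pm) (t : Qm ⟶ Qn) (hpn : ARSys.IsQuot J (pm ≫ t)) :
    ARSys.IsQuot J t := by
  haveI : Epi pm := epi_of_isQuot J' pm hpm
  refine ⟨hpn.1, ?_⟩
  intro Y φ hφ
  have hφ' : ARSys.HomKilledBy J (pm ≫ φ) := by
    intro a ha
    rw [← Linear.comp_smul, hφ a ha, comp_zero]
  obtain ⟨ψ, hψ, huniq⟩ := hpn.2 Y (pm ≫ φ) hφ'
  refine ⟨ψ, ?_, ?_⟩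
  · change t ≫ ψ = φ
    rw [← cancel_epi pm, ← Category.assoc, hψ]
  · intro ψ₂ hψ₂
    apply huniq
    rw [Category.assoc, hψ₂]

end Lin

section Eps

variable (Λ : Type (u + 1)) [CommRing Λ] (X : Scheme.{u}) [ProEtS.EpsCont X]

theorem epsPullMod_map_smul {A B : EtModW.Mod Λ X} (a : Λ) (f : A ⟶ B) :
    (EtModW.epsPullMod Λ X).map (a • f) = a • (EtModW.epsPullMod Λ X).map f :=
  map_smul_of_adj _ _ (Groth.Agent.S14009.epsAdjMod Λ X)
    (fun a f => Groth.Agent.S14009.epsPushMod_smul Λ X a f) a f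

end Eps

end Groth.Agent.Helper2.EpsU
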