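import Mathlib
import Groth.Prelude.Def_ProEtS
import Groth.Prelude.Def_EtModW
import Groth.Agent.Lib.Helper2.EpsU4

/-!
# `ε⁻¹` preserves finite limits (abelian sheaves and sheaves of modules)
-/

namespace Groth.Agent.Helper2.EpsX

universe w v₁ v₂ u₁ u₂ u₃ u

open CategoryTheory CategoryTheory.Limits AlgebraicGeometry Opposite

section LanGeneral

variable {C : Type u₁} [Category.{v₁} C] {D : Type u₂} [Category.{v₂} D]
  (E : Type u₃) [Category.{w} E]

set_option backward.defeqAttrib.useBackward true in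
set_option backward.isDefEq.respectTransparency false in
/-- General universe version of `lanEvaluationIsoColim`. -/
noncomputable def lanEvalIsoColim (F : C ⥤ D) (X : D)
    [∀ X : D, HasColimitsOfShape (CostructuredArrow F X) E] :
    F.lan ⋙ (evaluation D E).obj X ≅
      (Functor.whiskeringLeft _ _ E).obj (CostructuredArrow.proj F X) ⋙ colim :=
  NatIso.ofComponents (fun G =>
    IsColimit.coconePointUniqueUpToIso
    (Functor.isPointwiseLeftKanExtensionLeftKanExtensionUnit F G X)
    (colimit.isColimit _)) (fun {G₁ G₂} φ => by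
      apply (Functor.isPointwiseLeftKanExtensionLeftKanExtensionUnit F G₁ X).hom_ext
      intro T
      have h₁ := fun (G : C ⥤ E) => IsColimit.comp_coconePointUniqueUpToIso_hom
        (Functor.isPointwiseLeftKanExtensionLeftKanExtensionUnit F G X) (colimit.isColimit _) T
      have h₂ := congr_app (F.lanUnit.naturality φ) T.left
      dsimp at h₁ h₂ ⊢
      simp only [Category.assoc] at h₁ ⊢
      simp only [Functor.lan, Functor.lanUnit] at h₂ ⊢
      rw [reassoc_of% h₁, NatTrans.naturality_assoc, ← reassoc_of% h₂, h₁,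
        ι_colimMap, Functor.whiskerLeft_app]
      rfl)

variable {FE : E → E → Type*} {CE : E → Type w} [∀ X Y, FunLike (FE X Y) (CE X) (CE Y)]
    [ConcreteCategory.{w} E FE] [HasFiniteLimits E]

attribute [local instance] reflectsLimitsOfShape_of_reflectsIsomorphisms in
theorem lan_preservesFiniteLimits_of_flat' (F : C ⥤ D) [RepresentablyFlat F]
    [∀ X : Dᵒᵖ, HasColimitsOfShape (CostructuredArrow F.op X) E]
    [∀ X : Dᵒᵖ, PreservesColimitsOfShape (CostructuredArrow F.op X) (forget E)]
    [∀ X : Dᵒᵖ, Small.{w} (CostructuredArrow F.op X)]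
    [PreservesFiniteLimits (forget E)] [(forget E).ReflectsIsomorphisms] :
    PreservesFiniteLimits (F.op.lan : (Cᵒᵖ ⥤ E) ⥤ (Dᵒᵖ ⥤ E)) := by
  apply preservesFiniteLimits_of_preservesFiniteLimitsOfSize.{0}
  intro J _ _
  apply preservesLimitsOfShape_of_evaluation (F.op.lan : (Cᵒᵖ ⥤ E) ⥤ Dᵒᵖ ⥤ E) J
  intro K
  haveI : IsFiltered (CostructuredArrow F.op K) :=
    IsFiltered.of_equivalence (structuredArrowOpEquivalence F (unop K))
  exact preservesLimitsOfShape_of_natIso (lanEvalIsoColim E F.op K).symm

end LanGeneral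

section Eps

variable (X : Scheme.{u}) [ProEtS.EpsCont X]

set_option backward.isDefEq.respectTransparency.types false in
instance lan_eps_ab : PreservesFiniteLimits ((ProEtS.eps X).op.lan :
    (X.Etaleᵒᵖ ⥤ AddCommGrpCat.{u + 1}) ⥤ (X.ProEtᵒᵖ ⥤ AddCommGrpCat.{u + 1})) := by
  haveI : PreservesFilteredColimitsOfSize.{u, u + 1} (forget AddCommGrpCat.{u + 1}) :=
    preservesFilteredColimitsOfSize_shrink.{u + 1, u + 1, u, u + 1} _
  haveI : ∀ Z : X.ProEtᵒᵖ, IsFiltered (CostructuredArrow (ProEtS.eps X).op Z) :=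
    fun Z => inferInstance
  exact lan_preservesFiniteLimits_of_flat' AddCommGrpCat.{u + 1} (ProEtS.eps X)

set_option backward.isDefEq.respectTransparency.types false in
instance lan_eps_mod (Λ : Type (u + 1)) [CommRing Λ] :
    PreservesFiniteLimits ((ProEtS.eps X).op.lan :
    (X.Etaleᵒᵖ ⥤ ModuleCat.{u + 1} Λ) ⥤ (X.ProEtᵒᵖ ⥤ ModuleCat.{u + 1} Λ)) := by
  haveI : PreservesFilteredColimitsOfSize.{u, u + 1} (forget (ModuleCat.{u + 1} Λ)) :=
    preservesFilteredColimitsOfSize_shrink.{u + 1, u + 1, u, u + 1} _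
  haveI : ∀ Z : X.ProEtᵒᵖ, IsFiltered (CostructuredArrow (ProEtS.eps X).op Z) :=
    fun Z => inferInstance
  exact lan_preservesFiniteLimits_of_flat' (ModuleCat.{u + 1} Λ) (ProEtS.eps X)

set_option backward.isDefEq.respectTransparency.types false in
instance epsPull_preservesFiniteLimits : PreservesFiniteLimits (ProEtS.epsPull X) :=
  Functor.sheafPullbackConstruction.preservesFiniteLimits (ProEtS.eps X) AddCommGrpCat.{u + 1}
    X.smallEtaleTopology (Scheme.ProEt.topology X)

set_option backward.isDefEq.respectTransparency.types false in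
instance epsPullMod_preservesFiniteLimits (Λ : Type (u + 1)) [CommRing Λ] :
    PreservesFiniteLimits (EtModW.epsPullMod Λ X) :=
  Functor.sheafPullbackConstruction.preservesFiniteLimits (ProEtS.eps X) (ModuleCat.{u + 1} Λ)
    X.smallEtaleTopology (Scheme.ProEt.topology X)

end Eps

end Groth.Agent.Helper2.EpsX
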