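import Mathlib

/-!
# Two limit lemmas for fibre products of cofiltered limits of schemes
(1) `prd`: `lim D ×_S lim D' = lim (D i ×_S D' i)`.
(2) `pbt`: `A ×_{lim Z} B = lim (A ×_{Z i} B)`.
-/

namespace Groth.Agent.Helper2.EpsX

universe u

open CategoryTheory CategoryTheory.Limits AlgebraicGeometry Opposite

section Prd

variable {I : Type u} [Category.{u} I] {S : Scheme.{u}} (D D' : I ⥤ Scheme.{u})
  (t : D ⟶ (Functor.const I).obj S) (t' : D' ⟶ (Functor.const I).obj S)

theorem t_nat {i j : I} (f : i ⟶ j) : D.map f ≫ t.app j = t.app i := by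
  have := t.naturality f
  simp only [Functor.const_obj_obj, Functor.const_obj_map, Category.comp_id] at this
  exact this

/-- The diagram `i ↦ D i ×_S D' i`. -/
noncomputable abbrev prd : I ⥤ Scheme.{u} where
  obj i := pullback (t.app i) (t'.app i)
  map {i j} f := pullback.lift (pullback.fst _ _ ≫ D.map f) (pullback.snd _ _ ≫ D'.map f) (by
    rw [Category.assoc, Category.assoc, t_nat D t f, t_nat D' t' f, pullback.condition])
  map_id i := by
    apply pullback.hom_ext
    · rw [pullback.lift_fst, D.map_id, Category.comp_id, Category.id_comp]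
    · rw [pullback.lift_snd, D'.map_id, Category.comp_id, Category.id_comp]
  map_comp f g := by
    apply pullback.hom_ext
    · rw [pullback.lift_fst, Category.assoc, pullback.lift_fst, pullback.lift_fst_assoc,
        D.map_comp, Category.assoc]
    · rw [pullback.lift_snd, Category.assoc, pullback.lift_snd, pullback.lift_snd_assoc,
        D'.map_comp, Category.assoc]

variable (c : Cone D) (c' : Cone D') (tc : c.pt ⟶ S) (tc' : c'.pt ⟶ S)
  (htc : ∀ i, c.π.app i ≫ t.app i = tc) (htc' : ∀ i, c'.π.app i ≫ t'.app i = tc')

/-- The cone `lim D ×_S lim D'` over `prd`. -/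
noncomputable abbrev prdCone : Cone (prd D D' t t') where
  pt := pullback tc tc'
  π :=
    { app i := pullback.lift (pullback.fst _ _ ≫ c.π.app i) (pullback.snd _ _ ≫ c'.π.app i) (by
        rw [Category.assoc, Category.assoc, htc i, htc' i, pullback.condition])
      naturality i j f := by
        have hw := c.w f
        have hw' := c'.w f
        apply pullback.hom_ext
        · simp only [Functor.const_obj_obj, Functor.const_obj_map, Category.id_comp]
          change _ = _ ≫ pullback.lift _ _ _ ≫ _
          rw [pullback.lift_fst, pullback.lift_fst, pullback.lift_fst_assoc, Category.assoc, hw]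
        · simp only [Functor.const_obj_obj, Functor.const_obj_map, Category.id_comp]
          change _ = _ ≫ pullback.lift _ _ _ ≫ _
          rw [pullback.lift_snd, pullback.lift_snd, pullback.lift_snd_assoc, Category.assoc, hw'] }

@[simp]
lemma prdCone_π_fst (i : I) :
    (prdCone D D' t t' c c' tc tc' htc htc').π.app i ≫ pullback.fst (t.app i) (t'.app i) =
      pullback.fst tc tc' ≫ c.π.app i := by
  change pullback.lift _ _ _ ≫ _ = _
  rw [pullback.lift_fst]

@[simp]
lemma prdCone_π_snd (i : I) :
    (prdCone D D' t t' c c' tc tc' htc htc').π.app i ≫ pullback.snd (t.app i) (t'.app i) =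
      pullback.snd tc tc' ≫ c'.π.app i := by
  change pullback.lift _ _ _ ≫ _ = _
  rw [pullback.lift_snd]

@[simp]
lemma prd_map_fst {i j : I} (f : i ⟶ j) :
    (prd D D' t t').map f ≫ pullback.fst (t.app j) (t'.app j) =
      pullback.fst (t.app i) (t'.app i) ≫ D.map f := by
  change pullback.lift _ _ _ ≫ _ = _
  rw [pullback.lift_fst]

@[simp]
lemma prd_map_snd {i j : I} (f : i ⟶ j) :
    (prd D D' t t').map f ≫ pullback.snd (t.app j) (t'.app j) =
      pullback.snd (t.app i) (t'.app i) ≫ D'.map f := by
  change pullback.lift _ _ _ ≫ _ = _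
  rw [pullback.lift_snd]

variable [Nonempty I]

/-- `prdCone` is a limit cone. -/
noncomputable def isLimitPrdCone (hc : IsLimit c) (hc' : IsLimit c') :
    IsLimit (prdCone D D' t t' c c' tc tc' htc htc') := by
  let c1 : ∀ s : Cone (prd D D' t t'), Cone D := fun s =>
    { pt := s.pt
      π :=
        { app i := s.π.app i ≫ pullback.fst _ _
          naturality i j f := by
            have := s.w f
            simp only [Functor.const_obj_obj, Functor.const_obj_map, Category.id_comp]
            rw [← this, Category.assoc, prd_map_fst, Category.assoc] } }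
  let c2 : ∀ s : Cone (prd D D' t t'), Cone D' := fun s =>
    { pt := s.pt
      π :=
        { app i := s.π.app i ≫ pullback.snd _ _
          naturality i j f := by
            have := s.w f
            simp only [Functor.const_obj_obj, Functor.const_obj_map, Category.id_comp]
            rw [← this, Category.assoc, prd_map_snd, Category.assoc] } }
  have hcond : ∀ s : Cone (prd D D' t t'), hc.lift (c1 s) ≫ tc = hc'.lift (c2 s) ≫ tc' := by
    intro s
    obtain ⟨i⟩ := ‹Nonempty I›
    rw [← htc i, ← htc' i, ← Category.assoc, ← Category.assoc, hc.fac, hc'.fac]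
    simp only [c1, c2, Category.assoc]
    rw [pullback.condition]
  refine
    { lift := fun s => pullback.lift (hc.lift (c1 s)) (hc'.lift (c2 s)) (hcond s)
      fac := ?_
      uniq := ?_ }
  · intro s i
    apply pullback.hom_ext
    · rw [Category.assoc, prdCone_π_fst, pullback.lift_fst_assoc, hc.fac]
    · rw [Category.assoc, prdCone_π_snd, pullback.lift_snd_assoc, hc'.fac]
  · intro s m hm
    apply pullback.hom_ext
    · rw [pullback.lift_fst]
      apply hc.hom_ext
      intro i
      rw [hc.fac, Category.assoc, ← prdCone_π_fst D D' t t' c c' tc tc' htc htc',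
        ← Category.assoc, hm i]
    · rw [pullback.lift_snd]
      apply hc'.hom_ext
      intro i
      rw [hc'.fac, Category.assoc, ← prdCone_π_snd D D' t t' c c' tc tc' htc htc',
        ← Category.assoc, hm i]

end Prd

section Pbt

variable {I : Type u} [Category.{u} I] (Z : I ⥤ Scheme.{u}) (cz : Cone Z)
  {A B : Scheme.{u}} (a : A ⟶ cz.pt) (b : B ⟶ cz.pt)

/-- The diagram `i ↦ A ×_{Z i} B`. -/
noncomputable abbrev pbt : I ⥤ Scheme.{u} where
  obj i := pullback (a ≫ cz.π.app i) (b ≫ cz.π.app i)
  map {i j} f := pullback.lift (pullback.fst _ _) (pullback.snd _ _) (by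
    have hw := cz.w f
    have h := pullback.condition (f := a ≫ cz.π.app i) (g := b ≫ cz.π.app i)
    rw [← hw]
    simp only [← Category.assoc]
    congr 1)
  map_id i := by
    apply pullback.hom_ext
    · rw [pullback.lift_fst, Category.id_comp]
    · rw [pullback.lift_snd, Category.id_comp]
  map_comp f g := by
    apply pullback.hom_ext
    · rw [pullback.lift_fst, Category.assoc, pullback.lift_fst, pullback.lift_fst]
    · rw [pullback.lift_snd, Category.assoc, pullback.lift_snd, pullback.lift_snd]

/-- The cone `A ×_{lim Z} B` over `pbt`. -/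
noncomputable abbrev pbtCone : Cone (pbt Z cz a b) where
  pt := pullback a b
  π :=
    { app i := pullback.lift (pullback.fst _ _) (pullback.snd _ _) (by
        rw [← Category.assoc, ← Category.assoc, pullback.condition])
      naturality i j f := by
        apply pullback.hom_ext
        · simp only [Functor.const_obj_obj, Functor.const_obj_map, Category.id_comp]
          change _ = _ ≫ pullback.lift _ _ _ ≫ _
          rw [pullback.lift_fst, pullback.lift_fst, pullback.lift_fst]
        · simp only [Functor.const_obj_obj, Functor.const_obj_map, Category.id_comp]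
          change _ = _ ≫ pullback.lift _ _ _ ≫ _
          rw [pullback.lift_snd, pullback.lift_snd, pullback.lift_snd] }

@[simp]
lemma pbtCone_π_fst (i : I) :
    (pbtCone Z cz a b).π.app i ≫ pullback.fst _ _ = pullback.fst a b := by
  change pullback.lift _ _ _ ≫ _ = _
  rw [pullback.lift_fst]

@[simp]
lemma pbtCone_π_snd (i : I) :
    (pbtCone Z cz a b).π.app i ≫ pullback.snd _ _ = pullback.snd a b := by
  change pullback.lift _ _ _ ≫ _ = _
  rw [pullback.lift_snd]

@[simp]
lemma pbt_map_fst {i j : I} (f : i ⟶ j) :
    (pbt Z cz a b).map f ≫ pullback.fst _ _ = pullback.fst _ _ := by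
  change pullback.lift _ _ _ ≫ _ = _
  rw [pullback.lift_fst]

@[simp]
lemma pbt_map_snd {i j : I} (f : i ⟶ j) :
    (pbt Z cz a b).map f ≫ pullback.snd _ _ = pullback.snd _ _ := by
  change pullback.lift _ _ _ ≫ _ = _
  rw [pullback.lift_snd]

variable [IsCofiltered I]

/-- `pbtCone` is a limit cone. -/
noncomputable def isLimitPbtCone (hcz : IsLimit cz) : IsLimit (pbtCone Z cz a b) := by
  haveI : Nonempty I := IsCofiltered.nonempty
  let i₀ : I := Classical.arbitrary I
  have hα : ∀ (s : Cone (pbt Z cz a b)) (i : I),
      s.π.app i ≫ pullback.fst _ _ = s.π.app i₀ ≫ pullback.fst _ _ := by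
    intro s i
    have h1 := s.w (IsCofiltered.minToLeft i i₀)
    have h2 := s.w (IsCofiltered.minToRight i i₀)
    rw [← h1, ← h2, Category.assoc, Category.assoc, pbt_map_fst, pbt_map_fst]
  have hβ : ∀ (s : Cone (pbt Z cz a b)) (i : I),
      s.π.app i ≫ pullback.snd _ _ = s.π.app i₀ ≫ pullback.snd _ _ := by
    intro s i
    have h1 := s.w (IsCofiltered.minToLeft i i₀)
    have h2 := s.w (IsCofiltered.minToRight i i₀)
    rw [← h1, ← h2, Category.assoc, Category.assoc, pbt_map_snd, pbt_map_snd]
  have hcond : ∀ s : Cone (pbt Z cz a b),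
      (s.π.app i₀ ≫ pullback.fst _ _) ≫ a = (s.π.app i₀ ≫ pullback.snd _ _) ≫ b := by
    intro s
    apply hcz.hom_ext
    intro i
    rw [← hα s i, ← hβ s i, Category.assoc, Category.assoc, Category.assoc, Category.assoc,
      pullback.condition]
  refine
    { lift := fun s => pullback.lift (s.π.app i₀ ≫ pullback.fst _ _)
        (s.π.app i₀ ≫ pullback.snd _ _) (hcond s)
      fac := ?_
      uniq := ?_ }
  · intro s i
    apply pullback.hom_ext
    · rw [Category.assoc, pbtCone_π_fst, pullback.lift_fst, hα s i]
    · rw [Category.assoc, pbtCone_π_snd, pullback.lift_snd, hβ s i]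
  · intro s m hm
    apply pullback.hom_ext
    · rw [pullback.lift_fst, ← hm i₀, Category.assoc, pbtCone_π_fst]
    · rw [pullback.lift_snd, ← hm i₀, Category.assoc, pbtCone_π_snd]

end Pbt

end Groth.Agent.Helper2.EpsX
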