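import Mathlib
import Groth.Prelude.Def_ProEtS
import Groth.Prelude.Def_PBC
import Groth.Agent.S0177
import Groth.Agent.S0736
import Groth.Agent.S7286
import Groth.Agent.Lib.Helper1.WE2
import Groth.Agent.Lib.Helper29.IndEtComp

/-!
# A pro-étale tower over an affine scheme has a w-contractible cover which is again a tower
-/

namespace Groth.Agent.Helper2.EpsX

universe u

open CategoryTheory CategoryTheory.Limits AlgebraicGeometry Opposite

section

variable {S : Scheme.{u}} [IsAffine S] {I : Type u} [Category.{u} I] [IsCofiltered I]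
  (D : I ⥤ Scheme.{u}) (tt : ∀ i, D.obj i ⟶ S)
  (htt : ∀ {i j : I} (f : i ⟶ j), D.map f ≫ tt j = tt i)
  (c : Cone D) (hc : IsLimit c) (tc : c.pt ⟶ S) (htc : ∀ i, c.π.app i ≫ tt i = tc)
  [∀ i, IsAffine (D.obj i)] [∀ i, Etale (tt i)]

include htt hc htc in
theorem indEtale_of_tower :
    @EtPBC.IsIndEtale ↑Γ(S, ⊤) ↑Γ(c.pt, ⊤) _ _ tc.appTop.hom.toAlgebra := by
  letI : Algebra ↑Γ(S, ⊤) ↑Γ(c.pt, ⊤) := tc.appTop.hom.toAlgebra
  let Dg : Iᵒᵖ ⥤ Under (CommRingCat.of ↑Γ(S, ⊤)) :=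
    { obj := fun i => Under.mk (Y := Γ(D.obj i.unop, ⊤)) (tt i.unop).appTop
      map := fun {i j} f => Under.homMk (D.map f.unop).appTop (by
        change (tt i.unop).appTop ≫ (D.map f.unop).appTop = (tt j.unop).appTop
        rw [← Scheme.Hom.comp_appTop, htt])
      map_id := fun i => by
        apply Under.UnderMorphism.ext
        change (D.map (𝟙 i.unop)).appTop = 𝟙 _
        rw [D.map_id]
        rfl
      map_comp := fun {i j k} f g => by
        apply Under.UnderMorphism.ext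
        change (D.map (g.unop ≫ f.unop)).appTop = (D.map f.unop).appTop ≫ (D.map g.unop).appTop
        rw [D.map_comp, Scheme.Hom.comp_appTop] }
  let cc : Cocone Dg :=
    { pt := Under.mk (Y := Γ(c.pt, ⊤)) tc.appTop
      ι :=
        { app := fun i => Under.homMk (c.π.app i.unop).appTop (by
            change (tt i.unop).appTop ≫ (c.π.app i.unop).appTop = tc.appTop
            rw [← Scheme.Hom.comp_appTop, htc])
          naturality := fun {i j} f => by
            apply Under.UnderMorphism.ext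
            change (D.map f.unop).appTop ≫ (c.π.app j.unop).appTop = (c.π.app i.unop).appTop ≫ 𝟙 _
            rw [Category.comp_id, ← Scheme.Hom.comp_appTop, c.w] } }
  haveI : ∀ {i j : I} (f : i ⟶ j), IsAffineHom (D.map f) := fun f => inferInstance
  have h0 : IsColimit (Scheme.Γ.mapCocone c.op) := (nonempty_isColimit_Γ_mapCocone D c hc).some
  have h1 : IsColimit ((Under.forget _).mapCocone cc) := h0
  haveI : IsConnected Iᵒᵖ := IsFiltered.isConnected _
  have hcc : IsColimit cc := isColimitOfReflects (Under.forget _) h1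
  refine ⟨Iᵒᵖ, inferInstance, inferInstance, Dg, cc, hcc, ?_, ⟨Iso.refl _⟩⟩
  intro j
  have : Etale (tt j.unop) := inferInstance
  rw [HasRingHomProperty.iff_of_isAffine (P := @Etale)] at this
  exact this

end

set_option backward.isDefEq.respectTransparency.types false in
theorem retower {S : Scheme.{u}} [IsAffine S] {I₀ : Type u} [Category.{u} I₀] [IsCofiltered I₀]
    (D₀ : I₀ ⥤ Scheme.{u}) (tt₀ : ∀ i, D₀.obj i ⟶ S)
    (htt₀ : ∀ {i j : I₀} (f : i ⟶ j), D₀.map f ≫ tt₀ j = tt₀ i)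
    (c₀ : Cone D₀) (hc₀ : IsLimit c₀) (tc₀ : c₀.pt ⟶ S) (htc₀ : ∀ i, c₀.π.app i ≫ tt₀ i = tc₀)
    [∀ i, IsAffine (D₀.obj i)] [∀ i, Etale (tt₀ i)] [IsAffine c₀.pt] :
    ∃ (I : Type u) (_ : Category.{u} I) (_ : IsCofiltered I) (D : I ⥤ Scheme.{u})
      (tt : ∀ i, D.obj i ⟶ S) (_ : ∀ {i j : I} (f : i ⟶ j), D.map f ≫ tt j = tt i)
      (c : Cone D) (_ : IsLimit c) (tc : c.pt ⟶ S) (_ : ∀ i, c.π.app i ≫ tt i = tc)
      (ql : c.pt ⟶ c₀.pt),
      ql ≫ tc₀ = tc ∧
      (∀ i, IsAffine (D.obj i)) ∧ (∀ i, Etale (tt i)) ∧ WeaklyEtale tc ∧ Surjective ql ∧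
        IsAffine c.pt ∧ EtPBC.IsWContractible ↥(Γ(c.pt, ⊤)) := by
  let A₀ : CommRingCat.{u} := Γ(S, ⊤)
  let B₀ : CommRingCat.{u} := Γ(c₀.pt, ⊤)
  letI algAB : Algebra ↑A₀ ↑B₀ := tc₀.appTop.hom.toAlgebra
  have hAB : EtPBC.IsIndEtale ↑A₀ ↑B₀ := indEtale_of_tower D₀ tt₀ htt₀ c₀ hc₀ tc₀ htc₀
  obtain ⟨Dr, _, _, hff, hBD, hwc⟩ := Groth.Agent.S0177.result ↑B₀
  letI algAD : Algebra ↑A₀ Dr := ((algebraMap ↑B₀ Dr).comp (algebraMap ↑A₀ ↑B₀)).toAlgebra
  haveI : IsScalarTower ↑A₀ ↑B₀ Dr := .of_algebraMap_eq (fun _ => rfl)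
  have hie : EtPBC.IsIndEtale ↑A₀ Dr := Groth.Agent.Helper29.IndEtComp.main ↑A₀ ↑B₀ Dr hAB hBD
  haveI hwe : Algebra.WeaklyEtale ↑A₀ Dr := Groth.Agent.S0736.result _ Dr hie
  obtain ⟨J, _, _, Dg, cc, hcc, het, ⟨eiso⟩⟩ := hie
  let D : Jᵒᵖ ⥤ Scheme.{u} := (Dg ⋙ Under.forget _).op ⋙ Scheme.Spec
  let tt : ∀ i : Jᵒᵖ, D.obj i ⟶ S := fun i => Spec.map (Dg.obj i.unop).hom ≫ S.isoSpec.inv
  have htt : ∀ {i j : Jᵒᵖ} (f : i ⟶ j), D.map f ≫ tt j = tt i := by
    intro i j f
    change Spec.map (Dg.map f.unop).right ≫ Spec.map (Dg.obj j.unop).hom ≫ S.isoSpec.inv =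
      Spec.map (Dg.obj i.unop).hom ≫ S.isoSpec.inv
    rw [← Category.assoc, ← Spec.map_comp, Under.w]
  let c : Cone D := Scheme.Spec.mapCone ((Under.forget _).mapCocone cc).op
  have hc : IsLimit c :=
    isLimitOfPreserves Scheme.Spec (isColimitOfPreserves (Under.forget _) hcc).op
  let tc : c.pt ⟶ S := Spec.map cc.pt.hom ≫ S.isoSpec.inv
  have htc : ∀ i, c.π.app i ≫ tt i = tc := by
    intro i
    change Spec.map (cc.ι.app i.unop).right ≫ Spec.map (Dg.obj i.unop).hom ≫ S.isoSpec.inv =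
      Spec.map cc.pt.hom ≫ S.isoSpec.inv
    rw [← Category.assoc, ← Spec.map_comp, Under.w]
    rfl
  have hw' : CommRingCat.ofHom (algebraMap ↑A₀ Dr) ≫ eiso.inv.right = cc.pt.hom :=
    Under.w eiso.inv
  haveI : IsIso eiso.inv.right :=
    inferInstanceAs (IsIso ((Under.forget _).map eiso.inv))
  haveI : IsIso (Spec.map eiso.inv.right) := inferInstance
  haveI h1 : WeaklyEtale (Spec.map (CommRingCat.ofHom (algebraMap ↑A₀ Dr))) :=
    Groth.Agent.Helper1.WE.weaklyEtale_Spec_map _ Dr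
  haveI h2 : Surjective (Spec.map (CommRingCat.ofHom (algebraMap ↑B₀ Dr))) :=
    ((flat_and_surjective_SpecMap_iff _).mpr (RingHom.faithfullyFlat_algebraMap_iff.mpr hff)).2
  let tc0 : Spec cc.pt.right ⟶ S := Spec.map cc.pt.hom ≫ S.isoSpec.inv
  have htc' : tc0 = Spec.map eiso.inv.right ≫
      Spec.map (CommRingCat.ofHom (algebraMap ↑A₀ Dr)) ≫ S.isoSpec.inv := by
    dsimp only [tc0]
    have e : Spec.map cc.pt.hom = Spec.map eiso.inv.right ≫
        Spec.map (CommRingCat.ofHom (algebraMap ↑A₀ Dr)) := by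
      rw [← hw']
      exact Spec.map_comp _ _
    rw [e, Category.assoc]
  have hwe0 : WeaklyEtale tc0 := by
    rw [htc']
    infer_instance
  -- the map to the old tower
  let ql : Spec cc.pt.right ⟶ c₀.pt :=
    Spec.map eiso.inv.right ≫ Spec.map (CommRingCat.ofHom (algebraMap ↑B₀ Dr)) ≫ c₀.pt.isoSpec.inv
  have hql : ql ≫ tc₀ = tc0 := by
    rw [htc']
    dsimp only [ql]
    rw [Category.assoc, Category.assoc]
    congr 1
    have e1 : CommRingCat.ofHom (algebraMap ↑A₀ Dr) =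
        tc₀.appTop ≫ CommRingCat.ofHom (algebraMap ↑B₀ Dr) := rfl
    rw [e1, Spec.map_comp, Category.assoc, Scheme.isoSpec_inv_naturality]
  have hsurj : Surjective ql := by
    dsimp only [ql]
    infer_instance
  refine ⟨Jᵒᵖ, inferInstance, inferInstance, D, tt, htt, c, hc, tc, htc, ql, hql, ?_, ?_, ?_, ?_,
    ?_, ?_⟩
  · intro i
    change IsAffine (Spec _)
    infer_instance
  · intro i
    haveI : Etale (Spec.map (Dg.obj i.unop).hom) := by
      rw [HasRingHomProperty.Spec_iff (P := @Etale)]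
      exact het i.unop
    haveI : Etale S.isoSpec.inv := inferInstance
    exact MorphismProperty.comp_mem _ _ _ ‹Etale (Spec.map (Dg.obj i.unop).hom)› ‹Etale S.isoSpec.inv›
  · exact hwe0
  · exact hsurj
  · change IsAffine (Spec _)
    infer_instance
  · change EtPBC.IsWContractible ↥(Γ(Spec cc.pt.right, ⊤))
    have e1 : Dr ≃+* ↑cc.pt.right :=
      ((Under.forget _).mapIso eiso).symm.commRingCatIsoToRingEquiv
    have h3 := Groth.Agent.S7286.isWContractible_of_ringEquiv e1 hwc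
    exact Groth.Agent.S7286.isWContractible_of_ringEquiv
      (Scheme.ΓSpecIso cc.pt.right).symm.commRingCatIsoToRingEquiv h3

end Groth.Agent.Helper2.EpsX
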