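import Mathlib
import Groth.Prelude.Def_ProEtS
import Groth.Prelude.Def_PBC
import Groth.Agent.Lib.Helper2.LanProd
import Groth.Agent.Lib.Helper2.EpsU5
import Groth.Agent.Lib.Helper2.EpsU7

/-!
# Separatedness along surjections and descent with a general étale base
-/

namespace Groth.Agent.Helper2.EpsX

universe w u

open CategoryTheory CategoryTheory.Limits AlgebraicGeometry Opposite Groth.Agent.Helper2.LanProd
  Groth.Agent.Helper2.EpsU

set_option backward.isDefEq.respectTransparency.types false in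
theorem sep_eps_surj {X : Scheme.{u}} {F : X.Etaleᵒᵖ ⥤ Type w}
    (hF : Presieve.IsSheaf X.smallEtaleTopology F)
    (Z : X.ProEt) (W : X.Etale) (g : Z ⟶ (ProEtS.eps X).obj W) (s s' : F.obj (op W))
    (R : Sieve Z)
    (hRs : ∀ z : Z.left, ∃ (Z' : X.ProEt) (f : Z' ⟶ Z) (z' : Z'.left), R f ∧ f.left z' = z)
    (H : ∀ ⦃Z' : X.ProEt⦄ (f : Z' ⟶ Z), R f → ∃ (W' : X.Etale) (h : W' ⟶ W)
        (g' : Z' ⟶ (ProEtS.eps X).obj W'),
        g' ≫ (ProEtS.eps X).map h = f ≫ g ∧ F.map h.op s = F.map h.op s') :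
    ∃ (W₀ : X.Etale) (h₀ : W₀ ⟶ W) (g₀ : Z ⟶ (ProEtS.eps X).obj W₀),
      g₀ ≫ (ProEtS.eps X).map h₀ = g ∧ F.map h₀.op s = F.map h₀.op s' := by
  let I := Σ (Z' : X.ProEt), {f : Z' ⟶ Z // R f}
  have HI : ∀ i : I, ∃ (W' : X.Etale) (h : W' ⟶ W) (g' : i.1 ⟶ (ProEtS.eps X).obj W'),
      g' ≫ (ProEtS.eps X).map h = i.2.1 ≫ g ∧ F.map h.op s = F.map h.op s' :=
    fun i => H i.2.1 i.2.2
  choose W' h g' hg' hs using HI
  let O : W.left.Opens := ⟨⋃ i, Set.range (h i).left,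
    isOpen_iUnion (fun i => (h i).left.isOpenMap.isOpen_range)⟩
  haveI : Etale (O.ι ≫ W.hom) := inferInstance
  let W₀ : X.Etale := Scheme.Etale.mk (O.ι ≫ W.hom)
  let h₀ : W₀ ⟶ W := MorphismProperty.Over.homMk O.ι rfl
  have hrange : ∀ i, Set.range (h i).left ⊆ Set.range O.ι := by
    intro i
    rw [Scheme.Opens.range_ι]
    exact Set.subset_iUnion (fun i => Set.range (h i).left) i
  let kl : ∀ i, (W' i).left ⟶ (O : Scheme.{u}) := fun i => IsOpenImmersion.lift O.ι (h i).left (hrange i)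
  have hkl : ∀ i, kl i ≫ O.ι = (h i).left := fun i => IsOpenImmersion.lift_fac _ _ _
  let k : ∀ i, W' i ⟶ W₀ := fun i => MorphismProperty.Over.homMk (kl i) (by
    change kl i ≫ O.ι ≫ W.hom = (W' i).hom
    rw [← Category.assoc, hkl i]
    exact MorphismProperty.Over.w (h i))
  have hk : ∀ i, k i ≫ h₀ = h i := by
    intro i
    apply MorphismProperty.Over.Hom.ext
    exact hkl i
  have hOr : Set.range O.ι = (O : Set W.left) := Scheme.Opens.range_ι O
  have hgrange : Set.range g.left ⊆ Set.range O.ι := by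
    rintro _ ⟨z, rfl⟩
    obtain ⟨Z', f, z', hf, rfl⟩ := hRs z
    let i : I := ⟨Z', ⟨f, hf⟩⟩
    have e := congrArg (fun q => q.left) (hg' i)
    have e' : (g' i).left ≫ (h i).left = f.left ≫ g.left := e
    have e'' : ((g' i).left ≫ (h i).left) z' = (f.left ≫ g.left) z' := by
      rw [e']
      rfl
    have hmem : (f.left ≫ g.left) z' ∈ (O : Set W.left) :=
      Set.mem_iUnion.mpr ⟨i, (g' i).left z', e''⟩
    exact (Set.ext_iff.mp hOr _).mpr hmem
  let g₀l : Z.left ⟶ (O : Scheme.{u}) := IsOpenImmersion.lift O.ι g.left hgrange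
  have hg₀l : g₀l ≫ O.ι = g.left := IsOpenImmersion.lift_fac _ _ _
  let g₀ : Z ⟶ (ProEtS.eps X).obj W₀ := MorphismProperty.Over.homMk g₀l (by
    change g₀l ≫ O.ι ≫ W.hom = Z.hom
    rw [← Category.assoc, hg₀l]
    exact MorphismProperty.Over.w g)
  refine ⟨W₀, h₀, g₀, ?_, ?_⟩
  · apply MorphismProperty.Over.Hom.ext
    exact hg₀l
  · have hcov : Sieve.ofArrows W' k ∈ X.smallEtaleTopology W₀ := by
      rw [Scheme.ofArrows_mem_smallEtaleTopology_iff, Set.eq_univ_iff_forall]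
      intro x
      have hx : O.ι x ∈ (O : Set W.left) := x.2
      obtain ⟨i, y, hy⟩ := Set.mem_iUnion.mp hx
      refine Set.mem_iUnion.mpr ⟨i, y, ?_⟩
      apply O.ι.isOpenEmbedding.injective
      have e3 : (kl i ≫ O.ι) y = O.ι x := by
        rw [hkl i]
        exact hy
      exact e3
    refine (hF _ hcov).isSeparatedFor.ext ?_
    rintro Y f ⟨Y', a, b, ⟨i⟩, rfl⟩
    have e1 : ∀ x : F.obj (op W), F.map (a ≫ k i).op (F.map h₀.op x) =
        F.map a.op (F.map (h i).op x) := by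
      intro x
      rw [← hk i]
      simp only [op_comp, Functor.map_comp]
      rfl
    rw [e1, e1, hs i]

set_option backward.isDefEq.respectTransparency.types false in
/-- The Kan extension presheaf is separated along surjective morphisms. -/
theorem P_inj_of_surj {X : Scheme.{u}} {F : X.Etaleᵒᵖ ⥤ Type w}
    (hF : Presieve.IsSheaf X.smallEtaleTopology F)
    {E : Functor.LeftExtension (ProEtS.eps X).op F} (hE : E.IsPointwiseLeftKanExtension)
    {Z' Z : X.ProEt} (z : Z' ⟶ Z) (hz : ∀ x : Z.left, ∃ y : Z'.left, z.left y = x) :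
    Function.Injective (E.right.map z.op) := by
  intro t t' htt'
  obtain ⟨W, g, s, s', rfl, rfl⟩ := exists_cls₂ (ProEtS.eps X) hE t t'
  rw [map_cls, map_cls] at htt'
  obtain ⟨W', h, g', hg', hs⟩ := cls_eq_iff (ProEtS.eps X) hE _ s s' htt'
  obtain ⟨W₀, h₀, g₀, hg₀, hs₀⟩ := sep_eps_surj hF Z W g s s'
    (Sieve.generate (Presieve.singleton z))
    (fun x => by
      obtain ⟨y, hy⟩ := hz x
      exact ⟨Z', z, y, ⟨_, 𝟙 _, z, Presieve.singleton.mk, Category.id_comp _⟩, hy⟩)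
    (by
      rintro Z'' f ⟨Y, f', z', hz', rfl⟩
      obtain ⟨⟩ := hz'
      refine ⟨W', h, f' ≫ g', ?_, hs⟩
      rw [Category.assoc, hg', Category.assoc])
  rw [← hg₀, cls_comp_map, cls_comp_map, hs₀]

section Descent

variable {X : Scheme.{u}} (U : X.Etale)
  {I : Type u} [Category.{u} I] {D : I ⥤ Scheme.{u}}
  (tt : ∀ i, D.obj i ⟶ U.left) (htt : ∀ {i j : I} (f : i ⟶ j), D.map f ≫ tt j = tt i)
  {c : Cone D} (tc : c.pt ⟶ U.left) (htc : ∀ i, c.π.app i ≫ tt i = tc)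
  [∀ i, Etale (tt i)] [WeaklyEtale tc]
  (B : X.Etale) (pb : ∀ i, Wj U tt i ⟶ B)
  (hpb : ∀ {i j : I} (f : i ⟶ j), mj U tt htt f ≫ pb j = pb i)
  (cb : Vp U tc ⟶ (ProEtS.eps X).obj B)
  (hcb : ∀ i, gj U tt tc htc i ≫ (ProEtS.eps X).map (pb i) = cb)

variable {F : X.Etaleᵒᵖ ⥤ Type w} {E : Functor.LeftExtension (ProEtS.eps X).op F}
  (hE : E.IsPointwiseLeftKanExtension)

/-- The structure maps to the new base as a natural transformation. -/
noncomputable abbrev tB : D ⟶ (Functor.const I).obj B.left where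
  app i := (pb i).left
  naturality i j f := by
    simp only [Functor.const_obj_obj, Functor.const_obj_map, Category.comp_id]
    exact congrArg (fun q => q.left) (hpb f)

set_option backward.isDefEq.respectTransparency.types false in
include hE htt hcb hpb in
theorem descent_compat' [IsCofiltered I] [∀ i, IsAffine (D.obj i)] [IsAffine B.left]
    (hwcb : WeaklyEtale cb.left)
    (hc : IsLimit c) (hF : Presieve.IsSheaf X.smallEtaleTopology F)
    (i : I) (s : F.obj (op (Wj U tt i)))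
    (heq : ∀ (Z : X.ProEt) (f₁ f₂ : Z ⟶ Vp U tc), f₁ ≫ cb = f₂ ≫ cb →
      E.right.map f₁.op (cls (ProEtS.eps X) E (gj U tt tc htc i) s) =
      E.right.map f₂.op (cls (ProEtS.eps X) E (gj U tt tc htc i) s)) :
    ∃ (k : I) (f : k ⟶ i), ∀ (Z : X.Etale) (g₁ g₂ : Z ⟶ Wj U tt k),
      g₁ ≫ pb k = g₂ ≫ pb k →
      F.map g₁.op (F.map (mj U tt htt f).op s) = F.map g₂.op (F.map (mj U tt htt f).op s) := by
  obtain ⟨cl, hcl⟩ : ∃ m : c.pt ⟶ B.left, m = cb.left := ⟨_, rfl⟩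
  haveI : WeaklyEtale cl := by rw [hcl]; exact hwcb
  have hclw : cl ≫ B.hom = tc ≫ U.hom := by
    rw [hcl]
    exact MorphismProperty.Over.w cb
  haveI : WeaklyEtale (pullback.fst cl cl ≫ tc ≫ U.hom) := inferInstance
  let VV : X.ProEt := Scheme.ProEt.mk (pullback.fst cl cl ≫ tc ≫ U.hom)
  let pr₁ : VV ⟶ Vp U tc := MorphismProperty.Over.homMk (pullback.fst cl cl) rfl
  let pr₂ : VV ⟶ Vp U tc := MorphismProperty.Over.homMk (pullback.snd cl cl) (by
    change pullback.snd cl cl ≫ tc ≫ U.hom = pullback.fst cl cl ≫ tc ≫ U.hom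
    rw [← hclw, ← Category.assoc, ← pullback.condition, Category.assoc])
  have hpr : pr₁ ≫ cb = pr₂ ≫ cb := by
    apply MorphismProperty.Over.Hom.ext
    change pullback.fst cl cl ≫ cb.left = pullback.snd cl cl ≫ cb.left
    rw [← hcl]
    exact pullback.condition
  have h1 := heq VV pr₁ pr₂ hpr
  rw [map_cls, map_cls] at h1
  obtain ⟨W₃, h₁, h₂, g₃, hg₁, hg₂, hs⟩ := cls_eq_iff₂ (ProEtS.eps X) hE _ _ s s h1
  haveI : IsCofiltered (StructuredArrow VV (ProEtS.eps X)) := RepresentablyFlat.cofiltered _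
  let b₁ : StructuredArrow VV (ProEtS.eps X) := StructuredArrow.mk g₃
  let b₂ : StructuredArrow VV (ProEtS.eps X) := StructuredArrow.mk (pr₁ ≫ cb)
  let φ₁ : b₁ ⟶ b₂ := StructuredArrow.homMk (h₁ ≫ pb i) (by
    change g₃ ≫ (ProEtS.eps X).map (h₁ ≫ pb i) = pr₁ ≫ cb
    rw [Functor.map_comp, ← Category.assoc, hg₁, Category.assoc, hcb])
  let φ₂ : b₁ ⟶ b₂ := StructuredArrow.homMk (h₂ ≫ pb i) (by
    change g₃ ≫ (ProEtS.eps X).map (h₂ ≫ pb i) = pr₁ ≫ cb
    rw [Functor.map_comp, ← Category.assoc, hg₂, Category.assoc, hcb, hpr])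
  let b₀ := IsCofiltered.eq φ₁ φ₂
  let e : b₀ ⟶ b₁ := IsCofiltered.eqHom φ₁ φ₂
  have he : e ≫ φ₁ = e ≫ φ₂ := IsCofiltered.eq_condition φ₁ φ₂
  let W₄ : X.Etale := b₀.right
  let g₄ : VV ⟶ (ProEtS.eps X).obj W₄ := b₀.hom
  let k₁ : W₄ ⟶ Wj U tt i := e.right ≫ h₁
  let k₂ : W₄ ⟶ Wj U tt i := e.right ≫ h₂
  have he' : g₄ ≫ (ProEtS.eps X).map e.right = g₃ := StructuredArrow.w e
  have hk₁ : g₄ ≫ (ProEtS.eps X).map k₁ = pr₁ ≫ gj U tt tc htc i := by
    rw [Functor.map_comp, ← Category.assoc, he', hg₁]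
  have hk₂ : g₄ ≫ (ProEtS.eps X).map k₂ = pr₂ ≫ gj U tt tc htc i := by
    rw [Functor.map_comp, ← Category.assoc, he', hg₂]
  have hk12 : k₁ ≫ pb i = k₂ ≫ pb i := by
    have := congrArg (fun q => q.right) he
    simpa [k₁, k₂, φ₁, φ₂] using this
  have hsk : F.map k₁.op s = F.map k₂.op s := by
    simp only [k₁, k₂, op_comp, Functor.map_comp]
    change F.map e.right.op (F.map h₁.op s) = F.map e.right.op (F.map h₂.op s)
    rw [hs]
  have hcondq : k₁.left ≫ (pb i).left = k₂.left ≫ (pb i).left :=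
    congrArg (fun q => q.left) hk12
  haveI hk₁et : Etale k₁.left := inferInstance
  have e3 : g₄.left ≫ k₁.left = pullback.fst cl cl ≫ c.π.app i :=
    congrArg (fun q => q.left) hk₁
  have e4 : g₄.left ≫ k₂.left = pullback.snd cl cl ≫ c.π.app i :=
    congrArg (fun q => q.left) hk₂
  obtain ⟨k₁l, hk₁l⟩ : ∃ m : W₄.left ⟶ D.obj i, m = k₁.left := ⟨_, rfl⟩
  obtain ⟨k₂l, hk₂l⟩ : ∃ m : W₄.left ⟶ D.obj i, m = k₂.left := ⟨_, rfl⟩
  haveI : Etale k₁l := by rw [hk₁l]; exact hk₁et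
  rw [← hk₁l, ← hk₂l] at hcondq
  rw [← hk₁l] at e3
  rw [← hk₂l] at e4
  haveI : ∀ j, Etale ((tB U tt htt B pb hpb).app j) := fun j => by
    change Etale (pb j).left
    infer_instance
  have hclc : ∀ j, c.π.app j ≫ (tB U tt htt B pb hpb).app j = cl := by
    intro j
    rw [hcl]
    exact congrArg (fun q => q.left) (hcb j)
  obtain ⟨k, f, hk⟩ := scheme_level (S := B.left) D (tB U tt htt B pb hpb) c cl hclc hc i
    (W₄ := W₄.left) k₁l k₂l hcondq g₄.left e3 e4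
  rw [hk₁l, hk₂l] at hk
  refine ⟨k, f, ?_⟩
  intro Z g₁ g₂ h12
  have h12l : g₁.left ≫ (pb k).left = g₂.left ≫ (pb k).left := congrArg (fun q => q.left) h12
  obtain ⟨Z'l, zl, wl, hzet, hzsurj, hw₁, hw₂⟩ := hk g₁.left g₂.left h12l
  haveI := hzet
  haveI : Etale (zl ≫ Z.hom) := inferInstance
  let Z' : X.Etale := Scheme.Etale.mk (zl ≫ Z.hom)
  let z : Z' ⟶ Z := MorphismProperty.Over.homMk zl rfl
  let w' : Z' ⟶ W₄ := MorphismProperty.Over.homMk wl (by
    change wl ≫ W₄.hom = zl ≫ Z.hom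
    have e1 : k₁.left ≫ (Wj U tt i).hom = W₄.hom := MorphismProperty.Over.w k₁
    have e2 : (g₁.left ≫ D.map f) ≫ (Wj U tt i).hom = Z.hom :=
      MorphismProperty.Over.w (g₁ ≫ mj U tt htt f)
    exact (congrArg (fun m => wl ≫ m) e1.symm).trans ((Category.assoc _ _ _).symm.trans
      ((congrArg (fun m => m ≫ (Wj U tt i).hom) hw₁).trans
        ((Category.assoc _ _ _).trans (congrArg (fun m => zl ≫ m) e2)))))
  have hzw₁ : z ≫ g₁ ≫ mj U tt htt f = w' ≫ k₁ := by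
    apply MorphismProperty.Over.Hom.ext
    exact hw₁.symm
  have hzw₂ : z ≫ g₂ ≫ mj U tt htt f = w' ≫ k₂ := by
    apply MorphismProperty.Over.Hom.ext
    exact hw₂.symm
  apply inj_of_surjective hF z hzsurj
  have e1 : ∀ g : Z ⟶ Wj U tt k, F.map z.op (F.map g.op (F.map (mj U tt htt f).op s)) =
      F.map (z ≫ g ≫ mj U tt htt f).op s := by
    intro g
    simp only [op_comp, Functor.map_comp]
    rfl
  have e2 : ∀ k' : W₄ ⟶ Wj U tt i, F.map (w' ≫ k').op s = F.map w'.op (F.map k'.op s) := by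
    intro k'
    simp only [op_comp, Functor.map_comp]
    rfl
  rw [e1, e1, hzw₁, hzw₂, e2, e2, hsk]

end Descent

end Groth.Agent.Helper2.EpsX
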