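import Mathlib
import Groth.Prelude.Def_ProEtS
import Groth.Prelude.Def_PBC
import Groth.Agent.Lib.Helper2.LanProd
import Groth.Agent.Lib.Helper2.EpsU1
import Groth.Agent.Lib.Helper2.EpsU4
import Groth.Agent.Lib.Helper2.EpsU5
import Groth.Agent.Lib.Helper2.EpsU7
import Groth.Agent.Lib.Helper2.EpsX2
import Groth.Agent.Lib.Helper2.EpsX3
import Groth.Agent.Lib.Helper2.EpsX4

/-!
# Descent for the Kan extension presheaf along a cover of a tower by a tower; the colimit formula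
on all affine towers
-/

namespace Groth.Agent.Helper2.EpsX

universe w u

open CategoryTheory CategoryTheory.Limits AlgebraicGeometry Opposite Groth.Agent.Helper2.LanProd
  Groth.Agent.Helper2.EpsU

section DescZ

variable {X : Scheme.{u}} (U : X.Etale)
  {I : Type u} [Category.{u} I] {D : I ⥤ Scheme.{u}}
  (tt : ∀ i, D.obj i ⟶ U.left) (htt : ∀ {i j : I} (f : i ⟶ j), D.map f ≫ tt j = tt i)
  {c : Cone D} (tc : c.pt ⟶ U.left) (htc : ∀ i, c.π.app i ≫ tt i = tc)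
  [∀ i, Etale (tt i)] [WeaklyEtale tc]
  {I' : Type u} [Category.{u} I'] {D' : I' ⥤ Scheme.{u}}
  (tt' : ∀ i, D'.obj i ⟶ U.left) (htt' : ∀ {i j : I'} (f : i ⟶ j), D'.map f ≫ tt' j = tt' i)
  {c' : Cone D'} (tc' : c'.pt ⟶ U.left) (htc' : ∀ i, c'.π.app i ≫ tt' i = tc')
  [∀ i, Etale (tt' i)] [WeaklyEtale tc']
  (ql : c'.pt ⟶ c.pt) (hql : ql ≫ tc = tc')

/-- The morphism of pro-étale objects induced by `ql`. -/
noncomputable abbrev qV : Vp U tc' ⟶ Vp U tc := MorphismProperty.Over.homMk ql (by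
  change ql ≫ tc ≫ U.hom = tc' ≫ U.hom
  rw [← Category.assoc, hql])

variable {F : X.Etaleᵒᵖ ⥤ Type w} {E : Functor.LeftExtension (ProEtS.eps X).op F}
  (hE : E.IsPointwiseLeftKanExtension)

set_option backward.isDefEq.respectTransparency.types false in
include hE htt htc htt' htc' in
theorem hdescZ [IsCofiltered I] [IsCofiltered I'] [IsAffine U.left]
    [∀ i, IsAffine (D.obj i)] [∀ i, IsAffine (D'.obj i)] [IsAffine c'.pt]
    (hF : Presieve.IsSheaf X.smallEtaleTopology F) (hc : IsLimit c) (hc' : IsLimit c')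
    (hqs : ∀ x : c.pt, ∃ y : c'.pt, ql y = x)
    (tV : E.right.obj (op (Vp U tc')))
    (heq : ∀ (Y : X.ProEt) (f₁ f₂ : Y ⟶ Vp U tc'),
      f₁ ≫ qV U tc tc' ql hql = f₂ ≫ qV U tc tc' ql hql →
      E.right.map f₁.op tV = E.right.map f₂.op tV) :
    ∃ tZ : E.right.obj (op (Vp U tc)), E.right.map (qV U tc tc' ql hql).op tZ = tV := by
  obtain ⟨n, s, rfl⟩ := normal_form U tt' htt' tc' htc' hE hc' tV
  haveI hqlw : WeaklyEtale ql := by
    haveI : WeaklyEtale (ql ≫ tc) := by rw [hql]; infer_instance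
    exact WeaklyEtale.of_comp ql tc
  -- Step 2: the cocycle over `V' ×_Z V'`
  haveI : WeaklyEtale (pullback.fst ql ql ≫ tc' ≫ U.hom) := inferInstance
  let TT : X.ProEt := Scheme.ProEt.mk (pullback.fst ql ql ≫ tc' ≫ U.hom)
  let pr₁ : TT ⟶ Vp U tc' := MorphismProperty.Over.homMk (pullback.fst ql ql) rfl
  have hcondT : pullback.snd ql ql ≫ tc' = pullback.fst ql ql ≫ tc' := by
    rw [← hql, ← Category.assoc, ← Category.assoc, pullback.condition]
  let pr₂ : TT ⟶ Vp U tc' := MorphismProperty.Over.homMk (pullback.snd ql ql) (by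
    change pullback.snd ql ql ≫ tc' ≫ U.hom = pullback.fst ql ql ≫ tc' ≫ U.hom
    rw [← Category.assoc, hcondT, Category.assoc])
  have hpr : pr₁ ≫ qV U tc tc' ql hql = pr₂ ≫ qV U tc tc' ql hql := by
    apply MorphismProperty.Over.Hom.ext
    exact pullback.condition
  have hprc : pr₁ ≫ cV U tc' = pr₂ ≫ cV U tc' := by
    apply MorphismProperty.Over.Hom.ext
    exact hcondT.symm
  have h1 := heq TT pr₁ pr₂ hpr
  rw [map_cls, map_cls] at h1
  obtain ⟨W₃, h₁, h₂, g₃, hg₁, hg₂, hs⟩ := cls_eq_iff₂ (ProEtS.eps X) hE _ _ s s h1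
  haveI : IsCofiltered (StructuredArrow TT (ProEtS.eps X)) := RepresentablyFlat.cofiltered _
  let b₁ : StructuredArrow TT (ProEtS.eps X) := StructuredArrow.mk g₃
  let b₂ : StructuredArrow TT (ProEtS.eps X) := StructuredArrow.mk (pr₁ ≫ cV U tc')
  let φ₁ : b₁ ⟶ b₂ := StructuredArrow.homMk (h₁ ≫ pj U tt' n) (by
    change g₃ ≫ (ProEtS.eps X).map (h₁ ≫ pj U tt' n) = pr₁ ≫ cV U tc'
    rw [Functor.map_comp, ← Category.assoc, hg₁, Category.assoc, gj_comp_pj])
  let φ₂ : b₁ ⟶ b₂ := StructuredArrow.homMk (h₂ ≫ pj U tt' n) (by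
    change g₃ ≫ (ProEtS.eps X).map (h₂ ≫ pj U tt' n) = pr₁ ≫ cV U tc'
    rw [Functor.map_comp, ← Category.assoc, hg₂, Category.assoc, gj_comp_pj, hprc])
  let b₀ := IsCofiltered.eq φ₁ φ₂
  let e : b₀ ⟶ b₁ := IsCofiltered.eqHom φ₁ φ₂
  have he : e ≫ φ₁ = e ≫ φ₂ := IsCofiltered.eq_condition φ₁ φ₂
  let W₄ : X.Etale := b₀.right
  let g₄ : TT ⟶ (ProEtS.eps X).obj W₄ := b₀.hom
  let k₁ : W₄ ⟶ Wj U tt' n := e.right ≫ h₁
  let k₂ : W₄ ⟶ Wj U tt' n := e.right ≫ h₂
  have he' : g₄ ≫ (ProEtS.eps X).map e.right = g₃ := StructuredArrow.w e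
  have hk₁ : g₄ ≫ (ProEtS.eps X).map k₁ = pr₁ ≫ gj U tt' tc' htc' n := by
    rw [Functor.map_comp, ← Category.assoc, he', hg₁]
  have hk₂ : g₄ ≫ (ProEtS.eps X).map k₂ = pr₂ ≫ gj U tt' tc' htc' n := by
    rw [Functor.map_comp, ← Category.assoc, he', hg₂]
  have hk12 : k₁ ≫ pj U tt' n = k₂ ≫ pj U tt' n := by
    have := congrArg (fun q => q.right) he
    simpa [k₁, k₂, φ₁, φ₂] using this
  have hsk : F.map k₁.op s = F.map k₂.op s := by
    simp only [k₁, k₂, op_comp, Functor.map_comp]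
    change F.map e.right.op (F.map h₁.op s) = F.map e.right.op (F.map h₂.op s)
    rw [hs]
  have hcondq : k₁.left ≫ tt' n = k₂.left ≫ tt' n := congrArg (fun q => q.left) hk12
  haveI hk₁et : Etale k₁.left := inferInstance
  obtain ⟨g₄l, hg₄l⟩ : ∃ m : pullback ql ql ⟶ W₄.left, m = g₄.left := ⟨_, rfl⟩
  have e3 : g₄l ≫ k₁.left = pullback.fst ql ql ≫ c'.π.app n := by
    rw [hg₄l]
    exact congrArg (fun q => q.left) hk₁
  have e4 : g₄l ≫ k₂.left = pullback.snd ql ql ≫ c'.π.app n := by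
    rw [hg₄l]
    exact congrArg (fun q => q.left) hk₂
  obtain ⟨k₁l, hk₁l⟩ : ∃ m : W₄.left ⟶ D'.obj n, m = k₁.left := ⟨_, rfl⟩
  obtain ⟨k₂l, hk₂l⟩ : ∃ m : W₄.left ⟶ D'.obj n, m = k₂.left := ⟨_, rfl⟩
  haveI : Etale k₁l := by rw [hk₁l]; exact hk₁et
  rw [← hk₁l, ← hk₂l] at hcondq
  rw [← hk₁l] at e3
  rw [← hk₂l] at e4
  let ρ : W₄.left ⟶ pullback (tt' n) (tt' n) := pullback.lift k₁l k₂l hcondq
  have hρ₁ : ρ ≫ pullback.fst (tt' n) (tt' n) = k₁l := pullback.lift_fst _ _ _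
  have hρ₂ : ρ ≫ pullback.snd (tt' n) (tt' n) = k₂l := pullback.lift_snd _ _ _
  haveI : Etale (ρ ≫ pullback.fst (tt' n) (tt' n)) := by rw [hρ₁]; infer_instance
  haveI : Etale ρ := Etale.of_comp ρ (pullback.fst (tt' n) (tt' n))
  let O : (pullback (tt' n) (tt' n)).Opens := ⟨Set.range ρ, ρ.isOpenMap.isOpen_range⟩
  -- Step 3a: the tower `l ↦ V' ×_{Z_l} V'`
  have hθc : ∀ l, (pullback.fst (ql ≫ c.π.app l) (ql ≫ c.π.app l) ≫ c'.π.app n) ≫ tt' n =
      (pullback.snd (ql ≫ c.π.app l) (ql ≫ c.π.app l) ≫ c'.π.app n) ≫ tt' n := by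
    intro l
    have h := pullback.condition (f := ql ≫ c.π.app l) (g := ql ≫ c.π.app l)
    have e : c'.π.app n ≫ tt' n = (ql ≫ c.π.app l) ≫ tt l := by
      rw [htc' n, Category.assoc, htc l, hql]
    have h' := congrArg (fun m => m ≫ tt l) h
    simp only [Category.assoc] at h'
    rw [Category.assoc, Category.assoc, e]
    simp only [Category.assoc]
    exact h'
  let θ : ∀ l, (pbt D c ql ql).obj l ⟶ pullback (tt' n) (tt' n) :=
    fun l => pullback.lift _ _ (hθc l)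
  have hθ₁ : ∀ l, θ l ≫ pullback.fst (tt' n) (tt' n) =
      pullback.fst (ql ≫ c.π.app l) (ql ≫ c.π.app l) ≫ c'.π.app n :=
    fun l => pullback.lift_fst _ _ _
  have hθ₂ : ∀ l, θ l ≫ pullback.snd (tt' n) (tt' n) =
      pullback.snd (ql ≫ c.π.app l) (ql ≫ c.π.app l) ≫ c'.π.app n :=
    fun l => pullback.lift_snd _ _ _
  have hθmap : ∀ {l l' : I} (f : l ⟶ l'), (pbt D c ql ql).map f ≫ θ l' = θ l := by
    intro l l' f
    apply pullback.hom_ext
    · rw [Category.assoc, hθ₁, hθ₁, ← Category.assoc, pbt_map_fst]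
    · rw [Category.assoc, hθ₂, hθ₂, ← Category.assoc, pbt_map_snd]
  have hθT : ∀ l, (pbtCone D c ql ql).π.app l ≫ θ l = g₄l ≫ ρ := by
    intro l
    apply pullback.hom_ext
    · rw [Category.assoc, hθ₁, ← Category.assoc, pbtCone_π_fst, Category.assoc, hρ₁]
      exact e3.symm
    · rw [Category.assoc, hθ₂, ← Category.assoc, pbtCone_π_snd, Category.assoc, hρ₂]
      exact e4.symm
  obtain ⟨l₀⟩ : Nonempty I := IsCofiltered.nonempty
  haveI haff : ∀ l, IsAffine ((pbt D c ql ql).obj l) := fun l => by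
    change IsAffine (pullback (ql ≫ c.π.app l) (ql ≫ c.π.app l))
    infer_instance
  haveI : ∀ {a b : I} (f : a ⟶ b), IsAffineHom ((pbt D c ql ql).map f) := fun f => inferInstance
  haveI : ∀ l, CompactSpace ((pbt D c ql ql).obj l) := fun l => inferInstance
  have hO : (pbtCone D c ql ql).π.app l₀ ⁻¹ᵁ (θ l₀ ⁻¹ᵁ O) = ⊤ := by
    ext x
    simp only [TopologicalSpace.Opens.coe_top, Set.mem_univ, iff_true]
    change ((pbtCone D c ql ql).π.app l₀ ≫ θ l₀) x ∈ Set.range ρ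
    rw [hθT]
    exact ⟨g₄l x, rfl⟩
  obtain ⟨l, fl, hl⟩ := exists_map_eq_top (pbt D c ql ql) (pbtCone D c ql ql)
    (isLimitPbtCone D c ql ql hc) (θ l₀ ⁻¹ᵁ O) hO
  have hall : ∀ x : (pbt D c ql ql).obj l, θ l x ∈ Set.range ρ := by
    intro x
    have hx : x ∈ (((pbt D c ql ql).map fl ⁻¹ᵁ (θ l₀ ⁻¹ᵁ O) : TopologicalSpace.Opens _) : Set _) := by
      rw [hl]; trivial
    have h2 : ((pbt D c ql ql).map fl ≫ θ l₀) x ∈ Set.range ρ := hx
    rwa [hθmap] at h2
  -- Step 3b: `tV` is equalised by any two maps with the same image in `Z_l`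
  have heq_l : ∀ (Y : X.ProEt) (f₁ f₂ : Y ⟶ Vp U tc'),
      f₁.left ≫ ql ≫ c.π.app l = f₂.left ≫ ql ≫ c.π.app l →
      E.right.map f₁.op (cls (ProEtS.eps X) E (gj U tt' tc' htc' n) s) =
      E.right.map f₂.op (cls (ProEtS.eps X) E (gj U tt' tc' htc' n) s) := by
    intro Y f₁ f₂ h12
    obtain ⟨f₁l, hf₁l⟩ : ∃ m : Y.left ⟶ c'.pt, m = f₁.left := ⟨_, rfl⟩
    obtain ⟨f₂l, hf₂l⟩ : ∃ m : Y.left ⟶ c'.pt, m = f₂.left := ⟨_, rfl⟩
    rw [← hf₁l, ← hf₂l] at h12
    let r : Y.left ⟶ (pbt D c ql ql).obj l := pullback.lift f₁l f₂l h12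
    have hr₁ : r ≫ pullback.fst (ql ≫ c.π.app l) (ql ≫ c.π.app l) = f₁l :=
      pullback.lift_fst _ _ _
    have hr₂ : r ≫ pullback.snd (ql ≫ c.π.app l) (ql ≫ c.π.app l) = f₂l :=
      pullback.lift_snd _ _ _
    obtain ⟨r', hr'⟩ : ∃ m : Y.left ⟶ pullback (tt' n) (tt' n), m = r ≫ θ l := ⟨_, rfl⟩
    have hr'₁ : r' ≫ pullback.fst (tt' n) (tt' n) = f₁l ≫ c'.π.app n := by
      rw [hr', Category.assoc, hθ₁, ← Category.assoc, hr₁]
    have hr'₂ : r' ≫ pullback.snd (tt' n) (tt' n) = f₂l ≫ c'.π.app n := by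
      rw [hr', Category.assoc, hθ₂, ← Category.assoc, hr₂]
    let z₁ : pullback r' ρ ⟶ Y.left := pullback.fst r' ρ
    let w₁ : pullback r' ρ ⟶ W₄.left := pullback.snd r' ρ
    haveI : Etale z₁ := inferInstance
    haveI : WeaklyEtale (z₁ ≫ Y.hom) := inferInstance
    let Y₁ : X.ProEt := Scheme.ProEt.mk (z₁ ≫ Y.hom)
    let zz : Y₁ ⟶ Y := MorphismProperty.Over.homMk z₁ rfl
    have hzsurj : ∀ x : Y.left, ∃ y : Y₁.left, zz.left y = x := by
      intro x
      obtain ⟨y, hy⟩ := hall (r x)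
      obtain ⟨z', hz', -⟩ := Scheme.Pullback.exists_preimage_pullback (f := r') (g := ρ) x y (by
        rw [hy, hr']; rfl)
      exact ⟨z', hz'⟩
    have e5 : w₁ ≫ k₁l = z₁ ≫ f₁l ≫ c'.π.app n := by
      rw [← hρ₁, ← Category.assoc, ← pullback.condition, Category.assoc, hr'₁]
    have e6 : w₁ ≫ k₂l = z₁ ≫ f₂l ≫ c'.π.app n := by
      rw [← hρ₂, ← Category.assoc, ← pullback.condition, Category.assoc, hr'₂]
    have e1 : k₁l ≫ tt' n ≫ U.hom = W₄.hom := by
      rw [hk₁l]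
      exact MorphismProperty.Over.w k₁
    have e2 : f₁l ≫ tc' ≫ U.hom = Y.hom := by
      rw [hf₁l]
      exact MorphismProperty.Over.w f₁
    have e7 : c'.π.app n ≫ tt' n ≫ U.hom = tc' ≫ U.hom := by
      rw [← Category.assoc, htc' n]
    let ww : Y₁ ⟶ (ProEtS.eps X).obj W₄ := MorphismProperty.Over.homMk w₁ (by
      change w₁ ≫ W₄.hom = z₁ ≫ Y.hom
      calc w₁ ≫ W₄.hom = w₁ ≫ k₁l ≫ tt' n ≫ U.hom := by rw [e1]
        _ = (w₁ ≫ k₁l) ≫ tt' n ≫ U.hom := (Category.assoc _ _ _).symm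
        _ = (z₁ ≫ f₁l ≫ c'.π.app n) ≫ tt' n ≫ U.hom := by rw [e5]
        _ = z₁ ≫ f₁l ≫ (c'.π.app n ≫ tt' n ≫ U.hom) := by simp only [Category.assoc]
        _ = z₁ ≫ f₁l ≫ tc' ≫ U.hom := by rw [e7]
        _ = z₁ ≫ Y.hom := by rw [e2])
    have hz₁ : zz ≫ f₁ ≫ gj U tt' tc' htc' n = ww ≫ (ProEtS.eps X).map k₁ := by
      apply MorphismProperty.Over.Hom.ext
      change z₁ ≫ f₁.left ≫ c'.π.app n = w₁ ≫ k₁.left
      rw [← hk₁l, ← hf₁l]
      exact e5.symm
    have hz₂ : zz ≫ f₂ ≫ gj U tt' tc' htc' n = ww ≫ (ProEtS.eps X).map k₂ := by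
      apply MorphismProperty.Over.Hom.ext
      change z₁ ≫ f₂.left ≫ c'.π.app n = w₁ ≫ k₂.left
      rw [← hk₂l, ← hf₂l]
      exact e6.symm
    apply P_inj_of_surj hF hE zz hzsurj
    rw [map_cls, map_cls, map_cls, map_cls, hz₁, hz₂, cls_comp_map, cls_comp_map, hsk]
  -- Step 4: factor `V' → Z_l` through a finite level of the tower of `V'`
  obtain ⟨n₀, r₀, hr₀₁, hr₀₂⟩ := Scheme.exists_π_app_comp_eq_of_locallyOfFinitePresentation D'
    (tN U tt' htt') (tt l) c' hc' (ql ≫ c.π.app l) (by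
      ext i : 2
      simp only [NatTrans.comp_app, Functor.const_obj_obj, Functor.const_map_app]
      rw [htc' i, Category.assoc, htc l, hql])
  have hr₀₂' : r₀ ≫ tt l = tt' n₀ := hr₀₂
  let n₁ : I' := IsCofiltered.min n₀ n
  let a₁ : n₁ ⟶ n₀ := IsCofiltered.minToLeft n₀ n
  let en : n₁ ⟶ n := IsCofiltered.minToRight n₀ n
  obtain ⟨r, hr⟩ : ∃ m : D'.obj n₁ ⟶ D.obj l, m = D'.map a₁ ≫ r₀ := ⟨_, rfl⟩
  have hr₁ : c'.π.app n₁ ≫ r = ql ≫ c.π.app l := by
    rw [hr, ← Category.assoc, c'.w a₁, hr₀₁]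
  have hr₂ : r ≫ tt l = tt' n₁ := by
    rw [hr, Category.assoc, hr₀₂', htt' a₁]
  -- the re-indexed tower
  let D'' : Over n₁ ⥤ Scheme.{u} := Over.forget n₁ ⋙ D'
  let c'' : Cone D'' := c'.whisker (Over.forget n₁)
  have hc'' : IsLimit c'' := (Functor.Initial.isLimitWhiskerEquiv (Over.forget n₁) c').symm hc'
  let tt'' : ∀ a : Over n₁, D''.obj a ⟶ U.left := fun a => tt' a.left
  have htt'' : ∀ {a b : Over n₁} (f : a ⟶ b), D''.map f ≫ tt'' b = tt'' a := fun f => htt' f.left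
  let tc'' : c''.pt ⟶ U.left := tc'
  have htc'' : ∀ a : Over n₁, c''.π.app a ≫ tt'' a = tc'' := fun a => htc' a.left
  haveI : WeaklyEtale tc'' := inferInstanceAs (WeaklyEtale tc')
  haveI : ∀ a : Over n₁, IsAffine (D''.obj a) := fun a =>
    inferInstanceAs (IsAffine (D'.obj a.left))
  haveI : ∀ a : Over n₁, Etale (tt'' a) := fun a => inferInstanceAs (Etale (tt' a.left))
  let B : X.Etale := Wj U tt l
  haveI : IsAffine B.left := inferInstanceAs (IsAffine (D.obj l))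
  let pb : ∀ a : Over n₁, Wj U tt'' a ⟶ B := fun a =>
    MorphismProperty.Over.homMk (D'.map a.hom ≫ r) (by
      change (D'.map a.hom ≫ r) ≫ tt l ≫ U.hom = tt' a.left ≫ U.hom
      rw [Category.assoc, ← Category.assoc r, hr₂, ← Category.assoc, htt' a.hom])
  have hpb : ∀ {a b : Over n₁} (f : a ⟶ b), mj U tt'' htt'' f ≫ pb b = pb a := by
    intro a b f
    apply MorphismProperty.Over.Hom.ext
    change D'.map f.left ≫ D'.map b.hom ≫ r = D'.map a.hom ≫ r
    rw [← Category.assoc, ← D'.map_comp, Over.w f]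
  let cb : Vp U tc'' ⟶ (ProEtS.eps X).obj B := qV U tc tc' ql hql ≫ gj U tt tc htc l
  have hcb : ∀ a : Over n₁, gj U tt'' tc'' htc'' a ≫ (ProEtS.eps X).map (pb a) = cb := by
    intro a
    apply MorphismProperty.Over.Hom.ext
    change c'.π.app a.left ≫ D'.map a.hom ≫ r = ql ≫ c.π.app l
    rw [← Category.assoc, c'.w a.hom, hr₁]
  have hwcb : WeaklyEtale cb.left := by
    change WeaklyEtale (ql ≫ c.π.app l)
    haveI : WeaklyEtale ((ql ≫ c.π.app l) ≫ tt l) := by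
      rw [Category.assoc, htc l, hql]; infer_instance
    exact WeaklyEtale.of_comp (ql ≫ c.π.app l) (tt l)
  let a₀ : Over n₁ := Over.mk (𝟙 n₁)
  let s₀ : F.obj (op (Wj U tt'' a₀)) := F.map (mj U tt' htt' en).op s
  have key : cls (ProEtS.eps X) E (gj U tt'' tc'' htc'' a₀) s₀ =
      cls (ProEtS.eps X) E (gj U tt' tc' htc' n) s := by
    change cls (ProEtS.eps X) E (gj U tt' tc' htc' n₁) (F.map (mj U tt' htt' en).op s) = _
    rw [← cls_comp_map, gj_comp_mj]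
  obtain ⟨k, f, hk⟩ := descent_compat' (D := D'') (c := c'') U tt'' htt'' tc'' htc'' B pb hpb cb hcb
    hE hwcb hc'' hF a₀ s₀
    (by
      intro Y f₁ f₂ h12
      rw [key]
      apply heq_l Y f₁ f₂
      exact congrArg (fun q => q.left) h12)
  -- Step 6: descend to the open image of `W_k → Z_l`
  let O₂ : (D.obj l).Opens := ⟨Set.range (pb k).left, (pb k).left.isOpenMap.isOpen_range⟩
  haveI : Etale (O₂.ι ≫ tt l ≫ U.hom) := inferInstance
  let WO : X.Etale := Scheme.Etale.mk (O₂.ι ≫ tt l ≫ U.hom)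
  let h₀ : WO ⟶ B := MorphismProperty.Over.homMk O₂.ι rfl
  have hOr : Set.range O₂.ι = (O₂ : Set (D.obj l)) := Scheme.Opens.range_ι O₂
  let κl : D'.obj k.left ⟶ (O₂ : Scheme.{u}) := IsOpenImmersion.lift O₂.ι (pb k).left (by
    rw [hOr]
    exact fun x hx => hx)
  have hκl : κl ≫ O₂.ι = (pb k).left := IsOpenImmersion.lift_fac _ _ _
  let κ : Wj U tt'' k ⟶ WO := MorphismProperty.Over.homMk κl (by
    change κl ≫ O₂.ι ≫ B.hom = (Wj U tt'' k).hom
    rw [← Category.assoc, hκl]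
    exact MorphismProperty.Over.w (pb k))
  have hκ : κ ≫ h₀ = pb k := by
    apply MorphismProperty.Over.Hom.ext
    exact hκl
  have hκsurj : ∀ x : WO.left, ∃ y : (Wj U tt'' k).left, κ.left y = x := by
    intro x
    have hx : O₂.ι x ∈ (O₂ : Set (D.obj l)) := x.2
    obtain ⟨y, hy⟩ := hx
    refine ⟨y, ?_⟩
    apply O₂.ι.isOpenEmbedding.injective
    have e3' : (κl ≫ O₂.ι) y = O₂.ι x := by
      rw [hκl]
      exact hy
    exact e3'
  obtain ⟨sO, hsO⟩ := descend_of_surjective hF κ hκsurj (F.map (mj U tt'' htt'' f).op s₀) (by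
    intro Z₀ g₁ g₂ h12
    apply hk Z₀ g₁ g₂
    rw [← hκ, ← Category.assoc, h12, Category.assoc])
  -- Step 7: `Z → Z_l` factors through the open image
  have hcbl : ∀ a : Over n₁, c'.π.app a.left ≫ (pb a).left = ql ≫ c.π.app l :=
    fun a => congrArg (fun q => q.left) (hcb a)
  have hrange : Set.range (c.π.app l) ⊆ Set.range O₂.ι := by
    rw [hOr]
    rintro _ ⟨x, rfl⟩
    obtain ⟨y, rfl⟩ := hqs x
    refine ⟨c'.π.app k.left y, ?_⟩
    have e8 := congrArg (fun m : c'.pt ⟶ D.obj l => m y) (hcbl k)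
    exact e8
  let gOl : c.pt ⟶ (O₂ : Scheme.{u}) := IsOpenImmersion.lift O₂.ι (c.π.app l) hrange
  have hgOl : gOl ≫ O₂.ι = c.π.app l := IsOpenImmersion.lift_fac _ _ _
  let gO : Vp U tc ⟶ (ProEtS.eps X).obj WO := MorphismProperty.Over.homMk gOl (by
    change gOl ≫ O₂.ι ≫ B.hom = (Vp U tc).hom
    rw [← Category.assoc, hgOl]
    exact gj_aux U tt tc htc l)
  refine ⟨cls (ProEtS.eps X) E gO sO, ?_⟩
  rw [map_cls]
  have e1 : qV U tc tc' ql hql ≫ gO = gj U tt'' tc'' htc'' k ≫ (ProEtS.eps X).map κ := by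
    apply MorphismProperty.Over.Hom.ext
    change ql ≫ gOl = c'.π.app k.left ≫ κl
    rw [← cancel_mono O₂.ι, Category.assoc, hgOl, Category.assoc, hκl]
    exact (hcbl k).symm
  rw [e1, cls_comp_map, hsO, ← cls_comp_map, gj_comp_mj, key]

end DescZ

section Star

variable {X : Scheme.{u}} (U : X.Etale)
  {I : Type u} [Category.{u} I] {D : I ⥤ Scheme.{u}}
  (tt : ∀ i, D.obj i ⟶ U.left) (htt : ∀ {i j : I} (f : i ⟶ j), D.map f ≫ tt j = tt i)
  {c : Cone D} (tc : c.pt ⟶ U.left) (htc : ∀ i, c.π.app i ≫ tt i = tc)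
  [∀ i, Etale (tt i)] [WeaklyEtale tc]

set_option backward.isDefEq.respectTransparency.types false in
include htt htc in
/-- The colimit formula: a locally bijective map from the Kan extension presheaf of an étale sheaf to
a pro-étale sheaf is bijective on every affine tower over an affine étale `U`. -/
theorem bijective_on_tower [IsCofiltered I] [IsAffine U.left] [∀ i, IsAffine (D.obj i)]
    [IsAffine c.pt] (hc : IsLimit c)
    {F : X.Etaleᵒᵖ ⥤ Type w} (hF : Presieve.IsSheaf X.smallEtaleTopology F)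
    {E : Functor.LeftExtension (ProEtS.eps X).op F} (hE : E.IsPointwiseLeftKanExtension)
    {Q : X.ProEtᵒᵖ ⥤ Type w} (hQ : Presieve.IsSheaf (Scheme.ProEt.topology X) Q)
    (φ : E.right ⟶ Q) [Presheaf.IsLocallyInjective (Scheme.ProEt.topology X) φ]
    [Presheaf.IsLocallySurjective (Scheme.ProEt.topology X) φ] :
    Function.Bijective (φ.app (op (Vp U tc))) := by
  have hinjφ : ∀ Z : X.ProEt, Function.Injective (φ.app (op Z)) :=
    injective_of_sep (ProEtS.eps X) (Scheme.ProEt.topology X) hE φ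
      (fun Z W g s s' R hR H => sep_eps hF Z W g s s' R hR H)
  refine ⟨hinjφ _, ?_⟩
  intro t
  obtain ⟨I', _, _, D', tt', htt', c', hc', tc', htc', ql, hql, haff, het, hwe, hsurj, haffV, hwc⟩ :=
    retower D tt htt c hc tc htc
  haveI := haff
  haveI := het
  haveI := hwe
  haveI := hsurj
  haveI := haffV
  haveI : IsAffine (Vp U tc').left := haffV
  haveI hqlw : WeaklyEtale ql := by
    haveI : WeaklyEtale (ql ≫ tc) := by rw [hql]; infer_instance
    exact WeaklyEtale.of_comp ql tc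
  have hcover : Sieve.generate (Presieve.singleton (qV U tc tc' ql hql)) ∈
      Scheme.ProEt.topology X (Vp U tc) := by
    apply Precoverage.generate_mem_toGrothendieck
    change (Presieve.singleton (qV U tc tc' ql hql)).map (Scheme.ProEt.forget X ⋙ Over.forget X) ∈
      Scheme.proetalePrecoverage _
    rw [Presieve.map_singleton]
    haveI : QuasiCompact ql := inferInstance
    exact Scheme.Hom.singleton_mem_propQCPrecoverage (f := ql) hqlw
  obtain ⟨tV, htV⟩ := (bijective_on_wc hF hE hQ φ (Vp U tc') hwc).2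
    (Q.map (qV U tc tc' ql hql).op t)
  obtain ⟨tZ, htZ⟩ := hdescZ U tt htt tc htc tt' htt' tc' htc' ql hql hE hF hc hc'
    (fun x => ql.surjective x) tV (by
      intro Y f₁ f₂ h12
      apply hinjφ Y
      have e1 := NatTrans.naturality_apply φ f₁.op tV
      have e2 := NatTrans.naturality_apply φ f₂.op tV
      rw [e1, e2, htV]
      have : ∀ f : Y ⟶ Vp U tc', Q.map f.op (Q.map (qV U tc tc' ql hql).op t) =
          Q.map (f ≫ qV U tc tc' ql hql).op t := by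
        intro f
        rw [op_comp, Functor.map_comp]
        rfl
      rw [this, this, h12])
  refine ⟨tZ, ?_⟩
  refine (hQ.isSeparated _ hcover).ext ?_
  rintro Y f ⟨Y', f', c₁, hc₁, rfl⟩
  obtain ⟨⟩ := hc₁
  have e0 : ∀ x : Q.obj (op (Vp U tc)), Q.map (f' ≫ qV U tc tc' ql hql).op x =
      Q.map f'.op (Q.map (qV U tc tc' ql hql).op x) := by
    intro x
    rw [op_comp, Functor.map_comp]
    rfl
  rw [e0, e0]
  congr 1
  have e1 := NatTrans.naturality_apply φ (qV U tc tc' ql hql).op tZ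
  rw [← e1, htZ, htV]

end Star

end Groth.Agent.Helper2.EpsX
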