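import Mathlib
import Groth.Prelude.Def_ProEtS
import Groth.Prelude.Def_PBC
import Groth.Agent.Lib.Helper2.LanProd
import Groth.Agent.Lib.Helper2.EpsU4
import Groth.Agent.Lib.Helper2.EpsU7

/-!
# Equality in the Kan extension presheaf on a tower is detected at a finite level
-/

namespace Groth.Agent.Helper2.EpsX

universe w u

open CategoryTheory CategoryTheory.Limits AlgebraicGeometry Opposite Groth.Agent.Helper2.LanProd
  Groth.Agent.Helper2.EpsU

section

variable {X : Scheme.{u}} (U : X.Etale)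
  {I : Type u} [Category.{u} I] {D : I ⥤ Scheme.{u}}
  (tt : ∀ i, D.obj i ⟶ U.left) (htt : ∀ {i j : I} (f : i ⟶ j), D.map f ≫ tt j = tt i)
  {c : Cone D} (tc : c.pt ⟶ U.left) (htc : ∀ i, c.π.app i ≫ tt i = tc)
  [∀ i, Etale (tt i)] [WeaklyEtale tc]

variable {F : X.Etaleᵒᵖ ⥤ Type w} {E : Functor.LeftExtension (ProEtS.eps X).op F}
  (hE : E.IsPointwiseLeftKanExtension)

set_option backward.isDefEq.respectTransparency.types false in
include hE htt in
theorem level_eq [IsCofiltered I] [∀ i, IsAffine (D.obj i)] (hc : IsLimit c) {i : I}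
    (s s' : F.obj (op (Wj U tt i)))
    (h : cls (ProEtS.eps X) E (gj U tt tc htc i) s = cls (ProEtS.eps X) E (gj U tt tc htc i) s') :
    ∃ (k : I) (f : k ⟶ i), F.map (mj U tt htt f).op s = F.map (mj U tt htt f).op s' := by
  obtain ⟨W', h', g', hg', hs⟩ := cls_eq_iff (ProEtS.eps X) hE _ s s' h
  let hU : W' ⟶ U := h' ≫ pj U tt i
  have e₂ : g' ≫ (ProEtS.eps X).map hU = cV U tc := by
    change g' ≫ (ProEtS.eps X).map (h' ≫ pj U tt i) = _
    rw [Functor.map_comp, ← Category.assoc, hg', gj_comp_pj]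
  obtain ⟨g'l, hg'l⟩ : ∃ m : c.pt ⟶ W'.left, m = g'.left := ⟨_, rfl⟩
  obtain ⟨hUl, hhUl⟩ : ∃ m : W'.left ⟶ U.left, m = hU.left := ⟨_, rfl⟩
  obtain ⟨h'l, hh'l⟩ : ∃ m : W'.left ⟶ D.obj i, m = h'.left := ⟨_, rfl⟩
  have e₂l : g'l ≫ hUl = tc := by
    rw [hg'l, hhUl]
    exact congrArg (fun q => q.left) e₂
  have e₃l : g'l ≫ h'l = c.π.app i := by
    rw [hg'l, hh'l]
    exact congrArg (fun q => q.left) hg'
  have e₄l : h'l ≫ tt i = hUl := by
    rw [hh'l, hhUl]
    rfl
  haveI : LocallyOfFinitePresentation hUl := by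
    rw [hhUl]
    infer_instance
  obtain ⟨k₀, m, hm₁, hm₂⟩ := Scheme.exists_π_app_comp_eq_of_locallyOfFinitePresentation D
    (tN U tt htt) hUl c hc g'l (by
      ext j : 2
      simp only [NatTrans.comp_app, Functor.const_obj_obj, Functor.const_map_app]
      exact (htc j).trans e₂l.symm)
  have hm₂' : m ≫ hUl = tt k₀ := hm₂
  haveI : ∀ {a b : I} (f : a ⟶ b), IsAffineHom (D.map f) := fun f => inferInstance
  haveI : ∀ j, CompactSpace (D.obj j) := fun j => inferInstance
  haveI : LocallyOfFiniteType (tt i) := inferInstance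
  obtain ⟨k, hik, hjk, hkeq⟩ := Scheme.exists_hom_hom_comp_eq_comp_of_locallyOfFiniteType D
    (tN U tt htt) (tt i) c hc (m ≫ h'l) (by
      change tt k₀ = (m ≫ h'l) ≫ tt i
      rw [Category.assoc, e₄l, hm₂']) (𝟙 (D.obj i)) (by
      change tt i = 𝟙 _ ≫ tt i
      rw [Category.id_comp]) (by
      rw [← Category.assoc, hm₁, e₃l, Category.comp_id])
  rw [Category.comp_id] at hkeq
  refine ⟨k, hjk, ?_⟩
  let mE : Wj U tt k ⟶ W' := MorphismProperty.Over.homMk (D.map hik ≫ m) (by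
    change (D.map hik ≫ m) ≫ W'.hom = tt k ≫ U.hom
    have e5 : hUl ≫ U.hom = W'.hom := by
      rw [hhUl]
      exact MorphismProperty.Over.w hU
    rw [← e5, Category.assoc, ← Category.assoc m, hm₂', ← Category.assoc, htt hik])
  have e6 : mE ≫ h' = mj U tt htt hjk := by
    apply MorphismProperty.Over.Hom.ext
    change (D.map hik ≫ m) ≫ h'.left = D.map hjk
    rw [← hh'l, Category.assoc]
    exact hkeq
  rw [← e6]
  simp only [op_comp, Functor.map_comp]
  change F.map mE.op (F.map h'.op s) = F.map mE.op (F.map h'.op s')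
  rw [hs]

end

end Groth.Agent.Helper2.EpsX
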