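import Mathlib
import Groth.Prelude.Def_ProEtS
import Groth.Prelude.Def_PBC
import Groth.Agent.Lib.Helper2.EpsU7
import Groth.Agent.Lib.Helper2.EpsX2

/-!
# Bundled pro-étale towers over an affine étale `U` and their fibre products
-/

namespace Groth.Agent.Helper2.EpsX

universe u

open CategoryTheory CategoryTheory.Limits AlgebraicGeometry Opposite Groth.Agent.Helper2.EpsU

/-- A pro-étale tower over `U`. -/
structure Tower {X : Scheme.{u}} (U : X.Etale) (I : Type u) [Category.{u} I] where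
  D : I ⥤ Scheme.{u}
  tt : ∀ i, D.obj i ⟶ U.left
  htt : ∀ {i j : I} (f : i ⟶ j), D.map f ≫ tt j = tt i
  c : Cone D
  hc : IsLimit c
  tc : c.pt ⟶ U.left
  htc : ∀ i, c.π.app i ≫ tt i = tc
  aff : ∀ i, IsAffine (D.obj i)
  et : ∀ i, Etale (tt i)
  wet : WeaklyEtale tc
  affpt : IsAffine c.pt

attribute [instance] Tower.aff Tower.et Tower.wet Tower.affpt

namespace Tower

variable {X : Scheme.{u}} {U : X.Etale} {I : Type u} [Category.{u} I]

section Basic

variable (T : Tower U I)

/-- The pro-étale object. -/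
noncomputable abbrev V : X.ProEt := Vp U T.tc

/-- The finite levels. -/
noncomputable abbrev W (i : I) : X.Etale := Wj U T.tt i

/-- `V → εW_i`. -/
noncomputable abbrev g (i : I) : T.V ⟶ (ProEtS.eps X).obj (T.W i) := gj U T.tt T.tc T.htc i

/-- `V → εU`. -/
noncomputable abbrev cv : T.V ⟶ (ProEtS.eps X).obj U := cV U T.tc

/-- `W_i → U`. -/
noncomputable abbrev p (i : I) : T.W i ⟶ U := pj U T.tt i

/-- Transition maps. -/
noncomputable abbrev m {i j : I} (f : i ⟶ j) : T.W i ⟶ T.W j := mj U T.tt T.htt f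

end Basic

section Prod

variable [Nonempty I] [IsAffine U.left] (T T' : Tower U I)

/-- The fibre product of two towers over `U`. -/
noncomputable def prod : Tower U I where
  D := prd T.D T'.D (tN U T.tt T.htt) (tN U T'.tt T'.htt)
  tt i := pullback.fst (T.tt i) (T'.tt i) ≫ T.tt i
  htt {i j} f := by
    change (prd T.D T'.D (tN U T.tt T.htt) (tN U T'.tt T'.htt)).map f ≫
      pullback.fst (T.tt j) (T'.tt j) ≫ T.tt j = pullback.fst (T.tt i) (T'.tt i) ≫ T.tt i
    have h := prd_map_fst T.D T'.D (tN U T.tt T.htt) (tN U T'.tt T'.htt) f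
    have h' : (prd T.D T'.D (tN U T.tt T.htt) (tN U T'.tt T'.htt)).map f ≫
        pullback.fst (T.tt j) (T'.tt j) = pullback.fst (T.tt i) (T'.tt i) ≫ T.D.map f := h
    rw [← Category.assoc, h', Category.assoc, T.htt f]
  c := prdCone T.D T'.D (tN U T.tt T.htt) (tN U T'.tt T'.htt) T.c T'.c T.tc T'.tc T.htc T'.htc
  hc := isLimitPrdCone T.D T'.D (tN U T.tt T.htt) (tN U T'.tt T'.htt) T.c T'.c T.tc T'.tc
    T.htc T'.htc T.hc T'.hc
  tc := pullback.fst T.tc T'.tc ≫ T.tc
  htc i := by
    have h := prdCone_π_fst T.D T'.D (tN U T.tt T.htt) (tN U T'.tt T'.htt) T.c T'.c T.tc T'.tc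
      T.htc T'.htc i
    have h' : (prdCone T.D T'.D (tN U T.tt T.htt) (tN U T'.tt T'.htt) T.c T'.c T.tc T'.tc
      T.htc T'.htc).π.app i ≫ pullback.fst (T.tt i) (T'.tt i) =
        pullback.fst T.tc T'.tc ≫ T.c.π.app i := h
    change _ ≫ pullback.fst (T.tt i) (T'.tt i) ≫ T.tt i = pullback.fst T.tc T'.tc ≫ T.tc
    rw [← Category.assoc, h', Category.assoc, T.htc i]
  aff i := inferInstanceAs (IsAffine (pullback (T.tt i) (T'.tt i)))
  et i := inferInstanceAs (Etale (pullback.fst (T.tt i) (T'.tt i) ≫ T.tt i))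
  wet := inferInstanceAs (WeaklyEtale (pullback.fst T.tc T'.tc ≫ T.tc))
  affpt := inferInstanceAs (IsAffine (pullback T.tc T'.tc))

/-- First projection on the pro-étale objects. -/
noncomputable def fstV : (T.prod T').V ⟶ T.V :=
  MorphismProperty.Over.homMk (pullback.fst T.tc T'.tc) (by
    change pullback.fst T.tc T'.tc ≫ T.tc ≫ U.hom = (pullback.fst T.tc T'.tc ≫ T.tc) ≫ U.hom
    rw [Category.assoc])

/-- Second projection on the pro-étale objects. -/
noncomputable def sndV : (T.prod T').V ⟶ T'.V :=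
  MorphismProperty.Over.homMk (pullback.snd T.tc T'.tc) (by
    change pullback.snd T.tc T'.tc ≫ T'.tc ≫ U.hom = (pullback.fst T.tc T'.tc ≫ T.tc) ≫ U.hom
    rw [pullback.condition, Category.assoc])

/-- First projection at a finite level. -/
noncomputable def fstW (i : I) : (T.prod T').W i ⟶ T.W i :=
  MorphismProperty.Over.homMk (pullback.fst (T.tt i) (T'.tt i)) (by
    change pullback.fst (T.tt i) (T'.tt i) ≫ T.tt i ≫ U.hom =
      (pullback.fst (T.tt i) (T'.tt i) ≫ T.tt i) ≫ U.hom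
    rw [Category.assoc])

/-- Second projection at a finite level. -/
noncomputable def sndW (i : I) : (T.prod T').W i ⟶ T'.W i :=
  MorphismProperty.Over.homMk (pullback.snd (T.tt i) (T'.tt i)) (by
    change pullback.snd (T.tt i) (T'.tt i) ≫ T'.tt i ≫ U.hom =
      (pullback.fst (T.tt i) (T'.tt i) ≫ T.tt i) ≫ U.hom
    rw [pullback.condition, Category.assoc])

theorem fstV_left : (fstV T T').left = pullback.fst T.tc T'.tc := rfl
theorem sndV_left : (sndV T T').left = pullback.snd T.tc T'.tc := rfl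
theorem fstW_left (i : I) : (fstW T T' i).left = pullback.fst (T.tt i) (T'.tt i) := rfl
theorem sndW_left (i : I) : (sndW T T' i).left = pullback.snd (T.tt i) (T'.tt i) := rfl

theorem cv_fst : fstV T T' ≫ T.cv = (T.prod T').cv := by
  apply MorphismProperty.Over.Hom.ext
  rfl

theorem cv_snd : sndV T T' ≫ T'.cv = (T.prod T').cv := by
  apply MorphismProperty.Over.Hom.ext
  exact pullback.condition.symm

theorem p_fst (i : I) : fstW T T' i ≫ T.p i = (T.prod T').p i := by
  apply MorphismProperty.Over.Hom.ext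
  rfl

theorem p_snd (i : I) : sndW T T' i ≫ T'.p i = (T.prod T').p i := by
  apply MorphismProperty.Over.Hom.ext
  exact pullback.condition.symm

theorem g_fst (i : I) :
    (T.prod T').g i ≫ (ProEtS.eps X).map (fstW T T' i) = fstV T T' ≫ T.g i := by
  apply MorphismProperty.Over.Hom.ext
  exact prdCone_π_fst T.D T'.D (tN U T.tt T.htt) (tN U T'.tt T'.htt) T.c T'.c T.tc T'.tc
      T.htc T'.htc i

theorem g_snd (i : I) :
    (T.prod T').g i ≫ (ProEtS.eps X).map (sndW T T' i) = sndV T T' ≫ T'.g i := by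
  apply MorphismProperty.Over.Hom.ext
  exact prdCone_π_snd T.D T'.D (tN U T.tt T.htt) (tN U T'.tt T'.htt) T.c T'.c T.tc T'.tc
      T.htc T'.htc i

theorem m_fst {i j : I} (f : i ⟶ j) : (T.prod T').m f ≫ fstW T T' j = fstW T T' i ≫ T.m f := by
  apply MorphismProperty.Over.Hom.ext
  exact prd_map_fst T.D T'.D (tN U T.tt T.htt) (tN U T'.tt T'.htt) f

theorem m_snd {i j : I} (f : i ⟶ j) : (T.prod T').m f ≫ sndW T T' j = sndW T T' i ≫ T'.m f := by
  apply MorphismProperty.Over.Hom.ext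
  exact prd_map_snd T.D T'.D (tN U T.tt T.htt) (tN U T'.tt T'.htt) f

/-- Lift to the product (pro-étale objects). -/
noncomputable def liftV {Y : X.ProEt} (a : Y ⟶ T.V) (b : Y ⟶ T'.V) (h : a ≫ T.cv = b ≫ T'.cv) :
    Y ⟶ (T.prod T').V :=
  MorphismProperty.Over.homMk
    (pullback.lift (f := T.tc) (g := T'.tc) a.left b.left (congrArg (fun q => q.left) h)) (by
      change pullback.lift (f := T.tc) (g := T'.tc) a.left b.left _ ≫
        (pullback.fst T.tc T'.tc ≫ T.tc) ≫ U.hom = Y.hom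
      rw [← Category.assoc, ← Category.assoc, pullback.lift_fst, Category.assoc]
      exact MorphismProperty.Over.w a)

theorem liftV_fst {Y : X.ProEt} (a : Y ⟶ T.V) (b : Y ⟶ T'.V) (h : a ≫ T.cv = b ≫ T'.cv) :
    liftV T T' a b h ≫ fstV T T' = a := by
  apply MorphismProperty.Over.Hom.ext
  exact pullback.lift_fst _ _ _

theorem liftV_snd {Y : X.ProEt} (a : Y ⟶ T.V) (b : Y ⟶ T'.V) (h : a ≫ T.cv = b ≫ T'.cv) :
    liftV T T' a b h ≫ sndV T T' = b := by
  apply MorphismProperty.Over.Hom.ext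
  exact pullback.lift_snd _ _ _

/-- Lift to the product (finite levels, pro-étale source). -/
noncomputable def liftW {Y : X.ProEt} {i : I} (a : Y ⟶ (ProEtS.eps X).obj (T.W i))
    (b : Y ⟶ (ProEtS.eps X).obj (T'.W i))
    (h : a ≫ (ProEtS.eps X).map (T.p i) = b ≫ (ProEtS.eps X).map (T'.p i)) :
    Y ⟶ (ProEtS.eps X).obj ((T.prod T').W i) :=
  MorphismProperty.Over.homMk
    (pullback.lift (f := T.tt i) (g := T'.tt i) a.left b.left (congrArg (fun q => q.left) h)) (by
      change pullback.lift (f := T.tt i) (g := T'.tt i) a.left b.left _ ≫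
        (pullback.fst (T.tt i) (T'.tt i) ≫ T.tt i) ≫ U.hom = Y.hom
      rw [← Category.assoc, ← Category.assoc, pullback.lift_fst, Category.assoc]
      exact MorphismProperty.Over.w a)

theorem liftW_fst {Y : X.ProEt} {i : I} (a : Y ⟶ (ProEtS.eps X).obj (T.W i))
    (b : Y ⟶ (ProEtS.eps X).obj (T'.W i))
    (h : a ≫ (ProEtS.eps X).map (T.p i) = b ≫ (ProEtS.eps X).map (T'.p i)) :
    liftW T T' a b h ≫ (ProEtS.eps X).map (fstW T T' i) = a := by
  apply MorphismProperty.Over.Hom.ext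
  exact pullback.lift_fst _ _ _

theorem liftW_snd {Y : X.ProEt} {i : I} (a : Y ⟶ (ProEtS.eps X).obj (T.W i))
    (b : Y ⟶ (ProEtS.eps X).obj (T'.W i))
    (h : a ≫ (ProEtS.eps X).map (T.p i) = b ≫ (ProEtS.eps X).map (T'.p i)) :
    liftW T T' a b h ≫ (ProEtS.eps X).map (sndW T T' i) = b := by
  apply MorphismProperty.Over.Hom.ext
  exact pullback.lift_snd _ _ _

theorem hom_extW {Y : X.ProEt} {i : I} (f f' : Y ⟶ (ProEtS.eps X).obj ((T.prod T').W i))
    (h₁ : f ≫ (ProEtS.eps X).map (fstW T T' i) = f' ≫ (ProEtS.eps X).map (fstW T T' i))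
    (h₂ : f ≫ (ProEtS.eps X).map (sndW T T' i) = f' ≫ (ProEtS.eps X).map (sndW T T' i)) :
    f = f' := by
  apply MorphismProperty.Over.Hom.ext
  apply pullback.hom_ext (f := T.tt i) (g := T'.tt i)
  · exact congrArg (fun q => q.left) h₁
  · exact congrArg (fun q => q.left) h₂

theorem hom_extV {Y : X.ProEt} (f f' : Y ⟶ (T.prod T').V)
    (h₁ : f ≫ fstV T T' = f' ≫ fstV T T') (h₂ : f ≫ sndV T T' = f' ≫ sndV T T') : f = f' := by
  apply MorphismProperty.Over.Hom.ext
  apply pullback.hom_ext (f := T.tc) (g := T'.tc)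
  · exact congrArg (fun q => q.left) h₁
  · exact congrArg (fun q => q.left) h₂

end Prod

end Tower

end Groth.Agent.Helper2.EpsX
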