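import Mathlib
import Groth.Prelude.Def_ProEtS
import Groth.Prelude.Def_PBC
import Groth.Agent.Lib.Helper2.EpsU9
import Groth.Agent.Lib.Helper2.EpsX7

/-!
# Maps between fibre products of towers
-/

namespace Groth.Agent.Helper2.EpsX

universe u

open CategoryTheory CategoryTheory.Limits AlgebraicGeometry Opposite Groth.Agent.Helper2.EpsU

namespace Tower

variable {X : Scheme.{u}} {U : X.Etale} {I : Type u} [Category.{u} I] [Nonempty I]
  [IsAffine U.left]

section Maps

variable (T T' T'' : Tower U I)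

/-- Lift to the product (finite levels, étale source). -/
noncomputable def liftWE {Y : X.Etale} {i : I} (a : Y ⟶ T.W i) (b : Y ⟶ T'.W i)
    (h : a ≫ T.p i = b ≫ T'.p i) : Y ⟶ (T.prod T').W i :=
  MorphismProperty.Over.homMk
    (pullback.lift (f := T.tt i) (g := T'.tt i) a.left b.left (congrArg (fun q => q.left) h)) (by
      change pullback.lift (f := T.tt i) (g := T'.tt i) a.left b.left _ ≫
        (pullback.fst (T.tt i) (T'.tt i) ≫ T.tt i) ≫ U.hom = Y.hom
      rw [← Category.assoc, ← Category.assoc, pullback.lift_fst, Category.assoc]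
      exact MorphismProperty.Over.w a)

theorem liftWE_fst {Y : X.Etale} {i : I} (a : Y ⟶ T.W i) (b : Y ⟶ T'.W i)
    (h : a ≫ T.p i = b ≫ T'.p i) : liftWE T T' a b h ≫ fstW T T' i = a := by
  apply MorphismProperty.Over.Hom.ext
  exact pullback.lift_fst _ _ _

theorem liftWE_snd {Y : X.Etale} {i : I} (a : Y ⟶ T.W i) (b : Y ⟶ T'.W i)
    (h : a ≫ T.p i = b ≫ T'.p i) : liftWE T T' a b h ≫ sndW T T' i = b := by
  apply MorphismProperty.Over.Hom.ext
  exact pullback.lift_snd _ _ _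

theorem hom_extWE {Y : X.Etale} {i : I} (f f' : Y ⟶ (T.prod T').W i)
    (h₁ : f ≫ fstW T T' i = f' ≫ fstW T T' i) (h₂ : f ≫ sndW T T' i = f' ≫ sndW T T' i) :
    f = f' := by
  apply MorphismProperty.Over.Hom.ext
  apply pullback.hom_ext (f := T.tt i) (g := T'.tt i)
  · exact congrArg (fun q => q.left) h₁
  · exact congrArg (fun q => q.left) h₂

/-- Functoriality of the product in the first variable (pro-étale objects). -/
noncomputable def mapV (β : T.V ⟶ T''.V) (hβ : β ≫ T''.cv = T.cv) :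
    (T.prod T').V ⟶ (T''.prod T').V :=
  liftV T'' T' (fstV T T' ≫ β) (sndV T T') (by rw [Category.assoc, hβ, cv_fst, cv_snd])

theorem mapV_fst (β : T.V ⟶ T''.V) (hβ : β ≫ T''.cv = T.cv) :
    mapV T T' T'' β hβ ≫ fstV T'' T' = fstV T T' ≫ β := liftV_fst _ _ _ _ _

theorem mapV_snd (β : T.V ⟶ T''.V) (hβ : β ≫ T''.cv = T.cv) :
    mapV T T' T'' β hβ ≫ sndV T'' T' = sndV T T' := liftV_snd _ _ _ _ _

/-- Functoriality of the product in the first variable (finite levels). -/
noncomputable def mapW {i : I} (α : T.W i ⟶ T''.W i) (hα : α ≫ T''.p i = T.p i) :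
    (T.prod T').W i ⟶ (T''.prod T').W i :=
  liftWE T'' T' (fstW T T' i ≫ α) (sndW T T' i) (by rw [Category.assoc, hα, p_fst, p_snd])

theorem mapW_fst {i : I} (α : T.W i ⟶ T''.W i) (hα : α ≫ T''.p i = T.p i) :
    mapW T T' T'' α hα ≫ fstW T'' T' i = fstW T T' i ≫ α := liftWE_fst _ _ _ _ _

theorem mapW_snd {i : I} (α : T.W i ⟶ T''.W i) (hα : α ≫ T''.p i = T.p i) :
    mapW T T' T'' α hα ≫ sndW T'' T' i = sndW T T' i := liftWE_snd _ _ _ _ _

theorem g_mapW {i : I} (α : T.W i ⟶ T''.W i) (hα : α ≫ T''.p i = T.p i)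
    (β : T.V ⟶ T''.V) (hβ : β ≫ T''.cv = T.cv)
    (h : T.g i ≫ (ProEtS.eps X).map α = β ≫ T''.g i) :
    (T.prod T').g i ≫ (ProEtS.eps X).map (mapW T T' T'' α hα) =
      mapV T T' T'' β hβ ≫ (T''.prod T').g i := by
  apply hom_extW T'' T'
  · rw [Category.assoc, ← Functor.map_comp, mapW_fst, Functor.map_comp, ← Category.assoc, g_fst,
      Category.assoc, h, Category.assoc, g_fst, reassoc_of% (mapV_fst T T' T'' β hβ)]
  · rw [Category.assoc, ← Functor.map_comp, mapW_snd, g_snd, Category.assoc, g_snd,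
      reassoc_of% (mapV_snd T T' T'' β hβ)]

theorem m_mapW {i j : I} (f : i ⟶ j) (αi : T.W i ⟶ T''.W i) (hαi : αi ≫ T''.p i = T.p i)
    (αj : T.W j ⟶ T''.W j) (hαj : αj ≫ T''.p j = T.p j)
    (h : T.m f ≫ αj = αi ≫ T''.m f) :
    (T.prod T').m f ≫ mapW T T' T'' αj hαj = mapW T T' T'' αi hαi ≫ (T''.prod T').m f := by
  apply hom_extWE T'' T'
  · rw [Category.assoc, mapW_fst, ← Category.assoc, m_fst, Category.assoc, h, Category.assoc,
      m_fst, reassoc_of% (mapW_fst T T' T'' αi hαi)]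
  · rw [Category.assoc, mapW_snd, m_snd, Category.assoc, m_snd,
      reassoc_of% (mapW_snd T T' T'' αi hαi)]

theorem lift_mapW {Y : X.ProEt} {i : I} (α : T.W i ⟶ T''.W i) (hα : α ≫ T''.p i = T.p i)
    (a : Y ⟶ (ProEtS.eps X).obj (T.W i)) (b : Y ⟶ (ProEtS.eps X).obj (T'.W i))
    (h : a ≫ (ProEtS.eps X).map (T.p i) = b ≫ (ProEtS.eps X).map (T'.p i)) :
    liftW T T' a b h ≫ (ProEtS.eps X).map (mapW T T' T'' α hα) =
      liftW T'' T' (a ≫ (ProEtS.eps X).map α) b (by
        rw [Category.assoc, ← Functor.map_comp, hα, h]) := by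
  apply hom_extW T'' T'
  · rw [Category.assoc, ← Functor.map_comp, mapW_fst, Functor.map_comp, ← Category.assoc,
      liftW_fst, liftW_fst]
  · rw [Category.assoc, ← Functor.map_comp, mapW_snd, liftW_snd, liftW_snd]

theorem comp_liftW {Y Y' : X.ProEt} {i : I} (z : Y' ⟶ Y)
    (a : Y ⟶ (ProEtS.eps X).obj (T.W i)) (b : Y ⟶ (ProEtS.eps X).obj (T'.W i))
    (h : a ≫ (ProEtS.eps X).map (T.p i) = b ≫ (ProEtS.eps X).map (T'.p i)) :
    z ≫ liftW T T' a b h = liftW T T' (z ≫ a) (z ≫ b) (by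
      rw [Category.assoc, Category.assoc, h]) := by
  apply hom_extW T T'
  · rw [Category.assoc, liftW_fst, liftW_fst]
  · rw [Category.assoc, liftW_snd, liftW_snd]

theorem liftV_g {Y : X.ProEt} {i : I} (a : Y ⟶ T.V) (b : Y ⟶ T'.V)
    (h : a ≫ T.cv = b ≫ T'.cv) :
    liftV T T' a b h ≫ (T.prod T').g i = liftW T T' (a ≫ T.g i) (b ≫ T'.g i) (by
      rw [Category.assoc, Category.assoc, gj_comp_pj, gj_comp_pj]
      exact h) := by
  apply hom_extW T T'
  · rw [Category.assoc, g_fst, ← Category.assoc, liftV_fst, liftW_fst]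
  · rw [Category.assoc, g_snd, ← Category.assoc, liftV_snd, liftW_snd]

theorem liftW_m {Y : X.ProEt} {i j : I} (f : i ⟶ j)
    (a : Y ⟶ (ProEtS.eps X).obj (T.W i)) (b : Y ⟶ (ProEtS.eps X).obj (T'.W i))
    (h : a ≫ (ProEtS.eps X).map (T.p i) = b ≫ (ProEtS.eps X).map (T'.p i)) :
    liftW T T' a b h ≫ (ProEtS.eps X).map ((T.prod T').m f) =
      liftW T T' (a ≫ (ProEtS.eps X).map (T.m f)) (b ≫ (ProEtS.eps X).map (T'.m f)) (by
        rw [Category.assoc, Category.assoc, ← Functor.map_comp, ← Functor.map_comp,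
          mj_comp_pj, mj_comp_pj]
        exact h) := by
  apply hom_extW T T'
  · rw [Category.assoc, ← Functor.map_comp, m_fst, Functor.map_comp, ← Category.assoc,
      liftW_fst, liftW_fst]
  · rw [Category.assoc, ← Functor.map_comp, m_snd, Functor.map_comp, ← Category.assoc,
      liftW_snd, liftW_snd]

end Maps

end Tower

end Groth.Agent.Helper2.EpsX
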