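import Mathlib
import Groth.Prelude.Def_ProEtS
import Groth.Prelude.Def_PBC
import Groth.Agent.Lib.Helper2.EpsU9
import Groth.Agent.Lib.Helper2.EpsX5
import Groth.Agent.Lib.Helper2.EpsX6
import Groth.Agent.Lib.Helper2.EpsX8

/-!
# Čech 1-cocycles at a finite level of a tower
-/

namespace Groth.Agent.Helper2.EpsX

universe u

open CategoryTheory CategoryTheory.Limits AlgebraicGeometry Opposite Groth.Agent.Helper2.EpsU
  Groth.Agent.Helper2.LanProd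

/-- Type-level data of an extension `0 → ε⁻¹F → E → Q → 0` of pro-étale sheaves. -/
structure ExtData (X : Scheme.{u}) where
  F : X.Etaleᵒᵖ ⥤ Type (u + 1)
  hF : Presieve.IsSheaf X.smallEtaleTopology F
  grpF : ∀ V, AddCommGroup (F.obj V)
  hFsub : ∀ {V V' : X.Etaleᵒᵖ} (f : V ⟶ V') (x y : F.obj V),
    F.map f (x - y) = F.map f x - F.map f y
  E : Functor.LeftExtension (ProEtS.eps X).op F
  hE : E.IsPointwiseLeftKanExtension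
  Kt : X.ProEtᵒᵖ ⥤ Type (u + 1)
  Et : X.ProEtᵒᵖ ⥤ Type (u + 1)
  Qt : X.ProEtᵒᵖ ⥤ Type (u + 1)
  hK : Presieve.IsSheaf (Scheme.ProEt.topology X) Kt
  hEt : Presieve.IsSheaf (Scheme.ProEt.topology X) Et
  hQ : Presieve.IsSheaf (Scheme.ProEt.topology X) Qt
  grpE : ∀ Z, AddCommGroup (Et.obj Z)
  grpQ : ∀ Z, AddCommGroup (Qt.obj Z)
  ψ : E.right ⟶ Kt
  ψinj : Presheaf.IsLocallyInjective (Scheme.ProEt.topology X) ψ
  ψsurj : Presheaf.IsLocallySurjective (Scheme.ProEt.topology X) ψ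
  ι : Kt ⟶ Et
  π : Et ⟶ Qt
  hι : ∀ Z, Function.Injective (ι.app Z)
  hex : ∀ Z (x : Et.obj Z), π.app Z x = 0 → ∃ k, ι.app Z k = x
  hzero : ∀ Z (k : Kt.obj Z), π.app Z (ι.app Z k) = 0
  hπsub : ∀ Z (x y : Et.obj Z), π.app Z (x - y) = π.app Z x - π.app Z y
  hEtsub : ∀ {Z Z' : X.ProEtᵒᵖ} (f : Z ⟶ Z') (x y : Et.obj Z),
    Et.map f (x - y) = Et.map f x - Et.map f y
  hΘsub : ∀ (Z : X.ProEt) (W : X.Etale) (g : Z ⟶ (ProEtS.eps X).obj W) (s s' : F.obj (op W)),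
    ι.app _ (ψ.app _ (cls (ProEtS.eps X) E g (s - s'))) =
      ι.app _ (ψ.app _ (cls (ProEtS.eps X) E g s)) - ι.app _ (ψ.app _ (cls (ProEtS.eps X) E g s'))
  πsurj : Presheaf.IsLocallySurjective (Scheme.ProEt.topology X) π

attribute [instance] ExtData.grpF ExtData.grpE ExtData.grpQ ExtData.ψinj ExtData.ψsurj
  ExtData.πsurj

namespace ExtData

variable {X : Scheme.{u}} (S : ExtData X)

/-- The class in `E(Z)` of `(W, g : Z ⟶ εW, s ∈ F(W))`. -/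
noncomputable def Θ {Z : X.ProEt} {W : X.Etale} (g : Z ⟶ (ProEtS.eps X).obj W) (s : S.F.obj (op W)) :
    S.Et.obj (op Z) :=
  S.ι.app _ (S.ψ.app _ (cls (ProEtS.eps X) S.E g s))

theorem Θ_map {Z Z' : X.ProEt} {W : X.Etale} (q : Z' ⟶ Z) (g : Z ⟶ (ProEtS.eps X).obj W)
    (s : S.F.obj (op W)) : S.Et.map q.op (S.Θ g s) = S.Θ (q ≫ g) s := by
  unfold Θ
  rw [← map_cls, NatTrans.naturality_apply S.ψ q.op, NatTrans.naturality_apply S.ι q.op]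

theorem Θ_comp_map {Z : X.ProEt} {W W' : X.Etale} (h : W' ⟶ W)
    (g' : Z ⟶ (ProEtS.eps X).obj W') (s : S.F.obj (op W)) :
    S.Θ (g' ≫ (ProEtS.eps X).map h) s = S.Θ g' (S.F.map h.op s) := by
  unfold Θ
  rw [cls_comp_map]

theorem Θ_sub {Z : X.ProEt} {W : X.Etale} (g : Z ⟶ (ProEtS.eps X).obj W)
    (s s' : S.F.obj (op W)) : S.Θ g (s - s') = S.Θ g s - S.Θ g s' := S.hΘsub Z W g s s'

theorem Θ_zero {Z : X.ProEt} {W : X.Etale} (g : Z ⟶ (ProEtS.eps X).obj W) :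
    S.Θ g (0 : S.F.obj (op W)) = 0 := by
  have := S.Θ_sub g 0 0
  simpa using this

theorem F_zero {V V' : X.Etaleᵒᵖ} (f : V ⟶ V') : S.F.map f (0 : S.F.obj V) = 0 := by
  have := S.hFsub f 0 0
  simpa using this

theorem π_Θ {Z : X.ProEt} {W : X.Etale} (g : Z ⟶ (ProEtS.eps X).obj W)
    (s : S.F.obj (op W)) : S.π.app _ (S.Θ g s) = 0 := S.hzero _ _

theorem ψ_inj (Z : X.ProEt) : Function.Injective (S.ψ.app (op Z)) :=
  injective_of_sep (ProEtS.eps X) (Scheme.ProEt.topology X) S.hE S.ψ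
    (fun Z W g s s' R hR H => sep_eps S.hF Z W g s s' R hR H) Z

variable {U : X.Etale} {I : Type u} [Category.{u} I]

theorem Θ_level [IsCofiltered I] (T : Tower U I) {i : I} (s s' : S.F.obj (op (T.W i)))
    (h : S.Θ (T.g i) s = S.Θ (T.g i) s') :
    ∃ (k : I) (f : k ⟶ i), S.F.map (T.m f).op s = S.F.map (T.m f).op s' :=
  level_eq U T.tt T.htt T.tc T.htc S.hE T.hc s s' (S.ψ_inj _ (S.hι _ h))

section Cocycle

variable [IsCofiltered I] [Nonempty I] [IsAffine U.left] (T₁ : Tower U I)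

/-- `π₁₃` at level `l`. -/
noncomputable abbrev π₁₃ (l : I) : ((T₁.prod T₁).prod T₁).W l ⟶ (T₁.prod T₁).W l :=
  Tower.mapW (T₁.prod T₁) T₁ T₁ (Tower.fstW T₁ T₁ l) (Tower.p_fst T₁ T₁ l)

/-- `π₂₃` at level `l`. -/
noncomputable abbrev π₂₃ (l : I) : ((T₁.prod T₁).prod T₁).W l ⟶ (T₁.prod T₁).W l :=
  Tower.mapW (T₁.prod T₁) T₁ T₁ (Tower.sndW T₁ T₁ l) (Tower.p_snd T₁ T₁ l)

/-- `π₁₂` at level `l`. -/
noncomputable abbrev π₁₂ (l : I) : ((T₁.prod T₁).prod T₁).W l ⟶ (T₁.prod T₁).W l :=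
  Tower.fstW (T₁.prod T₁) T₁ l

set_option backward.isDefEq.respectTransparency.types false in
theorem cocycle_exists (e : S.Et.obj (op T₁.V)) (q : S.Qt.obj (op ((ProEtS.eps X).obj U)))
    (he : S.π.app _ e = S.Qt.map T₁.cv.op q) :
    ∃ (l : I) (a : S.F.obj (op ((T₁.prod T₁).W l))),
      S.Θ ((T₁.prod T₁).g l) a =
        S.Et.map (Tower.fstV T₁ T₁).op e - S.Et.map (Tower.sndV T₁ T₁).op e ∧
      S.F.map (π₁₂ T₁ l).op a - (S.F.map (π₁₃ T₁ l).op a - S.F.map (π₂₃ T₁ l).op a) = 0 := by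
  obtain ⟨T₂, hT₂⟩ : ∃ T : Tower U I, T = T₁.prod T₁ := ⟨_, rfl⟩
  obtain ⟨d, hd⟩ : ∃ d, d = S.Et.map (Tower.fstV T₁ T₁).op e - S.Et.map (Tower.sndV T₁ T₁).op e :=
    ⟨_, rfl⟩
  have hπd : S.π.app _ d = 0 := by
    have h1 : S.π.app _ (S.Et.map (Tower.fstV T₁ T₁).op e) = S.Qt.map (T₁.prod T₁).cv.op q := by
      rw [NatTrans.naturality_apply S.π, he, ← FunctorToTypes.map_comp_apply, ← op_comp,
        Tower.cv_fst]
    have h2 : S.π.app _ (S.Et.map (Tower.sndV T₁ T₁).op e) = S.Qt.map (T₁.prod T₁).cv.op q := by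
      rw [NatTrans.naturality_apply S.π, he, ← FunctorToTypes.map_comp_apply, ← op_comp,
        Tower.cv_snd]
    rw [hd, S.hπsub, h1, h2, sub_self]
  obtain ⟨k, hk⟩ := S.hex _ d hπd
  obtain ⟨p', hp'⟩ := (bijective_on_tower U (T₁.prod T₁).tt (T₁.prod T₁).htt (T₁.prod T₁).tc
    (T₁.prod T₁).htc (T₁.prod T₁).hc S.hF S.hE S.hK S.ψ).2 k
  obtain ⟨l, a, ha⟩ := normal_form U (T₁.prod T₁).tt (T₁.prod T₁).htt (T₁.prod T₁).tc
    (T₁.prod T₁).htc S.hE (T₁.prod T₁).hc p'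
  have hΘd : S.Θ ((T₁.prod T₁).g l) a = d := by
    unfold Θ
    rw [ha, hp', hk]
  -- the three restrictions of `e` to the triple product
  let ρ₁ : ((T₁.prod T₁).prod T₁).V ⟶ T₁.V := Tower.fstV (T₁.prod T₁) T₁ ≫ Tower.fstV T₁ T₁
  let ρ₂ : ((T₁.prod T₁).prod T₁).V ⟶ T₁.V := Tower.fstV (T₁.prod T₁) T₁ ≫ Tower.sndV T₁ T₁
  let ρ₃ : ((T₁.prod T₁).prod T₁).V ⟶ T₁.V := Tower.sndV (T₁.prod T₁) T₁
  let P₁₃ : ((T₁.prod T₁).prod T₁).V ⟶ (T₁.prod T₁).V :=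
    Tower.mapV (T₁.prod T₁) T₁ T₁ (Tower.fstV T₁ T₁) (Tower.cv_fst T₁ T₁)
  let P₂₃ : ((T₁.prod T₁).prod T₁).V ⟶ (T₁.prod T₁).V :=
    Tower.mapV (T₁.prod T₁) T₁ T₁ (Tower.sndV T₁ T₁) (Tower.cv_snd T₁ T₁)
  have h12 : S.Et.map (Tower.fstV (T₁.prod T₁) T₁).op d = S.Et.map ρ₁.op e - S.Et.map ρ₂.op e := by
    rw [hd, S.hEtsub, ← FunctorToTypes.map_comp_apply, ← FunctorToTypes.map_comp_apply,
      ← op_comp, ← op_comp]
  have h13 : S.Et.map P₁₃.op d = S.Et.map ρ₁.op e - S.Et.map ρ₃.op e := by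
    rw [hd, S.hEtsub, ← FunctorToTypes.map_comp_apply, ← FunctorToTypes.map_comp_apply,
      ← op_comp, ← op_comp, Tower.mapV_fst, Tower.mapV_snd]
  have h23 : S.Et.map P₂₃.op d = S.Et.map ρ₂.op e - S.Et.map ρ₃.op e := by
    rw [hd, S.hEtsub, ← FunctorToTypes.map_comp_apply, ← FunctorToTypes.map_comp_apply,
      ← op_comp, ← op_comp, Tower.mapV_fst, Tower.mapV_snd]
  have k12 : S.Et.map (Tower.fstV (T₁.prod T₁) T₁).op d =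
      S.Θ (((T₁.prod T₁).prod T₁).g l) (S.F.map (π₁₂ T₁ l).op a) := by
    rw [← hΘd, Θ_map, ← Tower.g_fst, Θ_comp_map]
  have k13 : S.Et.map P₁₃.op d =
      S.Θ (((T₁.prod T₁).prod T₁).g l) (S.F.map (π₁₃ T₁ l).op a) := by
    rw [← hΘd, Θ_map, ← Tower.g_mapW (T₁.prod T₁) T₁ T₁ (Tower.fstW T₁ T₁ l) (Tower.p_fst T₁ T₁ l)
      (Tower.fstV T₁ T₁) (Tower.cv_fst T₁ T₁) (Tower.g_fst T₁ T₁ l), Θ_comp_map]
  have k23 : S.Et.map P₂₃.op d =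
      S.Θ (((T₁.prod T₁).prod T₁).g l) (S.F.map (π₂₃ T₁ l).op a) := by
    rw [← hΘd, Θ_map, ← Tower.g_mapW (T₁.prod T₁) T₁ T₁ (Tower.sndW T₁ T₁ l) (Tower.p_snd T₁ T₁ l)
      (Tower.sndV T₁ T₁) (Tower.cv_snd T₁ T₁) (Tower.g_snd T₁ T₁ l), Θ_comp_map]
  have hcoc : S.Θ (((T₁.prod T₁).prod T₁).g l)
      (S.F.map (π₁₂ T₁ l).op a - (S.F.map (π₁₃ T₁ l).op a - S.F.map (π₂₃ T₁ l).op a)) =
      S.Θ (((T₁.prod T₁).prod T₁).g l) 0 := by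
    rw [Θ_sub, Θ_sub, Θ_zero, ← k12, ← k13, ← k23, h12, h13, h23]
    abel
  obtain ⟨l', f, hf⟩ := S.Θ_level ((T₁.prod T₁).prod T₁) _ _ hcoc
  rw [S.F_zero, S.hFsub, S.hFsub] at hf
  refine ⟨l', S.F.map ((T₁.prod T₁).m f).op a, ?_, ?_⟩
  · rw [← hd, ← hΘd, ← Θ_comp_map, gj_comp_mj]
  · have n12 : ((T₁.prod T₁).prod T₁).m f ≫ π₁₂ T₁ l = π₁₂ T₁ l' ≫ (T₁.prod T₁).m f :=
      Tower.m_fst (T₁.prod T₁) T₁ f
    have n13 : ((T₁.prod T₁).prod T₁).m f ≫ π₁₃ T₁ l = π₁₃ T₁ l' ≫ (T₁.prod T₁).m f :=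
      Tower.m_mapW (T₁.prod T₁) T₁ T₁ f _ _ _ _ (Tower.m_fst T₁ T₁ f)
    have n23 : ((T₁.prod T₁).prod T₁).m f ≫ π₂₃ T₁ l = π₂₃ T₁ l' ≫ (T₁.prod T₁).m f :=
      Tower.m_mapW (T₁.prod T₁) T₁ T₁ f _ _ _ _ (Tower.m_snd T₁ T₁ f)
    rw [← FunctorToTypes.map_comp_apply, ← FunctorToTypes.map_comp_apply,
      ← FunctorToTypes.map_comp_apply, ← op_comp, ← op_comp, ← op_comp, ← n12, ← n13, ← n23,
      op_comp, op_comp, op_comp, FunctorToTypes.map_comp_apply, FunctorToTypes.map_comp_apply,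
      FunctorToTypes.map_comp_apply]
    exact hf

end Cocycle

end ExtData

end Groth.Agent.Helper2.EpsX
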