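import Mathlib
import Groth.Prelude.Def_ProEtS
import Groth.Prelude.Def_PBC
import Groth.Agent.S0715
import Groth.Agent.Lib.Helper2.EpsU8
import Groth.Agent.Lib.Helper2.EpsU9
import Groth.Agent.Lib.Helper2.EpsX9

/-!
# Vanishing of `R¹ε_*ε⁻¹F`, type-level form
-/

namespace Groth.Agent.Helper2.EpsX

universe u

open CategoryTheory CategoryTheory.Limits AlgebraicGeometry Opposite Groth.Agent.Helper2.EpsU
  Groth.Agent.Helper2.LanProd

namespace Tower

variable {X : Scheme.{u}} {U : X.Etale} {I : Type u} [Category.{u} I] [Nonempty I]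
  [IsAffine U.left] (T T' : Tower U I)

theorem liftW_congr {Y : X.ProEt} {i : I} {a a' : Y ⟶ (ProEtS.eps X).obj (T.W i)}
    {b b' : Y ⟶ (ProEtS.eps X).obj (T'.W i)}
    (h : a ≫ (ProEtS.eps X).map (T.p i) = b ≫ (ProEtS.eps X).map (T'.p i))
    (ha : a = a') (hb : b = b') :
    liftW T T' a b h = liftW T T' a' b' (by rw [← ha, ← hb]; exact h) := by
  subst ha hb
  rfl

end Tower

namespace ExtData

variable {X : Scheme.{u}} (S : ExtData X)
variable {U : X.Etale} {I : Type u} [Category.{u} I]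
variable [IsCofiltered I] [Nonempty I] [IsAffine U.left] (T₁ : Tower U I)

set_option backward.isDefEq.respectTransparency.types false in
theorem descend_of_cocycle [Surjective T₁.tc]
    (e : S.Et.obj (op T₁.V)) (q : S.Qt.obj (op ((ProEtS.eps X).obj U)))
    (he : S.π.app _ e = S.Qt.map T₁.cv.op q) (l : I) (a : S.F.obj (op ((T₁.prod T₁).W l)))
    (ha : S.Θ ((T₁.prod T₁).g l) a =
        S.Et.map (Tower.fstV T₁ T₁).op e - S.Et.map (Tower.sndV T₁ T₁).op e)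
    (hcoc : S.F.map (π₁₂ T₁ l).op a - (S.F.map (π₁₃ T₁ l).op a - S.F.map (π₂₃ T₁ l).op a) = 0) :
    ∃ e'' : S.Et.obj (op ((ProEtS.eps X).obj (T₁.W l))),
      S.π.app _ e'' = S.Qt.map ((ProEtS.eps X).map (T₁.p l)).op q := by
  haveI : IsAffine (T₁.W l).left := T₁.aff l
  haveI : IsAffine (T₁.D.obj l) := T₁.aff l
  obtain ⟨sW, hsW⟩ : ∃ m : pullback T₁.tc (T₁.tt l) ⟶ T₁.D.obj l,
    m = pullback.snd T₁.tc (T₁.tt l) := ⟨_, rfl⟩
  haveI hwe : WeaklyEtale sW := by rw [hsW]; infer_instance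
  haveI : Surjective sW := by rw [hsW]; infer_instance
  haveI : IsAffine (pullback T₁.tc (T₁.tt l)) := inferInstance
  haveI : QuasiCompact sW := inferInstance
  let VW : X.ProEt := Scheme.ProEt.mk (sW ≫ T₁.tt l ≫ U.hom)
  let prW : VW ⟶ (ProEtS.eps X).obj (T₁.W l) := MorphismProperty.Over.homMk sW rfl
  let prV : VW ⟶ T₁.V := MorphismProperty.Over.homMk (pullback.fst T₁.tc (T₁.tt l)) (by
    change pullback.fst T₁.tc (T₁.tt l) ≫ T₁.tc ≫ U.hom = sW ≫ T₁.tt l ≫ U.hom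
    rw [hsW, ← Category.assoc, pullback.condition, Category.assoc])
  have hVW : prV ≫ T₁.cv = prW ≫ (ProEtS.eps X).map (T₁.p l) := by
    apply MorphismProperty.Over.Hom.ext
    change pullback.fst T₁.tc (T₁.tt l) ≫ T₁.tc = sW ≫ T₁.tt l
    rw [hsW, pullback.condition]
  have hcover : Sieve.generate (Presieve.singleton prW) ∈
      Scheme.ProEt.topology X ((ProEtS.eps X).obj (T₁.W l)) := by
    apply Precoverage.generate_mem_toGrothendieck
    change (Presieve.singleton prW).map (Scheme.ProEt.forget X ⋙ Over.forget X) ∈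
      Scheme.proetalePrecoverage _
    rw [Presieve.map_singleton]
    exact Scheme.Hom.singleton_mem_propQCPrecoverage (f := sW) hwe
  clear_value prV prW VW
  obtain ⟨x, hx⟩ : ∃ x : VW ⟶ (ProEtS.eps X).obj (T₁.W l), x = prV ≫ T₁.g l := ⟨_, rfl⟩
  have hxw : x ≫ (ProEtS.eps X).map (T₁.p l) = prW ≫ (ProEtS.eps X).map (T₁.p l) := by
    rw [hx, Category.assoc, gj_comp_pj]
    exact hVW
  obtain ⟨M, hM⟩ : ∃ M : VW ⟶ (ProEtS.eps X).obj ((T₁.prod T₁).W l),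
    M = Tower.liftW T₁ T₁ x prW hxw := ⟨_, rfl⟩
  obtain ⟨e', he'⟩ : ∃ e' : S.Et.obj (op VW), e' = S.Et.map prV.op e - S.Θ M a := ⟨_, rfl⟩
  -- descent
  have hdesc : ∀ {Y : X.ProEt} (y₁ y₂ : Y ⟶ VW), y₁ ≫ prW = y₂ ≫ prW →
      S.Et.map y₁.op e' = S.Et.map y₂.op e' := by
    intro Y y₁ y₂ h12
    have hcv : (y₁ ≫ prV) ≫ T₁.cv = (y₂ ≫ prV) ≫ T₁.cv := by
      rw [Category.assoc, Category.assoc, hVW, ← Category.assoc, ← Category.assoc, h12]
    let yy : Y ⟶ (T₁.prod T₁).V := Tower.liftV T₁ T₁ (y₁ ≫ prV) (y₂ ≫ prV) hcv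
    have h1 : (y₁ ≫ x) ≫ (ProEtS.eps X).map (T₁.p l) = (y₂ ≫ x) ≫ (ProEtS.eps X).map (T₁.p l) := by
      rw [Category.assoc, Category.assoc, hxw, ← Category.assoc, ← Category.assoc, h12]
    have h2 : (y₁ ≫ x) ≫ (ProEtS.eps X).map (T₁.p l) =
        (y₁ ≫ prW) ≫ (ProEtS.eps X).map (T₁.p l) := by
      rw [Category.assoc, Category.assoc, hxw]
    have h3 : (y₂ ≫ x) ≫ (ProEtS.eps X).map (T₁.p l) =
        (y₁ ≫ prW) ≫ (ProEtS.eps X).map (T₁.p l) := by
      rw [← h1, h2]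
    -- the three Θ-terms
    have hA : S.Et.map yy.op (S.Et.map (Tower.fstV T₁ T₁).op e - S.Et.map (Tower.sndV T₁ T₁).op e) =
        S.Et.map (y₁ ≫ prV).op e - S.Et.map (y₂ ≫ prV).op e := by
      rw [S.hEtsub, ← FunctorToTypes.map_comp_apply, ← FunctorToTypes.map_comp_apply,
        ← op_comp, ← op_comp, Tower.liftV_fst, Tower.liftV_snd]
    have hB : S.Et.map yy.op (S.Θ ((T₁.prod T₁).g l) a) =
        S.Θ (Tower.liftW T₁ T₁ (y₁ ≫ x) (y₂ ≫ x) h1) a := by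
      rw [Θ_map, Tower.liftV_g]
      congr 1
      apply Tower.liftW_congr
      · rw [hx, Category.assoc]
      · rw [hx, Category.assoc]
    have hAB : S.Et.map (y₁ ≫ prV).op e - S.Et.map (y₂ ≫ prV).op e =
        S.Θ (Tower.liftW T₁ T₁ (y₁ ≫ x) (y₂ ≫ x) h1) a := by
      rw [← hA, ← ha, hB]
    let t : Y ⟶ (ProEtS.eps X).obj (((T₁.prod T₁).prod T₁).W l) :=
      Tower.liftW (T₁.prod T₁) T₁ (Tower.liftW T₁ T₁ (y₁ ≫ x) (y₂ ≫ x) h1) (y₁ ≫ prW) (by
        rw [← Tower.p_fst T₁ T₁ l, Functor.map_comp, ← Category.assoc, Tower.liftW_fst]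
        exact h2)
    have t12 : t ≫ (ProEtS.eps X).map (π₁₂ T₁ l) = Tower.liftW T₁ T₁ (y₁ ≫ x) (y₂ ≫ x) h1 :=
      Tower.liftW_fst _ _ _ _ _
    have t13 : t ≫ (ProEtS.eps X).map (π₁₃ T₁ l) = Tower.liftW T₁ T₁ (y₁ ≫ x) (y₁ ≫ prW) h2 := by
      apply Tower.hom_extW T₁ T₁
      · rw [Category.assoc, ← Functor.map_comp, Tower.mapW_fst, Functor.map_comp,
          ← Category.assoc, Tower.liftW_fst, Tower.liftW_fst, Tower.liftW_fst]
      · rw [Category.assoc, ← Functor.map_comp, Tower.mapW_snd, Tower.liftW_snd, Tower.liftW_snd]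
    have t23 : t ≫ (ProEtS.eps X).map (π₂₃ T₁ l) = Tower.liftW T₁ T₁ (y₂ ≫ x) (y₁ ≫ prW) h3 := by
      apply Tower.hom_extW T₁ T₁
      · rw [Category.assoc, ← Functor.map_comp, Tower.mapW_fst, Functor.map_comp,
          ← Category.assoc, Tower.liftW_fst, Tower.liftW_snd, Tower.liftW_fst]
      · rw [Category.assoc, ← Functor.map_comp, Tower.mapW_snd, Tower.liftW_snd, Tower.liftW_snd]
    have hM1 : y₁ ≫ M = Tower.liftW T₁ T₁ (y₁ ≫ x) (y₁ ≫ prW) h2 := by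
      apply Tower.hom_extW T₁ T₁
      · rw [hM, Category.assoc, Tower.liftW_fst, Tower.liftW_fst]
      · rw [hM, Category.assoc, Tower.liftW_snd, Tower.liftW_snd]
    have hM2 : y₂ ≫ M = Tower.liftW T₁ T₁ (y₂ ≫ x) (y₁ ≫ prW) h3 := by
      apply Tower.hom_extW T₁ T₁
      · rw [hM, Category.assoc, Tower.liftW_fst, Tower.liftW_fst]
      · rw [hM, Category.assoc, Tower.liftW_snd, Tower.liftW_snd, h12]
    have hC : S.Θ (Tower.liftW T₁ T₁ (y₁ ≫ x) (y₂ ≫ x) h1) a -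
        (S.Θ (Tower.liftW T₁ T₁ (y₁ ≫ x) (y₁ ≫ prW) h2) a -
          S.Θ (Tower.liftW T₁ T₁ (y₂ ≫ x) (y₁ ≫ prW) h3) a) = 0 := by
      have := congrArg (S.Θ t) hcoc
      rw [Θ_sub, Θ_sub, Θ_zero, ← Θ_comp_map, ← Θ_comp_map, ← Θ_comp_map, t12, t13, t23] at this
      exact this
    rw [he', S.hEtsub, S.hEtsub, ← FunctorToTypes.map_comp_apply, ← FunctorToTypes.map_comp_apply,
      ← op_comp, ← op_comp, Θ_map, Θ_map, hM1, hM2]
    apply sub_eq_zero.1
    rw [← hC, ← hAB]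
    abel
  have hsh := (Presieve.isSheafFor_iff_generate _).2 (S.hEt _ hcover)
  obtain ⟨e'', he'', -⟩ := Presieve.isSheafFor_singleton.1 hsh e' (fun y₁ y₂ h => hdesc y₁ y₂ h)
  refine ⟨e'', ?_⟩
  have hsepQ := Presieve.isSeparatedFor_iff_generate.2 ((S.hQ _ hcover).isSeparatedFor)
  apply Presieve.isSeparatedFor_singleton.1 hsepQ
  have e1 : S.Qt.map prW.op (S.π.app _ e'') = S.π.app _ e' := by
    rw [← he'', NatTrans.naturality_apply S.π]
  rw [e1, he', S.hπsub, π_Θ, sub_zero, NatTrans.naturality_apply S.π, he,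
    ← FunctorToTypes.map_comp_apply, ← FunctorToTypes.map_comp_apply, ← op_comp, ← op_comp, hVW]

end ExtData

end Groth.Agent.Helper2.EpsX
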