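import Mathlib
import Groth.Prelude.Def_ProEtS
import Groth.Prelude.Def_PBC
import Groth.Agent.S0715
import Groth.Agent.Lib.Helper2.EpsU8
import Groth.Agent.Lib.Helper2.EpsU9
import Groth.Agent.Lib.Helper2.EpsX10

/-!
# Vanishing of `R¹ε_*ε⁻¹F`, type-level form: the core statement
-/

namespace Groth.Agent.Helper2.EpsX

universe u

open CategoryTheory CategoryTheory.Limits AlgebraicGeometry Opposite Groth.Agent.Helper2.EpsU
  Groth.Agent.Helper2.LanProd

namespace ExtData

variable {X : Scheme.{u}} (S : ExtData X)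

set_option backward.isDefEq.respectTransparency.types false in
/-- Sections of the quotient lift étale locally. -/
theorem core (U : X.Etale) [IsAffine U.left] (q : S.Qt.obj (op ((ProEtS.eps X).obj U))) :
    ∃ (W : X.Etale) (p : W ⟶ U), Function.Surjective p.left ∧
      ∃ e : S.Et.obj (op ((ProEtS.eps X).obj W)),
        S.π.app _ e = S.Qt.map ((ProEtS.eps X).map p).op q := by
  obtain ⟨I, _, _, D, tt, htt, c, hc, tc, htc, haff, het, hwe, hsurj, haffV, hwc⟩ :=
    tower_exists U.left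
  haveI : Nonempty I := IsCofiltered.nonempty
  let T₁ : Tower U I := ⟨D, tt, htt, c, hc, tc, htc, haff, het, hwe, haffV⟩
  haveI : Surjective T₁.tc := hsurj
  haveI : IsAffine T₁.V.left := haffV
  have hWC : ProEtS.IsWC T₁.V := (Groth.Agent.S0715.result T₁.V).1 hwc
  let Es : Sheaf (Scheme.ProEt.topology X) (Type (u + 1)) :=
    ⟨S.Et, (isSheaf_iff_isSheaf_of_type _ _).2 S.hEt⟩
  let Qs : Sheaf (Scheme.ProEt.topology X) (Type (u + 1)) :=
    ⟨S.Qt, (isSheaf_iff_isSheaf_of_type _ _).2 S.hQ⟩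
  let πs : Es ⟶ Qs := ⟨S.π⟩
  haveI : Sheaf.IsLocallySurjective πs := S.πsurj
  obtain ⟨e, he⟩ := hWC Es Qs πs inferInstance (S.Qt.map T₁.cv.op q)
  obtain ⟨l, a, ha, hcoc⟩ := S.cocycle_exists T₁ e q he
  obtain ⟨e'', he''⟩ := S.descend_of_cocycle T₁ e q he l a ha hcoc
  refine ⟨T₁.W l, T₁.p l, ?_, e'', he''⟩
  intro x
  obtain ⟨y, hy⟩ := tc.surjective x
  refine ⟨c.π.app l y, ?_⟩
  rw [← hy, ← htc l]
  rfl

end ExtData

end Groth.Agent.Helper2.EpsX
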