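import Mathlib
import Groth.Prelude.Def_ProEtS
import Groth.Prelude.Def_PBC
import Groth.Agent.Lib.Helper2.EpsU9
import Groth.Agent.Lib.Helper2.EpsX11

/-!
# `ε_*` of an epimorphism with kernel in the essential image of `ε⁻¹` is an epimorphism
-/

namespace Groth.Agent.Helper2.EpsX

universe u u₃

open CategoryTheory CategoryTheory.Limits AlgebraicGeometry Opposite Groth.Agent.Helper2.EpsU
  Groth.Agent.Helper2.LanProd

section Wrapper

variable {X : Scheme.{u}} [ProEtS.EpsCont X]
variable (A : Type u₃) [Category.{u + 1} A] [Abelian A] {FA : A → A → Type (u + 1)}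
  {CA : A → Type (u + 1)}
  [∀ M N, FunLike (FA M N) (CA M) (CA N)] [ConcreteCategory.{u + 1} A FA]
  [∀ M : A, AddCommGroup (CA M)] [∀ M N : A, AddMonoidHomClass (FA M N) (CA M) (CA N)]
  [HasSheafify (Scheme.ProEt.topology X) A]
  [∀ (F : X.Etaleᵒᵖ ⥤ A), (ProEtS.eps X).op.HasLeftKanExtension F]
  [(Scheme.ProEt.topology X).WEqualsLocallyBijective A]
  [(forget A).ReflectsIsomorphisms] [X.smallEtaleTopology.HasSheafCompose (forget A)]
  [(Scheme.ProEt.topology X).HasSheafCompose (forget A)]
  [ConcreteCategory.HasFunctorialSurjectiveInjectiveFactorization A]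

/-- The Kan extension presheaf as a left extension. -/
noncomputable abbrev lanExt (P : X.Etaleᵒᵖ ⥤ A) : Functor.LeftExtension (ProEtS.eps X).op P :=
  Functor.LeftExtension.mk _ ((ProEtS.eps X).op.lanUnit.app P)

theorem locInj_aux {P : X.ProEtᵒᵖ ⥤ A} {G : Sheaf (Scheme.ProEt.topology X) A}
    (θ : (presheafToSheaf (Scheme.ProEt.topology X) A).obj P ≅ G) :
    Presheaf.IsLocallyInjective (Scheme.ProEt.topology X)
      (Functor.whiskerRight (toSheafify (Scheme.ProEt.topology X) P ≫ θ.hom.hom) (forget A)) := by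
  haveI : IsIso θ.hom.hom :=
    inferInstanceAs (IsIso ((sheafToPresheaf (Scheme.ProEt.topology X) A).map θ.hom))
  haveI h1 : Presheaf.IsLocallyInjective (Scheme.ProEt.topology X)
    (toSheafify (Scheme.ProEt.topology X) P) := inferInstance
  haveI h2 : Presheaf.IsLocallyInjective (Scheme.ProEt.topology X) θ.hom.hom := inferInstance
  haveI h3 : Presheaf.IsLocallyInjective (Scheme.ProEt.topology X)
    (toSheafify (Scheme.ProEt.topology X) P ≫ θ.hom.hom) :=
    Presheaf.isLocallyInjective_comp _ _ _
  exact Presheaf.isLocallyInjective_forget _ _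

theorem locSurj_aux {P : X.ProEtᵒᵖ ⥤ A} {G : Sheaf (Scheme.ProEt.topology X) A}
    (θ : (presheafToSheaf (Scheme.ProEt.topology X) A).obj P ≅ G) :
    Presheaf.IsLocallySurjective (Scheme.ProEt.topology X)
      (Functor.whiskerRight (toSheafify (Scheme.ProEt.topology X) P ≫ θ.hom.hom) (forget A)) := by
  haveI : IsIso θ.hom.hom :=
    inferInstanceAs (IsIso ((sheafToPresheaf (Scheme.ProEt.topology X) A).map θ.hom))
  haveI h1 : Presheaf.IsLocallySurjective (Scheme.ProEt.topology X)
    (toSheafify (Scheme.ProEt.topology X) P) := inferInstance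
  haveI h2 : Presheaf.IsLocallySurjective (Scheme.ProEt.topology X) θ.hom.hom := inferInstance
  haveI h3 : Presheaf.IsLocallySurjective (Scheme.ProEt.topology X)
    (toSheafify (Scheme.ProEt.topology X) P ≫ θ.hom.hom) :=
    Presheaf.isLocallySurjective_comp _ _ _
  exact (Presheaf.isLocallySurjective_iff_whisker_forget _ _).1 h3

set_option backward.isDefEq.respectTransparency.types false in
/-- The type-level extension data of a short exact sequence whose kernel is `ε⁻¹A₀`. -/
noncomputable def extData (A₀ : Sheaf X.smallEtaleTopology A)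
    [(ProEtS.eps X).op.HasPointwiseLeftKanExtension A₀.obj]
    [∀ Z : X.ProEtᵒᵖ, PreservesColimit (CostructuredArrow.proj (ProEtS.eps X).op Z ⋙ A₀.obj)
      (forget A)]
    (T : ShortComplex (Sheaf (Scheme.ProEt.topology X) A)) (hT : T.ShortExact)
    (θ : (presheafToSheaf (Scheme.ProEt.topology X) A).obj ((ProEtS.eps X).op.lan.obj A₀.obj) ≅ T.X₁)
    (hmono : ∀ {M N : A} (f : M ⟶ N), Mono f → Function.Injective (ConcreteCategory.hom f))
    (hexact : ∀ (S : ShortComplex A), S.Exact → ∀ x₂ : CA S.X₂,
      ConcreteCategory.hom S.g x₂ = 0 → ∃ x₁ : CA S.X₁, ConcreteCategory.hom S.f x₁ = x₂)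
    (hz : ∀ (S : ShortComplex A) (x₁ : CA S.X₁),
      ConcreteCategory.hom S.g (ConcreteCategory.hom S.f x₁) = 0) : ExtData X where
  F := A₀.obj ⋙ forget A
  hF := (isSheaf_iff_isSheaf_of_type _ _).1 ((sheafCompose X.smallEtaleTopology (forget A)).obj A₀).2
  grpF := fun V => inferInstanceAs (AddCommGroup (CA (A₀.obj.obj V)))
  hFsub := fun f x y => map_sub (ConcreteCategory.hom (A₀.obj.map f)) x y
  E := (Functor.LeftExtension.postcompose₂ (ProEtS.eps X).op A₀.obj (forget A)).obj
    (lanExt A A₀.obj)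
  hE := by
    have hE₀ : (lanExt A A₀.obj).IsPointwiseLeftKanExtension :=
      Functor.isPointwiseLeftKanExtensionOfIsLeftKanExtension _ _
    exact hE₀.postcompose (forget A)
  Kt := T.X₁.obj ⋙ forget A
  Et := T.X₂.obj ⋙ forget A
  Qt := T.X₃.obj ⋙ forget A
  hK := (isSheaf_iff_isSheaf_of_type _ _).1
    ((sheafCompose (Scheme.ProEt.topology X) (forget A)).obj T.X₁).2
  hEt := (isSheaf_iff_isSheaf_of_type _ _).1
    ((sheafCompose (Scheme.ProEt.topology X) (forget A)).obj T.X₂).2
  hQ := (isSheaf_iff_isSheaf_of_type _ _).1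
    ((sheafCompose (Scheme.ProEt.topology X) (forget A)).obj T.X₃).2
  grpE := fun Z => inferInstanceAs (AddCommGroup (CA (T.X₂.obj.obj Z)))
  grpQ := fun Z => inferInstanceAs (AddCommGroup (CA (T.X₃.obj.obj Z)))
  ψ := Functor.whiskerRight
    (toSheafify (Scheme.ProEt.topology X) ((ProEtS.eps X).op.lan.obj A₀.obj) ≫ θ.hom.hom) (forget A)
  ψinj := locInj_aux A θ
  ψsurj := locSurj_aux A θ
  ι := Functor.whiskerRight T.f.hom (forget A)
  π := Functor.whiskerRight T.g.hom (forget A)
  hι := by
    intro Z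
    haveI := hT.mono_f
    haveI : (sheafToPresheaf (Scheme.ProEt.topology X) A).PreservesMonomorphisms :=
      Functor.preservesMonomorphisms_of_adjunction (sheafificationAdjunction _ A)
    haveI : Mono T.f.hom :=
      inferInstanceAs (Mono ((sheafToPresheaf (Scheme.ProEt.topology X) A).map T.f))
    haveI : Mono (T.f.hom.app Z) := inferInstance
    exact hmono (T.f.hom.app Z) inferInstance
  hex := by
    intro Z x hx
    haveI := hT.mono_f
    have h1 : (T.map (sheafToPresheaf (Scheme.ProEt.topology X) A)).Exact :=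
      hT.exact.map_of_mono_of_preservesKernel _ hT.mono_f inferInstance
    have h2 : ((T.map (sheafToPresheaf (Scheme.ProEt.topology X) A)).map
        ((evaluation _ A).obj Z)).Exact := h1.map _
    exact hexact _ h2 x hx
  hzero := by
    intro Z k
    exact hz ((T.map (sheafToPresheaf (Scheme.ProEt.topology X) A)).map
        ((evaluation _ A).obj Z)) k
  hπsub := fun Z x y => map_sub (ConcreteCategory.hom (T.g.hom.app Z)) x y
  hEtsub := fun f x y => map_sub (ConcreteCategory.hom (T.X₂.obj.map f)) x y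
  hΘsub := by
    intro Z W g s s'
    have hcls : ∀ t : CA (A₀.obj.obj (op W)),
        cls (ProEtS.eps X) ((Functor.LeftExtension.postcompose₂ (ProEtS.eps X).op A₀.obj
          (forget A)).obj (lanExt A A₀.obj)) g t =
        ConcreteCategory.hom ((lanExt A A₀.obj).right.map g.op)
          (ConcreteCategory.hom ((lanExt A A₀.obj).hom.app (op W)) t) := fun t => rfl
    rw [hcls, hcls, hcls, map_sub, map_sub]
    change ConcreteCategory.hom (T.f.hom.app (op Z))
      (ConcreteCategory.hom ((toSheafify (Scheme.ProEt.topology X)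
        ((ProEtS.eps X).op.lan.obj A₀.obj) ≫ θ.hom.hom).app (op Z)) (_ - _)) = _
    rw [map_sub, map_sub]
    rfl
  πsurj := by
    haveI := hT.epi_g
    haveI : Sheaf.IsLocallySurjective T.g := (Sheaf.isLocallySurjective_iff_epi' A T.g).2 inferInstance
    exact (Presheaf.isLocallySurjective_iff_whisker_forget _ T.g.hom).1 ‹_›

end Wrapper

end Groth.Agent.Helper2.EpsX
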