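import Mathlib
import Groth.Prelude.Def_ProEtS
import Groth.Prelude.Def_PBC
import Groth.Agent.Lib.Helper2.EpsU9
import Groth.Agent.Lib.Helper2.EpsX12

/-!
# `ε_*` of an epimorphism with kernel in the essential image of `ε⁻¹` is an epimorphism, II
-/

namespace Groth.Agent.Helper2.EpsX

universe u u₃

open CategoryTheory CategoryTheory.Limits AlgebraicGeometry Opposite Groth.Agent.Helper2.EpsU
  Groth.Agent.Helper2.LanProd

section Wrapper

variable {X : Scheme.{u}} [ProEtS.EpsCont X]
variable (A : Type u₃) [Category.{u + 1} A] [Abelian A] {FA : A → A → Type (u + 1)}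
  {CA : A → Type (u + 1)}
  [∀ M N, FunLike (FA M N) (CA M) (CA N)] [ConcreteCategory.{u + 1} A FA]
  [∀ M : A, AddCommGroup (CA M)] [∀ M N : A, AddMonoidHomClass (FA M N) (CA M) (CA N)]
  [HasSheafify (Scheme.ProEt.topology X) A]
  [∀ (F : X.Etaleᵒᵖ ⥤ A), (ProEtS.eps X).op.HasLeftKanExtension F]
  [(Scheme.ProEt.topology X).WEqualsLocallyBijective A]
  [(forget A).ReflectsIsomorphisms] [X.smallEtaleTopology.HasSheafCompose (forget A)]
  [(Scheme.ProEt.topology X).HasSheafCompose (forget A)]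
  [ConcreteCategory.HasFunctorialSurjectiveInjectiveFactorization A]

set_option backward.isDefEq.respectTransparency.types false in
theorem push_locSurj (A₀ : Sheaf X.smallEtaleTopology A)
    [(ProEtS.eps X).op.HasPointwiseLeftKanExtension A₀.obj]
    [∀ Z : X.ProEtᵒᵖ, PreservesColimit (CostructuredArrow.proj (ProEtS.eps X).op Z ⋙ A₀.obj)
      (forget A)]
    (T : ShortComplex (Sheaf (Scheme.ProEt.topology X) A)) (hT : T.ShortExact)
    (θ : (presheafToSheaf (Scheme.ProEt.topology X) A).obj ((ProEtS.eps X).op.lan.obj A₀.obj) ≅ T.X₁)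
    (hmono : ∀ {M N : A} (f : M ⟶ N), Mono f → Function.Injective (ConcreteCategory.hom f))
    (hexact : ∀ (S : ShortComplex A), S.Exact → ∀ x₂ : CA S.X₂,
      ConcreteCategory.hom S.g x₂ = 0 → ∃ x₁ : CA S.X₁, ConcreteCategory.hom S.f x₁ = x₂)
    (hz : ∀ (S : ShortComplex A) (x₁ : CA S.X₁),
      ConcreteCategory.hom S.g (ConcreteCategory.hom S.f x₁) = 0) :
    Sheaf.IsLocallySurjective (((ProEtS.eps X).sheafPushforwardContinuous A X.smallEtaleTopology
      (Scheme.ProEt.topology X)).map T.g) := by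
  obtain ⟨S, hS⟩ : ∃ S : ExtData X, S = extData A A₀ T hT θ hmono hexact hz := ⟨_, rfl⟩
  constructor
  intro U s
  obtain ⟨R, hR, hRB⟩ := affine_cover_et U
  refine X.smallEtaleTopology.transitive hR _ ?_
  intro V f hf
  obtain ⟨V₀, g, f₀, hf₀, rfl⟩ := hf
  haveI : IsAffine V₀.left := hRB f₀ hf₀
  rw [Sieve.pullback_comp]
  apply X.smallEtaleTopology.pullback_stable
  have key : ∀ q : CA (T.X₃.obj.obj (op ((ProEtS.eps X).obj V₀))),
      ∃ (W : X.Etale) (p : W ⟶ V₀), Function.Surjective p.left ∧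
        ∃ e : CA (T.X₂.obj.obj (op ((ProEtS.eps X).obj W))),
          ConcreteCategory.hom (T.g.hom.app _) e =
            ConcreteCategory.hom (T.X₃.obj.map ((ProEtS.eps X).map p).op) q := by
    intro q
    have := S.core V₀
    rw [hS] at this
    exact this q
  obtain ⟨W, p, hp, e, he⟩ := key (ConcreteCategory.hom (T.X₃.obj.map ((ProEtS.eps X).map f₀).op) s)
  refine X.smallEtaleTopology.superset_covering ?_
    (singleton_mem_of_surjective p (fun x => hp x))
  rw [Sieve.generate_le_iff]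
  rintro _ _ ⟨⟩
  refine ⟨e, ?_⟩
  refine he.trans ?_
  change _ = ConcreteCategory.hom (T.X₃.obj.map ((ProEtS.eps X).map (p ≫ f₀)).op) s
  rw [Functor.map_comp, op_comp, Functor.map_comp, ConcreteCategory.comp_apply]

set_option backward.isDefEq.respectTransparency.types false in
theorem push_epi (A₀ : Sheaf X.smallEtaleTopology A)
    [(ProEtS.eps X).op.HasPointwiseLeftKanExtension A₀.obj]
    [∀ Z : X.ProEtᵒᵖ, PreservesColimit (CostructuredArrow.proj (ProEtS.eps X).op Z ⋙ A₀.obj)
      (forget A)]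
    (T : ShortComplex (Sheaf (Scheme.ProEt.topology X) A)) (hT : T.ShortExact)
    (θ : (presheafToSheaf (Scheme.ProEt.topology X) A).obj ((ProEtS.eps X).op.lan.obj A₀.obj) ≅ T.X₁)
    (hmono : ∀ {M N : A} (f : M ⟶ N), Mono f → Function.Injective (ConcreteCategory.hom f))
    (hexact : ∀ (S : ShortComplex A), S.Exact → ∀ x₂ : CA S.X₂,
      ConcreteCategory.hom S.g x₂ = 0 → ∃ x₁ : CA S.X₁, ConcreteCategory.hom S.f x₁ = x₂)
    (hz : ∀ (S : ShortComplex A) (x₁ : CA S.X₁),
      ConcreteCategory.hom S.g (ConcreteCategory.hom S.f x₁) = 0) :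
    Epi (((ProEtS.eps X).sheafPushforwardContinuous A X.smallEtaleTopology
      (Scheme.ProEt.topology X)).map T.g) := by
  haveI := push_locSurj A A₀ T hT θ hmono hexact hz
  infer_instance

end Wrapper

end Groth.Agent.Helper2.EpsX
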