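import Mathlib
import Groth.Prelude.Def_ProEtS
import Groth.Prelude.Def_PBC
import Groth.Agent.Lib.Helper2.EpsU9
import Groth.Agent.Lib.Helper2.EpsX13

/-!
# The essential image of `ε⁻¹` is closed under extensions, kernels and cokernels
-/

namespace Groth.Agent.Helper2.EpsX

universe u u₃

open CategoryTheory CategoryTheory.Limits AlgebraicGeometry Opposite Groth.Agent.Helper2.EpsU
  Groth.Agent.Helper2.LanProd

section Wrapper

variable {X : Scheme.{u}} [ProEtS.EpsCont X]
variable (A : Type u₃) [Category.{u + 1} A] [Abelian A] {FA : A → A → Type (u + 1)}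
  {CA : A → Type (u + 1)}
  [∀ M N, FunLike (FA M N) (CA M) (CA N)] [ConcreteCategory.{u + 1} A FA]
  [∀ M : A, AddCommGroup (CA M)] [∀ M N : A, AddMonoidHomClass (FA M N) (CA M) (CA N)]
  [HasSheafify (Scheme.ProEt.topology X) A] [HasSheafify X.smallEtaleTopology A]
  [∀ (F : X.Etaleᵒᵖ ⥤ A), (ProEtS.eps X).op.HasLeftKanExtension F]
  [(Scheme.ProEt.topology X).WEqualsLocallyBijective A]
  [(forget A).ReflectsIsomorphisms] [X.smallEtaleTopology.HasSheafCompose (forget A)]
  [(Scheme.ProEt.topology X).HasSheafCompose (forget A)]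
  [ConcreteCategory.HasFunctorialSurjectiveInjectiveFactorization A]
  [∀ P : X.Etaleᵒᵖ ⥤ A, (ProEtS.eps X).op.HasPointwiseLeftKanExtension P]
  [∀ (P : X.Etaleᵒᵖ ⥤ A) (Z : X.ProEtᵒᵖ),
    PreservesColimit (CostructuredArrow.proj (ProEtS.eps X).op Z ⋙ P) (forget A)]

set_option backward.isDefEq.respectTransparency.types false in
theorem ext_closed
    [((ProEtS.eps X).sheafPullback A X.smallEtaleTopology (Scheme.ProEt.topology X)).Full]
    [((ProEtS.eps X).sheafPullback A X.smallEtaleTopology (Scheme.ProEt.topology X)).Faithful]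
    [PreservesFiniteLimits
      ((ProEtS.eps X).sheafPullback A X.smallEtaleTopology (Scheme.ProEt.topology X))]
    [((ProEtS.eps X).sheafPushforwardContinuous A X.smallEtaleTopology
      (Scheme.ProEt.topology X)).Additive]
    (hmono : ∀ {M N : A} (f : M ⟶ N), Mono f → Function.Injective (ConcreteCategory.hom f))
    (hexact : ∀ (S : ShortComplex A), S.Exact → ∀ x₂ : CA S.X₂,
      ConcreteCategory.hom S.g x₂ = 0 → ∃ x₁ : CA S.X₁, ConcreteCategory.hom S.f x₁ = x₂)
    (hz : ∀ (S : ShortComplex A) (x₁ : CA S.X₁),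
      ConcreteCategory.hom S.g (ConcreteCategory.hom S.f x₁) = 0)
    (T : ShortComplex (Sheaf (Scheme.ProEt.topology X) A)) (hT : T.ShortExact)
    (h₁ : ((ProEtS.eps X).sheafPullback A X.smallEtaleTopology
      (Scheme.ProEt.topology X)).essImage T.X₁)
    (h₃ : ((ProEtS.eps X).sheafPullback A X.smallEtaleTopology
      (Scheme.ProEt.topology X)).essImage T.X₃) :
    ((ProEtS.eps X).sheafPullback A X.smallEtaleTopology
      (Scheme.ProEt.topology X)).essImage T.X₂ := by
  obtain ⟨L, hL⟩ : ∃ L : Sheaf X.smallEtaleTopology A ⥤ Sheaf (Scheme.ProEt.topology X) A,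
    L = (ProEtS.eps X).sheafPullback A X.smallEtaleTopology (Scheme.ProEt.topology X) := ⟨_, rfl⟩
  obtain ⟨R, hR⟩ : ∃ R : Sheaf (Scheme.ProEt.topology X) A ⥤ Sheaf X.smallEtaleTopology A,
    R = (ProEtS.eps X).sheafPushforwardContinuous A X.smallEtaleTopology
      (Scheme.ProEt.topology X) := ⟨_, rfl⟩
  have adj : L ⊣ R := by
    rw [hL, hR]
    exact (ProEtS.eps X).sheafAdjunctionContinuous A X.smallEtaleTopology
      (Scheme.ProEt.topology X)
  obtain ⟨A₀, ⟨e₁⟩⟩ := h₁
  let θ : (presheafToSheaf (Scheme.ProEt.topology X) A).obj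
      ((ProEtS.eps X).op.lan.obj A₀.obj) ≅ T.X₁ :=
    (Adjunction.leftAdjointUniq
      (Functor.sheafPullbackConstruction.sheafAdjunctionContinuous (ProEtS.eps X) A
        X.smallEtaleTopology (Scheme.ProEt.topology X))
      ((ProEtS.eps X).sheafAdjunctionContinuous A X.smallEtaleTopology
        (Scheme.ProEt.topology X))).app A₀ ≪≫ e₁
  have hepi := push_epi A A₀ T hT θ hmono hexact hz
  rw [← hL] at h₃ ⊢
  rw [← hR] at hepi
  haveI : L.Full := by rw [hL]; infer_instance
  haveI : L.Faithful := by rw [hL]; infer_instance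
  haveI : PreservesFiniteLimits L := by rw [hL]; infer_instance
  haveI : R.Additive := by rw [hR]; infer_instance
  haveI : L.Additive := adj.left_adjoint_additive
  haveI : R.PreservesMonomorphisms := Functor.preservesMonomorphisms_of_adjunction adj
  haveI := adj.rightAdjoint_preservesLimits
  haveI := adj.leftAdjoint_preservesColimits
  haveI := hT.mono_f
  have hRT : (T.map R).ShortExact := by
    apply ShortComplex.ShortExact.mk'
    · exact hT.exact.map_of_mono_of_preservesKernel R hT.mono_f inferInstance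
    · exact inferInstanceAs (Mono (R.map T.f))
    · exact hepi
  have hLRT : ((T.map R).map L).ShortExact := hRT.map_of_exact L
  let φ : (T.map R).map L ⟶ T :=
    ShortComplex.homMk (adj.counit.app T.X₁) (adj.counit.app T.X₂) (adj.counit.app T.X₃)
      (adj.counit.naturality T.f).symm (adj.counit.naturality T.g).symm
  haveI : IsIso φ.τ₁ := (adj.isIso_counit_app_iff_mem_essImage).2 ⟨A₀, ⟨by rw [hL]; exact e₁⟩⟩
  haveI : IsIso φ.τ₃ := (adj.isIso_counit_app_iff_mem_essImage).2 h₃
  haveI : IsIso (adj.counit.app T.X₂) := ShortComplex.isIso₂_of_shortExact_of_isIso₁₃ φ hLRT hT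
  exact adj.mem_essImage_of_counit_isIso T.X₂

end Wrapper

end Groth.Agent.Helper2.EpsX
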