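import Mathlib
import Groth.Prelude.Def_WeakSerre

/-!
# Images of weak Serre subcategories under fully faithful exact functors with
extension-closed essential image
-/

namespace Groth.Agent.Helper2.EpsX

universe v₁ v₂ u₁ u₂

open CategoryTheory CategoryTheory.Limits

section Generic

variable {C : Type u₁} [Category.{v₁} C] [Abelian C] {D : Type u₂} [Category.{v₂} D] [Abelian D]
  (L : C ⥤ D) [L.Full] [L.Faithful] [L.Additive] [PreservesFiniteLimits L]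
  [PreservesFiniteColimits L]

theorem image_kernel (S : ObjectProperty C)
    (hS : ∀ {A B : C} (φ : A ⟶ B), S A → S B → S (kernel φ))
    {X Y : D} (f : X ⟶ Y) (hX : ∃ G, S G ∧ Nonempty (L.obj G ≅ X))
    (hY : ∃ G, S G ∧ Nonempty (L.obj G ≅ Y)) :
    ∃ G, S G ∧ Nonempty (L.obj G ≅ kernel f) := by
  obtain ⟨X₀, hX₀, ⟨eX⟩⟩ := hX
  obtain ⟨Y₀, hY₀, ⟨eY⟩⟩ := hY
  let φ' : X₀ ⟶ Y₀ := L.preimage (eX.hom ≫ f ≫ eY.inv)
  have hφ' : L.map φ' = eX.hom ≫ f ≫ eY.inv := L.map_preimage _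
  refine ⟨kernel φ', hS φ' hX₀ hY₀, ⟨PreservesKernel.iso L φ' ≪≫
    kernel.mapIso (L.map φ') f eX eY (by rw [hφ']; simp)⟩⟩

theorem image_cokernel (S : ObjectProperty C)
    (hS : ∀ {A B : C} (φ : A ⟶ B), S A → S B → S (cokernel φ))
    {X Y : D} (f : X ⟶ Y) (hX : ∃ G, S G ∧ Nonempty (L.obj G ≅ X))
    (hY : ∃ G, S G ∧ Nonempty (L.obj G ≅ Y)) :
    ∃ G, S G ∧ Nonempty (L.obj G ≅ cokernel f) := by
  obtain ⟨X₀, hX₀, ⟨eX⟩⟩ := hX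
  obtain ⟨Y₀, hY₀, ⟨eY⟩⟩ := hY
  let φ' : X₀ ⟶ Y₀ := L.preimage (eX.hom ≫ f ≫ eY.inv)
  have hφ' : L.map φ' = eX.hom ≫ f ≫ eY.inv := L.map_preimage _
  refine ⟨cokernel φ', hS φ' hX₀ hY₀, ⟨PreservesCokernel.iso L φ' ≪≫
    cokernel.mapIso (L.map φ') f eX eY (by rw [hφ']; simp)⟩⟩

theorem image_ext (S : ObjectProperty C) [S.IsClosedUnderExtensions]
    (hext : ∀ (T : ShortComplex D), T.ShortExact → L.essImage T.X₁ → L.essImage T.X₃ →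
      L.essImage T.X₂)
    (T : ShortComplex D) (hT : T.ShortExact) (h₁ : ∃ G, S G ∧ Nonempty (L.obj G ≅ T.X₁))
    (h₃ : ∃ G, S G ∧ Nonempty (L.obj G ≅ T.X₃)) :
    ∃ G, S G ∧ Nonempty (L.obj G ≅ T.X₂) := by
  obtain ⟨G₁, hG₁, ⟨e₁⟩⟩ := h₁
  obtain ⟨G₃, hG₃, ⟨e₃⟩⟩ := h₃
  obtain ⟨G₂, ⟨e₂⟩⟩ := hext T hT ⟨G₁, ⟨e₁⟩⟩ ⟨G₃, ⟨e₃⟩⟩
  let f' : G₁ ⟶ G₂ := L.preimage (e₁.hom ≫ T.f ≫ e₂.inv)
  let g' : G₂ ⟶ G₃ := L.preimage (e₂.hom ≫ T.g ≫ e₃.inv)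
  have hf' : L.map f' = e₁.hom ≫ T.f ≫ e₂.inv := L.map_preimage _
  have hg' : L.map g' = e₂.hom ≫ T.g ≫ e₃.inv := L.map_preimage _
  have hzero : f' ≫ g' = 0 := by
    apply L.map_injective
    rw [L.map_comp, hf', hg', L.map_zero]
    simp
  let T' : ShortComplex C := ShortComplex.mk f' g' hzero
  let e : T'.map L ≅ T := ShortComplex.isoMk e₁ e₂ e₃
    (by change e₁.hom ≫ T.f = L.map f' ≫ e₂.hom; rw [hf']; simp)
    (by change e₂.hom ≫ T.g = L.map g' ≫ e₃.hom; rw [hg']; simp)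
  have hT'L : (T'.map L).ShortExact := ShortComplex.shortExact_of_iso e.symm hT
  have hT' : T'.ShortExact := by
    haveI := hT'L.mono_f
    haveI := hT'L.epi_g
    apply ShortComplex.ShortExact.mk'
    · exact (ShortComplex.exact_map_iff_of_faithful T' L).1 hT'L.exact
    · exact L.mono_of_mono_map (show Mono (L.map f') from hT'L.mono_f)
    · exact L.epi_of_epi_map (show Epi (L.map g') from hT'L.epi_g)
  exact ⟨G₂, S.prop_X₂_of_shortExact hT' hG₁ hG₃, ⟨e₂⟩⟩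

theorem image_weakSerre (S : ObjectProperty C) [WSerre.IsWeakSerre S]
    (hext : ∀ (T : ShortComplex D), T.ShortExact → L.essImage T.X₁ → L.essImage T.X₃ →
      L.essImage T.X₂) :
    WSerre.IsWeakSerre (fun F : D => ∃ G : C, S G ∧ Nonempty (L.obj G ≅ F)) := by
  have hker : ∀ {X Y : D} (f : X ⟶ Y), (∃ G, S G ∧ Nonempty (L.obj G ≅ X)) →
      (∃ G, S G ∧ Nonempty (L.obj G ≅ Y)) → ∃ G, S G ∧ Nonempty (L.obj G ≅ kernel f) :=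
    fun f hX hY => image_kernel L S (fun φ hA hB => S.prop_kernel φ hA hB) f hX hY
  have hcoker : ∀ {X Y : D} (f : X ⟶ Y), (∃ G, S G ∧ Nonempty (L.obj G ≅ X)) →
      (∃ G, S G ∧ Nonempty (L.obj G ≅ Y)) → ∃ G, S G ∧ Nonempty (L.obj G ≅ cokernel f) :=
    fun f hX hY => image_cokernel L S (fun φ hA hB => S.prop_cokernel φ hA hB) f hX hY
  refine @WSerre.IsWeakSerre.mk _ _ _ _ ⟨?_⟩ ⟨?_⟩ ⟨?_⟩ ⟨?_⟩
  · obtain ⟨Z, hZ, hSZ⟩ := S.exists_prop_of_containsZero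
    exact ⟨L.obj Z, L.map_isZero hZ, Z, hSZ, ⟨Iso.refl _⟩⟩
  · rintro _ ⟨f, k, hk, hX, hY⟩
    obtain ⟨G, hG, ⟨eG⟩⟩ := hker f hX hY
    exact ⟨G, hG, ⟨eG ≪≫ IsLimit.conePointUniqueUpToIso (limit.isLimit (parallelPair f 0)) hk⟩⟩
  · rintro _ ⟨f, k, hk, hX, hY⟩
    obtain ⟨G, hG, ⟨eG⟩⟩ := hcoker f hX hY
    exact ⟨G, hG, ⟨eG ≪≫ IsColimit.coconePointUniqueUpToIso (colimit.isColimit (parallelPair f 0)) hk⟩⟩
  · intro T hT h₁ h₃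
    exact image_ext L S hext T hT h₁ h₃

end Generic

end Groth.Agent.Helper2.EpsX
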