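import Mathlib
import Groth.Prelude.Def_ProEtS
import Groth.Prelude.Def_EtModW
import Groth.Prelude.Def_WeakSerre
import Groth.Agent.Lib.Helper2.EpsU9
import Groth.Agent.Lib.Helper2.EpsU10
import Groth.Agent.Lib.Helper2.EpsX1
import Groth.Agent.Lib.Helper2.EpsX14
import Groth.Agent.Lib.Helper2.EpsX15

/-!
# Extension closure of the essential image of `ε⁻¹`: modules and abelian groups
-/

namespace Groth.Agent.Helper2.EpsX

universe u

open CategoryTheory CategoryTheory.Limits AlgebraicGeometry Opposite Groth.Agent.Helper2.EpsU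

section Mod

variable (Λ : Type (u + 1)) [CommRing Λ] (X : Scheme.{u}) [ProEtS.EpsCont X]

instance pushMod_additive : ((ProEtS.eps X).sheafPushforwardContinuous (ModuleCat.{u + 1} Λ)
    X.smallEtaleTopology (Scheme.ProEt.topology X)).Additive where

set_option backward.isDefEq.respectTransparency.types false in
theorem ext_closed_mod (T : ShortComplex (EtModW.ModP Λ X)) (hT : T.ShortExact)
    (h₁ : (EtModW.epsPullMod Λ X).essImage T.X₁) (h₃ : (EtModW.epsPullMod Λ X).essImage T.X₃) :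
    (EtModW.epsPullMod Λ X).essImage T.X₂ := by
  haveI : ∀ Z : X.ProEtᵒᵖ, IsFiltered (CostructuredArrow (ProEtS.eps X).op Z) :=
    fun Z => inferInstance
  haveI : ∀ P : X.Etaleᵒᵖ ⥤ ModuleCat.{u + 1} Λ,
      (ProEtS.eps X).op.HasPointwiseLeftKanExtension P := fun P => inferInstance
  haveI : PreservesFilteredColimitsOfSize.{u, u + 1} (forget (ModuleCat.{u + 1} Λ)) :=
    preservesFilteredColimitsOfSize_shrink.{u + 1, u + 1, u, u + 1} _
  haveI : ∀ (P : X.Etaleᵒᵖ ⥤ ModuleCat.{u + 1} Λ) (Z : X.ProEtᵒᵖ),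
      PreservesColimit (CostructuredArrow.proj (ProEtS.eps X).op Z ⋙ P)
      (forget (ModuleCat.{u + 1} Λ)) := fun P Z => inferInstance
  haveI : (EtModW.epsPullMod Λ X).Full := epsPullMod_full Λ X
  haveI : (EtModW.epsPullMod Λ X).Faithful := epsPullMod_faithful Λ X
  haveI : PreservesFiniteLimits (EtModW.epsPullMod Λ X) := epsPullMod_preservesFiniteLimits X Λ
  exact ext_closed (ModuleCat.{u + 1} Λ)
    (fun f hf => (ModuleCat.mono_iff_injective f).1 hf)
    (fun S hS x₂ hx₂ => (ShortComplex.moduleCat_exact_iff S).1 hS x₂ hx₂)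
    (fun S x₁ => by
      rw [← ConcreteCategory.comp_apply, S.zero]
      rfl)
    T hT h₁ h₃

end Mod

section Ab

variable (X : Scheme.{u}) [ProEtS.EpsCont X]

set_option backward.isDefEq.respectTransparency.types false in
theorem ext_closed_ab (T : ShortComplex (ProEtS.AbP X)) (hT : T.ShortExact)
    (h₁ : (ProEtS.epsPull X).essImage T.X₁) (h₃ : (ProEtS.epsPull X).essImage T.X₃) :
    (ProEtS.epsPull X).essImage T.X₂ := by
  haveI : ∀ Z : X.ProEtᵒᵖ, IsFiltered (CostructuredArrow (ProEtS.eps X).op Z) :=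
    fun Z => inferInstance
  haveI : ∀ P : X.Etaleᵒᵖ ⥤ AddCommGrpCat.{u + 1},
      (ProEtS.eps X).op.HasPointwiseLeftKanExtension P := fun P => inferInstance
  haveI : PreservesFilteredColimitsOfSize.{u, u + 1} (forget AddCommGrpCat.{u + 1}) :=
    preservesFilteredColimitsOfSize_shrink.{u + 1, u + 1, u, u + 1} _
  haveI : ∀ (P : X.Etaleᵒᵖ ⥤ AddCommGrpCat.{u + 1}) (Z : X.ProEtᵒᵖ),
      PreservesColimit (CostructuredArrow.proj (ProEtS.eps X).op Z ⋙ P)
      (forget AddCommGrpCat.{u + 1}) := fun P Z => inferInstance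
  haveI : ∀ F : EtCoh.Ab X, IsIso ((ProEtS.epsAdj X).unit.app F) :=
    fun F => eps_unit_isIso AddCommGrpCat.{u + 1} F
  haveI : IsIso (ProEtS.epsAdj X).unit := NatIso.isIso_of_isIso_app _
  haveI : (ProEtS.epsPull X).Full := (ProEtS.epsAdj X).fullyFaithfulLOfIsIsoUnit.full
  haveI : (ProEtS.epsPull X).Faithful := (ProEtS.epsAdj X).fullyFaithfulLOfIsIsoUnit.faithful
  haveI : PreservesFiniteLimits (ProEtS.epsPull X) := epsPull_preservesFiniteLimits X
  haveI : (ProEtS.epsPush X).Additive := inferInstance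
  exact ext_closed AddCommGrpCat.{u + 1}
    (fun f hf => (AddCommGrpCat.mono_iff_injective f).1 hf)
    (fun S hS x₂ hx₂ => (ShortComplex.ab_exact_iff S).1 hS x₂ hx₂)
    (fun S x₁ => by
      rw [← ConcreteCategory.comp_apply, S.zero]
      rfl)
    T hT h₁ h₃

end Ab

end Groth.Agent.Helper2.EpsX
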