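import Mathlib

set_option autoImplicit false

namespace Groth.Agent.Helper2.EtFam

open TensorProduct

universe u

section general

variable {R R' : Type u} [CommRing R] [CommRing R'] [Algebra R R']
  {ι : Type u} [Finite ι]
  (S : ι → Type u) [∀ q, CommRing (S q)] [∀ q, Algebra R (S q)]
  (B : ι → Type u) [∀ q, CommRing (B q)] [∀ q, Algebra R' (B q)] [∀ q, Algebra (S q) (B q)]
  [∀ q, Algebra R (B q)] [∀ q, IsScalarTower R (S q) (B q)] [∀ q, IsScalarTower R R' (B q)]
  [∀ q, Algebra.IsPushout R (S q) R' (B q)]

/-- étale-ness ascends to each member of the family (base change). -/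
theorem etale_of_global (h : Algebra.Etale R R') (q : ι) : Algebra.Etale (S q) (B q) :=
  Algebra.Etale.of_equiv (Algebra.IsPushout.equiv R (S q) R' (B q))

/-- the product of the `S q` is étale over... each projection is a localization at an idempotent -/
theorem etale_eval (q : ι) :
    letI : Algebra (∀ q, S q) (S q) := (Pi.evalRingHom S q).toAlgebra
    Algebra.Etale (∀ q, S q) (S q) := by
  classical
  letI : Algebra (∀ q, S q) (S q) := (Pi.evalRingHom S q).toAlgebra
  have : IsLocalization.Away (Pi.single q 1 : ∀ a, S a) (S q) := by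
    refine IsLocalization.away_of_isIdempotentElem ?_ (RingHom.ker_evalRingHom _ _)
      ((Pi.evalRingHom S q).surjective)
    simp [IsIdempotentElem, ← Pi.single_mul_left]
  exact Algebra.Etale.of_isLocalizationAway (Pi.single q 1 : ∀ a, S a)

/-- étale-ness descends along a jointly faithfully flat finite family. -/
theorem etale_of_family [Module.FaithfullyFlat R (∀ q, S q)]
    (h : ∀ q, Algebra.Etale (S q) (B q)) : Algebra.Etale R R' := by
  classical
  cases nonempty_fintype ι
  letI algTS : ∀ q, Algebra (∀ q, S q) (S q) := fun q => (Pi.evalRingHom S q).toAlgebra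
  have hTS : ∀ q, Algebra.Etale (∀ q, S q) (S q) := fun q => etale_eval S q
  letI algTB : ∀ q, Algebra (∀ q, S q) (B q) := fun q =>
    ((algebraMap (S q) (B q)).comp (Pi.evalRingHom S q)).toAlgebra
  haveI : ∀ q, IsScalarTower (∀ q, S q) (S q) (B q) := fun q =>
    IsScalarTower.of_algebraMap_eq fun _ => rfl
  have hTB : ∀ q, Algebra.Etale (∀ q, S q) (B q) := fun q =>
    haveI := hTS q
    haveI := h q
    Algebra.Etale.comp (∀ q, S q) (S q) (B q)
  haveI hfpB : ∀ q, Algebra.FinitePresentation (∀ q, S q) (B q) := fun q =>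
    (hTB q).finitePresentation
  have e1 : @Algebra.Etale (∀ q, S q) (∀ q, B q) _ _ (Pi.algebra ι B) :=
    @Algebra.Etale.mk _ _ _ _ (Pi.algebra ι B)
      ((Algebra.FormallyEtale.pi_iff B).mpr fun q => (hTB q).formallyEtale)
      (Algebra.FinitePresentation.pi B)
  have e2 : (algebraMap (∀ q, S q) (∀ q, B q)).Etale :=
    (@RingHom.etale_algebraMap _ _ _ _ (Pi.algebra ι B)).mpr e1
  haveI hTT' : Algebra.Etale (∀ q, S q) (∀ q, B q) := RingHom.etale_algebraMap.mp e2
  haveI tw1 : IsScalarTower R (∀ q, S q) (∀ q, B q) :=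
    IsScalarTower.of_algebraMap_eq fun r => by
      funext q
      exact IsScalarTower.algebraMap_apply R (S q) (B q) r
  -- the pushout property for the products
  have hP : IsBaseChange (∀ q, S q) (TensorProduct.mk R (∀ q, S q) R' 1) :=
    TensorProduct.isBaseChange R R' (∀ q, S q)
  let f : R' →ₗ[R] (∀ q, B q) := (IsScalarTower.toAlgHom R R' (∀ q, B q)).toLinearMap
  let F : (∀ q, S q) ⊗[R] R' →ₗ[∀ q, S q] (∀ q, B q) := hP.lift f
  have hFf : ∀ x, F (1 ⊗ₜ x) = f x := fun x => hP.lift_eq f x
  have hq : ∀ q, IsBaseChange (S q) (IsScalarTower.toAlgHom R R' (B q)).toLinearMap := fun q =>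
    Algebra.IsPushout.out
  have hFeq : ∀ x, F x = fun q => (hq q).equiv (piLeft R R' S x q) := by
    intro x
    induction x using TensorProduct.induction_on with
    | zero => funext q; simp
    | tmul t x =>
      funext q
      have h1 : F (t ⊗ₜ x) = t • f x := by
        have : t ⊗ₜ[R] x = t • ((1 : ∀ q, S q) ⊗ₜ[R] x) := by
          rw [TensorProduct.smul_tmul', smul_eq_mul, mul_one]
        rw [this, map_smul, hFf]
      rw [h1]
      simp only [piLeft, LinearEquiv.trans_apply, TensorProduct.comm_tmul, piRight_apply,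
        piRightHom_tmul, LinearEquiv.piCongrRight_apply, IsBaseChange.equiv_tmul]
      rfl
    | add a b ha hb =>
      funext q
      have ha' := congrFun ha q
      have hb' := congrFun hb q
      simp only [map_add, Pi.add_apply, ha', hb']
  have hF : Function.Bijective F := by
    have h2 : (F : _ → _) = (fun y : (∀ q, S q ⊗[R] R') => fun q => (hq q).equiv (y q)) ∘
        (piLeft R R' S) := by
      funext x
      exact hFeq x
    rw [h2]
    refine Function.Bijective.comp ?_ (piLeft R R' S).bijective
    constructor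
    · intro y z hyz
      funext q
      exact (hq q).equiv.injective (congrFun hyz q)
    · intro y
      exact ⟨fun q => (hq q).equiv.symm (y q), by funext q; simp⟩
  haveI : Algebra.IsPushout R (∀ q, S q) R' (∀ q, B q) :=
    ⟨IsBaseChange.of_equiv (LinearEquiv.ofBijective F hF) hFf⟩
  haveI : Algebra.Etale (∀ q, S q) ((∀ q, S q) ⊗[R] R') :=
    Algebra.Etale.of_equiv (Algebra.IsPushout.equiv R (∀ q, S q) R' (∀ q, B q)).symm
  exact Algebra.Etale.of_etale_tensorProduct_of_faithfullyFlat (∀ q, S q)

end general

end Groth.Agent.Helper2.EtFam
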