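import Mathlib

/-!
# Higher right derived functors of an exact functor vanish
-/

namespace Groth.Agent.Helper2.ExactDerived

open CategoryTheory CategoryTheory.Limits

universe v₁ v₂ u₁ u₂

variable {C : Type u₁} [Category.{v₁} C] [Abelian C] [HasInjectiveResolutions C]
  {D : Type u₂} [Category.{v₂} D] [Abelian D]

theorem isZero_rightDerived_of_exact (F : C ⥤ D) [F.Additive] [PreservesFiniteLimits F]
    [PreservesFiniteColimits F] (X : C) (q : ℕ) (hq : 0 < q) :
    IsZero ((F.rightDerived q).obj X) := by
  obtain ⟨n, rfl⟩ : ∃ n, q = n + 1 := ⟨q - 1, by omega⟩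
  let I := injectiveResolution X
  refine IsZero.of_iso ?_ (I.isoRightDerivedObj F (n + 1))
  have h1 : I.cocomplex.ExactAt (n + 1) := I.cocomplex_exactAt_succ n
  have h2 : ((F.mapHomologicalComplex _).obj I.cocomplex).ExactAt (n + 1) := by
    have : ((I.cocomplex.sc (n + 1)).map F).Exact := ShortComplex.Exact.map h1 F
    exact this
  exact h2.isZero_homology

end Groth.Agent.Helper2.ExactDerived
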