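import Mathlib

/-!
# Exterior powers over `A` of a free module over a quotient `A ⧸ 𝔞`
-/

set_option autoImplicit false
universe u
open CategoryTheory

namespace Groth.Agent.Helper2.ExtPowQuot

variable {A : Type u} [CommRing A] (𝔞 : Ideal A) {M : Type u} [AddCommGroup M] [Module A M]
  [Module (A ⧸ 𝔞) M] [IsScalarTower A (A ⧸ 𝔞) M]

section

variable (i : ℕ)

/-- for `i ≥ 1` the `A`-exterior power of an `A ⧸ 𝔞`-module is killed by `𝔞` -/
theorem isTorsionBySet (hi : 1 ≤ i) : Module.IsTorsionBySet A (⋀[A]^i M) (𝔞 : Set A) := by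
  rintro x ⟨a, ha⟩
  have hx : x ∈ (⊤ : Submodule A (⋀[A]^i M)) := trivial
  rw [← exteriorPower.ιMulti_span A i M] at hx
  induction hx using Submodule.span_induction with
  | mem y hy =>
    obtain ⟨m, rfl⟩ := hy
    obtain ⟨j, rfl⟩ : ∃ j, i = j + 1 := ⟨i - 1, by omega⟩
    have h1 : (a : A) • exteriorPower.ιMulti A (j + 1) m =
        exteriorPower.ιMulti A (j + 1) (Function.update m 0 (a • m 0)) := by
      rw [AlternatingMap.map_update_smul, Function.update_eq_self]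
    have h2 : (a : A) • m 0 = 0 := by
      rw [← algebraMap_smul (A ⧸ 𝔞) a (m 0)]
      have : algebraMap A (A ⧸ 𝔞) a = 0 := Ideal.Quotient.eq_zero_iff_mem.mpr ha
      rw [this, zero_smul]
    show (a : A) • _ = 0
    rw [h1, h2]
    exact AlternatingMap.map_update_zero _ m 0
  | zero => exact smul_zero _
  | add y z _ _ hy hz => rw [smul_add, hy, hz, add_zero]
  | smul c y _ hy => rw [smul_comm, hy, smul_zero]

end

section Equiv

variable (i : ℕ) (hi : 1 ≤ i)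

/-- the `A ⧸ 𝔞`-alternating map `M^i → ⋀[A]^i M` -/
noncomputable def altB :
    letI := (isTorsionBySet 𝔞 (M := M) i hi).module
    M [⋀^Fin i]→ₗ[A ⧸ 𝔞] (⋀[A]^i M) :=
  letI := (isTorsionBySet 𝔞 (M := M) i hi).module
  { toFun := fun m => exteriorPower.ιMulti A i m
    map_update_add' := fun m j x y => (exteriorPower.ιMulti A i).map_update_add m j x y
    map_update_smul' := fun m j b x => by
      obtain ⟨a, rfl⟩ := Ideal.Quotient.mk_surjective b
      have h1 : (Ideal.Quotient.mk 𝔞 a) • x = a • x := algebraMap_smul (A ⧸ 𝔞) a x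
      rw [h1, (exteriorPower.ιMulti A i).map_update_smul]
      exact ((isTorsionBySet 𝔞 (M := M) i hi).mk_smul a _).symm
    map_eq_zero_of_eq' := fun m j k hjk hne =>
      (exteriorPower.ιMulti A i).map_eq_zero_of_eq m hjk hne }

/-- the comparison `⋀[A]^i M → ⋀[A ⧸ 𝔞]^i M` -/
noncomputable def altA : M [⋀^Fin i]→ₗ[A] (⋀[A ⧸ 𝔞]^i M) :=
  { (exteriorPower.ιMulti (A ⧸ 𝔞) i (M := M)).toMultilinearMap.restrictScalars A with
    map_eq_zero_of_eq' := fun m j k hjk hne =>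
      (exteriorPower.ιMulti (A ⧸ 𝔞) i).map_eq_zero_of_eq m hjk hne }

/-- the comparison `⋀[A]^i M → ⋀[A ⧸ 𝔞]^i M` -/
noncomputable def fwd : ⋀[A]^i M →ₗ[A] ⋀[A ⧸ 𝔞]^i M :=
  exteriorPower.alternatingMapLinearEquiv (altA 𝔞 i)

theorem fwd_ιMulti (m : Fin i → M) :
    fwd 𝔞 i (exteriorPower.ιMulti A i m) = exteriorPower.ιMulti (A ⧸ 𝔞) i m := by
  rw [fwd, exteriorPower.alternatingMapLinearEquiv_apply_ιMulti]
  rfl

include hi in
theorem fwd_injective : Function.Injective (fwd 𝔞 (M := M) i) := by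
  letI := (isTorsionBySet 𝔞 (M := M) i hi).module
  let bwd : ⋀[A ⧸ 𝔞]^i M →ₗ[A ⧸ 𝔞] ⋀[A]^i M :=
    exteriorPower.alternatingMapLinearEquiv (altB 𝔞 i hi)
  have hb : ∀ m : Fin i → M, bwd (exteriorPower.ιMulti (A ⧸ 𝔞) i m) =
      exteriorPower.ιMulti A i m := fun m => by
    show exteriorPower.alternatingMapLinearEquiv (altB 𝔞 i hi) _ = _
    rw [exteriorPower.alternatingMapLinearEquiv_apply_ιMulti]
    rfl
  have hcomp : ∀ y : ⋀[A]^i M, bwd (fwd 𝔞 i y) = y := by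
    intro y
    have hy : y ∈ (⊤ : Submodule A (⋀[A]^i M)) := trivial
    rw [← exteriorPower.ιMulti_span A i M] at hy
    induction hy using Submodule.span_induction with
    | mem z hz =>
      obtain ⟨m, rfl⟩ := hz
      rw [fwd_ιMulti, hb]
    | zero => rw [map_zero, map_zero]
    | add y z _ _ hy hz => rw [map_add, map_add, hy, hz]
    | smul c y _ hy =>
      rw [map_smul, ← algebraMap_smul (A ⧸ 𝔞) c (fwd 𝔞 i y), map_smul, hy]
      exact (isTorsionBySet 𝔞 (M := M) i hi).mk_smul c y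
  exact Function.LeftInverse.injective hcomp

theorem fwd_surjective : Function.Surjective (fwd 𝔞 (M := M) i) := by
  intro x
  have hx : x ∈ (⊤ : Submodule (A ⧸ 𝔞) (⋀[A ⧸ 𝔞]^i M)) := trivial
  rw [← exteriorPower.ιMulti_span (A ⧸ 𝔞) i M] at hx
  induction hx using Submodule.span_induction with
  | mem z hz =>
    obtain ⟨m, rfl⟩ := hz
    exact ⟨_, fwd_ιMulti 𝔞 i m⟩
  | zero => exact ⟨0, map_zero _⟩
  | add y z _ _ hy hz =>
    obtain ⟨y', rfl⟩ := hy
    obtain ⟨z', rfl⟩ := hz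
    exact ⟨y' + z', map_add _ _ _⟩
  | smul c y _ hy =>
    obtain ⟨y', rfl⟩ := hy
    obtain ⟨a, rfl⟩ := Ideal.Quotient.mk_surjective c
    refine ⟨a • y', ?_⟩
    rw [map_smul]
    exact (algebraMap_smul (A ⧸ 𝔞) a (fwd 𝔞 i y')).symm

/-- change of rings for exterior powers along a quotient map, in degrees `≥ 1` -/
noncomputable def extPowEquiv : ⋀[A]^i M ≃ₗ[A] ⋀[A ⧸ 𝔞]^i M :=
  LinearEquiv.ofBijective (fwd 𝔞 i) ⟨fwd_injective 𝔞 i hi, fwd_surjective 𝔞 i⟩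

end Equiv

section Pi

variable {A : Type u} [CommRing A] (𝔞 : Ideal A)

/-- the `A`-exterior power of a free `A ⧸ 𝔞`-module of rank `r`, in degree `i ≥ 1` -/
theorem nonempty_extPow_pi_quot (r i : ℕ) (hi : 1 ≤ i) :
    Nonempty (⋀[A]^i (Fin r → A ⧸ 𝔞) ≃ₗ[A] (Fin (r.choose i) → A ⧸ 𝔞)) := by
  classical
  have e1 : ⋀[A]^i (Fin r → A ⧸ 𝔞) ≃ₗ[A] ⋀[A ⧸ 𝔞]^i (Fin r → A ⧸ 𝔞) := extPowEquiv 𝔞 i hi
  have e2 : ⋀[A ⧸ 𝔞]^i (Fin r → A ⧸ 𝔞) ≃ₗ[A ⧸ 𝔞] (Set.powersetCard (Fin r) i → A ⧸ 𝔞) :=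
    ((Pi.basisFun (A ⧸ 𝔞) (Fin r)).exteriorPower i).equivFun
  have hcard : Fintype.card (Set.powersetCard (Fin r) i) = r.choose i := by
    rw [← Nat.card_eq_fintype_card, Set.powersetCard.card, Nat.card_eq_fintype_card,
      Fintype.card_fin]
  have e3 : (Set.powersetCard (Fin r) i → A ⧸ 𝔞) ≃ₗ[A] (Fin (r.choose i) → A ⧸ 𝔞) :=
    LinearEquiv.funCongrLeft A (A ⧸ 𝔞) (Fintype.equivFinOfCardEq hcard).symm
  exact ⟨e1 ≪≫ₗ (e2.restrictScalars A) ≪≫ₗ e3⟩

end Pi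

end Groth.Agent.Helper2.ExtPowQuot
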