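import Mathlib

/-!
# Sections of a sheaf pullback vanish where the Kan extension is locally empty
-/

namespace Groth.Agent.Helper2.ExtZ

universe w v₁ v₂ u₁ u₂

open CategoryTheory CategoryTheory.Limits Opposite

variable {C : Type u₁} [Category.{v₁} C] {D : Type u₂} [Category.{v₂} D]
variable (u : D ⥤ C) (J : GrothendieckTopology D) (K : GrothendieckTopology C)
variable [u.IsContinuous J K] [HasWeakSheafify K AddCommGrpCat.{w}]
  [∀ (F : Dᵒᵖ ⥤ AddCommGrpCat.{w}), u.op.HasLeftKanExtension F]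
  [K.WEqualsLocallyBijective AddCommGrpCat.{w}]
  [K.HasSheafCompose (forget AddCommGrpCat.{w})]

/-- The left Kan extension vanishes at objects admitting no map to the image of `u`. -/
theorem isZero_lan_of_isEmpty (F : Dᵒᵖ ⥤ AddCommGrpCat.{w})
    [u.op.HasPointwiseLeftKanExtension F] (W : C)
    (hW : ∀ W' : D, IsEmpty (W ⟶ u.obj W')) :
    IsZero ((u.op.lan.obj F).obj (op W)) := by
  let E₀ : Functor.LeftExtension u.op F :=
    Functor.LeftExtension.mk _ (u.op.lanUnit.app F)
  have hE₀ : E₀.IsPointwiseLeftKanExtension :=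
    Functor.isPointwiseLeftKanExtensionOfIsLeftKanExtension _ _
  haveI : IsEmpty (CostructuredArrow u.op (op W)) :=
    ⟨fun a => (hW a.left.unop).false a.hom.unop⟩
  rw [IsZero.iff_id_eq_zero]
  exact (hE₀ (op W)).hom_ext (fun a => isEmptyElim a)

theorem subsingleton_sheafPullback (F : Sheaf J AddCommGrpCat.{w})
    [u.op.HasPointwiseLeftKanExtension F.obj] (V : C)
    (H : ∀ S : Sieve V, S ∈ K V → ∃ R : Presieve V, R ≤ S ∧ Sieve.generate R ∈ K V ∧
      ∀ ⦃W : C⦄ (f : W ⟶ V), R f → ∀ W' : D, IsEmpty (W ⟶ u.obj W')) :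
    Subsingleton (((u.sheafPullback AddCommGrpCat.{w} J K).obj F).obj.obj (op V)) := by
  let e := (Functor.sheafPullbackConstruction.sheafPullbackIso u AddCommGrpCat.{w} J K).app F
  let G := (Functor.sheafPullbackConstruction.sheafPullback u AddCommGrpCat.{w} J K).obj F
  suffices h : Subsingleton (G.obj.obj (op V)) by
    let e' : ((u.sheafPullback AddCommGrpCat.{w} J K).obj F).obj.obj (op V) ≅ G.obj.obj (op V) :=
      ((sheafToPresheaf K AddCommGrpCat.{w}).mapIso e).app (op V)
    exact (e'.addCommGroupIsoToAddEquiv.toEquiv).subsingleton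
  let P := u.op.lan.obj F.obj
  let φ : P ⟶ G.obj := toSheafify K P
  haveI : Presheaf.IsLocallySurjective K φ :=
    inferInstanceAs (Presheaf.IsLocallySurjective K (toSheafify K P))
  have hQ : Presieve.IsSheaf K (G.obj ⋙ forget AddCommGrpCat.{w}) :=
    (isSheaf_iff_isSheaf_of_type _ _).1 ((sheafCompose K (forget AddCommGrpCat.{w})).obj G).2
  have key : ∀ s : G.obj.obj (op V), s = 0 := by
    intro s
    have hS := Presheaf.imageSieve_mem K φ s
    obtain ⟨R, hRS, hR, hRe⟩ := H _ hS
    refine (hQ.isSeparated _ hR).ext ?_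
    intro W f hf
    obtain ⟨W₁, g, f₁, hf₁, rfl⟩ := hf
    have hz : IsZero (P.obj (op W₁)) := isZero_lan_of_isEmpty u F.obj W₁ (hRe f₁ hf₁)
    obtain ⟨t, ht⟩ := hRS _ _ hf₁
    haveI := AddCommGrpCat.subsingleton_of_isZero hz
    have ht0 : t = 0 := Subsingleton.elim _ _
    have h1 : G.obj.map f₁.op s = 0 := by
      rw [← ht, ht0, map_zero]
    change G.obj.map (g ≫ f₁).op s = G.obj.map (g ≫ f₁).op 0
    rw [op_comp, G.obj.map_comp, ConcreteCategory.comp_apply, h1, map_zero, map_zero]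
  exact ⟨fun a b => (key a).trans (key b).symm⟩

end Groth.Agent.Helper2.ExtZ
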