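import Mathlib
import Groth.Prelude.Def_ProEtS
import Groth.Prelude.Def_PBC
import Groth.Agent.S0757

/-!
# Refining pro-étale coverings of an affine whose points specialize into a closed subscheme
-/

namespace Groth.Agent.Helper2.ExtZ

universe u

open CategoryTheory CategoryTheory.Limits AlgebraicGeometry Opposite

set_option backward.isDefEq.respectTransparency.types false in
theorem exists_refinement {U X Z : Scheme.{u}} (j : U ⟶ X) [WeaklyEtale j] (i : Z ⟶ X)
    (hUZ : Disjoint (Set.range j.base) (Set.range i.base))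
    (V : X.ProEt) [IsAffine V.left]
    (hV : ∀ v : ↥V.left, ∃ z : ↥V.left, V.hom.base z ∈ Set.range i.base ∧ v ⤳ z)
    (S : Sieve V) (hS : S ∈ Scheme.ProEt.topology X V) :
    ∃ R : Presieve V, R ≤ S ∧ Sieve.generate R ∈ Scheme.ProEt.topology X V ∧
      ∀ ⦃W : X.ProEt⦄ (f : W ⟶ V), R f → ∀ W' : U.ProEt,
        IsEmpty (W ⟶ (ProEtS.compP j).obj W') := by
  rw [Precoverage.mem_toGrothendieck_iff_of_isStableUnderComposition] at hS
  obtain ⟨S₀, hS₀, hle⟩ := hS
  obtain ⟨ι, Y, p, rfl⟩ := S₀.exists_eq_ofArrows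
  change (Presieve.ofArrows Y p).map (Scheme.ProEt.forget X ⋙ Over.forget X) ∈
    Scheme.proetalePrecoverage _ at hS₀
  rw [Presieve.map_ofArrows] at hS₀
  let 𝒰 : PreZeroHypercover.{_} V.left := ⟨ι, fun a => (Y a).left, fun a => (p a).left⟩
  have hp' : 𝒰.presieve₀ ∈ Scheme.proetalePrecoverage V.left := hS₀
  haveI hqc : QuasiCompactCover 𝒰 := Scheme.presieve₀_mem_qcPrecoverage_iff.mp hp'.1
  have hc : IsCompact ((⊤ : V.left.Opens) : Set ↥V.left) := by
    simpa using CompactSpace.isCompact_univ
  obtain ⟨n, f, V', hV', hcov⟩ := QuasiCompactCover.exists_isAffineOpen_of_isCompact 𝒰 hc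
  -- the refined objects
  let T : Fin n → X.ProEt := fun k => Scheme.ProEt.mk ((V' k).ι ≫ (Y (f k)).hom)
  let q : ∀ k, T k ⟶ Y (f k) := fun k => MorphismProperty.Over.homMk (V' k).ι rfl
  let m : ∀ k, T k ⟶ V := fun k => q k ≫ p (f k)
  haveI : ∀ k, IsAffine (T k).left := fun k => hV' k
  have hm : ∀ k, (m k).left = (V' k).ι ≫ (p (f k)).left := fun k => rfl
  let K' := {k : Fin n // ∃ t : (T k).left, (T k).hom.base t ∈ Set.range i.base}
  refine ⟨Presieve.ofArrows (fun k : K' => T k.1) (fun k => m k.1), ?_, ?_, ?_⟩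
  · rintro W g ⟨k⟩
    exact S.downward_closed (hle _ _ (Presieve.ofArrows.mk (f k.1))) (q k.1)
  · apply Precoverage.generate_mem_toGrothendieck
    change (Presieve.ofArrows (fun k : K' => T k.1) (fun k => m k.1)).map
      (Scheme.ProEt.forget X ⋙ Over.forget X) ∈ Scheme.proetalePrecoverage _
    rw [Presieve.map_ofArrows]
    -- joint surjectivity
    have hsurj : ∀ v : V.left, ∃ k : K', v ∈ Set.range (m k.1).left.base := by
      intro v
      obtain ⟨z, hz, hvz⟩ := hV v
      have hz' : z ∈ ⋃ k, (𝒰.f (f k)) '' (V' k : Set _) := by rw [hcov]; trivial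
      obtain ⟨k, y, hy, hyz⟩ := Set.mem_iUnion.mp hz'
      have hyz' : (m k).left.base ⟨y, hy⟩ = z := by
        rw [hm k, Scheme.Hom.comp_base]
        exact hyz
      have hk : ∃ t : (T k).left, (T k).hom.base t ∈ Set.range i.base := by
        refine ⟨⟨y, hy⟩, ?_⟩
        have hw := MorphismProperty.Over.w (m k)
        have : (T k).hom.base ⟨y, hy⟩ = V.hom.base ((m k).left.base ⟨y, hy⟩) := by
          rw [← hw]
          rfl
        rw [this, hyz']
        exact hz
      refine ⟨⟨k, hk⟩, ?_⟩
      haveI : Flat (m k).left := by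
        have : WeaklyEtale (m k).left := by
          have h1 : WeaklyEtale ((m k).left ≫ V.hom) := by
            rw [MorphismProperty.Over.w (m k)]
            infer_instance
          exact WeaklyEtale.of_comp (m k).left V.hom
        infer_instance
      have hg := (Flat.generalizingMap (f := (m k).left)).stableUnderGeneralization_range
      exact hg hvz ⟨_, hyz'⟩
    refine ⟨?_, ?_⟩
    · let 𝒱 : PreZeroHypercover.{_} V.left :=
        ⟨K', fun k => (T k.1).left, fun k => (m k.1).left⟩
      haveI : QuasiCompactCover 𝒱 :=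
        { isCompactOpenCovered_of_isAffineOpen := fun {O} hO => by
            refine .of_finite_of_isSpectralMap (fun k ↦ (𝒱.f k).isSpectralMap) ?_ O.2
              hO.isCompact
            exact fun x _ => hsurj x }
      exact Scheme.presieve₀_mem_qcPrecoverage_iff.mpr ‹QuasiCompactCover 𝒱›
    · rw [Scheme.ofArrows_mem_precoverage_iff]
      refine ⟨hsurj, fun k => ?_⟩
      have h1 : WeaklyEtale ((m k.1).left ≫ V.hom) := by
        rw [MorphismProperty.Over.w (m k.1)]
        infer_instance
      exact WeaklyEtale.of_comp (m k.1).left V.hom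
  · rintro W g ⟨k⟩ W'
    refine ⟨fun h => ?_⟩
    obtain ⟨t, ht⟩ := k.2
    have hw := MorphismProperty.Over.w h
    have hin : (T k.1).hom.base t ∈ Set.range j.base := by
      refine ⟨W'.hom.base (h.left.base t), ?_⟩
      rw [← hw]
      rfl
    exact (Set.disjoint_left.mp hUZ) hin ht

end Groth.Agent.Helper2.ExtZ
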