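import Mathlib

/-!
# The counit of the left Kan extension adjunction along a fully faithful functor is an isomorphism
at objects of the essential image
-/

namespace Groth.Agent.Helper2.ExtZ

universe w v₁ v₂ u₁ u₂

open CategoryTheory CategoryTheory.Limits Opposite

variable {C : Type u₁} [Category.{v₁} C] {D : Type u₂} [Category.{v₂} D]
variable (c : D ⥤ C) [c.Full] [c.Faithful]
  {A : Type*} [Category A]
  [∀ (F : Dᵒᵖ ⥤ A), c.op.HasLeftKanExtension F]

/-- Formula for the counit on a "class". -/
theorem lanCounit_formula (G : Cᵒᵖ ⥤ A) {T : C} {V : D} (t : T ⟶ c.obj V) :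
    (c.op.lanUnit.app (c.op ⋙ G)).app (op V) ≫ (c.op.lan.obj (c.op ⋙ G)).map t.op ≫
      ((c.op.lanAdjunction A).counit.app G).app (op T) = G.map t.op := by
  have hnat := ((c.op.lanAdjunction A).counit.app G).naturality t.op
  have htri : (c.op.lanUnit.app (c.op ⋙ G)).app (op V) ≫
      ((c.op.lanAdjunction A).counit.app G).app (op (c.obj V)) = 𝟙 _ := by
    have h0 := (c.op.lanAdjunction A).right_triangle_components G
    rw [Functor.lanAdjunction_unit] at h0
    exact congrArg (fun α => α.app (op V)) h0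
  have hnat' : (c.op.lan.obj (c.op ⋙ G)).map t.op ≫
      ((c.op.lanAdjunction A).counit.app G).app (op T) =
      ((c.op.lanAdjunction A).counit.app G).app (op (c.obj V)) ≫ G.map t.op := hnat
  rw [hnat', ← Category.assoc, htri]
  exact Category.id_comp _

theorem isIso_lanCounit_app (G : Cᵒᵖ ⥤ A) [c.op.HasPointwiseLeftKanExtension (c.op ⋙ G)]
    {V : C} {V₀ : D} (e : V ≅ c.obj V₀) :
    IsIso (((c.op.lanAdjunction A).counit.app G).app (op V)) := by
  let F₀ : Dᵒᵖ ⥤ A := c.op ⋙ G
  let E₀ : Functor.LeftExtension c.op F₀ :=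
    Functor.LeftExtension.mk _ (c.op.lanUnit.app F₀)
  have hE₀ : E₀.IsPointwiseLeftKanExtension :=
    Functor.isPointwiseLeftKanExtensionOfIsLeftKanExtension _ _
  let a₀ : CostructuredArrow c.op (op V) := CostructuredArrow.mk (Y := op V₀) e.hom.op
  have ha₀ : IsTerminal a₀ := by
    refine IsTerminal.ofUniqueHom
      (fun a => CostructuredArrow.homMk (c.preimage (e.inv ≫ a.hom.unop)).op ?_) ?_
    · apply Quiver.Hom.unop_inj
      change e.hom ≫ c.map (c.preimage (e.inv ≫ a.hom.unop)) = a.hom.unop
      rw [Functor.map_preimage, Iso.hom_inv_id_assoc]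
    · intro a m
      apply CostructuredArrow.hom_ext
      apply Quiver.Hom.unop_inj
      apply c.map_injective
      change c.map m.left.unop = c.map (c.preimage (e.inv ≫ a.hom.unop))
      rw [Functor.map_preimage]
      have hw := CostructuredArrow.w m
      have hw' : e.hom ≫ c.map m.left.unop = a.hom.unop := congrArg Quiver.Hom.unop hw
      rw [← hw', Iso.inv_hom_id_assoc]
  have h1 : IsIso ((E₀.coconeAt (op V)).ι.app a₀) :=
    (hE₀ (op V)).isIso_ι_app_of_isTerminal a₀ ha₀
  have h2 : (E₀.coconeAt (op V)).ι.app a₀ ≫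
      ((c.op.lanAdjunction A).counit.app G).app (op V) = G.map e.hom.op := by
    change ((c.op.lanUnit.app F₀).app (op V₀) ≫ (c.op.lan.obj F₀).map e.hom.op) ≫ _ = _
    rw [Category.assoc]
    exact lanCounit_formula c G e.hom
  haveI : IsIso ((E₀.coconeAt (op V)).ι.app a₀ ≫
      ((c.op.lanAdjunction A).counit.app G).app (op V)) := by
    rw [h2]
    exact (G.mapIso e.op).isIso_hom
  exact IsIso.of_isIso_comp_left ((E₀.coconeAt (op V)).ι.app a₀) _

end Groth.Agent.Helper2.ExtZ
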