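import Mathlib.CategoryTheory.Subobject.ArtinianObject
import Mathlib.CategoryTheory.Subobject.NoetherianObject
import Mathlib.CategoryTheory.Simple
import Mathlib.CategoryTheory.Abelian.Basic
import Mathlib.CategoryTheory.Subobject.Lattice
import Mathlib.CategoryTheory.Subobject.Limits
import Mathlib.CategoryTheory.Abelian.Refinements
import Mathlib.Order.ModularLattice

set_option autoImplicit false
universe v u

open CategoryTheory CategoryTheory.Limits

namespace Groth.Agent.Helper2.SubLat

variable {A : Type u} [Category.{v} A] [Abelian A] {X : A}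

/-- (R2) -/
lemma factors_of_epi_comp (P : Subobject X) {Z Z' : A} (π : Z' ⟶ Z) [Epi π] (f : Z ⟶ X)
    (h : P.Factors (π ≫ f)) : P.Factors f := by
  have := strongEpi_of_epi π
  have sq : CommSq (P.factorThru _ h) π P.arrow f := ⟨by simp⟩
  exact (Subobject.factors_iff _ _).2 ⟨sq.lift, sq.fac_right⟩

lemma sup_eq_imageSubobject (P Q : Subobject X) :
    P ⊔ Q = imageSubobject (biprod.desc P.arrow Q.arrow) := by
  apply le_antisymm
  · apply sup_le
    · apply Subobject.le_of_factors
      have h := imageSubobject_factors_comp_self (biprod.desc P.arrow Q.arrow) biprod.inl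
      rwa [biprod.inl_desc] at h
    · apply Subobject.le_of_factors
      have h := imageSubobject_factors_comp_self (biprod.desc P.arrow Q.arrow) biprod.inr
      rwa [biprod.inr_desc] at h
  · apply imageSubobject_le _ (biprod.desc (Subobject.ofLE P (P ⊔ Q) le_sup_left)
      (Subobject.ofLE Q (P ⊔ Q) le_sup_right))
    ext <;> simp

/-- (R1) -/
lemma sup_factors_iff (P Q : Subobject X) {Z : A} (f : Z ⟶ X) :
    (P ⊔ Q).Factors f ↔ ∃ (Z' : A) (π : Z' ⟶ Z) (_ : Epi π) (a : Z' ⟶ (P : A)) (b : Z' ⟶ (Q : A)),
      π ≫ f = a ≫ P.arrow + b ≫ Q.arrow := by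
  rw [sup_eq_imageSubobject]
  constructor
  · intro h
    obtain ⟨Z', π, hπ, x, fac⟩ := surjective_up_to_refinements_of_epi
      (factorThruImageSubobject (biprod.desc P.arrow Q.arrow)) (Subobject.factorThru _ f h)
    refine ⟨Z', π, hπ, x ≫ biprod.fst, x ≫ biprod.snd, ?_⟩
    have := fac =≫ (imageSubobject (biprod.desc P.arrow Q.arrow)).arrow
    simp only [Category.assoc, Subobject.factorThru_arrow, imageSubobject_arrow_comp] at this
    rw [this]
    have hx : x = x ≫ biprod.fst ≫ biprod.inl + x ≫ biprod.snd ≫ biprod.inr := by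
      rw [← Preadditive.comp_add, biprod.total, Category.comp_id]
    conv_lhs => rw [hx]
    simp
  · rintro ⟨Z', π, hπ, a, b, fac⟩
    apply factors_of_epi_comp _ π
    rw [fac]
    have : a ≫ P.arrow + b ≫ Q.arrow = biprod.lift a b ≫ biprod.desc P.arrow Q.arrow := by
      simp [biprod.lift_desc]
    rw [this]
    exact imageSubobject_factors_comp_self _ _

instance : IsModularLattice (Subobject X) where
  sup_inf_le_assoc_of_le := by
    intro x y z hxz
    apply Subobject.le_of_factors
    set f := ((x ⊔ y) ⊓ z).arrow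
    have h1 : (x ⊔ y).Factors f := Subobject.factors_of_le _ inf_le_left (Subobject.factors_self _)
    have h2 : z.Factors f := Subobject.factors_of_le _ inf_le_right (Subobject.factors_self _)
    obtain ⟨Z', π, hπ, a, b, fac⟩ := (sup_factors_iff x y f).1 h1
    apply factors_of_epi_comp _ π
    rw [sup_factors_iff]
    have hb : (y ⊓ z).Factors (b ≫ y.arrow) := by
      rw [Subobject.inf_factors]
      refine ⟨Subobject.factors_comp_arrow _, ?_⟩
      have : b ≫ y.arrow = π ≫ f - a ≫ x.arrow := by rw [fac]; abel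
      rw [this]
      have h3 : z.Factors (π ≫ f) := Subobject.factors_of_factors_right _ h2
      have h4 : z.Factors (a ≫ x.arrow) :=
        Subobject.factors_of_le _ hxz (Subobject.factors_comp_arrow _)
      have h5 : z.Factors (-(a ≫ x.arrow)) := by
        rw [← Preadditive.neg_comp]
        exact Subobject.factors_of_le _ hxz (Subobject.factors_comp_arrow _)
      rw [sub_eq_add_neg]
      exact Subobject.factors_add _ _ h3 h5
    refine ⟨Z', 𝟙 _, inferInstance, a, Subobject.factorThru _ _ hb, ?_⟩
    rw [Category.id_comp, fac, Subobject.factorThru_arrow]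


lemma mk_factors_iff' {P Z : A} (m : P ⟶ X) [Mono m] (g : Z ⟶ X) :
    (Subobject.mk m).Factors g ↔ ∃ l : Z ⟶ P, l ≫ m = g := by
  constructor
  · intro h
    refine ⟨(Subobject.mk m).factorThru g h ≫ (Subobject.underlyingIso m).hom, ?_⟩
    rw [Category.assoc, Subobject.underlyingIso_hom_comp_eq_mk, Subobject.factorThru_arrow]
  · rintro ⟨l, rfl⟩
    have : l ≫ m = (l ≫ (Subobject.underlyingIso m).inv) ≫ (Subobject.mk m).arrow := by
      rw [Category.assoc, Subobject.underlyingIso_arrow]
    rw [this]
    exact Subobject.factors_comp_arrow _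

section Quot

variable {S T : Subobject X} (h : S ≤ T)

/-- the quotient `T/S`. -/
noncomputable abbrev quo : A := cokernel (Subobject.ofLE S T h)

noncomputable abbrev quoπ : (T : A) ⟶ quo h := cokernel.π (Subobject.ofLE S T h)

lemma comp_quoπ_eq_zero_iff {W : A} (g : W ⟶ (T : A)) :
    g ≫ quoπ h = 0 ↔ S.Factors (g ≫ T.arrow) := by
  constructor
  · intro hg
    have : g = Abelian.monoLift (Subobject.ofLE S T h) g hg ≫ Subobject.ofLE S T h :=
      (Abelian.monoLift_comp _ _ _).symm
    rw [this, Category.assoc, Subobject.ofLE_arrow]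
    exact Subobject.factors_comp_arrow _
  · intro hg
    have : g = S.factorThru _ hg ≫ Subobject.ofLE S T h := by
      rw [← cancel_mono T.arrow, Category.assoc, Subobject.ofLE_arrow, Subobject.factorThru_arrow]
    rw [this, Category.assoc, cokernel.condition, comp_zero]

lemma isZero_quo_iff : IsZero (quo h) ↔ S = T := by
  constructor
  · intro hz
    apply le_antisymm h
    apply Subobject.le_of_factors
    have := (comp_quoπ_eq_zero_iff h (𝟙 _)).1 (hz.eq_of_tgt _ _)
    rwa [Category.id_comp] at this
  · rintro rfl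
    have : IsIso (Subobject.ofLE S S h) := by
      rw [show Subobject.ofLE S S h = 𝟙 _ from by
        rw [← cancel_mono S.arrow, Subobject.ofLE_arrow, Category.id_comp]]
      infer_instance
    exact isZero_cokernel_of_epi _

lemma covBy_of_simple_quo [Simple (quo h)] : S ⋖ T := by
  have hne : S ≠ T := fun e => Simple.not_isZero (quo h) ((isZero_quo_iff h).2 e)
  refine ⟨lt_of_le_of_ne h hne, fun c hSc hcT => ?_⟩
  let g : (c : A) ⟶ quo h := Subobject.ofLE c T hcT.le ≫ quoπ h
  by_cases hm : image.ι g = 0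
  · have hg : g = 0 := by rw [← image.fac g, hm, comp_zero]
    have := (comp_quoπ_eq_zero_iff h _).1 hg
    rw [Subobject.ofLE_arrow] at this
    exact absurd (Subobject.le_of_factors this) (not_le_of_gt hSc)
  · have hiso : IsIso (image.ι g) := (Simple.mono_isIso_iff_nonzero _).2 hm
    have hepi : Epi g := by
      rw [← image.fac g]
      infer_instance
    -- cokernel of `c ⟶ T`
    let p := cokernel.π (Subobject.ofLE c T hcT.le)
    have h1 : Subobject.ofLE S T h ≫ p = 0 := by
      rw [← Subobject.ofLE_comp_ofLE S c T hSc.le hcT.le, Category.assoc, cokernel.condition,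
        comp_zero]
    let p' := cokernel.desc (Subobject.ofLE S T h) p h1
    have h2 : g ≫ p' = 0 := by
      simp only [g, p', Category.assoc, cokernel.π_desc]
      exact cokernel.condition _
    have h3 : p' = 0 := by rwa [← cancel_epi g, comp_zero]
    have h4 : p = 0 := by
      rw [← cokernel.π_desc (Subobject.ofLE S T h) p h1]
      change _ ≫ p' = 0
      rw [h3, comp_zero]
    have h5 : Epi (Subobject.ofLE c T hcT.le) := Preadditive.epi_of_cokernel_zero h4
    have h6 : IsIso (Subobject.ofLE c T hcT.le) := isIso_of_mono_of_epi _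
    have h7 : c.Factors T.arrow := by
      have : T.arrow = inv (Subobject.ofLE c T hcT.le) ≫ c.arrow := by
        rw [IsIso.eq_inv_comp, Subobject.ofLE_arrow]
      rw [this]
      exact Subobject.factors_comp_arrow _
    exact absurd (Subobject.le_of_factors h7) (not_le_of_gt hcT)

lemma simple_quo_of_covBy (hc : S ⋖ T) : Simple (quo h) := by
  have hnz : ¬ IsZero (quo h) := fun hz => hc.lt.ne ((isZero_quo_iff h).1 hz)
  refine ⟨fun {Y} f _ => ?_⟩
  let P := pullback f (quoπ h)
  have hmono : Mono (pullback.snd f (quoπ h)) := inferInstance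
  let P' : Subobject X := Subobject.mk (pullback.snd f (quoπ h) ≫ T.arrow)
  have hSP : S ≤ P' := by
    apply Subobject.le_of_factors
    rw [mk_factors_iff']
    refine ⟨pullback.lift 0 (Subobject.ofLE S T h) (by rw [zero_comp, cokernel.condition]), ?_⟩
    rw [← Category.assoc, pullback.lift_snd, Subobject.ofLE_arrow]
  have hPT : P' ≤ T := by
    apply Subobject.le_of_factors
    have : P'.arrow = ((Subobject.underlyingIso _).hom ≫ pullback.snd f (quoπ h)) ≫ T.arrow := by
      rw [Category.assoc, Subobject.underlyingIso_hom_comp_eq_mk]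
    rw [this]
    exact Subobject.factors_comp_arrow _
  rcases hc.eq_or_eq hSP hPT with e | e
  · -- P' = S
    have h1 : S.Factors (pullback.snd f (quoπ h) ≫ T.arrow) :=
      Subobject.factors_of_le _ e.le ((mk_factors_iff' _ _).2 ⟨𝟙 _, Category.id_comp _⟩)
    have h2 : pullback.snd f (quoπ h) ≫ quoπ h = 0 := (comp_quoπ_eq_zero_iff h _).2 h1
    have h3 : pullback.fst f (quoπ h) = 0 := by
      rw [← cancel_mono f, zero_comp, pullback.condition, h2]
    have h4 : Epi (pullback.fst f (quoπ h)) := inferInstance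
    have h5 : IsZero Y := by
      rw [IsZero.iff_id_eq_zero, ← cancel_epi (pullback.fst f (quoπ h)), h3, zero_comp, zero_comp]
    have h6 : f = 0 := h5.eq_of_src _ _
    constructor
    · intro hiso
      exact absurd (h5.of_iso (asIso f).symm) hnz
    · intro hf; exact absurd h6 hf
  · -- P' = T
    have h1 : P'.Factors T.arrow := Subobject.factors_of_le _ e.ge (Subobject.factors_self _)
    obtain ⟨l, hl⟩ := (mk_factors_iff' _ _).1 h1
    have h2 : l ≫ pullback.snd f (quoπ h) = 𝟙 _ := by
      rw [← cancel_mono T.arrow, Category.assoc, hl, Category.id_comp]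
    have h3 : quoπ h = (l ≫ pullback.fst f (quoπ h)) ≫ f := by
      rw [Category.assoc, pullback.condition, ← Category.assoc, h2, Category.id_comp]
    have h4 : Epi f := epi_of_epi_fac h3.symm
    have h5 : IsIso f := isIso_of_mono_of_epi _
    constructor
    · intro _ hf
      apply hnz
      rw [IsZero.iff_id_eq_zero, ← cancel_epi f, hf, zero_comp, zero_comp]
    · intro _; exact h5

lemma simple_quo_iff_covBy : Simple (quo h) ↔ S ⋖ T :=
  ⟨fun _ => covBy_of_simple_quo h, simple_quo_of_covBy h⟩

end Quot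


section SecondIso

variable (x y : Subobject X)

/-- the comparison map `y/(x ⊓ y) ⟶ (x ⊔ y)/x`. -/
noncomputable def secondIsoHom :
    quo (inf_le_right : x ⊓ y ≤ y) ⟶ quo (le_sup_left : x ≤ x ⊔ y) :=
  cokernel.desc _ (Subobject.ofLE y (x ⊔ y) le_sup_right ≫ quoπ (le_sup_left : x ≤ x ⊔ y)) (by
    have : Subobject.ofLE (x ⊓ y) y inf_le_right ≫ Subobject.ofLE y (x ⊔ y) le_sup_right =
        Subobject.ofLE (x ⊓ y) x inf_le_left ≫ Subobject.ofLE x (x ⊔ y) le_sup_left := by
      rw [Subobject.ofLE_comp_ofLE, Subobject.ofLE_comp_ofLE]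
    rw [← Category.assoc, this, Category.assoc, cokernel.condition, comp_zero])

lemma quoπ_secondIsoHom :
    quoπ (inf_le_right : x ⊓ y ≤ y) ≫ secondIsoHom x y =
      Subobject.ofLE y (x ⊔ y) le_sup_right ≫ quoπ (le_sup_left : x ≤ x ⊔ y) :=
  cokernel.π_desc _ _ _

instance : Mono (secondIsoHom x y) := by
  apply Preadditive.mono_of_cancel_zero
  intro W g hg
  obtain ⟨W', π₀, hπ₀, g', fac⟩ :=
    surjective_up_to_refinements_of_epi (quoπ (inf_le_right : x ⊓ y ≤ y)) g
  have h1 : (g' ≫ Subobject.ofLE y (x ⊔ y) le_sup_right) ≫ quoπ (le_sup_left : x ≤ x ⊔ y) = 0 := by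
    rw [Category.assoc, ← quoπ_secondIsoHom, ← Category.assoc, ← fac, Category.assoc, hg, comp_zero]
  have h2 := (comp_quoπ_eq_zero_iff _ _).1 h1
  rw [Category.assoc, Subobject.ofLE_arrow] at h2
  have h3 : (x ⊓ y).Factors (g' ≫ y.arrow) :=
    (Subobject.inf_factors _).2 ⟨h2, Subobject.factors_comp_arrow _⟩
  have h4 : g' ≫ quoπ (inf_le_right : x ⊓ y ≤ y) = 0 := (comp_quoπ_eq_zero_iff _ _).2 h3
  rw [← cancel_epi π₀, fac, h4, comp_zero]

instance : Epi (secondIsoHom x y) := by
  apply Preadditive.epi_of_cancel_zero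
  intro W g hg
  rw [← cancel_epi (quoπ (le_sup_left : x ≤ x ⊔ y)), comp_zero]
  set k := quoπ (le_sup_left : x ≤ x ⊔ y) ≫ g with hk
  have hx : Subobject.ofLE x (x ⊔ y) le_sup_left ≫ k = 0 := by
    rw [hk, ← Category.assoc, cokernel.condition, zero_comp]
  have hy : Subobject.ofLE y (x ⊔ y) le_sup_right ≫ k = 0 := by
    rw [hk, ← Category.assoc, ← quoπ_secondIsoHom, Category.assoc, hg, comp_zero]
  obtain ⟨Z', π₁, hπ₁, a, b, fac⟩ :=
    (sup_factors_iff x y (x ⊔ y).arrow).1 (Subobject.factors_self _)
  have h1 : π₁ = a ≫ Subobject.ofLE x (x ⊔ y) le_sup_left +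
      b ≫ Subobject.ofLE y (x ⊔ y) le_sup_right := by
    rw [← cancel_mono (x ⊔ y).arrow, fac, Preadditive.add_comp, Category.assoc, Category.assoc,
      Subobject.ofLE_arrow, Subobject.ofLE_arrow]
  rw [← cancel_epi π₁, comp_zero, h1, Preadditive.add_comp, Category.assoc, Category.assoc, hx, hy,
    comp_zero, comp_zero, add_zero]

instance : IsIso (secondIsoHom x y) := isIso_of_mono_of_epi _

/-- second isomorphism theorem. -/
noncomputable def secondIso :
    quo (le_sup_left : x ≤ x ⊔ y) ≅ quo (inf_le_right : x ⊓ y ≤ y) :=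
  (asIso (secondIsoHom x y)).symm

end SecondIso

/-- quotients only depend on the endpoints. -/
noncomputable def quoCongr {S T S' T' : Subobject X} (h : S ≤ T) (h' : S' ≤ T') (e₁ : S = S')
    (e₂ : T = T') : quo h ≅ quo h' := by
  subst e₁ e₂
  exact Iso.refl _

end Groth.Agent.Helper2.SubLat
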