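import Groth.Prelude.Def_FilD
import Groth.Agent.Lib.Helper2.SubLat
import Mathlib.CategoryTheory.Abelian.Refinements
import Mathlib.Algebra.Homology.ShortComplex.Exact
import Mathlib.Algebra.Homology.ShortComplex.ShortExact
import Mathlib.CategoryTheory.Abelian.Exact
import Mathlib.CategoryTheory.Limits.Preserves.Shapes.Kernels
import Mathlib.CategoryTheory.Limits.FunctorCategory.Basic
import Mathlib.CategoryTheory.Limits.FunctorCategory.EpiMono

/-!
# Helper library for finite filtered objects (`FilD`)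

Refinement ("generalized element") characterisation of strictness, graded pieces, levelwise kernels.
-/

universe v u

open CategoryTheory CategoryTheory.Limits Opposite

namespace Groth.Agent.Helper2.FilDLib

open FilD Groth.Agent.Helper2.SubLat

set_option linter.unusedSectionVars false
set_option linter.style.haveILetI false

variable {A : Type u} [Category.{v} A] [Abelian A]

/-- A morphism factors through the image of `f` iff it lifts through `f` up to refinement. -/
lemma imageSubobject_factors_iff {X Y W : A} (f : X ⟶ Y) (z : W ⟶ Y) :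
    (imageSubobject f).Factors z ↔
      ∃ (W' : A) (π : W' ⟶ W) (_ : Epi π) (x : W' ⟶ X), π ≫ z = x ≫ f := by
  constructor
  · intro h
    obtain ⟨W', π, hπ, x, hx⟩ := surjective_up_to_refinements_of_epi (factorThruImageSubobject f)
      ((imageSubobject f).factorThru z h)
    refine ⟨W', π, hπ, x, ?_⟩
    have := congrArg (· ≫ (imageSubobject f).arrow) hx
    simpa using this
  · rintro ⟨W', π, hπ, x, hx⟩
    apply factors_of_epi_comp _ π
    rw [hx]
    exact (Subobject.factors_iff _ _).2 ⟨x ≫ factorThruImageSubobject f, by simp⟩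

/-- The transition map `F q ⟶ F p` for `p ≤ q`. -/
abbrev tr (F : ℤᵒᵖ ⥤ A) {p q : ℤ} (h : p ≤ q) : F.obj (op q) ⟶ F.obj (op p) :=
  F.map (homOfLE h).op

lemma tr_self (F : ℤᵒᵖ ⥤ A) (p : ℤ) (h : p ≤ p) : tr F h = 𝟙 _ := by
  have : (homOfLE h).op = 𝟙 (op p) := Subsingleton.elim _ _
  rw [tr, this, F.map_id]

lemma tr_comp (F : ℤᵒᵖ ⥤ A) {p q r : ℤ} (h : p ≤ q) (h' : q ≤ r) :
    tr F h' ≫ tr F h = tr F (h.trans h') := by
  rw [tr, tr, ← F.map_comp]
  congr 1

lemma tr_step (F : ℤᵒᵖ ⥤ A) (p : ℤ) :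
    tr F (Int.le_add_one le_rfl : p ≤ p + 1) = F.map (stepHom p) := rfl

@[reassoc]
lemma tr_naturality {F G : ℤᵒᵖ ⥤ A} (φ : F ⟶ G) {p q : ℤ} (h : p ≤ q) :
    tr F h ≫ φ.app (op p) = φ.app (op q) ≫ tr G h :=
  φ.naturality _

instance tr_mono (F : FilF A) {p q : ℤ} (h : p ≤ q) : Mono (tr F.obj h) := F.property.1 _

/-- Refinement characterisation of strictness. -/
lemma isStrict_iff {X Y : FilF A} (φ : X ⟶ Y) :
    IsStrict φ ↔ ∀ (p q : ℤ) (h : p ≤ q) ⦃W : A⦄ (x : W ⟶ X.obj.obj (op p))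
      (y : W ⟶ Y.obj.obj (op q)), x ≫ φ.hom.app (op p) = y ≫ tr Y.obj h →
      ∃ (W' : A) (π : W' ⟶ W) (_ : Epi π) (x' : W' ⟶ X.obj.obj (op q)),
        π ≫ y = x' ≫ φ.hom.app (op q) := by
  constructor
  · intro hs p q h W x y hxy
    have h1 : (imageSubobject (φ.hom.app (op p))).Factors (y ≫ tr Y.obj h) := by
      rw [imageSubobject_factors_iff]
      exact ⟨W, 𝟙 _, inferInstance, x, by rw [Category.id_comp, hxy]⟩
    have h2 : (@Subobject.mk _ _ _ _ (Y.obj.map (homOfLE h).op) (Y.property.1 _)).Factors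
        (y ≫ tr Y.obj h) := by
      have : Mono (Y.obj.map (homOfLE h).op) := Y.property.1 _
      rw [mk_factors_iff']
      exact ⟨y, rfl⟩
    have h3 := (Subobject.inf_factors _).2 ⟨h1, h2⟩
    rw [← hs p q h, imageSubobject_factors_iff] at h3
    obtain ⟨W', π, hπ, x', hx'⟩ := h3
    refine ⟨W', π, hπ, x', ?_⟩
    rw [← cancel_mono (tr Y.obj h), Category.assoc, hx', Category.assoc]
  · intro hs p q h
    have : Mono (Y.obj.map (homOfLE h).op) := Y.property.1 _
    apply le_antisymm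
    · apply _root_.le_inf
      · refine imageSubobject_le _
          (X.obj.map (homOfLE h).op ≫ factorThruImageSubobject (φ.hom.app (op p))) ?_
        rw [Category.assoc, imageSubobject_arrow_comp]
        exact φ.hom.naturality _
      · exact imageSubobject_le_mk _ _ (φ.hom.app (op q)) rfl
    · set P := imageSubobject (φ.hom.app (op p)) ⊓
        @Subobject.mk _ _ _ _ (Y.obj.map (homOfLE h).op) (Y.property.1 _) with hP
      have h12 := (Subobject.inf_factors (X := imageSubobject (φ.hom.app (op p)))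
        (Y := Subobject.mk (Y.obj.map (homOfLE h).op)) P.arrow).1 (by
          rw [← hP]; exact Subobject.factors_self _)
      obtain ⟨h1, h2⟩ := h12
      rw [imageSubobject_factors_iff] at h1
      rw [mk_factors_iff'] at h2
      obtain ⟨W₁, π₁, hπ₁, x, hx⟩ := h1
      obtain ⟨y, hy⟩ := h2
      obtain ⟨W₂, π₂, hπ₂, x', hx'⟩ := hs p q h x (π₁ ≫ y) (by
        rw [← hx, Category.assoc]; congr 1; exact hy.symm)
      have hf : (imageSubobject (φ.hom.app (op q) ≫ Y.obj.map (homOfLE h).op)).Factors P.arrow := by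
        rw [imageSubobject_factors_iff]
        refine ⟨W₂, π₂ ≫ π₁, epi_comp _ _, x', ?_⟩
        rw [← hy, ← Category.assoc x', ← hx']
        simp
      exact Subobject.le_of_comm (Subobject.factorThru _ _ hf) (Subobject.factorThru_arrow _ _ hf)


/-- One-step strictness implies strictness. -/
lemma isStrict_of_step {X Y : FilF A} (φ : X ⟶ Y)
    (hs : ∀ (p : ℤ) ⦃W : A⦄ (x : W ⟶ X.obj.obj (op p))
      (y : W ⟶ Y.obj.obj (op (p + 1))), x ≫ φ.hom.app (op p) = y ≫ Y.obj.map (stepHom p) →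
      ∃ (W' : A) (π : W' ⟶ W) (_ : Epi π) (x' : W' ⟶ X.obj.obj (op (p + 1))),
        π ≫ y = x' ≫ φ.hom.app (op (p + 1))) : IsStrict φ := by
  rw [isStrict_iff]
  intro p q h
  induction q, h using Int.leInduction with
  | base =>
    intro W x y hxy
    refine ⟨W, 𝟙 _, inferInstance, x, ?_⟩
    rw [tr_self, Category.comp_id] at hxy
    rw [Category.id_comp, hxy]
  | succ q h ih =>
    intro W x y hxy
    obtain ⟨W₁, π₁, hπ₁, x₁, hx₁⟩ := ih x (y ≫ Y.obj.map (stepHom q)) (by
      rw [hxy, Category.assoc]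
      congr 1
      rw [← tr_step, tr_comp])
    obtain ⟨W₂, π₂, hπ₂, x₂, hx₂⟩ := hs q x₁ (π₁ ≫ y) (by
      rw [← hx₁, Category.assoc])
    exact ⟨W₂, π₂ ≫ π₁, epi_comp _ _, x₂, by rw [Category.assoc, hx₂]⟩

/-- Descending induction on `ℤ`. -/
lemma int_desc_induction {P : ℤ → Prop} (b : ℤ) (hb : ∀ p, b ≤ p → P p)
    (hstep : ∀ p, P (p + 1) → P p) : ∀ p, P p := by
  intro p
  by_cases h : b ≤ p
  · exact hb p h
  · obtain ⟨n, hn⟩ : ∃ n : ℕ, p = b - n := ⟨(b - p).toNat, by omega⟩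
    subst hn
    induction n with
    | zero => exact hb _ (by simp)
    | succ n ih =>
      by_cases h' : b ≤ b - (n : ℤ)
      · apply hstep
        apply hb
        push_cast; omega
      · apply hstep
        have : b - ((n + 1 : ℕ) : ℤ) + 1 = b - (n : ℤ) := by push_cast; omega
        rw [this]
        exact ih h'

section gr

variable (F : ℤᵒᵖ ⥤ A) (p : ℤ)

/-- The projection `F p ⟶ gr^p F`. -/
noncomputable abbrev grπ : F.obj (op p) ⟶ (gr A p).obj F := cokernel.π (F.map (stepHom p))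

instance : Epi (grπ F p) := inferInstanceAs (Epi (cokernel.π (F.map (stepHom p))))

@[reassoc]
lemma step_grπ : F.map (stepHom p) ≫ grπ F p = 0 := cokernel.condition _

@[reassoc]
lemma grπ_map {F G : ℤᵒᵖ ⥤ A} (φ : F ⟶ G) (p : ℤ) :
    grπ F p ≫ (gr A p).map φ = φ.app (op p) ≫ grπ G p := by
  simp [gr, grπ]

lemma lift_of_comp_grπ_eq_zero {W : A} (z : W ⟶ F.obj (op p)) (hz : z ≫ grπ F p = 0) :
    ∃ (W' : A) (π : W' ⟶ W) (_ : Epi π) (x : W' ⟶ F.obj (op (p + 1))),
      π ≫ z = x ≫ F.map (stepHom p) :=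
  (ShortComplex.exact_cokernel (F.map (stepHom p))).exact_up_to_refinements z hz

lemma lift_grπ {W : A} (z : W ⟶ (gr A p).obj F) :
    ∃ (W' : A) (π : W' ⟶ W) (_ : Epi π) (x : W' ⟶ F.obj (op p)),
      π ≫ z = x ≫ grπ F p :=
  surjective_up_to_refinements_of_epi (grπ F p) z

end gr

/-- Key lemma: if `gr^p X ⟶ gr^p Y ⟶ gr^p Z` is exact, an element of `Y p` whose image in `Z p`
dies in `gr^p Z` decomposes (up to refinement) as an element coming from `X p` plus one coming
from `Y (p+1)`. -/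
lemma decompose_of_gr_exact {X Y Z : ℤᵒᵖ ⥤ A} (f : X ⟶ Y) (g : Y ⟶ Z) (w : f ≫ g = 0) (p : ℤ)
    (hex : ((ShortComplex.mk f g w).map (gr A p)).Exact) {W : A} (y : W ⟶ Y.obj (op p))
    (hy : y ≫ g.app (op p) ≫ grπ Z p = 0) :
    ∃ (W' : A) (π : W' ⟶ W) (_ : Epi π) (x : W' ⟶ X.obj (op p)) (y' : W' ⟶ Y.obj (op (p + 1))),
      π ≫ y = x ≫ f.app (op p) + y' ≫ Y.map (stepHom p) := by
  have hex' : ∃ (W₁ : A) (π₁ : W₁ ⟶ W) (_ : Epi π₁) (ξ : W₁ ⟶ (gr A p).obj X),
      π₁ ≫ y ≫ grπ Y p = ξ ≫ (gr A p).map f :=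
    hex.exact_up_to_refinements (y ≫ grπ Y p)
      (show (y ≫ grπ Y p) ≫ (gr A p).map g = 0 by rw [Category.assoc, grπ_map, hy])
  obtain ⟨W₁, π₁, hπ₁, ξ, hξ⟩ := hex'
  obtain ⟨W₂, π₂, hπ₂, x, hx⟩ := lift_grπ X p ξ
  obtain ⟨W₃, π₃, hπ₃, y', hy'⟩ := lift_of_comp_grπ_eq_zero Y p (π₂ ≫ π₁ ≫ y - x ≫ f.app (op p)) (by
    rw [Preadditive.sub_comp, Category.assoc, Category.assoc, hξ, reassoc_of% hx, Category.assoc,
      grπ_map, sub_self])
  refine ⟨W₃, π₃ ≫ π₂ ≫ π₁, inferInstance, π₃ ≫ x, y', ?_⟩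
  rw [← hy', Preadditive.comp_sub]
  simp


section kernel

variable {F G : ℤᵒᵖ ⥤ A} (φ : F ⟶ G)

/-- The levelwise kernel: elements of `F p` killed by `φ p` lift to `(kernel φ) p`. -/
lemma exists_lift_kernel_app (p : ℤ) {W : A} (k : W ⟶ F.obj (op p)) (hk : k ≫ φ.app (op p) = 0) :
    ∃ k' : W ⟶ (kernel φ).obj (op p), k' ≫ (kernel.ι φ).app (op p) = k := by
  have hl := KernelFork.mapIsLimit (KernelFork.ofι (kernel.ι φ) (kernel.condition φ))
    (kernelIsKernel φ) ((evaluation ℤᵒᵖ A).obj (op p))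
  obtain ⟨l, hl⟩ := KernelFork.IsLimit.lift' hl k hk
  exact ⟨l, hl⟩

@[reassoc]
lemma kernel_ι_app_comp (p : ℤ) : (kernel.ι φ).app (op p) ≫ φ.app (op p) = 0 := by
  rw [← NatTrans.comp_app, kernel.condition, zero_app]

instance (p : ℤ) : Mono ((kernel.ι φ).app (op p)) := inferInstance

end kernel


/-- One-step strictness from strictness. -/
lemma isStrict_step {X Y : FilF A} {φ : X ⟶ Y} (hs : IsStrict φ) (p : ℤ) ⦃W : A⦄
    (x : W ⟶ X.obj.obj (op p)) (y : W ⟶ Y.obj.obj (op (p + 1)))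
    (hxy : x ≫ φ.hom.app (op p) = y ≫ Y.obj.map (stepHom p)) :
    ∃ (W' : A) (π : W' ⟶ W) (_ : Epi π) (x' : W' ⟶ X.obj.obj (op (p + 1))),
      π ≫ y = x' ≫ φ.hom.app (op (p + 1)) :=
  (isStrict_iff φ).1 hs p (p + 1) (Int.le_add_one le_rfl) x y hxy

/-- A morphism of finite filtered objects is strict iff `gr^p (Ker φ) ⟶ gr^p X ⟶ gr^p Y` is exact
for all `p`. -/
theorem isStrict_iff_gr_kernel_exact {X Y : FilF A} (φ : X ⟶ Y) :
    IsStrict φ ↔ ∀ p : ℤ, ((ShortComplex.mk (kernel.ι φ.hom) φ.hom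
      (kernel.condition φ.hom)).map (gr A p)).Exact := by
  constructor
  · intro hs p
    rw [ShortComplex.exact_iff_exact_up_to_refinements]
    intro W w hw
    change W ⟶ (gr A p).obj X.obj at w
    replace hw : w ≫ (gr A p).map φ.hom = 0 := hw
    obtain ⟨W₁, π₁, _, x, hx⟩ := lift_grπ X.obj p w
    have h0 : (x ≫ φ.hom.app (op p)) ≫ grπ Y.obj p = 0 := by
      rw [Category.assoc, ← grπ_map, ← reassoc_of% hx, hw, comp_zero]
    obtain ⟨W₂, π₂, _, y, hy⟩ := lift_of_comp_grπ_eq_zero Y.obj p (x ≫ φ.hom.app (op p)) h0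
    obtain ⟨W₃, π₃, _, x', hx'⟩ := isStrict_step hs p (π₂ ≫ x) y (by rw [Category.assoc, hy])
    have hk : (π₃ ≫ π₂ ≫ x - x' ≫ X.obj.map (stepHom p)) ≫ φ.hom.app (op p) = 0 := by
      rw [Preadditive.sub_comp, Category.assoc, Category.assoc, Category.assoc, hy,
        φ.hom.naturality, ← Category.assoc x', ← hx', Category.assoc, sub_self]
    obtain ⟨k', hk'⟩ := exists_lift_kernel_app φ.hom p _ hk
    refine ⟨W₃, π₃ ≫ π₂ ≫ π₁, inferInstance, k' ≫ grπ (kernel φ.hom) p, ?_⟩
    change (π₃ ≫ π₂ ≫ π₁) ≫ w = (k' ≫ grπ _ p) ≫ (gr A p).map (kernel.ι φ.hom)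
    have e : (k' ≫ grπ _ p) ≫ (gr A p).map (kernel.ι φ.hom) = π₃ ≫ π₂ ≫ x ≫ grπ X.obj p := by
      rw [Category.assoc, grπ_map, ← Category.assoc k', hk', Preadditive.sub_comp,
        Category.assoc x', step_grπ, comp_zero, sub_zero]
      simp only [Category.assoc]
    rw [e]
    simp only [Category.assoc, hx]
  · intro hex
    apply isStrict_of_step
    intro p W x y hxy
    obtain ⟨W₁, π₁, _, k, x', hkx⟩ := decompose_of_gr_exact (kernel.ι φ.hom) φ.hom
      (kernel.condition _) p (hex p) x (by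
        rw [reassoc_of% hxy, step_grπ, comp_zero])
    refine ⟨W₁, π₁, inferInstance, x', ?_⟩
    have : Mono (Y.obj.map (stepHom p)) := Y.property.1 _
    rw [← cancel_mono (Y.obj.map (stepHom p)), Category.assoc, ← hxy, ← Category.assoc, hkx,
      Preadditive.add_comp, Category.assoc, kernel_ι_app_comp, comp_zero, zero_add,
      Category.assoc, Category.assoc, φ.hom.naturality]


section levelExact

variable {X Y Z : ℤᵒᵖ ⥤ A} (f : X ⟶ Y) (g : Y ⟶ Z) (w : f ≫ g = 0)

include w in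
@[reassoc]
lemma app_comp_app_eq_zero (p : ℤ) : f.app (op p) ≫ g.app (op p) = 0 := by
  rw [← NatTrans.comp_app, w, zero_app]

include w in
/-- If all `gr^p X ⟶ gr^p Y ⟶ gr^p Z` are exact, `Z` has monic steps and `Y` vanishes in high
degrees, then `X p ⟶ Y p ⟶ Z p` is exact for all `p` (refinement form). -/
lemma level_exact_of_gr_exact
    (hZ : ∀ p, Mono (Z.map (stepHom p))) (b : ℤ) (hY : ∀ p, b ≤ p → IsZero (Y.obj (op p)))
    (hex : ∀ p, ((ShortComplex.mk f g w).map (gr A p)).Exact) (p : ℤ) :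
    ∀ ⦃W : A⦄ (y : W ⟶ Y.obj (op p)), y ≫ g.app (op p) = 0 →
      ∃ (W' : A) (π : W' ⟶ W) (_ : Epi π) (x : W' ⟶ X.obj (op p)), π ≫ y = x ≫ f.app (op p) := by
  induction p using int_desc_induction b with
  | hb p hp =>
    intro W y _
    exact ⟨W, 𝟙 _, inferInstance, 0, (hY p hp).eq_of_tgt _ _⟩
  | hstep p ih =>
    intro W y hy
    obtain ⟨W₁, π₁, _, x, y', hxy⟩ := decompose_of_gr_exact f g w p (hex p) y (by
      rw [reassoc_of% hy, zero_comp])
    have := hZ p
    have hy' : y' ≫ g.app (op (p + 1)) = 0 := by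
      rw [← cancel_mono (Z.map (stepHom p)), Category.assoc, ← g.naturality, zero_comp]
      have := congrArg (· ≫ g.app (op p)) hxy
      simp only [Preadditive.add_comp, Category.assoc, hy, comp_zero,
        app_comp_app_eq_zero f g w, zero_add] at this
      exact this.symm
    obtain ⟨W₂, π₂, _, x', hx'⟩ := ih y' hy'
    refine ⟨W₂, π₂ ≫ π₁, inferInstance, π₂ ≫ x + x' ≫ X.map (stepHom p), ?_⟩
    rw [Category.assoc, hxy, Preadditive.comp_add, Preadditive.add_comp, Category.assoc,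
      Category.assoc, f.naturality, reassoc_of% hx']

end levelExact

/-- `S1085`: a short complex of finite filtered objects whose graded pieces are all exact is
exact at every filtration level and consists of strict morphisms. -/
theorem strict_and_exact_of_gr_exact (S : ShortComplex (FilF A))
    (hS : ∀ p : ℤ, (S.map (grF A p)).Exact) :
    (∀ p : ℤ, (S.map ((IsFinFil A).ι ⋙ (evaluation ℤᵒᵖ A).obj (op p))).Exact) ∧
      IsStrict S.f ∧ IsStrict S.g := by
  have w : S.f.hom ≫ S.g.hom = 0 := by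
    rw [← ObjectProperty.FullSubcategory.comp_hom, S.zero]; rfl
  have hex : ∀ p, ((ShortComplex.mk S.f.hom S.g.hom w).map (gr A p)).Exact := fun p => hS p
  obtain ⟨b, hb⟩ := S.X₂.property.2.1
  have hE := level_exact_of_gr_exact S.f.hom S.g.hom w (fun p => S.X₃.property.1 _) b hb hex
  refine ⟨fun p => ?_, ?_, ?_⟩
  · rw [ShortComplex.exact_iff_exact_up_to_refinements]
    intro W y hy
    exact hE p y hy
  · rw [isStrict_iff]
    intro p q h W x y hxy
    apply hE q y
    rw [← cancel_mono (tr S.X₃.obj h), Category.assoc, ← tr_naturality, ← reassoc_of% hxy,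
      app_comp_app_eq_zero _ _ w, comp_zero, zero_comp]
  · apply isStrict_of_step
    intro p W y z' hyz
    obtain ⟨W₁, π₁, _, x, y', hxy⟩ := decompose_of_gr_exact S.f.hom S.g.hom w p (hex p) y (by
      rw [reassoc_of% hyz, step_grπ, comp_zero])
    refine ⟨W₁, π₁, inferInstance, y', ?_⟩
    have : Mono (S.X₃.obj.map (stepHom p)) := S.X₃.property.1 _
    rw [← cancel_mono (S.X₃.obj.map (stepHom p)), Category.assoc, ← hyz, ← Category.assoc, hxy,
      Preadditive.add_comp, Category.assoc, app_comp_app_eq_zero _ _ w, comp_zero, zero_add,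
      Category.assoc, Category.assoc, S.g.hom.naturality]

end Groth.Agent.Helper2.FilDLib
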