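import Groth.Agent.Lib.Helper2.FilD
import Mathlib.CategoryTheory.Preadditive.Biproducts
import Mathlib.CategoryTheory.Preadditive.FunctorCategory
import Mathlib.Data.Fintype.Order

/-!
# Finite biproducts of finite filtered objects
-/

universe v u w

open CategoryTheory CategoryTheory.Limits Opposite

namespace Groth.Agent.Helper2.FilDLib

open FilD

set_option linter.unusedSectionVars false
set_option linter.style.haveILetI false

variable {A : Type u} [Category.{v} A] [Abelian A]

attribute [local instance] Abelian.hasFiniteBiproducts

section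

variable {J : Type} [Fintype J]

/-- The levelwise biproduct of a finite family of functors `ℤᵒᵖ ⥤ A`. -/
noncomputable def biproductFunctor (f : J → (ℤᵒᵖ ⥤ A)) : ℤᵒᵖ ⥤ A where
  obj p := ⨁ (fun j => (f j).obj p)
  map g := biproduct.map (fun j => (f j).map g)
  map_id p := by ext; simp
  map_comp g h := by ext; simp

/-- Projections of the levelwise biproduct. -/
noncomputable def biproductFunctorπ (f : J → (ℤᵒᵖ ⥤ A)) (j : J) : biproductFunctor f ⟶ f j where
  app p := biproduct.π (fun j => (f j).obj p) j
  naturality p q g := by simp [biproductFunctor]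

/-- Inclusions of the levelwise biproduct. -/
noncomputable def biproductFunctorι (f : J → (ℤᵒᵖ ⥤ A)) (j : J) : f j ⟶ biproductFunctor f where
  app p := biproduct.ι (fun j => (f j).obj p) j
  naturality p q g := by simp [biproductFunctor]

@[reassoc (attr := simp)]
lemma biproductFunctorι_π_self (f : J → (ℤᵒᵖ ⥤ A)) (j : J) :
    biproductFunctorι f j ≫ biproductFunctorπ f j = 𝟙 _ := by
  ext p
  exact biproduct.ι_π_self (fun j => (f j).obj p) j

@[reassoc]
lemma biproductFunctorι_π_ne (f : J → (ℤᵒᵖ ⥤ A)) {j j' : J} (h : j ≠ j') :
    biproductFunctorι f j ≫ biproductFunctorπ f j' = 0 := by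
  ext p
  exact biproduct.ι_π_ne (fun j => (f j).obj p) h

lemma biproductFunctor_total (f : J → (ℤᵒᵖ ⥤ A)) :
    ∑ j : J, biproductFunctorπ f j ≫ biproductFunctorι f j = 𝟙 (biproductFunctor f) := by
  ext p
  rw [NatTrans.app_sum]
  simp only [NatTrans.comp_app, biproductFunctorπ, biproductFunctorι, NatTrans.id_app]
  exact biproduct.total (f := fun j : J => (f j).obj p)

lemma isFinFil_biproductFunctor (f : J → FilF A) :
    IsFinFil A (biproductFunctor (fun j => (f j).obj)) := by
  refine ⟨?_, ?_, ?_⟩
  · intro p q g
    have : ∀ j, Mono ((f j).obj.map g) := fun j => (f j).property.1 g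
    dsimp [biproductFunctor]
    infer_instance
  · choose b hb using fun j => (f j).property.2.1
    obtain ⟨M, hM⟩ := Finite.exists_le b
    refine ⟨M, fun p hp => ?_⟩
    rw [IsZero.iff_id_eq_zero]
    dsimp [biproductFunctor]
    ext j
    exact (hb j p (le_trans (hM j) hp)).eq_of_tgt _ _
  · choose a ha using fun j => (f j).property.2.2
    obtain ⟨M, hM⟩ := Finite.exists_ge a
    refine ⟨M, fun p q g hp => ?_⟩
    have : ∀ j, IsIso ((f j).obj.map g) := fun j => ha j g (le_trans hp (hM j))
    dsimp [biproductFunctor]
    exact ⟨biproduct.map (fun j => inv ((f j).obj.map g)), by ext; simp, by ext; simp⟩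

/-- The biproduct of a finite family of finite filtered objects. -/
noncomputable def biproductFilF (f : J → FilF A) : FilF A :=
  ⟨biproductFunctor (fun j => (f j).obj), isFinFil_biproductFunctor f⟩

lemma sum_hom {X Y : FilF A} (s : Finset J) (g : J → (X ⟶ Y)) :
    (∑ j ∈ s, g j).hom = ∑ j ∈ s, (g j).hom := by
  classical
  induction s using Finset.induction_on with
  | empty => simp only [Finset.sum_empty]; rfl
  | insert a s ha ih =>
    rw [Finset.sum_insert ha, Finset.sum_insert ha, ← ih]
    rfl

/-- The bicone exhibiting `biproductFilF f` as a biproduct. -/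
noncomputable def biconeFilF [DecidableEq J] (f : J → FilF A) : Bicone f where
  pt := biproductFilF f
  π j := ObjectProperty.homMk (biproductFunctorπ (fun j => (f j).obj) j)
  ι j := ObjectProperty.homMk (biproductFunctorι (fun j => (f j).obj) j)
  ι_π j j' := by
    by_cases h : j = j'
    · subst h
      rw [dif_pos rfl, eqToHom_refl]
      apply ObjectProperty.hom_ext
      exact biproductFunctorι_π_self (fun j => (f j).obj) j
    · rw [dif_neg h]
      apply ObjectProperty.hom_ext
      exact biproductFunctorι_π_ne (fun j => (f j).obj) h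

/-- `biconeFilF f` is a bilimit bicone. -/
noncomputable def isBilimitBiconeFilF [DecidableEq J] (f : J → FilF A) : (biconeFilF f).IsBilimit :=
  isBilimitOfTotal _ (by
    apply ObjectProperty.hom_ext
    rw [sum_hom]
    exact biproductFunctor_total (fun j => (f j).obj))

end

instance : HasFiniteBiproducts (FilF A) where
  out n := ⟨fun f => by
    classical
    exact HasBiproduct.mk ⟨biconeFilF f, isBilimitBiconeFilF f⟩⟩

instance : HasBinaryBiproducts (FilF A) := hasBinaryBiproducts_of_finite_biproducts _

end Groth.Agent.Helper2.FilDLib
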