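import Groth.Agent.Lib.Helper2.FilDInj

/-!
# Cokernels of strict morphisms of finite filtered objects
-/

universe v u w

open CategoryTheory CategoryTheory.Limits Opposite

namespace Groth.Agent.Helper2.FilDLib

open FilD

set_option linter.unusedSectionVars false
set_option linter.style.haveILetI false

variable {A : Type u} [Category.{v} A] [Abelian A]

section cokernel

variable {F G : ℤᵒᵖ ⥤ A} (φ : F ⟶ G)

instance (p : ℤ) : Epi ((cokernel.π φ).app (op p)) := inferInstance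

@[reassoc]
lemma app_comp_cokernel_π_app (p : ℤ) : φ.app (op p) ≫ (cokernel.π φ).app (op p) = 0 := by
  rw [← NatTrans.comp_app, cokernel.condition, zero_app]

/-- The levelwise cokernel: elements of `G p` dying in `(cokernel φ) p` come from `F p`. -/
lemma exists_lift_of_comp_cokernel_π_app (p : ℤ) {W : A} (y : W ⟶ G.obj (op p))
    (hy : y ≫ (cokernel.π φ).app (op p) = 0) :
    ∃ (W' : A) (π : W' ⟶ W) (_ : Epi π) (x : W' ⟶ F.obj (op p)), π ≫ y = x ≫ φ.app (op p) := by
  have hl := CokernelCofork.mapIsColimit (CokernelCofork.ofπ (cokernel.π φ) (cokernel.condition φ))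
    (cokernelIsCokernel φ) ((evaluation ℤᵒᵖ A).obj (op p))
  have hex : (ShortComplex.mk (φ.app (op p)) ((cokernel.π φ).app (op p))
      (app_comp_cokernel_π_app φ p)).Exact :=
    ShortComplex.exact_of_g_is_cokernel _ hl
  exact hex.exact_up_to_refinements y hy

end cokernel

/-- The levelwise cokernel of a strict morphism of finite filtered objects is a finite filtered
object. -/
lemma isFinFil_cokernel {X Y : FilF A} (f : X ⟶ Y) (hf : IsStrict f) :
    IsFinFil A (cokernel f.hom) := by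
  have nat : ∀ ⦃p q : ℤᵒᵖ⦄ (g : p ⟶ q), (cokernel.π f.hom).app p ≫ (cokernel f.hom).map g =
      Y.obj.map g ≫ (cokernel.π f.hom).app q := fun p q g => ((cokernel.π f.hom).naturality g).symm
  have hmono : ∀ ⦃p q : ℤᵒᵖ⦄ (g : p ⟶ q), Mono ((cokernel f.hom).map g) := by
    rintro ⟨q⟩ ⟨p⟩ g
    have hpq : p ≤ q := leOfHom g.unop
    have hg : g = (homOfLE hpq).op := Subsingleton.elim _ _
    subst hg
    apply Preadditive.mono_of_cancel_zero
    intro W z hz
    obtain ⟨W₁, π₁, _, y, hy⟩ :=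
      surjective_up_to_refinements_of_epi ((cokernel.π f.hom).app (op q)) z
    have h0 : (y ≫ tr Y.obj hpq) ≫ (cokernel.π f.hom).app (op p) = 0 := by
      rw [Category.assoc, ← nat, ← reassoc_of% hy, hz, comp_zero]
    obtain ⟨W₂, π₂, _, x, hx⟩ := exists_lift_of_comp_cokernel_π_app f.hom p _ h0
    obtain ⟨W₃, π₃, _, x', hx'⟩ := (isStrict_iff f).1 hf p q hpq x (π₂ ≫ y) (by
      rw [← hx, Category.assoc])
    have h2 : (π₃ ≫ π₂ ≫ π₁) ≫ z = 0 := by
      calc (π₃ ≫ π₂ ≫ π₁) ≫ z = (π₃ ≫ π₂ ≫ y) ≫ (cokernel.π f.hom).app (op q) := by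
            simp only [Category.assoc, hy]
        _ = 0 := by rw [hx', Category.assoc, app_comp_cokernel_π_app, comp_zero]
    rwa [← cancel_epi (π₃ ≫ π₂ ≫ π₁), comp_zero]
  refine ⟨hmono, ?_, ?_⟩
  · obtain ⟨b, hb⟩ := Y.property.2.1
    exact ⟨b, fun p hp => IsZero.of_epi ((cokernel.π f.hom).app (op p)) (hb p hp)⟩
  · obtain ⟨a, ha⟩ := Y.property.2.2
    refine ⟨a, ?_⟩
    intro p q g hp
    have : IsIso (Y.obj.map g) := ha g hp
    have := hmono g
    have : Epi ((cokernel.π f.hom).app p ≫ (cokernel f.hom).map g) := by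
      rw [nat]; infer_instance
    have : Epi ((cokernel f.hom).map g) := epi_of_epi ((cokernel.π f.hom).app p) _
    exact isIso_of_mono_of_epi _

/-- The cokernel of a strict morphism. -/
noncomputable def cokerFil {X Y : FilF A} (f : X ⟶ Y) (hf : IsStrict f) : FilF A :=
  ⟨cokernel f.hom, isFinFil_cokernel f hf⟩

/-- The projection to the cokernel of a strict morphism. -/
noncomputable def cokerFilπ {X Y : FilF A} (f : X ⟶ Y) (hf : IsStrict f) : Y ⟶ cokerFil f hf :=
  ObjectProperty.homMk (cokernel.π f.hom)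

@[reassoc (attr := simp)]
lemma comp_cokerFilπ {X Y : FilF A} (f : X ⟶ Y) (hf : IsStrict f) : f ≫ cokerFilπ f hf = 0 := by
  apply ObjectProperty.hom_ext
  exact cokernel.condition f.hom

/-- Descending from the cokernel of a strict morphism. -/
noncomputable def cokerFilDesc {X Y Z : FilF A} (f : X ⟶ Y) (hf : IsStrict f) (g : Y ⟶ Z)
    (hg : f ≫ g = 0) : cokerFil f hf ⟶ Z :=
  ObjectProperty.homMk (cokernel.desc f.hom g.hom (congrArg (fun t => t.hom) hg))

@[reassoc (attr := simp)]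
lemma cokerFilπ_desc {X Y Z : FilF A} (f : X ⟶ Y) (hf : IsStrict f) (g : Y ⟶ Z)
    (hg : f ≫ g = 0) : cokerFilπ f hf ≫ cokerFilDesc f hf g hg = g := by
  apply ObjectProperty.hom_ext
  exact cokernel.π_desc _ _ _

instance {X Y : FilF A} (f : X ⟶ Y) (hf : IsStrict f) : Epi (cokerFilπ f hf) := by
  have : Epi ((IsFinFil A).ι.map (cokerFilπ f hf)) :=
    inferInstanceAs (Epi (cokernel.π f.hom))
  exact (IsFinFil A).ι.epi_of_epi_map this

section grExact

variable {X Y : FilF A} (f : X ⟶ Y) (hf : IsStrict f)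

/-- `gr` of the projection to the cokernel is an epimorphism. -/
instance epi_gr_cokerFilπ (p : ℤ) : Epi ((gr A p).map (cokerFilπ f hf).hom) := by
  have h : grπ Y.obj p ≫ (gr A p).map (cokerFilπ f hf).hom =
      (cokernel.π f.hom).app (op p) ≫ grπ (cokernel f.hom) p := grπ_map _ p
  have : Epi (grπ Y.obj p ≫ (gr A p).map (cokerFilπ f hf).hom) := by
    rw [h]
    have h1 : Epi ((cokernel.π f.hom).app (op p)) := inferInstance
    have h2 : Epi (grπ (cokernel f.hom) p) :=
      inferInstanceAs (Epi (cokernel.π ((cokernel f.hom).map (stepHom p))))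
    exact @epi_comp _ _ _ _ _ _ h1 _ h2
  exact epi_of_epi (grπ Y.obj p) _

/-- `gr X ⟶ gr Y ⟶ gr (Y/X)` is exact. -/
lemma gr_exact_cokerFil (p : ℤ) :
    (ShortComplex.mk ((gr A p).map f.hom) ((gr A p).map (cokerFilπ f hf).hom) (by
      rw [← Functor.map_comp]
      have : f.hom ≫ (cokerFilπ f hf).hom = 0 := cokernel.condition f.hom
      rw [this, Functor.map_zero])).Exact := by
  rw [ShortComplex.exact_iff_exact_up_to_refinements]
  intro W w hw
  change W ⟶ (gr A p).obj Y.obj at w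
  replace hw : w ≫ (gr A p).map (cokernel.π f.hom) = 0 := hw
  obtain ⟨W₁, π₁, _, y, hy⟩ := lift_grπ Y.obj p w
  have h0 : (y ≫ (cokernel.π f.hom).app (op p)) ≫ grπ (cokernel f.hom) p = 0 := by
    rw [Category.assoc, ← grπ_map, ← reassoc_of% hy, hw, comp_zero]
  obtain ⟨W₂, π₂, _, c', hc'⟩ := lift_of_comp_grπ_eq_zero (cokernel f.hom) p _ h0
  obtain ⟨W₃, π₃, _, y', hy'⟩ :=
    surjective_up_to_refinements_of_epi ((cokernel.π f.hom).app (op (p + 1))) c'
  have h1 : (π₃ ≫ π₂ ≫ y - y' ≫ Y.obj.map (stepHom p)) ≫ (cokernel.π f.hom).app (op p) = 0 := by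
    rw [Preadditive.sub_comp, sub_eq_zero]
    simp only [Category.assoc]
    rw [hc', reassoc_of% hy', (cokernel.π f.hom).naturality]
  obtain ⟨W₄, π₄, _, x, hx⟩ := exists_lift_of_comp_cokernel_π_app f.hom p _ h1
  refine ⟨W₄, π₄ ≫ π₃ ≫ π₂ ≫ π₁, inferInstance, x ≫ grπ X.obj p, ?_⟩
  change (π₄ ≫ π₃ ≫ π₂ ≫ π₁) ≫ w = (x ≫ grπ X.obj p) ≫ (gr A p).map f.hom
  have e : (x ≫ grπ X.obj p) ≫ (gr A p).map f.hom = π₄ ≫ π₃ ≫ π₂ ≫ y ≫ grπ Y.obj p := by
    rw [Category.assoc, grπ_map, ← Category.assoc x, ← hx, Preadditive.comp_sub,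
      Preadditive.sub_comp]
    simp only [Category.assoc, step_grπ, comp_zero, sub_zero]
  rw [e]
  simp only [Category.assoc, hy]

include hf in
/-- `gr` of a strict morphism which is a monomorphism at every level is a monomorphism. -/
lemma mono_gr_of_strict (hm : ∀ p, Mono (f.hom.app (op p))) (p : ℤ) :
    Mono ((gr A p).map f.hom) := by
  apply Preadditive.mono_of_cancel_zero
  intro W w hw
  obtain ⟨W₁, π₁, _, x, hx⟩ := lift_grπ X.obj p w
  have h0 : (x ≫ f.hom.app (op p)) ≫ grπ Y.obj p = 0 := by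
    rw [Category.assoc, ← grπ_map, ← reassoc_of% hx, hw, comp_zero]
  obtain ⟨W₂, π₂, _, y', hy'⟩ := lift_of_comp_grπ_eq_zero Y.obj p _ h0
  obtain ⟨W₃, π₃, _, x', hx'⟩ := isStrict_step hf p (π₂ ≫ x) y' (by rw [Category.assoc, hy'])
  have := hm p
  have h1 : π₃ ≫ π₂ ≫ x = x' ≫ X.obj.map (stepHom p) := by
    rw [← cancel_mono (f.hom.app (op p)), Category.assoc, Category.assoc, hy', reassoc_of% hx',
      Category.assoc, f.hom.naturality]
  have h2 : (π₃ ≫ π₂ ≫ π₁) ≫ w = 0 := by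
    calc (π₃ ≫ π₂ ≫ π₁) ≫ w = (π₃ ≫ π₂ ≫ x) ≫ grπ X.obj p := by
          simp only [Category.assoc, hx]
      _ = 0 := by rw [h1, Category.assoc, step_grπ, comp_zero]
  rwa [← cancel_epi (π₃ ≫ π₂ ≫ π₁), comp_zero]

end grExact

end Groth.Agent.Helper2.FilDLib
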