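import Groth.Agent.Lib.Helper2.FilDHtpy
import Groth.Agent.Lib.Helper2.FilDBiprod
import Mathlib.Algebra.Homology.HomotopyCategory.Pretriangulated
import Mathlib.Algebra.Homology.HomotopyCategory.Triangulated
import Mathlib.Algebra.Homology.HomotopyCategory.Acyclic
import Mathlib.Algebra.Homology.Localization

/-!
# Mapping cones of filtered quasi-isomorphisms; homotopy classes of maps to filtered injectives
-/

universe v u w

open CategoryTheory CategoryTheory.Limits Opposite Pretriangulated

namespace Groth.Agent.Helper2.FilDLib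

open FilD

set_option linter.unusedSectionVars false
set_option linter.style.haveILetI false

/-- The mapping cone of a quasi-isomorphism is acyclic. -/
lemma acyclic_mappingCone_of_quasiIso {C : Type u} [Category.{v} C] [Abelian C]
    {K L : CochainComplex C ℤ} (φ : K ⟶ L) (hφ : QuasiIso φ) :
    (CochainComplex.mappingCone φ).Acyclic := by
  rw [← HomotopyCategory.quotient_obj_mem_subcategoryAcyclic_iff_acyclic]
  have h := (HomotopyCategory.subcategoryAcyclic C).trW_iff_of_distinguished _
    (HomotopyCategory.mappingCone_triangleh_distinguished φ)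
  rw [← HomotopyCategory.quasiIso_eq_trW_subcategoryAcyclic] at h
  exact h.1 ((HomotopyCategory.quotient_map_mem_quasiIso_iff φ).2 hφ)

variable {A : Type u} [Category.{v} A] [Abelian A]

/-- The mapping cone of a filtered quasi-isomorphism is filtered acyclic. -/
lemma isFilteredAcyclic_mappingCone {K L : CochainComplex (FilF A) ℤ} (α : K ⟶ L)
    (hα : IsFilteredQuasiIso α) : IsFilteredAcyclic (CochainComplex.mappingCone α) := by
  intro p n
  have h := acyclic_mappingCone_of_quasiIso _ (hα p)
  exact (h n).of_iso (CochainComplex.mappingCone.mapHomologicalComplexIso α (grF A p)).symm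

/-- Morphisms in the homotopy category from a filtered acyclic complex to a bounded below complex
of filtered injectives vanish. -/
lemma homotopyCategory_hom_eq_zero (K I : CochainComplex (FilF A) ℤ) (hK : IsFilteredAcyclic K)
    (a : ℤ) [I.IsStrictlyGE a] (hI : ∀ n, IsFilteredInjective (I.X n))
    (g : (HomotopyCategory.quotient (FilF A) (ComplexShape.up ℤ)).obj K ⟶
      (HomotopyCategory.quotient (FilF A) (ComplexShape.up ℤ)).obj I) : g = 0 := by
  obtain ⟨g', rfl⟩ := (HomotopyCategory.quotient _ _).map_surjective g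
  obtain ⟨h⟩ := homotopy_zero_of_acyclic K I hK a hI g'
  rw [HomotopyCategory.eq_of_homotopy _ _ h, Functor.map_zero]


/-- Variant for a shifted source: morphisms `(K⟦-1⟧ ⟶ I)` vanish too. -/
lemma homotopyCategory_hom_shift_eq_zero (K I : CochainComplex (FilF A) ℤ)
    (hK : IsFilteredAcyclic K)
    (a : ℤ) [I.IsStrictlyGE a] (hI : ∀ n, IsFilteredInjective (I.X n))
    (g : ((HomotopyCategory.quotient (FilF A) (ComplexShape.up ℤ)).obj K)⟦(-1 : ℤ)⟧ ⟶
      (HomotopyCategory.quotient (FilF A) (ComplexShape.up ℤ)).obj I) : g = 0 := by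
  apply (shiftFunctor (HomotopyCategory (FilF A) (ComplexShape.up ℤ)) (1 : ℤ)).map_injective
  rw [Functor.map_zero]
  have : (I⟦(1 : ℤ)⟧).IsStrictlyGE (a - 1) := I.isStrictlyGE_shift a 1 (a - 1) (by omega)
  have h0 : (shiftFunctorCompIsoId (HomotopyCategory (FilF A) (ComplexShape.up ℤ)) (-1 : ℤ) 1
        (by omega)).inv.app ((HomotopyCategory.quotient (FilF A) (ComplexShape.up ℤ)).obj K) ≫
        g⟦(1 : ℤ)⟧' ≫
      ((HomotopyCategory.quotient (FilF A) (ComplexShape.up ℤ)).commShiftIso (1 : ℤ)).inv.app I
        = 0 :=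
    homotopyCategory_hom_eq_zero K (I⟦(1 : ℤ)⟧) hK (a - 1) (fun n => hI (n + 1)) _
  rw [← cancel_epi ((shiftFunctorCompIsoId (HomotopyCategory (FilF A) (ComplexShape.up ℤ))
    (-1 : ℤ) 1 (by omega)).inv.app _), ← cancel_mono
    (((HomotopyCategory.quotient (FilF A) (ComplexShape.up ℤ)).commShiftIso (1 : ℤ)).inv.app I),
    Category.assoc, h0, comp_zero, zero_comp]

/-- `S1084`: precomposition with a filtered quasi-isomorphism is bijective on homotopy classes of
maps to a bounded below complex of filtered injectives. -/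
theorem bijective_precomp_of_filteredQuasiIso (I : CochainComplex (FilF A) ℤ)
    (a : ℤ) [I.IsStrictlyGE a] (hI : ∀ n, IsFilteredInjective (I.X n))
    {K L : CochainComplex (FilF A) ℤ} (α : K ⟶ L) (hα : IsFilteredQuasiIso α) :
    Function.Bijective (fun β : (HomotopyCategory.quotient (FilF A) (ComplexShape.up ℤ)).obj L ⟶
        (HomotopyCategory.quotient (FilF A) (ComplexShape.up ℤ)).obj I =>
      (HomotopyCategory.quotient (FilF A) (ComplexShape.up ℤ)).map α ≫ β) := by
  have hC := isFilteredAcyclic_mappingCone α hα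
  have hT := HomotopyCategory.mappingCone_triangleh_distinguished α
  constructor
  · intro β β' hβ
    dsimp at hβ
    have h0 : (HomotopyCategory.quotient (FilF A) (ComplexShape.up ℤ)).map α ≫ (β - β') = 0 := by
      rw [Preadditive.comp_sub, sub_eq_zero]
      exact hβ
    obtain ⟨g, hg⟩ := Triangle.yoneda_exact₂ _ hT (β - β') h0
    have hg0 : g = 0 := homotopyCategory_hom_eq_zero _ I hC a hI g
    rw [hg0, comp_zero] at hg
    exact sub_eq_zero.1 hg
  · intro β
    have hT' := inv_rot_of_distTriang _ hT
    obtain ⟨g, hg⟩ := Triangle.yoneda_exact₂ _ hT' β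
      (homotopyCategory_hom_shift_eq_zero _ I hC a hI _)
    exact ⟨g, hg.symm⟩

end Groth.Agent.Helper2.FilDLib
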