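import Groth.Agent.Lib.Helper2.FilDInj
import Groth.Agent.Lib.Helper2.FilDBiprod
import Mathlib.CategoryTheory.Preadditive.Injective.Basic

/-!
# Strict embeddings of finite filtered objects into filtered injective objects
-/

universe v u w

open CategoryTheory CategoryTheory.Limits Opposite ZeroObject

namespace Groth.Agent.Helper2.FilDLib

open FilD

set_option linter.unusedSectionVars false
set_option linter.style.haveILetI false

variable {A : Type u} [Category.{v} A] [Abelian A]

attribute [local instance] Abelian.hasFiniteBiproducts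

section T

variable (J : A) (p : ℤ)

/-- The object `J` placed in filtration degrees `≤ p`. -/
noncomputable def TFunctor : ℤᵒᵖ ⥤ A where
  obj q := if q.unop ≤ p then J else 0
  map {q q'} f := if h : q.unop ≤ p then
    eqToHom (by rw [if_pos h, if_pos ((leOfHom f.unop).trans h)]) else 0
  map_id q := by
    by_cases h : q.unop ≤ p
    · rw [dif_pos h, eqToHom_refl]
    · apply IsZero.eq_of_src
      rw [if_neg h]
      exact isZero_zero A
  map_comp {q q' q''} f g := by
    by_cases h : q.unop ≤ p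
    · rw [dif_pos h, dif_pos h, dif_pos ((leOfHom f.unop).trans h), eqToHom_trans]
    · rw [dif_neg h, dif_neg h, zero_comp]

lemma TFunctor_obj_pos {q : ℤ} (h : q ≤ p) : (TFunctor J p).obj (op q) = J := if_pos h

lemma TFunctor_isZero {q : ℤ} (h : ¬ q ≤ p) : IsZero ((TFunctor J p).obj (op q)) := by
  change IsZero (if q ≤ p then J else 0)
  rw [if_neg h]
  exact isZero_zero A

lemma TFunctor_map_neg {q q' : ℤᵒᵖ} (f : q ⟶ q') (h : ¬ q.unop ≤ p) :
    (TFunctor J p).map f = 0 := dif_neg h

lemma TFunctor_obj_eq {q q' : ℤᵒᵖ} (f : q ⟶ q') (h : q.unop ≤ p) :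
    (TFunctor J p).obj q = (TFunctor J p).obj q' := by
  change (if q.unop ≤ p then J else 0) = (if q'.unop ≤ p then J else 0)
  rw [if_pos h, if_pos ((leOfHom f.unop).trans h)]

lemma TFunctor_map_pos {q q' : ℤᵒᵖ} (f : q ⟶ q') (h : q.unop ≤ p) :
    (TFunctor J p).map f = eqToHom (TFunctor_obj_eq J p f h) := dif_pos h

lemma isIso_TFunctor_map {q q' : ℤᵒᵖ} (f : q ⟶ q') (h : q.unop ≤ p) :
    IsIso ((TFunctor J p).map f) := by
  rw [TFunctor_map_pos J p f h]
  infer_instance

lemma isFinFil_TFunctor : IsFinFil A (TFunctor J p) := by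
  refine ⟨?_, ⟨p + 1, fun q hq => TFunctor_isZero J p (by omega)⟩,
    ⟨p, fun q q' f hq => isIso_TFunctor_map J p f hq⟩⟩
  intro q q' f
  by_cases h : q.unop ≤ p
  · have := isIso_TFunctor_map J p f h
    infer_instance
  · have hz : IsZero ((TFunctor J p).obj q) := TFunctor_isZero J p (q := q.unop) h
    exact ⟨fun g g' _ => hz.eq_of_tgt _ _⟩

/-- `T(J,p)` as a finite filtered object. -/
noncomputable def TFil : FilF A := ⟨TFunctor J p, isFinFil_TFunctor J p⟩

lemma isIso_cokernel_π_of_eq_zero {X Y : A} (f : X ⟶ Y) (hf : f = 0) : IsIso (cokernel.π f) := by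
  subst hf; infer_instance

lemma isFilteredInjective_TFil [Injective J] : IsFilteredInjective (TFil J p) := by
  intro q
  change Injective (cokernel ((TFunctor J p).map (stepHom q)))
  by_cases h1 : q + 1 ≤ p
  · have := isIso_TFunctor_map J p (stepHom q) h1
    exact (isZero_cokernel_of_epi _).injective
  · by_cases h2 : q ≤ p
    · have := isIso_cokernel_π_of_eq_zero _ (TFunctor_map_neg J p (stepHom q) h1)
      have : Injective ((TFunctor J p).obj (op q)) := by
        rw [TFunctor_obj_pos J p h2]; infer_instance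
      exact Injective.of_iso (asIso (cokernel.π ((TFunctor J p).map (stepHom q)))) inferInstance
    · exact (IsZero.of_epi (cokernel.π ((TFunctor J p).map (stepHom q)))
        (TFunctor_isZero J p h2)).injective

variable {J p}

/-- A morphism `X ⟶ T(J,p)` from a cocone `c` of `X` and a map `m` from its vertex to `J` killing
`X (p+1)`. -/
noncomputable def toT {X : ℤᵒᵖ ⥤ A} {L : A} (c : ∀ q, X.obj (op q) ⟶ L)
    (hc : ∀ q, X.map (stepHom q) ≫ c q = c (q + 1)) (m : L ⟶ J) (hm : c (p + 1) ≫ m = 0) :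
    X ⟶ TFunctor J p :=
  natTransOfSteps (fun q => if h : q ≤ p then c q ≫ m ≫ eqToHom (TFunctor_obj_pos J p h).symm
    else 0) (by
    intro q
    by_cases h1 : q + 1 ≤ p
    · have h2 : q ≤ p := by omega
      rw [dif_pos h1, dif_pos h2, reassoc_of% hc q]
      rw [TFunctor_map_pos J p (stepHom q) h1, Category.assoc, Category.assoc, eqToHom_trans]
    · rw [dif_neg h1, zero_comp]
      by_cases h2 : q ≤ p
      · obtain rfl : q = p := by omega
        rw [dif_pos h2, reassoc_of% hc q, reassoc_of% hm, zero_comp]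
      · rw [dif_neg h2, comp_zero])

lemma toT_app_self {X : ℤᵒᵖ ⥤ A} {L : A} (c : ∀ q, X.obj (op q) ⟶ L)
    (hc : ∀ q, X.map (stepHom q) ≫ c q = c (q + 1)) (m : L ⟶ J) (hm : c (p + 1) ≫ m = 0) :
    (toT c hc m hm).app (op p) = c p ≫ m ≫ eqToHom (TFunctor_obj_pos J p le_rfl).symm :=
  dif_pos le_rfl

end T

/-- A cocone of a finite filtered object with monic legs (its "underlying object"). -/
lemma exists_cocone (X : FilF A) : ∃ (L : A) (c : ∀ q, X.obj.obj (op q) ⟶ L),
    (∀ q, X.obj.map (stepHom q) ≫ c q = c (q + 1)) ∧ ∀ q, Mono (c q) := by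
  obtain ⟨a, ha⟩ := X.property.2.2
  have hiso : ∀ {q : ℤ} (h : q ≤ a), IsIso (tr X.obj h) := fun h => ha _ le_rfl
  refine ⟨X.obj.obj (op a), fun q => if h : a ≤ q then tr X.obj h else
    @inv _ _ _ _ (tr X.obj (le_of_not_ge h)) (hiso _), ?_, ?_⟩
  · intro q
    dsimp only
    by_cases h1 : a ≤ q
    · rw [dif_pos h1, dif_pos (by omega : a ≤ q + 1), ← tr_step, tr_comp]
    · by_cases h2 : a ≤ q + 1
      · obtain rfl : a = q + 1 := by omega
        rw [dif_neg h1, dif_pos le_rfl, tr_self]
        have := hiso (le_of_not_ge h1)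
        exact IsIso.hom_inv_id (tr X.obj (le_of_not_ge h1))
      · rw [dif_neg h1, dif_neg h2]
        have := hiso (le_of_not_ge h1)
        have := hiso (le_of_not_ge h2)
        rw [IsIso.comp_inv_eq, IsIso.eq_inv_comp, ← tr_step, tr_comp]
  · intro q
    dsimp only
    by_cases h : a ≤ q
    · rw [dif_pos h]; infer_instance
    · rw [dif_neg h]
      have := hiso (le_of_not_ge h)
      infer_instance


section biprod

variable {J : Type} [Fintype J]

/-- Lift into the levelwise biproduct. -/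
noncomputable def biproductFunctorLift {X : ℤᵒᵖ ⥤ A} (f : J → (ℤᵒᵖ ⥤ A)) (g : ∀ j, X ⟶ f j) :
    X ⟶ biproductFunctor f := ∑ j, g j ≫ biproductFunctorι f j

@[reassoc (attr := simp)]
lemma biproductFunctorLift_π {X : ℤᵒᵖ ⥤ A} (f : J → (ℤᵒᵖ ⥤ A)) (g : ∀ j, X ⟶ f j) (j : J) :
    biproductFunctorLift f g ≫ biproductFunctorπ f j = g j := by
  classical
  rw [biproductFunctorLift, Preadditive.sum_comp, Finset.sum_eq_single j]
  · rw [Category.assoc, biproductFunctorι_π_self, Category.comp_id]
  · intro j' _ hj'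
    rw [Category.assoc, biproductFunctorι_π_ne f hj', comp_zero]
  · intro h
    exact absurd (Finset.mem_univ j) h

lemma injective_of_total {P : A} (c : J → A) (π : ∀ j, P ⟶ c j) (ι : ∀ j, c j ⟶ P)
    (total : ∑ j, π j ≫ ι j = 𝟙 P) [∀ j, Injective (c j)] : Injective P := by
  constructor
  intro U V g i hi
  refine ⟨∑ j, Injective.factorThru (g ≫ π j) i ≫ ι j, ?_⟩
  rw [Preadditive.comp_sum]
  simp only [Injective.comp_factorThru_assoc, Category.assoc]
  rw [← Preadditive.comp_sum, total, Category.comp_id]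

lemma injective_gr_biproductFunctor (f : J → (ℤᵒᵖ ⥤ A)) (q : ℤ)
    (h : ∀ j, Injective ((gr A q).obj (f j))) : Injective ((gr A q).obj (biproductFunctor f)) := by
  refine injective_of_total (fun j => (gr A q).obj (f j))
    (fun j => (gr A q).map (biproductFunctorπ f j))
    (fun j => (gr A q).map (biproductFunctorι f j)) ?_
  have : ∀ j, (gr A q).map (biproductFunctorπ f j) ≫ (gr A q).map (biproductFunctorι f j) =
      (gr A q).map (biproductFunctorπ f j ≫ biproductFunctorι f j) :=
    fun j => ((gr A q).map_comp _ _).symm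
  simp only [this]
  rw [← Functor.map_sum, biproductFunctor_total, CategoryTheory.Functor.map_id]

lemma isFilteredInjective_biproductFilF (f : J → FilF A) (hf : ∀ j, IsFilteredInjective (f j)) :
    IsFilteredInjective (biproductFilF f) :=
  fun q => injective_gr_biproductFunctor (fun j => (f j).obj) q (fun j => hf j q)

end biprod

/-- If `X (q+1) ⟶ X q` is an epimorphism or `X q = 0`, then `gr^q X = 0`. -/
lemma isZero_gr_of_epi (X : ℤᵒᵖ ⥤ A) (q : ℤ) [Epi (X.map (stepHom q))] :
    IsZero ((gr A q).obj X) := isZero_cokernel_of_epi _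

lemma isZero_gr_of_isZero (X : ℤᵒᵖ ⥤ A) (q : ℤ) (h : IsZero (X.obj (op q))) :
    IsZero ((gr A q).obj X) := IsZero.of_epi (grπ X q) h

/-- A morphism of finite filtered objects all of whose graded pieces are monomorphisms is a strict
monomorphism. -/
lemma strict_mono_of_gr_mono {X Y : FilF A} (u : X ⟶ Y) (h : ∀ q, Mono ((gr A q).map u.hom)) :
    Mono u ∧ IsStrict u := by
  let S : ShortComplex (FilF A) := ShortComplex.mk (0 : 0 ⟶ X) u zero_comp
  have hS : ∀ p : ℤ, (S.map (grF A p)).Exact := by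
    intro p
    rw [ShortComplex.exact_iff_mono _ (show (grF A p).map (0 : (0 : FilF A) ⟶ X) = 0 from
      Functor.map_zero _ _ _)]
    exact h p
  obtain ⟨h1, -, h3⟩ := strict_and_exact_of_gr_exact S hS
  refine ⟨?_, h3⟩
  have : ∀ p : ℤ, Mono (u.hom.app (op p)) := by
    intro p
    have := h1 p
    rw [ShortComplex.exact_iff_mono _ (show ((IsFinFil A).ι ⋙ (evaluation ℤᵒᵖ A).obj (op p)).map
      (0 : (0 : FilF A) ⟶ X) = 0 from Functor.map_zero _ _ _)] at this
    exact this
  have : Mono u.hom := by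
    apply NatTrans.mono_of_mono_app u.hom
  exact (IsFinFil A).ι.mono_of_mono_map this


/-- `gr^p` of the canonical map to `T(J,p)` is a monomorphism when `m` has kernel `X (p+1)`. -/
lemma mono_gr_toT {X : ℤᵒᵖ ⥤ A} {L J : A} {p : ℤ} (c : ∀ q, X.obj (op q) ⟶ L)
    (hc : ∀ q, X.map (stepHom q) ≫ c q = c (q + 1)) (m : L ⟶ J) (hm : c (p + 1) ≫ m = 0)
    [Mono (c p)]
    (hex : ∀ ⦃W : A⦄ (z : W ⟶ L), z ≫ m = 0 → ∃ (W' : A) (π : W' ⟶ W) (_ : Epi π)
      (z' : W' ⟶ X.obj (op (p + 1))), π ≫ z = z' ≫ c (p + 1)) :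
    Mono ((gr A p).map (toT c hc m hm)) := by
  apply Preadditive.mono_of_cancel_zero
  intro W w hw
  obtain ⟨W₁, π₁, _, x, hx⟩ := lift_grπ X p w
  have h0 : (x ≫ (toT c hc m hm).app (op p)) ≫ grπ (TFunctor J p) p = 0 := by
    rw [Category.assoc, ← grπ_map, ← reassoc_of% hx, hw, comp_zero]
  obtain ⟨W₂, π₂, _, t, ht⟩ := lift_of_comp_grπ_eq_zero (TFunctor J p) p _ h0
  rw [TFunctor_map_neg J p (stepHom p) (by simp), comp_zero, toT_app_self] at ht
  have ht' : (π₂ ≫ x ≫ c p) ≫ m = 0 :=
    zero_of_comp_mono (eqToHom (TFunctor_obj_pos J p le_rfl).symm) (by simpa using ht)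
  obtain ⟨W₃, π₃, _, z', hz'⟩ := hex (π₂ ≫ x ≫ c p) ht'
  have h1 : (π₃ ≫ π₂ ≫ x) = z' ≫ X.map (stepHom p) := by
    rw [← cancel_mono (c p), Category.assoc, Category.assoc, Category.assoc, hc, ← hz']
  have h2 : (π₃ ≫ π₂ ≫ π₁) ≫ w = 0 := by
    rw [Category.assoc, Category.assoc, hx, ← Category.assoc π₂, ← Category.assoc π₃, h1,
      Category.assoc, step_grπ, comp_zero]
  rwa [← cancel_epi (π₃ ≫ π₂ ≫ π₁), comp_zero]

/-- `S1081`: every finite filtered object admits a strict monomorphism into a filtered injective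
object. -/
theorem exists_strict_mono_to_filteredInjective [EnoughInjectives A] (X : FilF A) :
    ∃ (I : FilF A) (u : X ⟶ I), IsFilteredInjective I ∧ Mono u ∧ IsStrict u := by
  obtain ⟨L, c, hc, hcm⟩ := exists_cocone X
  obtain ⟨b, hb⟩ := X.property.2.1
  obtain ⟨a, ha⟩ := X.property.2.2
  let N := (b - a).toNat
  let pj : Fin N → ℤ := fun j => a + (j : ℕ)
  let Q : Fin N → A := fun j => cokernel (c (pj j + 1))
  let Jj : Fin N → A := fun j => Injective.under (Q j)
  let m : ∀ j, L ⟶ Jj j := fun j => cokernel.π (c (pj j + 1)) ≫ Injective.ι (Q j)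
  have hm : ∀ j, c (pj j + 1) ≫ m j = 0 := by
    intro j
    simp only [m, cokernel.condition_assoc, zero_comp]
  let T : Fin N → FilF A := fun j => TFil (Jj j) (pj j)
  let uj : ∀ j, X.obj ⟶ (T j).obj := fun j => toT c hc (m j) (hm j)
  let u : X ⟶ biproductFilF T :=
    ObjectProperty.homMk (biproductFunctorLift (fun j => (T j).obj) uj)
  refine ⟨biproductFilF T, u,
    isFilteredInjective_biproductFilF T (fun j => isFilteredInjective_TFil _ _),
    strict_mono_of_gr_mono u ?_⟩
  intro q
  by_cases hq : a ≤ q ∧ q < b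
  · obtain ⟨j, hj⟩ : ∃ j : Fin N, pj j = q :=
      ⟨⟨(q - a).toNat, by omega⟩, by simp only [pj]; omega⟩
    have hcomp : (gr A q).map (biproductFunctorLift (fun j => (T j).obj) uj) ≫
        (gr A q).map (biproductFunctorπ (fun j => (T j).obj) j) = (gr A q).map (uj j) := by
      rw [← Functor.map_comp, biproductFunctorLift_π]
    have hmono : Mono ((gr A q).map (uj j)) := by
      subst hj
      have := hcm (pj j)
      refine mono_gr_toT c hc (m j) (hm j) ?_
      intro W z hz
      have hz' : z ≫ cokernel.π (c (pj j + 1)) = 0 := by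
        rw [← cancel_mono (Injective.ι (Q j)), Category.assoc, zero_comp]
        exact hz
      exact (ShortComplex.exact_cokernel (c (pj j + 1))).exact_up_to_refinements z hz'
    rw [← hcomp] at hmono
    change Mono ((gr A q).map (biproductFunctorLift (fun j => (T j).obj) uj))
    exact mono_of_mono _ ((gr A q).map (biproductFunctorπ (fun j => (T j).obj) j))
  · have hz : IsZero ((gr A q).obj X.obj) := by
      by_cases h1 : a ≤ q
      · exact isZero_gr_of_isZero _ _ (hb q (by omega))
      · have : IsIso (X.obj.map (stepHom q)) := ha _ (by change q + 1 ≤ a; omega)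
        exact isZero_gr_of_epi _ _
    exact ⟨fun g g' _ => hz.eq_of_tgt _ _⟩

end Groth.Agent.Helper2.FilDLib
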