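import Groth.Agent.Lib.Helper2.FilD
import Mathlib.CategoryTheory.Preadditive.Injective.Basic
import Mathlib.CategoryTheory.Abelian.Images

/-!
# Filtered injective objects: extension of morphisms along strict morphisms
-/

universe v u w

open CategoryTheory CategoryTheory.Limits Opposite

namespace Groth.Agent.Helper2.FilDLib

open FilD Groth.Agent.Helper2.SubLat

set_option linter.unusedSectionVars false
set_option linter.style.haveILetI false

variable {A : Type u} [Category.{v} A] [Abelian A]

section descFamily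

variable {T : ℤ → Type w} (Q : ∀ p, T p → Prop) (R : ∀ p q, T p → T q → Prop)
    (b : ℤ) (base : ∀ p, b ≤ p → ∃ t, Q p t)
    (step : ∀ p q, q = p + 1 → ∀ t', Q q t' → ∃ t, Q p t ∧ R p q t t')

/-- Auxiliary recursion for `exists_desc_family`. -/
noncomputable def descAux : (n : ℕ) → (p : ℤ) → (b - p).toNat = n → {t : T p // Q p t}
  | 0, p, h => ⟨(base p (by omega)).choose, (base p (by omega)).choose_spec⟩
  | n + 1, p, h =>
    ⟨(step p (p + 1) rfl (descAux n (p + 1) (by omega)).1 (descAux n (p + 1) (by omega)).2).choose,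
      (step p (p + 1) rfl (descAux n (p + 1) (by omega)).1
        (descAux n (p + 1) (by omega)).2).choose_spec.1⟩

lemma descAux_succ (n : ℕ) (p : ℤ) (h : (b - p).toNat = n + 1) (h' : (b - (p + 1)).toNat = n) :
    R p (p + 1) (descAux Q R b base step (n + 1) p h).1 (descAux Q R b base step n (p + 1) h').1 :=
  (step p (p + 1) rfl (descAux Q R b base step n (p + 1) h').1
    (descAux Q R b base step n (p + 1) h').2).choose_spec.2

lemma descAux_congr (p : ℤ) (n : ℕ) (h : (b - p).toNat = n) :
    descAux Q R b base step (b - p).toNat p rfl = descAux Q R b base step n p h := by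
  subst h; rfl

include base step in
/-- Dependent choice downward on `ℤ`. -/
lemma exists_desc_family
    (base_compat : ∀ p q, b ≤ p → q = p + 1 → ∀ t t', Q p t → Q q t' → R p q t t') :
    ∃ g : ∀ p, T p, (∀ p, Q p (g p)) ∧ ∀ p q, q = p + 1 → R p q (g p) (g q) := by
  refine ⟨fun p => (descAux Q R b base step (b - p).toNat p rfl).1,
    fun p => (descAux Q R b base step (b - p).toNat p rfl).2, ?_⟩
  intro p q hq
  subst hq
  by_cases hp : b ≤ p
  · exact base_compat p (p + 1) hp rfl _ _ (descAux Q R b base step _ p rfl).2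
      (descAux Q R b base step _ (p + 1) rfl).2
  · obtain ⟨m, hm⟩ : ∃ m : ℕ, (b - p).toNat = m + 1 := ⟨(b - p).toNat - 1, by omega⟩
    have hm' : (b - (p + 1)).toNat = m := by omega
    change R p (p + 1) (descAux Q R b base step (b - p).toNat p rfl).1
      (descAux Q R b base step (b - (p + 1)).toNat (p + 1) rfl).1
    rw [descAux_congr Q R b base step p _ hm, descAux_congr Q R b base step (p + 1) _ hm']
    exact descAux_succ Q R b base step m p hm hm'

end descFamily

/-- A natural transformation between functors on `ℤᵒᵖ` from components commuting with steps. -/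
def natTransOfSteps {F G : ℤᵒᵖ ⥤ A} (g : ∀ p : ℤ, F.obj (op p) ⟶ G.obj (op p))
    (hg : ∀ p : ℤ, F.map (stepHom p) ≫ g p = g (p + 1) ≫ G.map (stepHom p)) : F ⟶ G where
  app X := g X.unop
  naturality X Y f := by
    obtain ⟨q⟩ := X
    obtain ⟨p⟩ := Y
    have h : p ≤ q := leOfHom f.unop
    have hf : f = (homOfLE h).op := Subsingleton.elim _ _
    subst hf
    change tr F h ≫ g p = g q ≫ tr G h
    induction q, h using Int.leInduction with
    | base => rw [tr_self, tr_self, Category.id_comp, Category.comp_id]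
    | succ q h ih =>
      rw [← tr_comp F h (Int.le_add_one le_rfl), ← tr_comp G h (Int.le_add_one le_rfl),
        Category.assoc, ih, tr_step, tr_step, reassoc_of% hg q]

@[simp]
lemma natTransOfSteps_app {F G : ℤᵒᵖ ⥤ A} (g : ∀ p : ℤ, F.obj (op p) ⟶ G.obj (op p))
    (hg : ∀ p : ℤ, F.map (stepHom p) ≫ g p = g (p + 1) ≫ G.map (stepHom p)) (p : ℤ) :
    (natTransOfSteps g hg).app (op p) = g p := rfl

/-- Gluing two maps into an injective object. -/
lemma glue {U U' V J : A} [Injective J] (a : U ⟶ V) (b : U' ⟶ V) (s : U ⟶ J) (s' : U' ⟶ J)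
    (h : ∀ ⦃W : A⦄ (w : W ⟶ U) (w' : W ⟶ U'), w ≫ a = w' ≫ b → w ≫ s = w' ≫ s') :
    ∃ g : V ⟶ J, a ≫ g = s ∧ b ≫ g = s' := by
  let m : U ⊞ U' ⟶ V := biprod.desc a b
  let t : U ⊞ U' ⟶ J := biprod.desc s s'
  have hk : kernel.ι m ≫ t = 0 := by
    have e : kernel.ι m = biprod.lift (kernel.ι m ≫ biprod.fst) (kernel.ι m ≫ biprod.snd) := by
      ext <;> simp
    have h0 : (kernel.ι m ≫ biprod.fst) ≫ a + (kernel.ι m ≫ biprod.snd) ≫ b = 0 := by
      have := kernel.condition m
      rw [e, biprod.lift_desc] at this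
      exact this
    have h1 : (kernel.ι m ≫ biprod.fst) ≫ a = (-(kernel.ι m ≫ biprod.snd)) ≫ b := by
      rw [Preadditive.neg_comp]
      exact eq_neg_of_add_eq_zero_left h0
    have h2 := h _ _ h1
    rw [e, biprod.lift_desc, h2, Preadditive.neg_comp, neg_add_cancel]
  let t' : Abelian.coimage m ⟶ J := cokernel.desc (kernel.ι m) t hk
  have ht' : Abelian.coimage.π m ≫ t' = t := cokernel.π_desc _ _ _
  let g := Injective.factorThru t' (Abelian.factorThruCoimage m)
  have hg : m ≫ g = t := by
    conv_lhs => rw [← Abelian.coimage.fac m]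
    rw [Category.assoc, Injective.comp_factorThru, ht']
  refine ⟨g, ?_, ?_⟩
  · have := congrArg (biprod.inl ≫ ·) hg
    simpa [m, t] using this
  · have := congrArg (biprod.inr ≫ ·) hg
    simpa [m, t] using this

/-- An extension of injective objects is injective (in the form needed here). -/
lemma injective_of_mono_of_cokernel {X Y : A} (i : X ⟶ Y) [Mono i] [Injective X]
    [Injective (cokernel i)] : Injective Y := by
  let r : Y ⟶ X := Injective.factorThru (𝟙 X) i
  have hr : i ≫ r = 𝟙 X := Injective.comp_factorThru _ _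
  let s : cokernel i ⟶ Y := cokernel.desc i (𝟙 Y - r ≫ i) (by
    rw [Preadditive.comp_sub, Category.comp_id, reassoc_of% hr, sub_self])
  have hs : cokernel.π i ≫ s = 𝟙 Y - r ≫ i := cokernel.π_desc _ _ _
  constructor
  intro U V f j hj
  refine ⟨Injective.factorThru (f ≫ r) j ≫ i + Injective.factorThru (f ≫ cokernel.π i) j ≫ s, ?_⟩
  rw [Preadditive.comp_add, Injective.comp_factorThru_assoc, Injective.comp_factorThru_assoc,
    Category.assoc, Category.assoc, hs, Preadditive.comp_sub, Category.comp_id]
  abel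

/-- The levels of a filtered injective object are injective. -/
lemma injective_level (I : FilF A) (hI : IsFilteredInjective I) (p : ℤ) :
    Injective (I.obj.obj (op p)) := by
  obtain ⟨b, hb⟩ := I.property.2.1
  induction p using int_desc_induction b with
  | hb p hp => exact (hb p hp).injective
  | hstep p ih =>
    have : Mono (I.obj.map (stepHom p)) := I.property.1 _
    have : Injective (cokernel (I.obj.map (stepHom p))) := hI p
    exact injective_of_mono_of_cokernel (I.obj.map (stepHom p))

/-- Extension of morphisms into a filtered injective object along a strict morphism. -/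
theorem exists_extension {M N I : FilF A} (d : M ⟶ N) (hd : IsStrict d)
    (hI : IsFilteredInjective I) (f : M ⟶ I)
    (hf : ∀ (p : ℤ) ⦃W : A⦄ (z : W ⟶ M.obj.obj (op p)), z ≫ d.hom.app (op p) = 0 →
      z ≫ f.hom.app (op p) = 0) :
    ∃ g : N ⟶ I, d ≫ g = f := by
  obtain ⟨b, hb⟩ := I.property.2.1
  obtain ⟨g, hgQ, hgR⟩ := exists_desc_family (T := fun p => N.obj.obj (op p) ⟶ I.obj.obj (op p))
    (fun p g => d.hom.app (op p) ≫ g = f.hom.app (op p))
    (fun p q g g' => ∀ h : p ≤ q, tr N.obj h ≫ g = g' ≫ tr I.obj h) b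
    (fun p hp => ⟨0, (hb p hp).eq_of_tgt _ _⟩)
    (by
      intro p q hq g' hg'
      subst hq
      have := injective_level I hI p
      obtain ⟨g, hg1, hg2⟩ := glue (N.obj.map (stepHom p))
        (d.hom.app (op p)) (g' ≫ I.obj.map (stepHom p)) (f.hom.app (op p)) (by
          intro W w w' hww
          obtain ⟨W', π, _, x', hx'⟩ := isStrict_step hd p w' w hww.symm
          have h0 : (π ≫ w' - x' ≫ M.obj.map (stepHom p)) ≫ d.hom.app (op p) = 0 := by
            rw [Preadditive.sub_comp, Category.assoc, Category.assoc, ← hww, d.hom.naturality,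
              ← Category.assoc x', ← hx', Category.assoc, sub_self]
          have h1 := hf p _ h0
          rw [Preadditive.sub_comp, sub_eq_zero, Category.assoc, Category.assoc,
            f.hom.naturality, ← hg', ← Category.assoc x', ← Category.assoc x', ← hx'] at h1
          rw [← cancel_epi π, h1]
          simp only [Category.assoc])
      exact ⟨g, hg2, fun _ => hg1⟩)
    (fun p q hp _ t t' _ _ h => (hb p hp).eq_of_tgt _ _)
  refine ⟨ObjectProperty.homMk (natTransOfSteps g (fun p => hgR p (p + 1) rfl _)), ?_⟩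
  apply ObjectProperty.hom_ext
  ext ⟨p⟩
  exact hgQ p


/-- The levelwise kernel of a morphism of finite filtered objects is a finite filtered object. -/
lemma isFinFil_kernel {X Y : FilF A} (φ : X ⟶ Y) : IsFinFil A (kernel φ.hom) := by
  have nat : ∀ ⦃p q : ℤᵒᵖ⦄ (f : p ⟶ q), (kernel φ.hom).map f ≫ (kernel.ι φ.hom).app q =
      (kernel.ι φ.hom).app p ≫ X.obj.map f := fun p q f => (kernel.ι φ.hom).naturality f
  have hmono : ∀ ⦃p q : ℤᵒᵖ⦄ (f : p ⟶ q), Mono ((kernel φ.hom).map f) := by
    intro p q f
    have : Mono (X.obj.map f) := X.property.1 f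
    have : Mono ((kernel φ.hom).map f ≫ (kernel.ι φ.hom).app q) := by
      rw [nat]; infer_instance
    exact mono_of_mono _ ((kernel.ι φ.hom).app q)
  refine ⟨hmono, ?_, ?_⟩
  · obtain ⟨b, hb⟩ := X.property.2.1
    exact ⟨b, fun p hp => IsZero.of_mono ((kernel.ι φ.hom).app (op p)) (hb p hp)⟩
  · obtain ⟨a₁, ha₁⟩ := X.property.2.2
    obtain ⟨a₂, ha₂⟩ := Y.property.2.2
    refine ⟨min a₁ a₂, ?_⟩
    rintro ⟨p⟩ ⟨q⟩ f hp
    have : IsIso (X.obj.map f) := ha₁ f (le_trans hp (min_le_left _ _))
    have : IsIso (Y.obj.map f) := ha₂ f (le_trans hp (min_le_right _ _))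
    have h0 : ((kernel.ι φ.hom).app (op q) ≫ inv (X.obj.map f)) ≫ φ.hom.app (op p) = 0 := by
      rw [← cancel_mono (Y.obj.map f), Category.assoc, Category.assoc, ← φ.hom.naturality,
        IsIso.inv_hom_id_assoc, zero_comp]
      exact kernel_ι_app_comp φ.hom q
    obtain ⟨k', hk'⟩ := exists_lift_kernel_app φ.hom p _ h0
    have hsplit : k' ≫ (kernel φ.hom).map f = 𝟙 _ := by
      rw [← cancel_mono ((kernel.ι φ.hom).app (op q)), Category.assoc, nat, reassoc_of% hk',
        IsIso.inv_hom_id, Category.comp_id, Category.id_comp]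
    have := hmono f
    have : IsSplitEpi ((kernel φ.hom).map f) := IsSplitEpi.mk' ⟨k', hsplit⟩
    exact isIso_of_mono_of_isSplitEpi _

/-- A monomorphism of finite filtered objects is a monomorphism at every level. -/
lemma mono_app_of_mono {X Y : FilF A} (φ : X ⟶ Y) [Mono φ] (p : ℤ) :
    Mono (φ.hom.app (op p)) := by
  let K : FilF A := ⟨kernel φ.hom, isFinFil_kernel φ⟩
  let κ : K ⟶ X := ObjectProperty.homMk (kernel.ι φ.hom)
  have hκ : κ ≫ φ = 0 := by
    apply ObjectProperty.hom_ext
    exact kernel.condition φ.hom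
  have hκ0 : κ = 0 := by
    rw [← cancel_mono φ, hκ, zero_comp]
  have h0 : kernel.ι φ.hom = 0 := congrArg (fun t => t.hom) hκ0
  apply Preadditive.mono_of_cancel_zero
  intro W z hz
  obtain ⟨k', hk'⟩ := exists_lift_kernel_app φ.hom p z hz
  rw [← hk', h0, zero_app, comp_zero]

/-- `S1080`: a strict monomorphism out of a filtered injective object splits. -/
theorem strictMono_from_filteredInjective_splits {I X : FilF A} (u : I ⟶ X) [Mono u]
    (hu : IsStrict u) (hI : IsFilteredInjective I) : ∃ r : X ⟶ I, u ≫ r = 𝟙 I :=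
  exists_extension u hu hI (𝟙 I) (fun p W z hz => by
    have := mono_app_of_mono u p
    have : z = 0 := by rw [← cancel_mono (u.hom.app (op p)), hz, zero_comp]
    rw [this, zero_comp])

end Groth.Agent.Helper2.FilDLib
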