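import Groth.Agent.Lib.Helper2.FilDCoker
import Groth.Agent.Lib.Helper2.FilDBiprod
import Mathlib.Algebra.Homology.QuasiIso
import Mathlib.Algebra.Homology.Refinements
import Mathlib.Algebra.Homology.Embedding.CochainComplex

/-!
# Canonical truncations of complexes of finite filtered objects
-/

universe v u w

open CategoryTheory CategoryTheory.Limits Opposite ZeroObject

namespace Groth.Agent.Helper2.FilDLib

open FilD

set_option linter.unusedSectionVars false
set_option linter.style.haveILetI false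

variable {A : Type u} [Category.{v} A] [Abelian A]

section strict

lemma add_hom_app {X Y : FilF A} (f g : X ⟶ Y) (P : ℤᵒᵖ) :
    (f + g).hom.app P = f.hom.app P + g.hom.app P := rfl

lemma comp_hom_app {X Y Z : FilF A} (f : X ⟶ Y) (g : Y ⟶ Z) (P : ℤᵒᵖ) :
    (f ≫ g).hom.app P = f.hom.app P ≫ g.hom.app P := rfl

lemma zero_hom_app {X Y : FilF A} (P : ℤᵒᵖ) : (0 : X ⟶ Y).hom.app P = 0 := rfl

lemma id_hom_app (X : FilF A) (P : ℤᵒᵖ) : (𝟙 X : X ⟶ X).hom.app P = 𝟙 _ := rfl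

lemma isStrict_zero (X Y : FilF A) : IsStrict (0 : X ⟶ Y) := by
  rw [isStrict_iff]
  intro p q h W x y hxy
  refine ⟨W, 𝟙 _, inferInstance, 0, ?_⟩
  rw [zero_hom_app, comp_zero] at hxy
  rw [zero_comp, Category.id_comp, ← cancel_mono (tr Y.obj h), ← hxy, zero_comp]

lemma isStrict_of_section {X Y : FilF A} (g : X ⟶ Y) (s : Y ⟶ X) (hs : s ≫ g = 𝟙 Y) :
    IsStrict g := by
  rw [isStrict_iff]
  intro p q h W x y _
  refine ⟨W, 𝟙 _, inferInstance, y ≫ s.hom.app (op q), ?_⟩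
  rw [Category.id_comp, Category.assoc, ← comp_hom_app, hs, id_hom_app, Category.comp_id]

/-- Decomposition of a map out of a binary biproduct, levelwise. -/
lemma biprod_desc_hom_app {X X' Y : FilF A} (u : X ⟶ Y) (v : X' ⟶ Y) (P : ℤᵒᵖ) :
    (biprod.desc u v).hom.app P =
      (biprod.fst : X ⊞ X' ⟶ X).hom.app P ≫ u.hom.app P +
        (biprod.snd : X ⊞ X' ⟶ X').hom.app P ≫ v.hom.app P := by
  have : biprod.desc u v = biprod.fst ≫ u + biprod.snd ≫ v := by
    apply biprod.hom_ext' <;> simp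
  rw [this, add_hom_app, comp_hom_app, comp_hom_app]

lemma isStrict_desc_zero {X X' Y : FilF A} (u : X ⟶ Y) (hu : IsStrict u) :
    IsStrict (biprod.desc u (0 : X' ⟶ Y)) := by
  rw [isStrict_iff]
  intro p q h W x y hxy
  rw [biprod_desc_hom_app, zero_hom_app, comp_zero, add_zero, ← Category.assoc] at hxy
  obtain ⟨W', π, hπ, x', hx'⟩ := (isStrict_iff u).1 hu p q h _ y hxy
  refine ⟨W', π, hπ, x' ≫ (biprod.inl : X ⟶ X ⊞ X').hom.app (op q), ?_⟩
  rw [hx', Category.assoc, ← comp_hom_app, biprod.inl_desc]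

end strict


section truncGE

variable (K : CochainComplex (FilF A) ℤ) (a : ℤ)

/-- The first component of the map whose cokernel is the truncation. -/
noncomputable def gT₁ (n : ℤ) : K.X (n - 1) ⟶ K.X n := if n ≤ a then K.d (n - 1) n else 0

/-- The second component of the map whose cokernel is the truncation. -/
noncomputable def gT₂ (n : ℤ) : K.X n ⟶ K.X n := if n < a then 𝟙 _ else 0

/-- The map whose cokernel is the `n`-th term of the truncation `τ_{≥ a} K`. -/
noncomputable def gT (n : ℤ) : K.X (n - 1) ⊞ K.X n ⟶ K.X n := biprod.desc (gT₁ K a n) (gT₂ K a n)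

variable (hstr : IsStrict (K.d (a - 1) a))

include hstr in
lemma gT_strict (n : ℤ) : IsStrict (gT K a n) := by
  by_cases h1 : n < a
  · apply isStrict_of_section _ biprod.inr
    rw [gT, biprod.inr_desc, gT₂, if_pos h1]
  · have h2 : gT₂ K a n = 0 := if_neg h1
    by_cases h3 : n = a
    · subst h3
      rw [gT, h2, gT₁, if_pos le_rfl]
      exact isStrict_desc_zero _ hstr
    · have h4 : gT₁ K a n = 0 := if_neg (by omega)
      have : gT K a n = 0 := by
        rw [gT, h2, h4]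
        apply biprod.hom_ext' <;> simp
      rw [this]
      exact isStrict_zero _ _

/-- The terms of `τ_{≥ a} K`. -/
noncomputable def LX (n : ℤ) : FilF A := cokerFil (gT K a n) (gT_strict K a hstr n)

/-- The projections `K n ⟶ (τ_{≥ a} K) n`. -/
noncomputable def πT (n : ℤ) : K.X n ⟶ LX K a hstr n := cokerFilπ (gT K a n) (gT_strict K a hstr n)

instance (n : ℤ) : Epi (πT K a hstr n) :=
  inferInstanceAs (Epi (cokerFilπ (gT K a n) (gT_strict K a hstr n)))

lemma gT_πT (n : ℤ) : gT K a n ≫ πT K a hstr n = 0 := comp_cokerFilπ _ _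

lemma gT₁_πT (n : ℤ) : gT₁ K a n ≫ πT K a hstr n = 0 := by
  have := congrArg (fun t => biprod.inl ≫ t) (gT_πT K a hstr n)
  simpa [gT] using this

lemma gT₂_πT (n : ℤ) : gT₂ K a n ≫ πT K a hstr n = 0 := by
  have := congrArg (fun t => biprod.inr ≫ t) (gT_πT K a hstr n)
  simpa [gT] using this

lemma gT_d_πT (n : ℤ) : gT K a n ≫ K.d n (n + 1) ≫ πT K a hstr (n + 1) = 0 := by
  rw [gT]
  apply biprod.hom_ext'
  · rw [biprod.inl_desc_assoc, comp_zero, gT₁]
    split_ifs
    · rw [K.d_comp_d_assoc, zero_comp]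
    · rw [zero_comp]
  · rw [biprod.inr_desc_assoc, comp_zero, gT₂]
    split_ifs with h
    · rw [Category.id_comp]
      have h1 := gT₁_πT K a hstr (n + 1)
      rw [gT₁, if_pos (by omega)] at h1
      have e : K.d n (n + 1) = eqToHom (by rw [add_sub_cancel_right]) ≫ K.d (n + 1 - 1) (n + 1) := by
        have : n + 1 - 1 = n := by omega
        rw [← HomologicalComplex.XIsoOfEq_hom_comp_d K this.symm]
        rfl
      rw [e, Category.assoc, h1, comp_zero]
    · rw [zero_comp]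

/-- The differentials of `τ_{≥ a} K`. -/
noncomputable def dL (n : ℤ) : LX K a hstr n ⟶ LX K a hstr (n + 1) :=
  cokerFilDesc (gT K a n) (gT_strict K a hstr n) (K.d n (n + 1) ≫ πT K a hstr (n + 1))
    (gT_d_πT K a hstr n)

@[reassoc]
lemma πT_dL (n : ℤ) : πT K a hstr n ≫ dL K a hstr n = K.d n (n + 1) ≫ πT K a hstr (n + 1) :=
  cokerFilπ_desc _ _ _ _

lemma dL_comp (n : ℤ) : dL K a hstr n ≫ dL K a hstr (n + 1) = 0 := by
  rw [← cancel_epi (πT K a hstr n), πT_dL_assoc, πT_dL, K.d_comp_d_assoc, zero_comp, comp_zero]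

/-- The truncation `τ_{≥ a} K`. -/
noncomputable def truncGEFil : CochainComplex (FilF A) ℤ :=
  CochainComplex.of (LX K a hstr) (dL K a hstr) (dL_comp K a hstr)

/-- The canonical map `K ⟶ τ_{≥ a} K`. -/
noncomputable def truncGEFilπ : K ⟶ truncGEFil K a hstr where
  f n := πT K a hstr n
  comm' i j hij := by
    obtain rfl : i + 1 = j := hij
    have : (truncGEFil K a hstr).d i (i + 1) = dL K a hstr i := CochainComplex.of_d _ _ _
    rw [this]
    exact πT_dL K a hstr i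

lemma isZero_LX (n : ℤ) (hn : n < a) : IsZero (LX K a hstr n) := by
  have h := gT₂_πT K a hstr n
  rw [gT₂, if_pos hn, Category.id_comp] at h
  exact IsZero.of_epi_eq_zero _ h

instance : (truncGEFil K a hstr).IsStrictlyGE a := by
  rw [CochainComplex.isStrictlyGE_iff]
  intro i hi
  exact isZero_LX K a hstr i hi

section gr

variable (p : ℤ)

instance epi_gr_πT (n : ℤ) : Epi ((gr A p).map (πT K a hstr n).hom) :=
  epi_gr_cokerFilπ (gT K a n) (gT_strict K a hstr n) p

/-- Description of the kernel of `gr (πT n)`. -/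
lemma ker_gr_πT (n : ℤ) ⦃W : A⦄ (m : W ⟶ (gr A p).obj (K.X n).obj)
    (hm : m ≫ (gr A p).map (πT K a hstr n).hom = 0) :
    ∃ (W' : A) (π : W' ⟶ W) (_ : Epi π) (x : W' ⟶ (gr A p).obj (K.X (n - 1)).obj)
      (y : W' ⟶ (gr A p).obj (K.X n).obj),
      π ≫ m = x ≫ (gr A p).map (gT₁ K a n).hom + y ≫ (gr A p).map (gT₂ K a n).hom := by
  obtain ⟨W', π, hπ, w, hw'⟩ : ∃ (W' : A) (π : W' ⟶ W) (_ : Epi π)
      (w : W' ⟶ (gr A p).obj (K.X (n - 1) ⊞ K.X n).obj),
      π ≫ m = w ≫ (gr A p).map (gT K a n).hom :=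
    (gr_exact_cokerFil (gT K a n) (gT_strict K a hstr n) p).exact_up_to_refinements m hm
  refine ⟨W', π, hπ, w ≫ (gr A p).map (biprod.fst : K.X (n - 1) ⊞ K.X n ⟶ _).hom,
    w ≫ (gr A p).map (biprod.snd : K.X (n - 1) ⊞ K.X n ⟶ _).hom, ?_⟩
  have e : (gT K a n).hom = (biprod.fst : K.X (n - 1) ⊞ K.X n ⟶ _).hom ≫ (gT₁ K a n).hom +
      (biprod.snd : K.X (n - 1) ⊞ K.X n ⟶ _).hom ≫ (gT₂ K a n).hom := by
    have : gT K a n = biprod.fst ≫ gT₁ K a n + biprod.snd ≫ gT₂ K a n := by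
      rw [gT]
      apply biprod.hom_ext' <;> simp
    rw [this]
    rfl
  rw [hw', e, Functor.map_add, Functor.map_comp, Functor.map_comp, Preadditive.comp_add,
    Category.assoc, Category.assoc]

/-- For `n ≥ a`, the kernel of `gr (πT n)` is contained in the image of `gr d`. -/
lemma ker_gr_πT_of_ge (n : ℤ) (hn : a ≤ n) ⦃W : A⦄ (m : W ⟶ (gr A p).obj (K.X n).obj)
    (hm : m ≫ (gr A p).map (πT K a hstr n).hom = 0) :
    ∃ (W' : A) (π : W' ⟶ W) (_ : Epi π) (x : W' ⟶ (gr A p).obj (K.X (n - 1)).obj),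
      π ≫ m = x ≫ (gr A p).map (K.d (n - 1) n).hom := by
  obtain ⟨W', π, hπ, x, y, hxy⟩ := ker_gr_πT K a hstr p n m hm
  have h2 : gT₂ K a n = 0 := if_neg (by omega)
  rw [h2] at hxy
  have hz : (gr A p).map (0 : K.X n ⟶ K.X n).hom = 0 := (gr A p).map_zero _ _
  rw [hz, comp_zero, add_zero] at hxy
  by_cases h : n ≤ a
  · have h1 : gT₁ K a n = K.d (n - 1) n := if_pos h
    rw [h1] at hxy
    exact ⟨W', π, hπ, x, hxy⟩
  · have h1 : gT₁ K a n = 0 := if_neg h
    have hz' : (gr A p).map (0 : K.X (n - 1) ⟶ K.X n).hom = 0 := (gr A p).map_zero _ _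
    rw [h1, hz', comp_zero] at hxy
    exact ⟨W', π, hπ, 0, by rw [hxy, zero_comp]⟩

/-- For `n > a`, `gr (πT n)` is a monomorphism. -/
lemma ker_gr_πT_of_gt (n : ℤ) (hn : a < n) ⦃W : A⦄ (m : W ⟶ (gr A p).obj (K.X n).obj)
    (hm : m ≫ (gr A p).map (πT K a hstr n).hom = 0) : m = 0 := by
  obtain ⟨W', π, hπ, x, y, hxy⟩ := ker_gr_πT K a hstr p n m hm
  have h2 : gT₂ K a n = 0 := if_neg (by omega)
  have h1 : gT₁ K a n = 0 := if_neg (by omega)
  have hz : (gr A p).map (0 : K.X n ⟶ K.X n).hom = 0 := (gr A p).map_zero _ _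
  have hz' : (gr A p).map (0 : K.X (n - 1) ⟶ K.X n).hom = 0 := (gr A p).map_zero _ _
  rw [h1, h2, hz, hz', comp_zero, comp_zero, add_zero] at hxy
  rwa [← cancel_epi π, comp_zero]

end gr

section gr'

variable (p : ℤ)

/-- The differentials of the truncation, with domain and codomain expressed with `LX`. -/
noncomputable def dLL (i j : ℤ) : LX K a hstr i ⟶ LX K a hstr j := (truncGEFil K a hstr).d i j

lemma πT_dLL (i j : ℤ) : πT K a hstr i ≫ dLL K a hstr i j = K.d i j ≫ πT K a hstr j :=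
  (truncGEFilπ K a hstr).comm i j

lemma gr_comm (i j : ℤ) :
    (gr A p).map (πT K a hstr i).hom ≫ (gr A p).map (dLL K a hstr i j).hom =
      (gr A p).map (K.d i j).hom ≫ (gr A p).map (πT K a hstr j).hom := by
  rw [← Functor.map_comp, ← Functor.map_comp]
  congr 1
  exact congrArg (fun t => t.hom) (πT_dLL K a hstr i j)

lemma trunc_mono_cond
    (hK' : ∀ n, n < a → ∀ ⦃W : A⦄ (x₂ : W ⟶ (gr A p).obj (K.X n).obj),
      x₂ ≫ (gr A p).map (K.d n (n + 1)).hom = 0 →
      ∃ (W' : A) (π : W' ⟶ W) (_ : Epi π) (x₁ : W' ⟶ (gr A p).obj (K.X (n - 1)).obj),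
        π ≫ x₂ = x₁ ≫ (gr A p).map (K.d (n - 1) n).hom)
    (n : ℤ) ⦃W : A⦄ (x₂ : W ⟶ (gr A p).obj (K.X n).obj)
    (hx₂ : x₂ ≫ (gr A p).map (K.d n (n + 1)).hom = 0)
    (y₁ : W ⟶ (gr A p).obj (LX K a hstr (n - 1)).obj)
    (hy₁ : x₂ ≫ (gr A p).map (πT K a hstr n).hom =
      y₁ ≫ (gr A p).map (dLL K a hstr (n - 1) n).hom) :
    ∃ (W' : A) (π : W' ⟶ W) (_ : Epi π) (x₁ : W' ⟶ (gr A p).obj (K.X (n - 1)).obj),
      π ≫ x₂ = x₁ ≫ (gr A p).map (K.d (n - 1) n).hom := by
  by_cases hn : n < a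
  · exact hK' n hn x₂ hx₂
  · have := epi_gr_πT K a hstr p (n - 1)
    obtain ⟨W₁, π₁, _, m', hm'⟩ := surjective_up_to_refinements_of_epi
      ((gr A p).map (πT K a hstr (n - 1)).hom) y₁
    have h0 : (π₁ ≫ x₂ - m' ≫ (gr A p).map (K.d (n - 1) n).hom) ≫
        (gr A p).map (πT K a hstr n).hom = 0 := by
      rw [Preadditive.sub_comp, sub_eq_zero, Category.assoc, Category.assoc, hy₁,
        ← gr_comm, reassoc_of% hm']
    obtain ⟨W₂, π₂, _, x, hx⟩ := ker_gr_πT_of_ge K a hstr p n (by omega) _ h0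
    refine ⟨W₂, π₂ ≫ π₁, inferInstance, π₂ ≫ m' + x, ?_⟩
    rw [Preadditive.comp_sub, sub_eq_iff_eq_add] at hx
    rw [Category.assoc, hx, Preadditive.add_comp, Category.assoc, add_comm]

lemma trunc_epi_cond (n : ℤ) ⦃W : A⦄
    (y₂ : W ⟶ (gr A p).obj (LX K a hstr n).obj)
    (hy₂ : y₂ ≫ (gr A p).map (dLL K a hstr n (n + 1)).hom = 0) :
    ∃ (W' : A) (π : W' ⟶ W) (_ : Epi π) (x₂ : W' ⟶ (gr A p).obj (K.X n).obj)
      (_ : x₂ ≫ (gr A p).map (K.d n (n + 1)).hom = 0)
      (y₁ : W' ⟶ (gr A p).obj (LX K a hstr (n - 1)).obj),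
      π ≫ y₂ = x₂ ≫ (gr A p).map (πT K a hstr n).hom +
        y₁ ≫ (gr A p).map (dLL K a hstr (n - 1) n).hom := by
  by_cases hn : n < a
  · have hz : IsZero ((gr A p).obj (LX K a hstr n).obj) :=
      (grF A p).map_isZero (isZero_LX K a hstr n hn)
    exact ⟨W, 𝟙 _, inferInstance, 0, zero_comp, 0, hz.eq_of_tgt _ _⟩
  · have := epi_gr_πT K a hstr p n
    obtain ⟨W₁, π₁, _, m, hm⟩ := surjective_up_to_refinements_of_epi
      ((gr A p).map (πT K a hstr n).hom) y₂
    have h0 : (m ≫ (gr A p).map (K.d n (n + 1)).hom) ≫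
        (gr A p).map (πT K a hstr (n + 1)).hom = 0 := by
      rw [Category.assoc, ← gr_comm, ← reassoc_of% hm, hy₂, comp_zero]
    have h1 := ker_gr_πT_of_gt K a hstr p (n + 1) (by omega) _ h0
    exact ⟨W₁, π₁, inferInstance, m, h1, 0, by rw [zero_comp, add_zero]; exact hm⟩

end gr'

/-- The canonical map `K ⟶ τ_{≥ a} K` is a filtered quasi-isomorphism if the graded pieces of `K`
have no cohomology in degrees `< a`. -/
lemma isFilteredQuasiIso_truncGEFilπ
    (hK : ∀ (p n : ℤ), n < a → ((grCx p).obj K).ExactAt n) :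
    IsFilteredQuasiIso (truncGEFilπ K a hstr) := by
  intro p
  refine ⟨fun n => ?_⟩
  rw [quasiIsoAt_iff_isIso_homologyMap]
  have hmono : Mono (HomologicalComplex.homologyMap ((grCx p).map (truncGEFilπ K a hstr)) n) := by
    rw [HomologicalComplex.mono_homologyMap_iff_up_to_refinements _ (n - 1) n (n + 1)
      (by simp) (by simp)]
    intro W x₂ hx₂ y₁ hy₁
    exact trunc_mono_cond K a hstr p (fun n hn =>
      (HomologicalComplex.exactAt_iff_exact_up_to_refinements _ (n - 1) n (n + 1)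
        (by simp) (by simp)).1 (hK p n hn)) n x₂ hx₂ y₁ hy₁
  have hepi : Epi (HomologicalComplex.homologyMap ((grCx p).map (truncGEFilπ K a hstr)) n) := by
    rw [HomologicalComplex.epi_homologyMap_iff_up_to_refinements _ (n - 1) n (n + 1)
      (by simp) (by simp)]
    intro W y₂ hy₂
    exact trunc_epi_cond K a hstr p n y₂ hy₂
  exact isIso_of_mono_of_epi _

end truncGE

/-- `S1087`: truncation below of a complex whose graded pieces have no cohomology in degrees
`< a`. -/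
theorem exists_truncGE_filteredQuasiIso (K : CochainComplex (FilF A) ℤ) (a : ℤ)
    (hK : ∀ (p n : ℤ), n < a → IsZero (((grCx p).obj K).homology n)) :
    ∃ (L : CochainComplex (FilF A) ℤ) (φ : K ⟶ L), L.IsStrictlyGE a ∧ IsFilteredQuasiIso φ := by
  have hex : ∀ p n, n < a → ((grCx p).obj K).ExactAt n := fun p n hn =>
    (HomologicalComplex.exactAt_iff_isZero_homology _ _).2 (hK p n hn)
  have hS : ∀ p, ((K.sc' (a - 1 - 1) (a - 1) a).map (grF A p)).Exact := fun p => by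
    have h := hex p (a - 1) (by omega)
    rw [HomologicalComplex.exactAt_iff' _ (a - 1 - 1) (a - 1) a (by simp) (by simp)] at h
    exact h
  have hstr : IsStrict (K.d (a - 1) a) := (strict_and_exact_of_gr_exact _ hS).2.2
  exact ⟨truncGEFil K a hstr, truncGEFilπ K a hstr, inferInstance,
    isFilteredQuasiIso_truncGEFilπ K a hstr hex⟩

end Groth.Agent.Helper2.FilDLib
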