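import Groth.Agent.Lib.Helper2.FilDCone
import Groth.Agent.Lib.Helper2.FilDBiprod
import Groth.Agent.Lib.Helper2.FilDTrunc
import Groth.Agent.Lib.Helper2.FilDInj
import Mathlib.Algebra.Homology.Embedding.CochainComplex

/-!
# Horseshoe lemma for filtered injective resolutions
-/

universe v u w

open CategoryTheory CategoryTheory.Limits Opposite ZeroObject

namespace Groth.Agent.Helper2.FilDLib

open FilD

set_option linter.unusedSectionVars false
set_option linter.style.haveILetI false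

section twist

variable {C : Type u} [Category.{v} C] [Preadditive C] [HasBinaryBiproducts C]
variable (I J : CochainComplex C ℤ) (τ : J ⟶ I⟦(1 : ℤ)⟧)

/-- The components of a chain map `J ⟶ I⟦1⟧` with clean target. -/
def τc (n : ℤ) : J.X n ⟶ I.X (n + 1) := τ.f n

lemma τc_comm (n : ℤ) :
    τc I J τ n ≫ I.d (n + 1) (n + 1 + 1) + J.d n (n + 1) ≫ τc I J τ (n + 1) = 0 := by
  have h := τ.comm n (n + 1)
  rw [CochainComplex.shiftFunctor_obj_d', Int.negOnePow_one, Units.neg_smul, one_smul] at h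
  have h' : τc I J τ n ≫ (-I.d (n + 1) (n + 1 + 1)) = J.d n (n + 1) ≫ τc I J τ (n + 1) := h
  rw [Preadditive.comp_neg] at h'
  rw [← h']
  exact add_neg_cancel _

/-- Terms of the twisted direct sum. -/
noncomputable abbrev twistX (n : ℤ) : C := I.X n ⊞ J.X n

/-- Differential of the twisted direct sum. -/
noncomputable def twistD (n : ℤ) : twistX I J n ⟶ twistX I J (n + 1) :=
  biprod.desc (I.d n (n + 1) ≫ biprod.inl) (biprod.lift (-τc I J τ n) (J.d n (n + 1)))

lemma inl_twistD (n : ℤ) :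
    (biprod.inl : I.X n ⟶ I.X n ⊞ J.X n) ≫ twistD I J τ n = I.d n (n + 1) ≫ biprod.inl :=
  biprod.inl_desc _ _

lemma inr_twistD (n : ℤ) :
    (biprod.inr : J.X n ⟶ I.X n ⊞ J.X n) ≫ twistD I J τ n =
      biprod.lift (-τc I J τ n) (J.d n (n + 1)) :=
  biprod.inr_desc _ _

lemma twistD_snd (n : ℤ) :
    twistD I J τ n ≫ (biprod.snd : I.X (n + 1) ⊞ J.X (n + 1) ⟶ J.X (n + 1)) =
      biprod.snd ≫ J.d n (n + 1) := by
  apply biprod.hom_ext'
  · rw [← Category.assoc, inl_twistD, Category.assoc, biprod.inl_snd, comp_zero,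
      biprod.inl_snd_assoc, zero_comp]
  · rw [← Category.assoc, inr_twistD, biprod.lift_snd, biprod.inr_snd_assoc]

lemma twistD_comp (n : ℤ) : twistD I J τ n ≫ twistD I J τ (n + 1) = 0 := by
  have h := τc_comm I J τ n
  apply biprod.hom_ext'
  · rw [← Category.assoc, inl_twistD, Category.assoc, inl_twistD, HomologicalComplex.d_comp_d_assoc,
      zero_comp, comp_zero]
  · rw [← Category.assoc, inr_twistD, comp_zero]
    apply biprod.hom_ext
    · rw [zero_comp, twistD, biprod.lift_desc, Preadditive.add_comp, Category.assoc,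
        Category.assoc, Category.assoc, biprod.inl_fst, Category.comp_id, biprod.lift_fst,
        Preadditive.neg_comp, Preadditive.comp_neg, ← neg_add, h, neg_zero]
    · rw [zero_comp, Category.assoc, twistD_snd, biprod.lift_snd_assoc,
        HomologicalComplex.d_comp_d]

/-- The twisted direct sum of `I` and `J` along `τ`. -/
noncomputable def twist : CochainComplex C ℤ :=
  CochainComplex.of (twistX I J) (twistD I J τ) (twistD_comp I J τ)

lemma twist_d (n : ℤ) : (twist I J τ).d n (n + 1) = twistD I J τ n := CochainComplex.of_d _ _ _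

/-- The inclusion of `I`. -/
noncomputable def twistInl : I ⟶ twist I J τ where
  f n := (biprod.inl : I.X n ⟶ I.X n ⊞ J.X n)
  comm' i j hij := by
    obtain rfl : i + 1 = j := hij
    rw [twist_d]
    exact inl_twistD I J τ i

/-- The projection to `J`. -/
noncomputable def twistSnd : twist I J τ ⟶ J where
  f n := (biprod.snd : I.X n ⊞ J.X n ⟶ J.X n)
  comm' i j hij := by
    obtain rfl : i + 1 = j := hij
    rw [twist_d]
    exact (twistD_snd I J τ i).symm

end twist

variable {A : Type u} [Category.{v} A] [Abelian A]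

section levelwise

variable (S : ShortComplex (FilF A))
  (hS : ∀ p : ℤ, (S.map ((IsFinFil A).ι ⋙ (evaluation ℤᵒᵖ A).obj (op p))).ShortExact)

include hS in
lemma mono_app_f (p : ℤ) : Mono (S.f.hom.app (op p)) := (hS p).mono_f

include hS in
lemma epi_app_g (p : ℤ) : Epi (S.g.hom.app (op p)) := (hS p).epi_g

include hS in
lemma exact_app (p : ℤ) : (ShortComplex.mk (S.f.hom.app (op p)) (S.g.hom.app (op p))
    (by rw [← comp_hom_app, S.zero, zero_hom_app])).Exact := (hS p).exact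

include hS in
lemma isStrict_f_of_levelwise : IsStrict S.f := by
  rw [isStrict_iff]
  intro p q h W x y hxy
  have h0 : y ≫ S.g.hom.app (op q) = 0 := by
    have : Mono (S.X₃.obj.map (homOfLE h).op) := S.X₃.property.1 _
    rw [← cancel_mono (tr S.X₃.obj h), zero_comp, Category.assoc]
    have hn : S.g.hom.app (op q) ≫ tr S.X₃.obj h = tr S.X₂.obj h ≫ S.g.hom.app (op p) :=
      (S.g.hom.naturality _).symm
    rw [hn, ← reassoc_of% hxy, ← comp_hom_app, S.zero, zero_hom_app, comp_zero]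
  obtain ⟨W', π, hπ, x', hx'⟩ := (exact_app S hS q).exact_up_to_refinements y h0
  exact ⟨W', π, hπ, x', hx'⟩

include hS in
lemma exists_desc_of_levelwise {T : FilF A} (k : S.X₂ ⟶ T) (hk : S.f ≫ k = 0) :
    ∃ θ : S.X₃ ⟶ T, S.g ≫ θ = k := by
  have hk' : ∀ P : ℤᵒᵖ, S.f.hom.app P ≫ k.hom.app P = 0 := fun P => by
    rw [← comp_hom_app, hk, zero_hom_app]
  have hepi : ∀ P : ℤᵒᵖ, Epi (S.g.hom.app P) := fun P => epi_app_g S hS P.unop
  let θapp : ∀ P : ℤᵒᵖ, S.X₃.obj.obj P ⟶ T.obj.obj P := fun P =>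
    haveI := hepi P
    (exact_app S hS P.unop).desc (k.hom.app P) (hk' P)
  have hθapp : ∀ P : ℤᵒᵖ, S.g.hom.app P ≫ θapp P = k.hom.app P := fun P =>
    haveI := hepi P
    (exact_app S hS P.unop).g_desc (k.hom.app P) (hk' P)
  let θ : S.X₃.obj ⟶ T.obj :=
    { app := θapp
      naturality := fun P Q φ => by
        haveI := hepi P
        rw [← cancel_epi (S.g.hom.app P), ← Category.assoc, ← S.g.hom.naturality,
          Category.assoc, hθapp, reassoc_of% (hθapp P), k.hom.naturality] }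
  refine ⟨ObjectProperty.homMk θ, ?_⟩
  apply ObjectProperty.hom_ext
  ext P
  exact hθapp P

include hS in
lemma epi_g_of_levelwise : Epi S.g := by
  have : Epi ((IsFinFil A).ι.map S.g) := by
    rw [NatTrans.epi_iff_epi_app]
    intro P
    exact epi_app_g S hS P.unop
  exact (IsFinFil A).ι.epi_of_epi_map this

end levelwise

section main

variable [EnoughInjectives A]

open HomologicalComplex in
theorem horseshoe (S : ShortComplex (FilF A))
    (hS : ∀ p : ℤ, (S.map ((IsFinFil A).ι ⋙ (evaluation ℤᵒᵖ A).obj (op p))).ShortExact)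
    (I : CochainComplex (FilF A) ℤ) [I.IsStrictlyGE 0] (hI : ∀ n, IsFilteredInjective (I.X n))
    (a : (CochainComplex.singleFunctor (FilF A) 0).obj S.X₁ ⟶ I)
    (J : CochainComplex (FilF A) ℤ)
    (c : (CochainComplex.singleFunctor (FilF A) 0).obj S.X₃ ⟶ J) (hc : IsFilteredQuasiIso c) :
    ∃ (M : CochainComplex (FilF A) ℤ) (α : I ⟶ M) (β : M ⟶ J)
      (b : (CochainComplex.singleFunctor (FilF A) 0).obj S.X₂ ⟶ M),
      (∀ n, ∃ (r : M.X n ⟶ I.X n) (s : J.X n ⟶ M.X n), α.f n ≫ r = 𝟙 _ ∧ s ≫ β.f n = 𝟙 _ ∧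
        α.f n ≫ β.f n = 0 ∧ r ≫ α.f n + β.f n ≫ s = 𝟙 _) ∧
      a ≫ α = (CochainComplex.singleFunctor (FilF A) 0).map S.f ≫ b ∧
      b ≫ β = (CochainComplex.singleFunctor (FilF A) 0).map S.g ≫ c := by
  -- Step 1: extend `a⁰` to `Y`
  let iX : ((CochainComplex.singleFunctor (FilF A) 0).obj S.X₁).X 0 ≅ S.X₁ :=
    singleObjXSelf (ComplexShape.up ℤ) (0 : ℤ) S.X₁
  let iY : ((CochainComplex.singleFunctor (FilF A) 0).obj S.X₂).X 0 ≅ S.X₂ :=
    singleObjXSelf (ComplexShape.up ℤ) (0 : ℤ) S.X₂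
  let iZ : ((CochainComplex.singleFunctor (FilF A) 0).obj S.X₃).X 0 ≅ S.X₃ :=
    singleObjXSelf (ComplexShape.up ℤ) (0 : ℤ) S.X₃
  let a0 : S.X₁ ⟶ I.X 0 := iX.inv ≫ a.f 0
  let c0 : S.X₃ ⟶ J.X 0 := iZ.inv ≫ c.f 0
  obtain ⟨e₀, he₀⟩ := exists_extension S.f (isStrict_f_of_levelwise S hS) (hI 0) a0
    (fun p W z hz => by
      have := mono_app_f S hS p
      have : z = 0 := by rw [← cancel_mono (S.f.hom.app (op p)), hz, zero_comp]
      rw [this, zero_comp])
  -- Step 2: the obstruction `θ`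
  have ha0 : a0 ≫ I.d 0 (0 + 1) = 0 := by
    have h1 := a.comm 0 (0 + 1)
    rw [show ((CochainComplex.singleFunctor (FilF A) 0).obj S.X₁).d 0 (0 + 1) = 0 from
      single_obj_d _ _ _ _ _, zero_comp] at h1
    rw [Category.assoc, h1, comp_zero]
  have hk : S.f ≫ (e₀ ≫ I.d 0 (0 + 1)) = 0 := by
    rw [← Category.assoc, he₀, ha0]
  obtain ⟨θ, hθ⟩ := exists_desc_of_levelwise S hS (e₀ ≫ I.d 0 (0 + 1)) hk
  have hepi := epi_g_of_levelwise S hS
  have hθd : θ ≫ I.d (0 + 1) (0 + 1 + 1) = 0 := by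
    rw [← cancel_epi S.g, reassoc_of% hθ, d_comp_d, comp_zero, comp_zero]
  -- Step 3: the chain map `θ' : Z[0] ⟶ I⟦1⟧`
  let θ' : (CochainComplex.singleFunctor (FilF A) 0).obj S.X₃ ⟶ I⟦(1 : ℤ)⟧ :=
    mkHomFromSingle (K := I⟦(1 : ℤ)⟧) (j := (0 : ℤ)) θ (by
      intro k hk
      obtain rfl : 0 + 1 = k := hk
      rw [CochainComplex.shiftFunctor_obj_d', Int.negOnePow_one, Units.neg_smul, one_smul]
      have : θ ≫ (-I.d (0 + 1) (0 + 1 + 1)) = 0 := by rw [Preadditive.comp_neg, hθd, neg_zero]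
      exact this)
  -- Step 4: lift to `τ : J ⟶ I⟦1⟧`
  haveI : (I⟦(1 : ℤ)⟧).IsStrictlyGE (-1) := I.isStrictlyGE_shift 0 1 (-1) (by omega)
  have hI' : ∀ n, IsFilteredInjective ((I⟦(1 : ℤ)⟧).X n) := fun n => hI (n + 1)
  obtain ⟨β', hβ'⟩ := (bijective_precomp_of_filteredQuasiIso (I⟦(1 : ℤ)⟧) (-1) hI' c hc).2
    ((HomotopyCategory.quotient _ _).map θ')
  obtain ⟨τ, rfl⟩ := (HomotopyCategory.quotient _ _).map_surjective β'
  have hom : Homotopy (c ≫ τ) θ' := HomotopyCategory.homotopyOfEq _ _ (by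
    rw [Functor.map_comp]; exact hβ')
  -- Step 5: the relation in degree `0`
  let h1₀ := hom.hom 0 (-1)
  let h1 : ((CochainComplex.singleFunctor (FilF A) 0).obj S.X₃).X 0 ⟶ I.X 0 := h1₀
  let hh : S.X₃ ⟶ I.X 0 := iZ.inv ≫ h1
  have hcomm := hom.comm 0
  rw [dNext_eq hom.hom (show (ComplexShape.up ℤ).Rel 0 1 by simp),
    prevD_eq hom.hom (show (ComplexShape.up ℤ).Rel (-1) 0 by simp),
    show ((CochainComplex.singleFunctor (FilF A) 0).obj S.X₃).d 0 1 = 0 from
      single_obj_d _ _ _ _ _, zero_comp, zero_add,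
    CochainComplex.shiftFunctor_obj_d', Int.negOnePow_one, Units.neg_smul, one_smul] at hcomm
  have hθ'f : θ'.f 0 = iZ.hom ≫ θ := mkHomFromSingle_f _ _
  have h2 : c.f 0 ≫ τc I J τ 0 = h1 ≫ (-I.d 0 (0 + 1)) + iZ.hom ≫ θ := by
    rw [← hθ'f]; exact hcomm
  have key : c0 ≫ τc I J τ 0 = -(hh ≫ I.d 0 (0 + 1)) + θ := by
    simp only [c0, hh, Category.assoc, h2, Preadditive.comp_add, Preadditive.comp_neg,
      Iso.inv_hom_id_assoc]
  -- Step 6: correct the extension
  let e : S.X₂ ⟶ I.X 0 := e₀ - S.g ≫ hh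
  have he : S.f ≫ e = a0 := by
    simp only [e, Preadditive.comp_sub, he₀, S.zero_assoc, zero_comp, sub_zero]
  have hed : e ≫ I.d 0 (0 + 1) = S.g ≫ c0 ≫ τc I J τ 0 := by
    simp only [e, Preadditive.sub_comp, Category.assoc, key, Preadditive.comp_add,
      Preadditive.comp_neg, hθ]
    abel
  have hc0 : c0 ≫ J.d 0 (0 + 1) = 0 := by
    have h1 := c.comm 0 (0 + 1)
    rw [show ((CochainComplex.singleFunctor (FilF A) 0).obj S.X₃).d 0 (0 + 1) = 0 from
      single_obj_d _ _ _ _ _, zero_comp] at h1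
    rw [Category.assoc, h1, comp_zero]
  -- Step 7: assemble
  have hb0 : biprod.lift e (S.g ≫ c0) ≫ twistD I J τ 0 = 0 := by
    apply biprod.hom_ext
    · rw [zero_comp, twistD, biprod.lift_desc, Preadditive.add_comp, Category.assoc,
        Category.assoc, Category.assoc, biprod.inl_fst, Category.comp_id, biprod.lift_fst,
        Preadditive.comp_neg, Category.assoc, hed, add_neg_cancel]
    · rw [zero_comp, Category.assoc, twistD_snd, biprod.lift_snd_assoc, Category.assoc, hc0,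
        comp_zero]
  let b : (CochainComplex.singleFunctor (FilF A) 0).obj S.X₂ ⟶ twist I J τ :=
    mkHomFromSingle (K := twist I J τ) (j := (0 : ℤ)) (biprod.lift e (S.g ≫ c0)) (by
      intro k hk
      obtain rfl : 0 + 1 = k := hk
      rw [twist_d]
      exact hb0)
  have hbf₀ : b.f 0 = iY.hom ≫ biprod.lift e (S.g ≫ c0) := mkHomFromSingle_f _ _
  have hbf : iY.hom ≫ biprod.lift e (S.g ≫ c0) = b.f 0 := hbf₀.symm
  refine ⟨twist I J τ, twistInl I J τ, twistSnd I J τ, b, ?_, ?_, ?_⟩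
  · intro n
    exact ⟨(biprod.fst : I.X n ⊞ J.X n ⟶ I.X n), (biprod.inr : J.X n ⟶ I.X n ⊞ J.X n),
      biprod.inl_fst, biprod.inr_snd, biprod.inl_snd, biprod.total⟩
  · apply from_single_hom_ext
    have h5 : ((CochainComplex.singleFunctor (FilF A) 0).map S.f).f 0 =
        iX.hom ≫ S.f ≫ iY.inv := single_map_f_self _ _ _
    have h3 : a.f 0 ≫ (biprod.inl : I.X 0 ⟶ I.X 0 ⊞ J.X 0) = (a ≫ twistInl I J τ).f 0 := rfl
    have hL : a.f 0 ≫ (biprod.inl : I.X 0 ⟶ I.X 0 ⊞ J.X 0) =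
        iX.hom ≫ S.f ≫ biprod.lift e (S.g ≫ c0) := by
      apply biprod.hom_ext
      · rw [Category.assoc, biprod.inl_fst, Category.comp_id, Category.assoc, Category.assoc,
          biprod.lift_fst, he, Iso.hom_inv_id_assoc]
      · rw [Category.assoc, biprod.inl_snd, comp_zero, Category.assoc, Category.assoc,
          biprod.lift_snd, S.zero_assoc, zero_comp, comp_zero]
    have hR : iX.hom ≫ S.f ≫ biprod.lift e (S.g ≫ c0) =
        ((CochainComplex.singleFunctor (FilF A) 0).map S.f).f 0 ≫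
          (iY.hom ≫ biprod.lift e (S.g ≫ c0)) := by
      rw [h5]
      simp only [Category.assoc, Iso.inv_hom_id_assoc]
    have hR' : ((CochainComplex.singleFunctor (FilF A) 0).map S.f).f 0 ≫
          (iY.hom ≫ biprod.lift e (S.g ≫ c0)) =
        ((CochainComplex.singleFunctor (FilF A) 0).map S.f ≫ b).f 0 := by
      rw [hbf]; rfl
    exact h3.symm.trans (hL.trans (hR.trans hR'))
  · apply from_single_hom_ext
    have h5 : ((CochainComplex.singleFunctor (FilF A) 0).map S.g).f 0 =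
        iY.hom ≫ S.g ≫ iZ.inv := single_map_f_self _ _ _
    have h3 : (iY.hom ≫ biprod.lift e (S.g ≫ c0)) ≫ (biprod.snd : I.X 0 ⊞ J.X 0 ⟶ J.X 0) =
        (b ≫ twistSnd I J τ).f 0 := by
      rw [hbf]; rfl
    have hL : (iY.hom ≫ biprod.lift e (S.g ≫ c0)) ≫ (biprod.snd : I.X 0 ⊞ J.X 0 ⟶ J.X 0) =
        ((CochainComplex.singleFunctor (FilF A) 0).map S.g).f 0 ≫ c.f 0 := by
      rw [h5]
      simp only [Category.assoc, biprod.lift_snd, c0]
    have hR : ((CochainComplex.singleFunctor (FilF A) 0).map S.g).f 0 ≫ c.f 0 =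
        ((CochainComplex.singleFunctor (FilF A) 0).map S.g ≫ c).f 0 := rfl
    exact h3.symm.trans (hL.trans hR)

end main

end Groth.Agent.Helper2.FilDLib
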