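import Groth.Agent.Lib.Helper2.FilDInj
import Mathlib.Algebra.Homology.Homotopy
import Mathlib.Algebra.Homology.Embedding.CochainComplex
import Mathlib.Algebra.Homology.ShortComplex.HomologicalComplex

/-!
# Filtered acyclic complexes map trivially (up to homotopy) to bounded below filtered injectives
-/

universe v u w

open CategoryTheory CategoryTheory.Limits Opposite

namespace Groth.Agent.Helper2.FilDLib

open FilD

set_option linter.unusedSectionVars false
set_option linter.style.haveILetI false

variable {A : Type u} [Category.{v} A] [Abelian A]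

section ascFamily

variable {T : ℤ → Type w} (Q : ∀ p, T p → Prop) (R : ∀ p q, T p → T q → Prop)
    (a : ℤ) (base : ∀ p, p ≤ a → ∃ t, Q p t)
    (step : ∀ p q, q = p + 1 → ∀ t, Q p t → ∃ t', Q q t' ∧ R p q t t')

/-- Auxiliary recursion for `exists_asc_family`. -/
noncomputable def ascAux : (n : ℕ) → (p : ℤ) → (p - a).toNat = n → {t : T p // Q p t}
  | 0, p, h => ⟨(base p (by omega)).choose, (base p (by omega)).choose_spec⟩
  | n + 1, p, h =>
    ⟨(step (p - 1) p (by omega) (ascAux n (p - 1) (by omega)).1
        (ascAux n (p - 1) (by omega)).2).choose,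
      (step (p - 1) p (by omega) (ascAux n (p - 1) (by omega)).1
        (ascAux n (p - 1) (by omega)).2).choose_spec.1⟩

lemma ascAux_succ (n : ℕ) (p : ℤ) (h : (p - a).toNat = n + 1) (h' : (p - 1 - a).toNat = n) :
    R (p - 1) p (ascAux Q R a base step n (p - 1) h').1 (ascAux Q R a base step (n + 1) p h).1 :=
  (step (p - 1) p (by omega) (ascAux Q R a base step n (p - 1) h').1
    (ascAux Q R a base step n (p - 1) h').2).choose_spec.2

lemma ascAux_congr (p : ℤ) (n : ℕ) (h : (p - a).toNat = n) :
    ascAux Q R a base step (p - a).toNat p rfl = ascAux Q R a base step n p h := by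
  subst h; rfl

include base step in
/-- Dependent choice upward on `ℤ`. -/
lemma exists_asc_family
    (base_compat : ∀ p q, q ≤ a → q = p + 1 → ∀ t t', Q p t → Q q t' → R p q t t') :
    ∃ g : ∀ p, T p, (∀ p, Q p (g p)) ∧ ∀ p q, q = p + 1 → R p q (g p) (g q) := by
  refine ⟨fun p => (ascAux Q R a base step (p - a).toNat p rfl).1,
    fun p => (ascAux Q R a base step (p - a).toNat p rfl).2, ?_⟩
  intro p q hq
  obtain rfl : p = q - 1 := by omega
  by_cases hp : q ≤ a
  · exact base_compat (q - 1) q hp hq _ _ (ascAux Q R a base step _ (q - 1) rfl).2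
      (ascAux Q R a base step _ q rfl).2
  · obtain ⟨m, hm⟩ : ∃ m : ℕ, (q - a).toNat = m + 1 := ⟨(q - a).toNat - 1, by omega⟩
    have hm' : (q - 1 - a).toNat = m := by omega
    change R (q - 1) q (ascAux Q R a base step (q - 1 - a).toNat (q - 1) rfl).1
      (ascAux Q R a base step (q - a).toNat q rfl).1
    rw [ascAux_congr Q R a base step q _ hm, ascAux_congr Q R a base step (q - 1) _ hm']
    exact ascAux_succ Q R a base step m q hm hm'

end ascFamily


section acyclic

variable (K I : CochainComplex (FilF A) ℤ)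

lemma sc'_gr_exact (hK : IsFilteredAcyclic K) (i j k : ℤ) (hi : i + 1 = j) (hk : j + 1 = k)
    (p : ℤ) : ((K.sc' i j k).map (grF A p)).Exact := by
  have h := hK p j
  rw [HomologicalComplex.exactAt_iff' _ i j k (by rw [CochainComplex.prev]; omega)
    (by rw [CochainComplex.next]; omega)] at h
  exact h

/-- In a filtered acyclic complex all differentials are strict. -/
lemma isStrict_d_of_acyclic (hK : IsFilteredAcyclic K) (j k : ℤ) (hk : j + 1 = k) :
    IsStrict (K.d j k) :=
  (strict_and_exact_of_gr_exact (K.sc' (j - 1) j k)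
    (sc'_gr_exact K hK (j - 1) j k (by omega) hk)).2.2

/-- In a filtered acyclic complex, every filtration level is exact (refinement form). -/
lemma level_exact_of_acyclic (hK : IsFilteredAcyclic K) (i j k : ℤ) (hi : i + 1 = j)
    (hk : j + 1 = k) (p : ℤ) ⦃W : A⦄ (z : W ⟶ (K.X j).obj.obj (op p))
    (hz : z ≫ (K.d j k).hom.app (op p) = 0) :
    ∃ (W' : A) (π : W' ⟶ W) (_ : Epi π) (z' : W' ⟶ (K.X i).obj.obj (op p)),
      π ≫ z = z' ≫ (K.d i j).hom.app (op p) :=
  ((strict_and_exact_of_gr_exact (K.sc' i j k)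
    (sc'_gr_exact K hK i j k hi hk)).1 p).exact_up_to_refinements z hz

/-- `S1083`: any morphism from a filtered acyclic complex to a bounded below complex of filtered
injective objects is null-homotopic. -/
theorem homotopy_zero_of_acyclic (hK : IsFilteredAcyclic K) (a : ℤ) [I.IsStrictlyGE a]
    (hI : ∀ n, IsFilteredInjective (I.X n)) (φ : K ⟶ I) : Nonempty (Homotopy φ 0) := by
  obtain ⟨g, hgQ, hgR⟩ := exists_asc_family
    (T := fun n => ∀ m : ℤ, m = n + 1 → (K.X m ⟶ I.X n))
    (fun n t => ∀ (m : ℤ) (hm : m = n + 1), (φ.f n - K.d n m ≫ t m hm) ≫ I.d n m = 0)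
    (fun n n' t t' => ∀ (h : n' = n + 1) (m' : ℤ) (h' : m' = n' + 1),
      φ.f n' = K.d n' m' ≫ t' m' h' + t n' h ≫ I.d n n') (a - 1)
    (fun n hn => ⟨fun _ _ => 0, fun m hm => by
      rw [(I.isZero_of_isStrictlyGE a n (by omega)).eq_of_tgt (φ.f n - _) 0, zero_comp]⟩)
    (by
      intro n n' hn' t ht
      subst hn'
      have hψ : K.d n (n + 1) ≫ (φ.f (n + 1) - t (n + 1) rfl ≫ I.d n (n + 1)) = 0 := by
        have := ht (n + 1) rfl
        rw [Preadditive.sub_comp, Category.assoc] at this
        rw [Preadditive.comp_sub, ← φ.comm, this]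
      obtain ⟨e, he⟩ := exists_extension (K.d (n + 1) (n + 1 + 1))
        (isStrict_d_of_acyclic K hK _ _ rfl) (hI (n + 1))
        (φ.f (n + 1) - t (n + 1) rfl ≫ I.d n (n + 1)) (by
          intro p W z hz
          obtain ⟨W', π, _, z', hz'⟩ := level_exact_of_acyclic K hK n (n + 1) (n + 1 + 1) rfl rfl
            p z hz
          rw [← cancel_epi π, reassoc_of% hz', comp_zero]
          have := congrArg (fun t => t.hom.app (op p)) hψ
          dsimp at this
          rw [this, comp_zero])
      refine ⟨fun m' h' => h' ▸ e, ?_, ?_⟩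
      · intro m hm
        subst hm
        change (φ.f (n + 1) - K.d (n + 1) (n + 1 + 1) ≫ e) ≫ I.d (n + 1) (n + 1 + 1) = 0
        rw [he, sub_sub_cancel, Category.assoc, I.d_comp_d, comp_zero]
      · intro h m' h'
        subst h'
        change φ.f (n + 1) = K.d (n + 1) (n + 1 + 1) ≫ e + t (n + 1) rfl ≫ I.d n (n + 1)
        rw [he, sub_add_cancel])
    (fun n n' hn' _ t t' _ _ h m' h' =>
      (I.isZero_of_isStrictlyGE a n' (by omega)).eq_of_tgt _ _)
  classical
  refine ⟨{
    hom := fun i j => if h : i = j + 1 then g j i h else 0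
    zero := fun i j hij => by
      rw [dif_neg]
      intro h
      exact hij h.symm
    comm := fun i => by
      rw [dNext_eq _ (show (ComplexShape.up ℤ).Rel i (i + 1) from rfl),
        prevD_eq _ (show (ComplexShape.up ℤ).Rel (i - 1) i by simp),
        dif_pos rfl, dif_pos (by omega : i = i - 1 + 1)]
      simpa using hgR (i - 1) i (by omega) (by omega) (i + 1) rfl }⟩

end acyclic

end Groth.Agent.Helper2.FilDLib
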