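import Groth.Agent.Lib.Helper2.FilDCoker
import Groth.Agent.Lib.Helper2.FilDEmbed
import Mathlib.Algebra.Homology.QuasiIso
import Mathlib.Algebra.Homology.Single
import Mathlib.Algebra.Homology.HomotopyCategory.SingleFunctors
import Mathlib.Algebra.Homology.Embedding.CochainComplex

/-!
# Filtered injective resolutions of finite filtered objects
-/

universe v u w

open CategoryTheory CategoryTheory.Limits Opposite ZeroObject

namespace Groth.Agent.Helper2.FilDLib

open FilD

set_option linter.unusedSectionVars false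
set_option linter.style.haveILetI false

variable {A : Type u} [Category.{v} A] [Abelian A] [EnoughInjectives A]

/-- A chosen filtered injective hull. -/
noncomputable def hull (Z : FilF A) : FilF A :=
  (exists_strict_mono_to_filteredInjective Z).choose

/-- The chosen strict monomorphism into the hull. -/
noncomputable def hullι (Z : FilF A) : Z ⟶ hull Z :=
  (exists_strict_mono_to_filteredInjective Z).choose_spec.choose

lemma hull_inj (Z : FilF A) : IsFilteredInjective (hull Z) :=
  (exists_strict_mono_to_filteredInjective Z).choose_spec.choose_spec.1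

instance (Z : FilF A) : Mono (hullι Z) :=
  (exists_strict_mono_to_filteredInjective Z).choose_spec.choose_spec.2.1

lemma hullι_strict (Z : FilF A) : IsStrict (hullι Z) :=
  (exists_strict_mono_to_filteredInjective Z).choose_spec.choose_spec.2.2

/-- The syzygy object. -/
noncomputable def syz (Z : FilF A) : FilF A := cokerFil (hullι Z) (hullι_strict Z)

/-- The projection onto the syzygy object. -/
noncomputable def syzπ (Z : FilF A) : hull Z ⟶ syz Z := cokerFilπ (hullι Z) (hullι_strict Z)

@[reassoc (attr := simp)]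
lemma hullι_syzπ (Z : FilF A) : hullι Z ≫ syzπ Z = 0 := comp_cokerFilπ _ _

/-- The sequence of syzygies. -/
noncomputable def Zseq (X : FilF A) : ℕ → FilF A
  | 0 => X
  | n + 1 => syz (Zseq X n)

/-- The terms of the resolution. -/
noncomputable def Iseq (X : FilF A) (n : ℕ) : FilF A := hull (Zseq X n)

/-- The basic differential `hull Z ⟶ hull (syz Z)`. -/
noncomputable def d₀ (Z : FilF A) : hull Z ⟶ hull (syz Z) := syzπ Z ≫ hullι (syz Z)

@[reassoc (attr := simp)]
lemma d₀_comp (Z : FilF A) : d₀ Z ≫ d₀ (syz Z) = 0 := by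
  simp [d₀]

/-- The differentials of the resolution. -/
noncomputable def dseq (X : FilF A) (n : ℕ) : Iseq X n ⟶ Iseq X (n + 1) := d₀ (Zseq X n)

lemma dseq_comp (X : FilF A) (n : ℕ) : dseq X n ≫ dseq X (n + 1) = 0 := d₀_comp (Zseq X n)

/-- The terms of the resolution, `ℤ`-indexed. -/
noncomputable def XZ (X : FilF A) : ℤ → FilF A
  | Int.ofNat n => Iseq X n
  | Int.negSucc _ => 0

/-- The differentials of the resolution, `ℤ`-indexed. -/
noncomputable def dZ (X : FilF A) : ∀ n : ℤ, XZ X n ⟶ XZ X (n + 1)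
  | Int.ofNat n => dseq X n
  | Int.negSucc _ => 0

lemma dZ_comp (X : FilF A) : ∀ n : ℤ, dZ X n ≫ dZ X (n + 1) = 0
  | Int.ofNat n => dseq_comp X n
  | Int.negSucc _ => zero_comp

/-- The filtered injective resolution of `X`. -/
noncomputable def resCx (X : FilF A) : CochainComplex (FilF A) ℤ :=
  CochainComplex.of (XZ X) (dZ X) (dZ_comp X)


section grExact

variable (Z : FilF A) (p : ℤ)

instance mono_gr_hullι : Mono ((gr A p).map (hullι Z).hom) :=
  mono_gr_of_strict (hullι Z) (hullι_strict Z) (fun q => mono_app_of_mono (hullι Z) q) p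

lemma d₀_hom : (d₀ Z).hom = (syzπ Z).hom ≫ (hullι (syz Z)).hom := rfl

lemma gr_hullι_d₀ : (gr A p).map (hullι Z).hom ≫ (gr A p).map (d₀ Z).hom = 0 := by
  rw [← Functor.map_comp, ← ObjectProperty.FullSubcategory.comp_hom, d₀, hullι_syzπ_assoc,
    zero_comp]
  exact (gr A p).map_zero _ _

/-- Exactness of `gr Z ⟶ gr (hull Z) ⟶ gr (hull (syz Z))` (refinement form). -/
lemma gr_exact_hullι_d₀ ⦃W : A⦄ (w : W ⟶ (gr A p).obj (hull Z).obj)
    (hw : w ≫ (gr A p).map (d₀ Z).hom = 0) :
    ∃ (W' : A) (π : W' ⟶ W) (_ : Epi π) (z : W' ⟶ (gr A p).obj Z.obj),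
      π ≫ w = z ≫ (gr A p).map (hullι Z).hom := by
  have h1 : w ≫ (gr A p).map (syzπ Z).hom = 0 := by
    rw [d₀_hom, Functor.map_comp, ← Category.assoc] at hw
    exact zero_of_comp_mono _ hw
  exact (gr_exact_cokerFil (hullι Z) (hullι_strict Z) p).exact_up_to_refinements w h1

/-- Exactness of `gr (hull Z) ⟶ gr (hull (syz Z)) ⟶ gr (hull (syz (syz Z)))` (refinement form). -/
lemma gr_exact_d₀_d₀ ⦃W : A⦄ (w : W ⟶ (gr A p).obj (hull (syz Z)).obj)
    (hw : w ≫ (gr A p).map (d₀ (syz Z)).hom = 0) :
    ∃ (W' : A) (π : W' ⟶ W) (_ : Epi π) (i : W' ⟶ (gr A p).obj (hull Z).obj),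
      π ≫ w = i ≫ (gr A p).map (d₀ Z).hom := by
  obtain ⟨W₁, π₁, _, z, hz⟩ := gr_exact_hullι_d₀ (syz Z) p w hw
  have : Epi ((gr A p).map (syzπ Z).hom) := epi_gr_cokerFilπ (hullι Z) (hullι_strict Z) p
  obtain ⟨W₂, π₂, _, i, hi⟩ :=
    surjective_up_to_refinements_of_epi ((gr A p).map (syzπ Z).hom) z
  refine ⟨W₂, π₂ ≫ π₁, inferInstance, i, ?_⟩
  rw [Category.assoc, hz, reassoc_of% hi, d₀_hom, Functor.map_comp]

end grExact


section resolution

variable (X : FilF A)

lemma resCx_d (m : ℕ) : (resCx X).d (m : ℤ) ((m : ℤ) + 1) = d₀ (Zseq X m) :=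
  CochainComplex.of_d _ _ _

lemma resCx_d_succ (m : ℕ) :
    (resCx X).d ((m : ℤ) + 1) ((m : ℤ) + 1 + 1) = d₀ (syz (Zseq X m)) :=
  CochainComplex.of_d _ _ _

lemma resCx_isZero_neg (k : ℕ) : IsZero ((resCx X).X (Int.negSucc k)) := isZero_zero _

instance : (resCx X).IsStrictlyGE 0 := by
  rw [CochainComplex.isStrictlyGE_iff]
  intro i hi
  match i, hi with
  | Int.ofNat n, hi => exact absurd hi (by simp)
  | Int.negSucc k, _ => exact resCx_isZero_neg X k

lemma isFilteredInjective_of_isZero (Y : FilF A) (hY : IsZero Y) : IsFilteredInjective Y :=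
  fun p => ((grF A p).map_isZero hY).injective

lemma resCx_filteredInjective (n : ℤ) : IsFilteredInjective ((resCx X).X n) := by
  match n with
  | Int.ofNat n => exact hull_inj _
  | Int.negSucc k => exact isFilteredInjective_of_isZero _ (resCx_isZero_neg X k)

/-- The augmentation `X[0] ⟶ resCx X`. -/
noncomputable def resAug : (CochainComplex.singleFunctor (FilF A) 0).obj X ⟶ resCx X :=
  HomologicalComplex.mkHomFromSingle (hullι X) (by
    intro k hk
    obtain rfl : k = 0 + 1 := hk.symm
    have := resCx_d X 0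
    change (resCx X).d 0 (0 + 1) = d₀ X at this
    have h2 : hullι X ≫ d₀ X = 0 := by rw [d₀, hullι_syzπ_assoc, zero_comp]
    rw [this]
    exact h2)

lemma gr_resCx_exactAt_neg (p : ℤ) (k : ℕ) :
    ((grCx p).obj (resCx X)).ExactAt (Int.negSucc k) :=
  HomologicalComplex.ExactAt.of_isZero ((grF A p).map_isZero (resCx_isZero_neg X k))

lemma gr_resCx_exactAt_succ (p : ℤ) (m : ℕ) :
    ((grCx p).obj (resCx X)).ExactAt ((m : ℤ) + 1) := by
  rw [HomologicalComplex.exactAt_iff' _ (m : ℤ) ((m : ℤ) + 1) ((m : ℤ) + 1 + 1) (by simp) (by simp),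
    ShortComplex.exact_iff_exact_up_to_refinements]
  intro W w hw
  have hw' : w ≫ (gr A p).map (d₀ (syz (Zseq X m))).hom = 0 := by
    rw [← resCx_d_succ]
    exact hw
  obtain ⟨W', π, hπ, i, hi⟩ := gr_exact_d₀_d₀ (Zseq X m) p w hw'
  refine ⟨W', π, hπ, i, ?_⟩
  rw [← resCx_d] at hi
  exact hi

lemma gr_single_exactAt (p : ℤ) (n : ℤ) (hn : n ≠ 0) :
    ((grCx p).obj ((CochainComplex.singleFunctor (FilF A) 0).obj X)).ExactAt n :=
  HomologicalComplex.ExactAt.of_isZero ((grF A p).map_isZero
    (HomologicalComplex.isZero_single_obj_X (ComplexShape.up ℤ) 0 X n hn))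

lemma resAug_f_zero : (resAug X).f 0 =
    (HomologicalComplex.singleObjXSelf (ComplexShape.up ℤ) 0 X).hom ≫ hullι X :=
  HomologicalComplex.mkHomFromSingle_f _ _

lemma isFilteredQuasiIso_resAug : IsFilteredQuasiIso (resAug X) := by
  intro p
  refine ⟨fun n => ?_⟩
  by_cases hn : n = 0
  · subst hn
    rw [quasiIsoAt_iff' _ (-1) 0 1 (by simp) (by simp),
      ShortComplex.quasiIso_iff_of_zeros _ ((grF A p).map_zero _ _) ((grF A p).map_zero _ _)
        (by
          have : (resCx X).d (-1) 0 = 0 := (resCx_isZero_neg X 0).eq_of_src _ _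
          change (grF A p).map ((resCx X).d (-1) 0) = 0
          rw [this, Functor.map_zero])]
    let e : (gr A p).obj (((CochainComplex.singleFunctor (FilF A) 0).obj X).X 0).obj ≅
        (gr A p).obj X.obj :=
      (gr A p).mapIso ((IsFinFil A).ι.mapIso
        (HomologicalComplex.singleObjXSelf (ComplexShape.up ℤ) 0 X))
    have hτ : (gr A p).map ((resAug X).f 0).hom = e.hom ≫ (gr A p).map (hullι X).hom := by
      rw [resAug_f_zero, ObjectProperty.FullSubcategory.comp_hom]
      exact (gr A p).map_comp _ _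
    constructor
    · rw [ShortComplex.exact_iff_exact_up_to_refinements]
      intro W w hw
      have hw' : w ≫ (gr A p).map (d₀ X).hom = 0 := by
        have := resCx_d X 0
        change (resCx X).d 0 (0 + 1) = d₀ X at this
        rw [← this]
        exact hw
      obtain ⟨W', π, hπ, z, hz⟩ := gr_exact_hullι_d₀ X p w hw'
      refine ⟨W', π, hπ, z ≫ e.inv, ?_⟩
      have key : π ≫ w = (z ≫ e.inv) ≫ (e.hom ≫ (gr A p).map (hullι X).hom) := by
        rw [Category.assoc, e.inv_hom_id_assoc]
        exact hz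
      change π ≫ w = _ ≫ (gr A p).map ((resAug X).f 0).hom
      rw [hτ]
      exact key
    · change Mono ((gr A p).map ((resAug X).f 0).hom)
      rw [hτ]
      exact @mono_comp _ _ _ _ _ e.hom inferInstance _ (mono_gr_hullι X p)
  · rw [quasiIsoAt_iff_exactAt _ _ (gr_single_exactAt X p n hn)]
    match n, hn with
    | Int.negSucc k, _ => exact gr_resCx_exactAt_neg X p k
    | Int.ofNat 0, hn => exact absurd rfl hn
    | Int.ofNat (m + 1), _ => exact gr_resCx_exactAt_succ X p m

end resolution

/-- `S1089`: existence of filtered injective resolutions of finite filtered objects. -/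
theorem exists_filteredInjective_resolution (X : FilF A) :
    ∃ (I : CochainComplex (FilF A) ℤ)
      (φ : (CochainComplex.singleFunctor (FilF A) 0).obj X ⟶ I), I.IsStrictlyGE 0 ∧
      (∀ n, IsFilteredInjective (I.X n)) ∧ IsFilteredQuasiIso φ :=
  ⟨resCx X, resAug X, inferInstance, resCx_filteredInjective X, isFilteredQuasiIso_resAug X⟩

end Groth.Agent.Helper2.FilDLib
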