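import Groth.Agent.Lib.Helper2.FilDRes
import Groth.Agent.Lib.Helper2.FilDTrunc
import Mathlib.Algebra.Homology.HomotopyCategory.ShiftSequence
import Mathlib.Algebra.Homology.Embedding.CochainComplex

/-!
# Filtered injective resolutions of bounded below complexes of finite filtered objects
-/

universe v u w

open CategoryTheory CategoryTheory.Limits Opposite ZeroObject

namespace Groth.Agent.Helper2.FilDLib

open FilD

set_option linter.unusedSectionVars false
set_option linter.style.haveILetI false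

variable {A : Type u} [Category.{v} A] [Abelian A] [EnoughInjectives A]

variable (K : CochainComplex (FilF A) ℤ)

/-- The data at one stage of the inductive construction of the resolution. -/
structure StageAt (n : ℤ) where
  /-- the previous term of the resolution -/
  Q : FilF A
  /-- the pushout object -/
  P : FilF A
  /-- the map from the previous term -/
  ε : Q ⟶ P
  /-- the map from `K n` -/
  k : K.X n ⟶ P
  /-- the map to `K (n+1)` -/
  δ : P ⟶ K.X (n + 1)
  hk : k ≫ δ = K.d n (n + 1)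
  hε : ε ≫ δ = 0
  hδ : δ ≫ K.d (n + 1) (n + 1 + 1) = 0

namespace StageAt

variable {K} {n : ℤ} (s : StageAt K n)

/-- The map whose cokernel is the next pushout object. -/
noncomputable def jmap : s.P ⟶ hull s.P ⊞ K.X (n + 1) := biprod.lift (hullι s.P) (-s.δ)

lemma mono_gr_jmap (p : ℤ) : Mono ((gr A p).map s.jmap.hom) := by
  have h : (gr A p).map s.jmap.hom ≫ (gr A p).map (biprod.fst : hull s.P ⊞ K.X (n + 1) ⟶ _).hom =
      (gr A p).map (hullι s.P).hom := by
    rw [← Functor.map_comp, ← ObjectProperty.FullSubcategory.comp_hom, jmap, biprod.lift_fst]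
  have : Mono ((gr A p).map s.jmap.hom ≫
      (gr A p).map (biprod.fst : hull s.P ⊞ K.X (n + 1) ⟶ _).hom) := by
    rw [h]; exact mono_gr_hullι s.P p
  exact mono_of_mono _ ((gr A p).map (biprod.fst : hull s.P ⊞ K.X (n + 1) ⟶ _).hom)

lemma jmap_strict : IsStrict s.jmap := (strict_mono_of_gr_mono _ s.mono_gr_jmap).2

/-- The next pushout object. -/
noncomputable def P' : FilF A := cokerFil s.jmap s.jmap_strict

/-- The projection onto the next pushout object. -/
noncomputable def π' : hull s.P ⊞ K.X (n + 1) ⟶ s.P' := cokerFilπ s.jmap s.jmap_strict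

instance : Epi s.π' := inferInstanceAs (Epi (cokerFilπ s.jmap s.jmap_strict))

lemma jmap_π' : s.jmap ≫ s.π' = 0 := comp_cokerFilπ _ _

/-- The map from the term of the resolution to the next pushout object. -/
noncomputable def e : hull s.P ⟶ s.P' := biprod.inl ≫ s.π'

/-- The map from `K (n+1)` to the next pushout object. -/
noncomputable def k' : K.X (n + 1) ⟶ s.P' := biprod.inr ≫ s.π'

lemma hullι_e : hullι s.P ≫ s.e = s.δ ≫ s.k' := by
  have h := s.jmap_π'
  have e1 : s.jmap = hullι s.P ≫ biprod.inl + (-s.δ) ≫ biprod.inr := by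
    rw [jmap]
    apply biprod.hom_ext <;> simp
  rw [e1, Preadditive.add_comp, Category.assoc, Category.assoc, Preadditive.neg_comp,
    add_neg_eq_zero] at h
  exact h

lemma jmap_desc : s.jmap ≫ biprod.desc (0 : hull s.P ⟶ K.X (n + 1 + 1)) (K.d (n + 1) (n + 1 + 1)) = 0 := by
  rw [jmap, biprod.lift_desc, comp_zero, zero_add, Preadditive.neg_comp, s.hδ, neg_zero]

/-- The next map to `K (n+2)`. -/
noncomputable def δ' : s.P' ⟶ K.X (n + 1 + 1) :=
  cokerFilDesc s.jmap s.jmap_strict (biprod.desc 0 (K.d (n + 1) (n + 1 + 1))) s.jmap_desc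

lemma π'_δ' : s.π' ≫ s.δ' = biprod.desc 0 (K.d (n + 1) (n + 1 + 1)) := cokerFilπ_desc _ _ _ _

lemma k'_δ' : s.k' ≫ s.δ' = K.d (n + 1) (n + 1 + 1) := by
  rw [k', Category.assoc, π'_δ', biprod.inr_desc]

lemma e_δ' : s.e ≫ s.δ' = 0 := by
  rw [e, Category.assoc, π'_δ', biprod.inl_desc]

lemma δ'_d : s.δ' ≫ K.d (n + 1 + 1) (n + 1 + 1 + 1) = 0 := by
  rw [← cancel_epi s.π', ← Category.assoc, π'_δ', comp_zero]
  apply biprod.hom_ext' <;> simp

/-- The next stage. -/
noncomputable def next : StageAt K (n + 1) where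
  Q := hull s.P
  P := s.P'
  ε := s.e
  k := s.k'
  δ := s.δ'
  hk := s.k'_δ'
  hε := s.e_δ'
  hδ := s.δ'_d

/-- The component of the resolution map. -/
noncomputable def φs : K.X n ⟶ hull s.P := s.k ≫ hullι s.P

/-- The next component of the resolution map. -/
noncomputable def φs' : K.X (n + 1) ⟶ hull s.P' := s.k' ≫ hullι s.P'

/-- The differential of the resolution. -/
noncomputable def dd : hull s.P ⟶ hull s.P' := s.e ≫ hullι s.P'

/-- The incoming differential of the resolution. -/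
noncomputable def dIn : s.Q ⟶ hull s.P := s.ε ≫ hullι s.P

lemma dIn_next : s.next.dIn = s.dd := rfl

lemma φs_next : s.next.φs = s.φs' := rfl

lemma dIn_dd : s.dIn ≫ s.dd = 0 := by
  have h := s.hullι_e
  rw [dIn, dd, Category.assoc, ← Category.assoc (hullι s.P), h, Category.assoc,
    ← Category.assoc s.ε, s.hε, zero_comp]

lemma dd_dd : s.dd ≫ s.next.dd = 0 := s.next.dIn_dd

lemma φs_dd : s.φs ≫ s.dd = K.d n (n + 1) ≫ s.φs' := by
  have h := s.hullι_e
  rw [φs, dd, φs', Category.assoc, ← Category.assoc (hullι s.P), h, Category.assoc,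
    ← Category.assoc s.k, s.hk]

end StageAt

section grLemmas

variable (p : ℤ)

lemma gr_map_comp {X Y Z : FilF A} (f : X ⟶ Y) (g : Y ⟶ Z) :
    (gr A p).map (f ≫ g).hom = (gr A p).map f.hom ≫ (gr A p).map g.hom := by
  rw [ObjectProperty.FullSubcategory.comp_hom, Functor.map_comp]

lemma gr_map_add {X Y : FilF A} (f g : X ⟶ Y) :
    (gr A p).map (f + g).hom = (gr A p).map f.hom + (gr A p).map g.hom :=
  (gr A p).map_add

lemma gr_map_neg {X Y : FilF A} (f : X ⟶ Y) :
    (gr A p).map (-f).hom = -(gr A p).map f.hom :=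
  (gr A p).map_neg

lemma gr_map_zero (X Y : FilF A) : (gr A p).map (0 : X ⟶ Y).hom = 0 := (gr A p).map_zero _ _

lemma gr_map_id (X : FilF A) : (gr A p).map (𝟙 X : X ⟶ X).hom = 𝟙 _ := (gr A p).map_id _

/-- Decomposition of an element of `gr (X ⊞ Y)`. -/
lemma gr_biprod_total {X Y : FilF A} {W : A} (w : W ⟶ (gr A p).obj (X ⊞ Y).obj) :
    w = (w ≫ (gr A p).map (biprod.fst : X ⊞ Y ⟶ X).hom) ≫
        (gr A p).map (biprod.inl : X ⟶ X ⊞ Y).hom +
      (w ≫ (gr A p).map (biprod.snd : X ⊞ Y ⟶ Y).hom) ≫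
        (gr A p).map (biprod.inr : Y ⟶ X ⊞ Y).hom := by
  rw [Category.assoc, Category.assoc, ← gr_map_comp, ← gr_map_comp, ← Preadditive.comp_add,
    ← gr_map_add, biprod.total, gr_map_id, Category.comp_id]

end grLemmas

namespace StageAt

variable {K} {n : ℤ} (s : StageAt K n) (p : ℤ)

/-- Elements of `gr (hull P ⊞ K (n+1))` killed by `gr π'` come from `gr P`. -/
lemma ker_gr_π' ⦃W : A⦄ (w : W ⟶ (gr A p).obj (hull s.P ⊞ K.X (n + 1)).obj)
    (hw : w ≫ (gr A p).map s.π'.hom = 0) :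
    ∃ (W' : A) (π : W' ⟶ W) (_ : Epi π) (z : W' ⟶ (gr A p).obj s.P.obj),
      π ≫ w ≫ (gr A p).map (biprod.fst : hull s.P ⊞ K.X (n + 1) ⟶ _).hom =
        z ≫ (gr A p).map (hullι s.P).hom ∧
      π ≫ w ≫ (gr A p).map (biprod.snd : hull s.P ⊞ K.X (n + 1) ⟶ _).hom =
        -(z ≫ (gr A p).map s.δ.hom) := by
  obtain ⟨W', π, hπ, z, hz⟩ : ∃ (W' : A) (π : W' ⟶ W) (_ : Epi π)
      (z : W' ⟶ (gr A p).obj s.P.obj), π ≫ w = z ≫ (gr A p).map s.jmap.hom :=
    (gr_exact_cokerFil s.jmap s.jmap_strict p).exact_up_to_refinements w hw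
  refine ⟨W', π, hπ, z, ?_, ?_⟩
  · rw [← Category.assoc, hz, Category.assoc, ← gr_map_comp, jmap, biprod.lift_fst]
  · rw [← Category.assoc, hz, Category.assoc, ← gr_map_comp, jmap, biprod.lift_snd, gr_map_neg,
      Preadditive.comp_neg]

instance mono_gr_k' : Mono ((gr A p).map s.k'.hom) := by
  apply Preadditive.mono_of_cancel_zero
  intro W w hw
  rw [k', gr_map_comp, ← Category.assoc] at hw
  obtain ⟨W', π, hπ, z, hz1, hz2⟩ := s.ker_gr_π' p _ hw
  have := mono_gr_hullι s.P p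
  have hz0 : z = 0 := by
    rw [← cancel_mono ((gr A p).map (hullι s.P).hom), zero_comp, ← hz1, Category.assoc,
      ← gr_map_comp, biprod.inr_fst, gr_map_zero, comp_zero, comp_zero]
  rw [hz0, zero_comp, neg_zero, Category.assoc, ← gr_map_comp, biprod.inr_snd, gr_map_id,
    Category.comp_id] at hz2
  rwa [← cancel_epi π, comp_zero]

/-- Decomposition of elements of `gr P'`. -/
lemma decomp_next ⦃W : A⦄ (z : W ⟶ (gr A p).obj s.P'.obj) :
    ∃ (W' : A) (π : W' ⟶ W) (_ : Epi π) (i : W' ⟶ (gr A p).obj (hull s.P).obj)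
      (x : W' ⟶ (gr A p).obj (K.X (n + 1)).obj),
      π ≫ z = i ≫ (gr A p).map s.e.hom + x ≫ (gr A p).map s.k'.hom := by
  have : Epi ((gr A p).map s.π'.hom) := epi_gr_cokerFilπ s.jmap s.jmap_strict p
  obtain ⟨W', π, hπ, w, hw⟩ := surjective_up_to_refinements_of_epi ((gr A p).map s.π'.hom) z
  refine ⟨W', π, hπ, w ≫ (gr A p).map (biprod.fst : hull s.P ⊞ K.X (n + 1) ⟶ _).hom,
    w ≫ (gr A p).map (biprod.snd : hull s.P ⊞ K.X (n + 1) ⟶ _).hom, ?_⟩
  rw [hw, e, k', gr_map_comp, gr_map_comp]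
  conv_lhs => rw [gr_biprod_total p w]
  rw [Preadditive.add_comp]
  simp only [Category.assoc]

/-- Elements of `gr (hull P)` killed by `gr e`. -/
lemma ker_gr_e ⦃W : A⦄ (y : W ⟶ (gr A p).obj (hull s.P).obj)
    (hy : y ≫ (gr A p).map s.e.hom = 0) :
    ∃ (W' : A) (π : W' ⟶ W) (_ : Epi π) (z : W' ⟶ (gr A p).obj s.P.obj),
      π ≫ y = z ≫ (gr A p).map (hullι s.P).hom ∧ z ≫ (gr A p).map s.δ.hom = 0 := by
  rw [e, gr_map_comp, ← Category.assoc] at hy
  obtain ⟨W', π, hπ, z, hz1, hz2⟩ := s.ker_gr_π' p _ hy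
  refine ⟨W', π, hπ, z, ?_, ?_⟩
  · rw [← hz1, Category.assoc, ← gr_map_comp, biprod.inl_fst, gr_map_id, Category.comp_id]
  · rw [Category.assoc, ← gr_map_comp, biprod.inl_snd, gr_map_zero, comp_zero, comp_zero] at hz2
    exact neg_eq_zero.1 hz2.symm

/-- Pairs of elements identified in `gr P'`. -/
lemma eq_gr_k'_e ⦃W : A⦄ (x₂ : W ⟶ (gr A p).obj (K.X (n + 1)).obj)
    (y₁ : W ⟶ (gr A p).obj (hull s.P).obj)
    (h : x₂ ≫ (gr A p).map s.k'.hom = y₁ ≫ (gr A p).map s.e.hom) :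
    ∃ (W' : A) (π : W' ⟶ W) (_ : Epi π) (z : W' ⟶ (gr A p).obj s.P.obj),
      π ≫ x₂ = z ≫ (gr A p).map s.δ.hom := by
  have h0 : (y₁ ≫ (gr A p).map (biprod.inl : hull s.P ⟶ hull s.P ⊞ K.X (n + 1)).hom -
      x₂ ≫ (gr A p).map (biprod.inr : K.X (n + 1) ⟶ hull s.P ⊞ K.X (n + 1)).hom) ≫
      (gr A p).map s.π'.hom = 0 := by
    rw [Preadditive.sub_comp, Category.assoc, Category.assoc, ← gr_map_comp, ← gr_map_comp,
      sub_eq_zero]
    exact h.symm
  obtain ⟨W', π, hπ, z, -, hz2⟩ := s.ker_gr_π' p _ h0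
  refine ⟨W', π, hπ, z, ?_⟩
  rw [Preadditive.sub_comp, Category.assoc, Category.assoc, ← gr_map_comp, ← gr_map_comp,
    biprod.inl_snd, biprod.inr_snd, gr_map_zero, gr_map_id, comp_zero, zero_sub, Category.comp_id,
    Preadditive.comp_neg, neg_inj] at hz2
  exact hz2

/-- The decomposition property of a stage. -/
def Good : Prop := ∀ ⦃W : A⦄ (z : W ⟶ (gr A p).obj s.P.obj),
  ∃ (W' : A) (π : W' ⟶ W) (_ : Epi π) (i : W' ⟶ (gr A p).obj s.Q.obj)
    (x : W' ⟶ (gr A p).obj (K.X n).obj),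
    π ≫ z = i ≫ (gr A p).map s.ε.hom + x ≫ (gr A p).map s.k.hom

lemma good_next : s.next.Good p := fun _ z => s.decomp_next p z

lemma epiCond (hs : s.Good p) ⦃W : A⦄ (y₂ : W ⟶ (gr A p).obj (hull s.P).obj)
    (hy₂ : y₂ ≫ (gr A p).map s.dd.hom = 0) :
    ∃ (W' : A) (π : W' ⟶ W) (_ : Epi π) (x₂ : W' ⟶ (gr A p).obj (K.X n).obj)
      (_ : x₂ ≫ (gr A p).map (K.d n (n + 1)).hom = 0) (y₁ : W' ⟶ (gr A p).obj s.Q.obj),
      π ≫ y₂ = x₂ ≫ (gr A p).map s.φs.hom + y₁ ≫ (gr A p).map s.dIn.hom := by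
  have := mono_gr_hullι s.P' p
  have h0 : y₂ ≫ (gr A p).map s.e.hom = 0 := by
    rw [dd, gr_map_comp, ← Category.assoc] at hy₂
    exact zero_of_comp_mono _ hy₂
  obtain ⟨W₁, π₁, _, z, hz1, hz2⟩ := s.ker_gr_e p y₂ h0
  obtain ⟨W₂, π₂, _, i, x, hix⟩ := hs z
  have hx : x ≫ (gr A p).map (K.d n (n + 1)).hom = 0 := by
    have h3 := congrArg (fun t => t ≫ (gr A p).map s.δ.hom) hix
    simp only [Category.assoc, Preadditive.add_comp, hz2, comp_zero, ← gr_map_comp, s.hε, s.hk,
      gr_map_zero, zero_add] at h3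
    exact h3.symm
  refine ⟨W₂, π₂ ≫ π₁, inferInstance, x, hx, i, ?_⟩
  rw [Category.assoc, hz1, ← Category.assoc, hix, Preadditive.add_comp, Category.assoc,
    Category.assoc, ← gr_map_comp, ← gr_map_comp, add_comm]
  rfl

lemma monoCond (hs : s.Good p) ⦃W : A⦄ (x₂ : W ⟶ (gr A p).obj (K.X (n + 1)).obj)
    (y₁ : W ⟶ (gr A p).obj (hull s.P).obj)
    (h : x₂ ≫ (gr A p).map s.φs'.hom = y₁ ≫ (gr A p).map s.dd.hom) :
    ∃ (W' : A) (π : W' ⟶ W) (_ : Epi π) (x₁ : W' ⟶ (gr A p).obj (K.X n).obj),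
      π ≫ x₂ = x₁ ≫ (gr A p).map (K.d n (n + 1)).hom := by
  have := mono_gr_hullι s.P' p
  have h0 : x₂ ≫ (gr A p).map s.k'.hom = y₁ ≫ (gr A p).map s.e.hom := by
    rw [φs', dd, gr_map_comp, gr_map_comp, ← Category.assoc, ← Category.assoc] at h
    exact (cancel_mono _).1 h
  obtain ⟨W₁, π₁, _, z, hz⟩ := s.eq_gr_k'_e p x₂ y₁ h0
  obtain ⟨W₂, π₂, _, i, x, hix⟩ := hs z
  refine ⟨W₂, π₂ ≫ π₁, inferInstance, x, ?_⟩
  rw [Category.assoc, hz, ← Category.assoc, hix, Preadditive.add_comp, Category.assoc,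
    Category.assoc, ← gr_map_comp, ← gr_map_comp, s.hε, s.hk, gr_map_zero, comp_zero, zero_add]

end StageAt

section assemble

variable [K.IsStrictlyGE 0]

/-- The initial stage. -/
noncomputable def stage0 : StageAt K (Int.ofNat 0) where
  Q := 0
  P := K.X 0
  ε := 0
  k := 𝟙 _
  δ := K.d 0 1
  hk := Category.id_comp _
  hε := zero_comp
  hδ := K.d_comp_d _ _ _

/-- The sequence of stages. -/
noncomputable def St : (m : ℕ) → StageAt K (Int.ofNat m)
  | 0 => stage0 K
  | m + 1 => (St m).next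

lemma stage0_good (p : ℤ) : (stage0 K).Good p := by
  intro W z
  refine ⟨W, 𝟙 _, inferInstance, 0, z, ?_⟩
  have : (gr A p).map (stage0 K).k.hom = 𝟙 _ := gr_map_id p (K.X 0)
  rw [this, zero_comp, zero_add, Category.id_comp]
  exact (Category.comp_id z).symm

lemma St_good (p : ℤ) : ∀ m, (St K m).Good p
  | 0 => stage0_good K p
  | m + 1 => (St K m).good_next p

lemma St_mono_gr_k (p : ℤ) : ∀ m, Mono ((gr A p).map (St K m).k.hom)
  | 0 => by
      change Mono ((gr A p).map (𝟙 (K.X 0) : K.X 0 ⟶ K.X 0).hom)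
      rw [gr_map_id]; infer_instance
  | m + 1 => (St K m).mono_gr_k' p

lemma St_mono_gr_φs (p : ℤ) (m : ℕ) : Mono ((gr A p).map (St K m).φs.hom) := by
  rw [StageAt.φs, gr_map_comp]
  have := St_mono_gr_k K p m
  have := mono_gr_hullι (St K m).P p
  exact mono_comp _ _

/-- The terms of the resolution. -/
noncomputable def XR : ℤ → FilF A
  | Int.ofNat m => hull (St K m).P
  | Int.negSucc _ => 0

/-- The differentials of the resolution. -/
noncomputable def dR : ∀ n : ℤ, XR K n ⟶ XR K (n + 1)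
  | Int.ofNat m => (St K m).dd
  | Int.negSucc _ => 0

lemma dR_comp : ∀ n : ℤ, dR K n ≫ dR K (n + 1) = 0
  | Int.ofNat m => (St K m).dd_dd
  | Int.negSucc _ => zero_comp

/-- The resolution complex. -/
noncomputable def resolutionCx : CochainComplex (FilF A) ℤ :=
  CochainComplex.of (XR K) (dR K) (dR_comp K)

lemma resolutionCx_d (n : ℤ) : (resolutionCx K).d n (n + 1) = dR K n := CochainComplex.of_d _ _ _

/-- The components of the resolution map. -/
noncomputable def φR : ∀ n : ℤ, K.X n ⟶ XR K n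
  | Int.ofNat m => (St K m).φs
  | Int.negSucc _ => 0

/-- The resolution map. -/
noncomputable def resolutionMap : K ⟶ resolutionCx K where
  f n := φR K n
  comm' i j hij := by
    obtain rfl : i + 1 = j := hij
    rw [resolutionCx_d]
    match i with
    | Int.ofNat m => exact (St K m).φs_dd
    | Int.negSucc k => exact (K.isZero_of_isStrictlyGE 0 _ (by simp)).eq_of_src _ _

lemma XR_isZero_neg (k : ℕ) : IsZero (XR K (Int.negSucc k)) := isZero_zero _

instance : (resolutionCx K).IsStrictlyGE 0 := by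
  rw [CochainComplex.isStrictlyGE_iff]
  intro i hi
  match i, hi with
  | Int.ofNat n, hi => exact absurd hi (by simp)
  | Int.negSucc k, _ => exact XR_isZero_neg K k

lemma resolutionCx_filteredInjective (n : ℤ) : IsFilteredInjective ((resolutionCx K).X n) := by
  match n with
  | Int.ofNat n => exact hull_inj _
  | Int.negSucc k => exact isFilteredInjective_of_isZero _ (XR_isZero_neg K k)

lemma resolutionMap_strict_mono (n : ℤ) :
    Mono ((resolutionMap K).f n) ∧ IsStrict ((resolutionMap K).f n) := by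
  match n with
  | Int.ofNat m => exact strict_mono_of_gr_mono _ (fun p => St_mono_gr_φs K p m)
  | Int.negSucc k =>
    have hz : IsZero (K.X (Int.negSucc k)) := K.isZero_of_isStrictlyGE 0 _ (by simp)
    exact ⟨⟨fun g g' _ => hz.eq_of_tgt _ _⟩, isStrict_zero _ _⟩

lemma resolutionCx_d_ofNat (m : ℕ) :
    (resolutionCx K).d (Int.ofNat m) (Int.ofNat (m + 1)) = (St K m).dd :=
  resolutionCx_d K (Int.ofNat m)

/-- `dd` with clean source and target. -/
noncomputable def ddS (m : ℕ) : hull (St K m).P ⟶ hull (St K (m + 1)).P := (St K m).dd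

lemma resolutionCx_d_ofNat' (m : ℕ) :
    (resolutionCx K).d (Int.ofNat m) (Int.ofNat (m + 1)) = ddS K m :=
  resolutionCx_d K (Int.ofNat m)

lemma isFilteredQuasiIso_resolutionMap : IsFilteredQuasiIso (resolutionMap K) := by
  intro p
  refine ⟨fun n => ?_⟩
  match n with
  | Int.negSucc k =>
    rw [quasiIsoAt_iff_exactAt _ _ (HomologicalComplex.ExactAt.of_isZero
      ((grF A p).map_isZero (K.isZero_of_isStrictlyGE 0 _ (by simp))))]
    exact HomologicalComplex.ExactAt.of_isZero ((grF A p).map_isZero (XR_isZero_neg K k))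
  | Int.ofNat 0 =>
    rw [quasiIsoAt_iff_isIso_homologyMap]
    have hz : IsZero (((grCx p).obj (resolutionCx K)).X (Int.negSucc 0)) :=
      (grF A p).map_isZero (XR_isZero_neg K 0)
    have hmono : Mono (HomologicalComplex.homologyMap ((grCx p).map (resolutionMap K))
        (Int.ofNat 0)) := by
      rw [HomologicalComplex.mono_homologyMap_iff_up_to_refinements _ (Int.negSucc 0) (Int.ofNat 0)
        (Int.ofNat 0 + 1) (by simp) (by simp)]
      intro W x₂ _ y₁ hy₁
      have hy0 : y₁ = 0 := hz.eq_of_tgt _ _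
      have hx0 : x₂ = 0 := by
        have hm := St_mono_gr_φs K p 0
        rw [hy0, zero_comp] at hy₁
        have hy₁' : x₂ ≫ (gr A p).map (St K 0).φs.hom = 0 := hy₁
        exact hm.right_cancellation x₂ 0 (hy₁'.trans zero_comp.symm)
      exact ⟨W, 𝟙 _, inferInstance, 0, by rw [hx0, comp_zero, zero_comp]⟩
    have hepi : Epi (HomologicalComplex.homologyMap ((grCx p).map (resolutionMap K))
        (Int.ofNat 0)) := by
      rw [HomologicalComplex.epi_homologyMap_iff_up_to_refinements _ (Int.negSucc 0) (Int.ofNat 0)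
        (Int.ofNat 0 + 1) (by simp) (by simp)]
      intro W y₂ hy₂
      have hy₂' : y₂ ≫ (gr A p).map (St K 0).dd.hom = 0 := by
        rw [← resolutionCx_d_ofNat]
        exact hy₂
      obtain ⟨W', π, hπ, x₂, hx₂, y₁, h⟩ := (St K 0).epiCond p (St_good K p 0) y₂ hy₂'
      have hy1 : y₁ = 0 := hz.eq_of_tgt _ _
      rw [hy1, zero_comp, add_zero] at h
      exact ⟨W', π, hπ, x₂, hx₂, 0, by rw [zero_comp, add_zero]; exact h⟩
    exact isIso_of_mono_of_epi _
  | Int.ofNat (m + 1) =>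
    rw [quasiIsoAt_iff_isIso_homologyMap]
    have hprev : (ComplexShape.up ℤ).prev (Int.ofNat (m + 1)) = Int.ofNat m := by
      rw [CochainComplex.prev]
      simp only [Int.ofNat_eq_natCast]
      omega
    have hmono : Mono (HomologicalComplex.homologyMap ((grCx p).map (resolutionMap K))
        (Int.ofNat (m + 1))) := by
      rw [HomologicalComplex.mono_homologyMap_iff_up_to_refinements _ (Int.ofNat m)
        (Int.ofNat (m + 1)) (Int.ofNat (m + 1) + 1) hprev (by simp)]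
      intro W x₂ _ y₁ hy₁
      have h' : x₂ ≫ (gr A p).map (St K m).φs'.hom = y₁ ≫ (gr A p).map (St K m).dd.hom := by
        rw [← resolutionCx_d_ofNat]
        exact hy₁
      exact (St K m).monoCond p (St_good K p m) x₂ y₁ h'
    have hepi : Epi (HomologicalComplex.homologyMap ((grCx p).map (resolutionMap K))
        (Int.ofNat (m + 1))) := by
      rw [HomologicalComplex.epi_homologyMap_iff_up_to_refinements _ (Int.ofNat m)
        (Int.ofNat (m + 1)) (Int.ofNat (m + 1) + 1) hprev (by simp)]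
      intro W y₂ hy₂
      have hy₂' : y₂ ≫ (gr A p).map (St K (m + 1)).dd.hom = 0 := by
        rw [← resolutionCx_d_ofNat]
        exact hy₂
      obtain ⟨W', π, hπ, x₂, hx₂, y₁, h⟩ :=
        (St K (m + 1)).epiCond p (St_good K p (m + 1)) y₂ hy₂'
      have key : π ≫ y₂ = x₂ ≫ (gr A p).map (St K (m + 1)).φs.hom +
          y₁ ≫ (gr A p).map (ddS K m).hom := h
      rw [← resolutionCx_d_ofNat'] at key
      exact ⟨W', π, hπ, x₂, hx₂, y₁, key⟩
    exact isIso_of_mono_of_epi _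

end assemble

section general

lemma isStrict_iso_comp {X Y Z : FilF A} (e : X ⟶ Y) [IsIso e] (g : Y ⟶ Z) (hg : IsStrict g) :
    IsStrict (e ≫ g) := by
  rw [isStrict_iff] at hg ⊢
  intro p q h W x y hxy
  rw [comp_hom_app, ← Category.assoc] at hxy
  obtain ⟨W', π, hπ, y', hy'⟩ := hg p q h (x ≫ e.hom.app (op p)) y hxy
  refine ⟨W', π, hπ, y' ≫ (inv e).hom.app (op q), ?_⟩
  rw [hy', Category.assoc, ← comp_hom_app, IsIso.inv_hom_id_assoc]

lemma isFilteredQuasiIso_of_isIso {K L : CochainComplex (FilF A) ℤ} (φ : K ⟶ L) [IsIso φ] :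
    IsFilteredQuasiIso φ := by
  intro p
  infer_instance

lemma isFilteredQuasiIso_comp {K L M : CochainComplex (FilF A) ℤ} (φ : K ⟶ L) (ψ : L ⟶ M)
    (hφ : IsFilteredQuasiIso φ) (hψ : IsFilteredQuasiIso ψ) : IsFilteredQuasiIso (φ ≫ ψ) := by
  intro p
  have := hφ p
  have := hψ p
  rw [Functor.map_comp]
  infer_instance

lemma isFilteredQuasiIso_shift {K L : CochainComplex (FilF A) ℤ} (ψ : K ⟶ L)
    (h : IsFilteredQuasiIso ψ) (n : ℤ) : IsFilteredQuasiIso (ψ⟦n⟧') := by
  intro p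
  have e : Arrow.mk ((grCx p).map (ψ⟦n⟧')) ≅ Arrow.mk (((grCx p).map ψ)⟦n⟧') :=
    Arrow.isoMk (((grCx p).commShiftIso n).app K) (((grCx p).commShiftIso n).app L)
      (((grCx p).commShiftIso n).hom.naturality ψ).symm
  rw [quasiIso_iff_of_arrow_mk_iso _ _ e, CochainComplex.quasiIso_shift_iff]
  exact h p

theorem exists_filteredInjective_resolution_cx (K : CochainComplex (FilF A) ℤ) (a : ℤ)
    [K.IsStrictlyGE a] :
    ∃ (I : CochainComplex (FilF A) ℤ) (a' : ℤ) (φ : K ⟶ I), I.IsStrictlyGE a' ∧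
      (∀ n, IsFilteredInjective (I.X n)) ∧
      IsFilteredQuasiIso φ ∧ ∀ n, Mono (φ.f n) ∧ IsStrict (φ.f n) := by
  haveI : (K⟦a⟧).IsStrictlyGE 0 := K.isStrictlyGE_shift a a 0 (by omega)
  let e : K ≅ (K⟦a⟧)⟦-a⟧ :=
    ((shiftFunctorCompIsoId (CochainComplex (FilF A) ℤ) a (-a) (by omega)).app K).symm
  haveI : ((resolutionCx (K⟦a⟧))⟦-a⟧).IsStrictlyGE a :=
    (resolutionCx (K⟦a⟧)).isStrictlyGE_shift 0 (-a) a (by omega)
  refine ⟨(resolutionCx (K⟦a⟧))⟦-a⟧, a, e.hom ≫ (resolutionMap (K⟦a⟧))⟦-a⟧', inferInstance,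
    ?_, ?_, ?_⟩
  · intro n
    exact resolutionCx_filteredInjective (K⟦a⟧) (n + -a)
  · exact isFilteredQuasiIso_comp _ _ (isFilteredQuasiIso_of_isIso _)
      (isFilteredQuasiIso_shift _ (isFilteredQuasiIso_resolutionMap _) _)
  · intro n
    obtain ⟨hm, hs⟩ := resolutionMap_strict_mono (K⟦a⟧) (n + -a)
    have hiso : IsIso (e.hom.f n) := inferInstance
    have heq : (e.hom ≫ (resolutionMap (K⟦a⟧))⟦-a⟧').f n =
        e.hom.f n ≫ (resolutionMap (K⟦a⟧)).f (n + -a) := rfl
    rw [heq]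
    exact ⟨@mono_comp _ _ _ _ _ _ inferInstance _ hm, isStrict_iso_comp _ _ hs⟩

end general

end Groth.Agent.Helper2.FilDLib
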