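import Groth.Agent.Lib.Helper2.FilDTrunc

/-!
# Canonical truncations `τ_{≤ b}` of complexes of finite filtered objects
-/

universe v u w

open CategoryTheory CategoryTheory.Limits Opposite ZeroObject

namespace Groth.Agent.Helper2.FilDLib

open FilD

set_option linter.unusedSectionVars false
set_option linter.style.haveILetI false

variable {A : Type u} [Category.{v} A] [Abelian A]

section kerFil

variable {X Y : FilF A} (f : X ⟶ Y)

/-- The (levelwise) kernel of a morphism of finite filtered objects. -/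
noncomputable def kerFil : FilF A := ⟨kernel f.hom, isFinFil_kernel f⟩

/-- The inclusion of the kernel. -/
noncomputable def kerFilι : kerFil f ⟶ X := ObjectProperty.homMk (kernel.ι f.hom)

@[reassoc (attr := simp)]
lemma kerFilι_comp : kerFilι f ≫ f = 0 := by
  apply ObjectProperty.hom_ext
  exact kernel.condition f.hom

/-- Lifting to the kernel. -/
noncomputable def kerFilLift {Z : FilF A} (g : Z ⟶ X) (hg : g ≫ f = 0) : Z ⟶ kerFil f :=
  ObjectProperty.homMk (kernel.lift f.hom g.hom (congrArg (fun t => t.hom) hg))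

@[reassoc (attr := simp)]
lemma kerFilLift_ι {Z : FilF A} (g : Z ⟶ X) (hg : g ≫ f = 0) :
    kerFilLift f g hg ≫ kerFilι f = g := by
  apply ObjectProperty.hom_ext
  exact kernel.lift_ι _ _ _

instance : Mono (kerFilι f) := by
  have : Mono ((IsFinFil A).ι.map (kerFilι f)) := inferInstanceAs (Mono (kernel.ι f.hom))
  exact (IsFinFil A).ι.mono_of_mono_map this

instance (p : ℤ) : Mono ((kerFilι f).hom.app (op p)) :=
  inferInstanceAs (Mono ((kernel.ι f.hom).app (op p)))

lemma isStrict_kerFilι : IsStrict (kerFilι f) := by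
  rw [isStrict_iff]
  intro p q h W x y hxy
  have h0 : y ≫ f.hom.app (op q) = 0 := by
    rw [← cancel_mono (tr Y.obj h), Category.assoc, ← tr_naturality, ← reassoc_of% hxy, zero_comp]
    have : (kerFilι f).hom.app (op p) ≫ f.hom.app (op p) = 0 := kernel_ι_app_comp f.hom p
    rw [this, comp_zero]
  obtain ⟨k', hk'⟩ := exists_lift_kernel_app f.hom q y h0
  exact ⟨W, 𝟙 _, inferInstance, k', by rw [Category.id_comp]; exact hk'.symm⟩

instance mono_gr_kerFilι (p : ℤ) : Mono ((gr A p).map (kerFilι f).hom) :=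
  mono_gr_of_strict (kerFilι f) (isStrict_kerFilι f) (fun _ => inferInstance) p

/-- If `f` is strict, `gr (ker f) ⟶ gr X ⟶ gr Y` is exact (refinement form). -/
lemma gr_exact_kerFil (hf : IsStrict f) (p : ℤ) ⦃W : A⦄ (m : W ⟶ (gr A p).obj X.obj)
    (hm : m ≫ (gr A p).map f.hom = 0) :
    ∃ (W' : A) (π : W' ⟶ W) (_ : Epi π) (m' : W' ⟶ (gr A p).obj (kerFil f).obj),
      π ≫ m = m' ≫ (gr A p).map (kerFilι f).hom :=
  (((isStrict_iff_gr_kernel_exact f).1 hf) p).exact_up_to_refinements m hm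

end kerFil

section strict

lemma isStrict_of_retraction {X Y : FilF A} (f : X ⟶ Y) (r : Y ⟶ X) (hr : f ≫ r = 𝟙 X) :
    IsStrict f := by
  rw [isStrict_iff]
  intro p q h W x y hxy
  refine ⟨W, 𝟙 _, inferInstance, y ≫ r.hom.app (op q), ?_⟩
  have e1 : r.hom.app (op q) ≫ f.hom.app (op q) ≫ tr Y.obj h =
      tr Y.obj h ≫ r.hom.app (op p) ≫ f.hom.app (op p) := by
    rw [← tr_naturality, ← Category.assoc, ← tr_naturality, Category.assoc]
  have e2 : f.hom.app (op p) ≫ r.hom.app (op p) = 𝟙 _ := by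
    rw [← comp_hom_app, hr, id_hom_app]
  rw [Category.id_comp, ← cancel_mono (tr Y.obj h), Category.assoc, Category.assoc, e1,
    ← reassoc_of% hxy, reassoc_of% e2, hxy]

/-- Decomposition of a map into a binary biproduct, levelwise. -/
lemma biprod_lift_hom_app {X Y Y' : FilF A} (u : X ⟶ Y) (v : X ⟶ Y') (P : ℤᵒᵖ) :
    (biprod.lift u v).hom.app P =
      u.hom.app P ≫ (biprod.inl : Y ⟶ Y ⊞ Y').hom.app P +
        v.hom.app P ≫ (biprod.inr : Y' ⟶ Y ⊞ Y').hom.app P := by
  have : biprod.lift u v = u ≫ biprod.inl + v ≫ biprod.inr := by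
    apply biprod.hom_ext <;> simp
  rw [this, add_hom_app, comp_hom_app, comp_hom_app]

lemma isStrict_lift_zero {X Y Y' : FilF A} (u : X ⟶ Y') (hu : IsStrict u) :
    IsStrict (biprod.lift (0 : X ⟶ Y) u) := by
  rw [isStrict_iff]
  intro p q h W x y hxy
  have hxy' : x ≫ u.hom.app (op p) =
      (y ≫ (biprod.snd : Y ⊞ Y' ⟶ Y').hom.app (op q)) ≫ tr Y'.obj h := by
    have := congrArg (fun t => t ≫ (biprod.snd : Y ⊞ Y' ⟶ Y').hom.app (op p)) hxy
    simp only [Category.assoc] at this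
    rw [← comp_hom_app, biprod.lift_snd, tr_naturality] at this
    simpa using this
  obtain ⟨W', π, hπ, x', hx'⟩ := (isStrict_iff u).1 hu p q h x _ hxy'
  refine ⟨W', π, hπ, x', ?_⟩
  have h1 : y ≫ (biprod.fst : Y ⊞ Y' ⟶ Y).hom.app (op q) = 0 := by
    rw [← cancel_mono (tr Y.obj h), Category.assoc, ← tr_naturality, ← reassoc_of% hxy,
      ← comp_hom_app, biprod.lift_fst, zero_hom_app, comp_zero, zero_comp]
  have htot : y = (y ≫ (biprod.fst : Y ⊞ Y' ⟶ Y).hom.app (op q)) ≫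
      (biprod.inl : Y ⟶ Y ⊞ Y').hom.app (op q) +
      (y ≫ (biprod.snd : Y ⊞ Y' ⟶ Y').hom.app (op q)) ≫
      (biprod.inr : Y' ⟶ Y ⊞ Y').hom.app (op q) := by
    rw [Category.assoc, Category.assoc, ← comp_hom_app, ← comp_hom_app, ← Preadditive.comp_add,
      ← add_hom_app, biprod.total, id_hom_app, Category.comp_id]
  rw [biprod_lift_hom_app, zero_hom_app, zero_comp, zero_add, ← Category.assoc, ← hx']
  conv_lhs => rw [htot]
  rw [h1, zero_comp, zero_add]
  simp only [Category.assoc]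

end strict


section truncLE

variable (K : CochainComplex (FilF A) ℤ) (b : ℤ)

/-- The first component of the map whose kernel is the truncation. -/
noncomputable def hT₁ (n : ℤ) : K.X n ⟶ K.X n := if b < n then 𝟙 _ else 0

/-- The second component of the map whose kernel is the truncation. -/
noncomputable def hT₂ (n : ℤ) : K.X n ⟶ K.X (n + 1) := if b ≤ n then K.d n (n + 1) else 0

/-- The map whose kernel is the `n`-th term of the truncation `τ_{≤ b} K`. -/
noncomputable def hT (n : ℤ) : K.X n ⟶ K.X n ⊞ K.X (n + 1) := biprod.lift (hT₁ K b n) (hT₂ K b n)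

variable (hstr : IsStrict (K.d b (b + 1)))

include hstr in
lemma hT_strict (n : ℤ) : IsStrict (hT K b n) := by
  by_cases h1 : b < n
  · apply isStrict_of_retraction _ biprod.fst
    rw [hT, biprod.lift_fst, hT₁, if_pos h1]
  · have h2 : hT₁ K b n = 0 := if_neg h1
    by_cases h3 : n = b
    · subst h3
      rw [hT, h2, hT₂, if_pos le_rfl]
      exact isStrict_lift_zero _ hstr
    · have h4 : hT₂ K b n = 0 := if_neg (by omega)
      have : hT K b n = 0 := by
        rw [hT, h2, h4]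
        apply biprod.hom_ext <;> simp
      rw [this]
      exact isStrict_zero _ _

/-- The terms of `τ_{≤ b} K`. -/
noncomputable def MX (n : ℤ) : FilF A := kerFil (hT K b n)

/-- The inclusions `(τ_{≤ b} K) n ⟶ K n`. -/
noncomputable def ιT (n : ℤ) : MX K b n ⟶ K.X n := kerFilι (hT K b n)

instance (n : ℤ) : Mono (ιT K b n) := inferInstanceAs (Mono (kerFilι (hT K b n)))

lemma ιT_hT (n : ℤ) : ιT K b n ≫ hT K b n = 0 := kerFilι_comp _

lemma ιT_hT₁ (n : ℤ) : ιT K b n ≫ hT₁ K b n = 0 := by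
  have := congrArg (fun t => t ≫ biprod.fst) (ιT_hT K b n)
  simpa [hT] using this

lemma ιT_hT₂ (n : ℤ) : ιT K b n ≫ hT₂ K b n = 0 := by
  have := congrArg (fun t => t ≫ biprod.snd) (ιT_hT K b n)
  simpa [hT] using this

lemma ιT_d_hT (n : ℤ) : (ιT K b n ≫ K.d n (n + 1)) ≫ hT K b (n + 1) = 0 := by
  rw [hT]
  apply biprod.hom_ext
  · rw [Category.assoc, biprod.lift_fst, zero_comp, hT₁]
    split_ifs with h
    · rw [Category.comp_id]
      have h1 := ιT_hT₂ K b n
      rwa [hT₂, if_pos (by omega)] at h1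
    · rw [comp_zero]
  · rw [Category.assoc, biprod.lift_snd, zero_comp, hT₂]
    split_ifs
    · rw [Category.assoc, K.d_comp_d, comp_zero]
    · rw [comp_zero]

/-- The differentials of `τ_{≤ b} K`. -/
noncomputable def dM (n : ℤ) : MX K b n ⟶ MX K b (n + 1) :=
  kerFilLift (hT K b (n + 1)) (ιT K b n ≫ K.d n (n + 1)) (ιT_d_hT K b n)

@[reassoc]
lemma dM_ιT (n : ℤ) : dM K b n ≫ ιT K b (n + 1) = ιT K b n ≫ K.d n (n + 1) :=
  kerFilLift_ι _ _ _

lemma dM_comp (n : ℤ) : dM K b n ≫ dM K b (n + 1) = 0 := by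
  rw [← cancel_mono (ιT K b (n + 1 + 1)), Category.assoc, dM_ιT, dM_ιT_assoc, K.d_comp_d,
    comp_zero, zero_comp]

/-- The truncation `τ_{≤ b} K`. -/
noncomputable def truncLEFil : CochainComplex (FilF A) ℤ :=
  CochainComplex.of (MX K b) (dM K b) (dM_comp K b)

/-- The differentials of the truncation, with domain and codomain expressed with `MX`. -/
noncomputable def dMM (i j : ℤ) : MX K b i ⟶ MX K b j := (truncLEFil K b).d i j

/-- The canonical map `τ_{≤ b} K ⟶ K`. -/
noncomputable def truncLEFilι : truncLEFil K b ⟶ K where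
  f n := ιT K b n
  comm' i j hij := by
    obtain rfl : i + 1 = j := hij
    have : (truncLEFil K b).d i (i + 1) = dM K b i := CochainComplex.of_d _ _ _
    rw [this]
    exact (dM_ιT K b i).symm

lemma dMM_ιT (i j : ℤ) : dMM K b i j ≫ ιT K b j = ιT K b i ≫ K.d i j :=
  ((truncLEFilι K b).comm i j).symm

lemma isZero_MX (n : ℤ) (hn : b < n) : IsZero (MX K b n) := by
  have h := ιT_hT₁ K b n
  rw [hT₁, if_pos hn, Category.comp_id] at h
  exact IsZero.of_mono_eq_zero _ h

instance : (truncLEFil K b).IsStrictlyLE b := by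
  rw [CochainComplex.isStrictlyLE_iff]
  intro i hi
  exact isZero_MX K b i hi

section gr

variable (p : ℤ)

instance mono_gr_ιT (n : ℤ) : Mono ((gr A p).map (ιT K b n).hom) :=
  mono_gr_kerFilι (hT K b n) p

lemma gr_comm_LE (i j : ℤ) :
    (gr A p).map (dMM K b i j).hom ≫ (gr A p).map (ιT K b j).hom =
      (gr A p).map (ιT K b i).hom ≫ (gr A p).map (K.d i j).hom := by
  rw [← Functor.map_comp, ← Functor.map_comp]
  congr 1
  exact congrArg (fun t => t.hom) (dMM_ιT K b i j)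

include hstr in
/-- Elements of `gr (K n)` killed by `gr hT₁` and `gr hT₂` come from `gr ((τ_{≤ b} K) n)`. -/
lemma lift_gr_ιT (n : ℤ) ⦃W : A⦄ (m : W ⟶ (gr A p).obj (K.X n).obj)
    (hm₁ : m ≫ (gr A p).map (hT₁ K b n).hom = 0) (hm₂ : m ≫ (gr A p).map (hT₂ K b n).hom = 0) :
    ∃ (W' : A) (π : W' ⟶ W) (_ : Epi π) (m' : W' ⟶ (gr A p).obj (MX K b n).obj),
      π ≫ m = m' ≫ (gr A p).map (ιT K b n).hom := by
  have e : (hT K b n).hom = (hT₁ K b n).hom ≫ (biprod.inl : K.X n ⟶ K.X n ⊞ K.X (n + 1)).hom +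
      (hT₂ K b n).hom ≫ (biprod.inr : K.X (n + 1) ⟶ K.X n ⊞ K.X (n + 1)).hom := by
    have : hT K b n = hT₁ K b n ≫ biprod.inl + hT₂ K b n ≫ biprod.inr := by
      rw [hT]
      apply biprod.hom_ext <;> simp
    rw [this]
    rfl
  have hm : m ≫ (gr A p).map (hT K b n).hom = 0 := by
    rw [e, Functor.map_add, Functor.map_comp, Functor.map_comp, Preadditive.comp_add,
      reassoc_of% hm₁, reassoc_of% hm₂, zero_comp, zero_comp, add_zero]
  exact gr_exact_kerFil (hT K b n) (hT_strict K b hstr n) p m hm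

include hstr in
lemma truncLE_mono_cond (n : ℤ) ⦃W : A⦄ (x₂ : W ⟶ (gr A p).obj (MX K b n).obj)
    (y₁ : W ⟶ (gr A p).obj (K.X (n - 1)).obj)
    (hy₁ : x₂ ≫ (gr A p).map (ιT K b n).hom = y₁ ≫ (gr A p).map (K.d (n - 1) n).hom) :
    ∃ (W' : A) (π : W' ⟶ W) (_ : Epi π) (x₁ : W' ⟶ (gr A p).obj (MX K b (n - 1)).obj),
      π ≫ x₂ = x₁ ≫ (gr A p).map (dMM K b (n - 1) n).hom := by
  by_cases hn : b < n
  · have hz : IsZero ((gr A p).obj (MX K b n).obj) :=
      (grF A p).map_isZero (isZero_MX K b n hn)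
    exact ⟨W, 𝟙 _, inferInstance, 0, hz.eq_of_tgt _ _⟩
  · have h1 : hT₁ K b (n - 1) = 0 := if_neg (by omega)
    have h2 : hT₂ K b (n - 1) = 0 := if_neg (by omega)
    have hz1 : (gr A p).map (0 : K.X (n - 1) ⟶ K.X (n - 1)).hom = 0 := (gr A p).map_zero _ _
    have hz2 : (gr A p).map (0 : K.X (n - 1) ⟶ K.X (n - 1 + 1)).hom = 0 := (gr A p).map_zero _ _
    obtain ⟨W', π, hπ, m', hm'⟩ := lift_gr_ιT K b hstr p (n - 1) y₁
      (by rw [h1, hz1, comp_zero]) (by rw [h2, hz2, comp_zero])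
    refine ⟨W', π, hπ, m', ?_⟩
    rw [← cancel_mono ((gr A p).map (ιT K b n).hom), Category.assoc, hy₁, reassoc_of% hm',
      Category.assoc, gr_comm_LE]

include hstr in
lemma truncLE_epi_cond
    (hK' : ∀ n, b < n → ∀ ⦃W : A⦄ (x₂ : W ⟶ (gr A p).obj (K.X n).obj),
      x₂ ≫ (gr A p).map (K.d n (n + 1)).hom = 0 →
      ∃ (W' : A) (π : W' ⟶ W) (_ : Epi π) (x₁ : W' ⟶ (gr A p).obj (K.X (n - 1)).obj),
        π ≫ x₂ = x₁ ≫ (gr A p).map (K.d (n - 1) n).hom)
    (n : ℤ) ⦃W : A⦄ (y₂ : W ⟶ (gr A p).obj (K.X n).obj)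
    (hy₂ : y₂ ≫ (gr A p).map (K.d n (n + 1)).hom = 0) :
    ∃ (W' : A) (π : W' ⟶ W) (_ : Epi π) (x₂ : W' ⟶ (gr A p).obj (MX K b n).obj)
      (_ : x₂ ≫ (gr A p).map (dMM K b n (n + 1)).hom = 0)
      (y₁ : W' ⟶ (gr A p).obj (K.X (n - 1)).obj),
      π ≫ y₂ = x₂ ≫ (gr A p).map (ιT K b n).hom + y₁ ≫ (gr A p).map (K.d (n - 1) n).hom := by
  by_cases hn : b < n
  · obtain ⟨W', π, hπ, x₁, hx₁⟩ := hK' n hn y₂ hy₂
    exact ⟨W', π, hπ, 0, zero_comp, x₁, by rw [zero_comp, zero_add, hx₁]⟩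
  · have h1 : hT₁ K b n = 0 := if_neg hn
    have hz1 : (gr A p).map (0 : K.X n ⟶ K.X n).hom = 0 := (gr A p).map_zero _ _
    have hz2 : (gr A p).map (0 : K.X n ⟶ K.X (n + 1)).hom = 0 := (gr A p).map_zero _ _
    have hm₂ : y₂ ≫ (gr A p).map (hT₂ K b n).hom = 0 := by
      rw [hT₂]
      split_ifs
      · exact hy₂
      · rw [hz2, comp_zero]
    obtain ⟨W', π, hπ, x₂, hx₂⟩ := lift_gr_ιT K b hstr p n y₂
      (by rw [h1, hz1, comp_zero]) hm₂
    refine ⟨W', π, hπ, x₂, ?_, 0, by rw [zero_comp, add_zero, hx₂]⟩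
    rw [← cancel_mono ((gr A p).map (ιT K b (n + 1)).hom), Category.assoc, gr_comm_LE,
      ← reassoc_of% hx₂, hy₂, comp_zero, zero_comp]

end gr

include hstr in
/-- The canonical map `τ_{≤ b} K ⟶ K` is a filtered quasi-isomorphism if the graded pieces of `K`
have no cohomology in degrees `> b`. -/
lemma isFilteredQuasiIso_truncLEFilι
    (hK : ∀ (p n : ℤ), b < n → ((grCx p).obj K).ExactAt n) :
    IsFilteredQuasiIso (truncLEFilι K b) := by
  intro p
  refine ⟨fun n => ?_⟩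
  rw [quasiIsoAt_iff_isIso_homologyMap]
  have hmono : Mono (HomologicalComplex.homologyMap ((grCx p).map (truncLEFilι K b)) n) := by
    rw [HomologicalComplex.mono_homologyMap_iff_up_to_refinements _ (n - 1) n (n + 1)
      (by simp) (by simp)]
    intro W x₂ _ y₁ hy₁
    exact truncLE_mono_cond K b hstr p n x₂ y₁ hy₁
  have hepi : Epi (HomologicalComplex.homologyMap ((grCx p).map (truncLEFilι K b)) n) := by
    rw [HomologicalComplex.epi_homologyMap_iff_up_to_refinements _ (n - 1) n (n + 1)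
      (by simp) (by simp)]
    intro W y₂ hy₂
    exact truncLE_epi_cond K b hstr p (fun n hn =>
      (HomologicalComplex.exactAt_iff_exact_up_to_refinements _ (n - 1) n (n + 1)
        (by simp) (by simp)).1 (hK p n hn)) n y₂ hy₂
  exact isIso_of_mono_of_epi _

end truncLE

/-- `S1088`: truncation above of a complex whose graded pieces have no cohomology in degrees
`> b`. -/
theorem exists_truncLE_filteredQuasiIso (K : CochainComplex (FilF A) ℤ) (b : ℤ)
    (hK : ∀ (p n : ℤ), b < n → IsZero (((grCx p).obj K).homology n)) :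
    ∃ (M : CochainComplex (FilF A) ℤ) (φ : M ⟶ K), M.IsStrictlyLE b ∧ IsFilteredQuasiIso φ := by
  have hex : ∀ p n, b < n → ((grCx p).obj K).ExactAt n := fun p n hn =>
    (HomologicalComplex.exactAt_iff_isZero_homology _ _).2 (hK p n hn)
  have hS : ∀ p, ((K.sc' b (b + 1) (b + 1 + 1)).map (grF A p)).Exact := fun p => by
    have h := hex p (b + 1) (by omega)
    rw [HomologicalComplex.exactAt_iff' _ b (b + 1) (b + 1 + 1) (by simp) (by simp)] at h
    exact h
  have hstr : IsStrict (K.d b (b + 1)) := (strict_and_exact_of_gr_exact _ hS).2.1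
  exact ⟨truncLEFil K b, truncLEFilι K b, inferInstance,
    isFilteredQuasiIso_truncLEFilι K b hstr hex⟩

end Groth.Agent.Helper2.FilDLib
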