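import Mathlib
import Groth.Prelude.Def_RegImm
import Groth.Prelude.Def_Flat
import Groth.Agent.Lib.Helper2.SyntRel3

/-!
# Finite syntomic algebras: local generation of the kernel by at most `n` elements
-/

set_option autoImplicit false
universe u

namespace Groth.Agent.Helper2.FinSynt

open MvPolynomial Groth.Agent.Helper2.FCR Groth.Agent.Helper2.SyntLCI TensorProduct
  Groth.Agent.Helper2.GCILoc IsLocalRing Groth.Agent.Helper2.AwayIso Groth.Agent.Helper2.RelGCI
  Groth.Agent.Helper2.SyntRel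

section Core

/-- the length of a regular sequence is bounded by the dimension -/
theorem length_le_of_isRegular {L : Type u} [CommRing L] [IsNoetherianRing L] [IsLocalRing L]
    (rs : List L) (hreg : RingTheory.Sequence.IsRegular L rs) (ht : ℕ∞) (δ n : ℕ)
    (hL : ringKrullDim L = (ht : WithBot ℕ∞)) (hδ : ht + (δ : ℕ∞) = (n : ℕ∞)) : rs.length ≤ n := by
  have h1 := ringKrullDim_add_length_eq_ringKrullDim_of_isRegular rs hreg
  haveI hnt : Nontrivial (L ⧸ Ideal.ofList rs) := by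
    apply Ideal.Quotient.nontrivial_iff.mpr
    intro htop
    apply hreg.2
    rw [htop]
    simp
  have h0 := ringKrullDim_nonneg_of_nontrivial (R := L ⧸ Ideal.ofList rs)
  obtain ⟨d', hd'⟩ : ∃ d' : ℕ∞, ringKrullDim (L ⧸ Ideal.ofList rs) = d' := by
    cases h : ringKrullDim (L ⧸ Ideal.ofList rs) with
    | bot => rw [h] at h0; exact absurd h0 (by simp)
    | coe d' => exact ⟨d', rfl⟩
  rw [hd', hL] at h1
  have h2 : d' + (rs.length : ℕ∞) = ht := by exact_mod_cast h1
  have h3 : (rs.length : ℕ∞) ≤ (n : ℕ∞) := by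
    rw [← hδ, ← h2]
    exact le_add_self.trans le_self_add
  exact_mod_cast h3


open AlgebraicGeometry CategoryTheory Groth.Agent.Helper16.RingFibDim

variable {R T : Type u} [CommRing R] [CommRing T] [Algebra R T]

theorem core_gen [Module.Flat R T] (n : ℕ) (φ : MvPolynomial (Fin n) R →ₐ[R] T)
    (hφ : Function.Surjective φ) (hfg : (RingHom.ker φ.toRingHom).FG)
    (𝔮T : Ideal T) [h𝔮T : 𝔮T.IsPrime] (p : Ideal R) [hp : p.IsPrime]
    (q' : Ideal (MvPolynomial (Fin n) p.ResidueField)) [hq' : q'.IsPrime]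
    (h𝔮eq : q'.comap (mu n p) = 𝔮T.comap φ.toRingHom)
    (rs : List (Localization.AtPrime q'))
    (hreg : RingTheory.Sequence.IsRegular (Localization.AtPrime q') rs)
    (hrs : Ideal.ofList rs = (RingHom.ker (phik n φ p)).map
      (algebraMap _ (Localization.AtPrime q'))) :
    ∃ (l₀ : List (MvPolynomial (Fin n) R)) (g₂ : MvPolynomial (Fin n) R),
      (∀ a ∈ l₀, a ∈ RingHom.ker φ.toRingHom) ∧ l₀.length = rs.length ∧
      g₂ ∉ 𝔮T.comap φ.toRingHom ∧
      ∀ a ∈ RingHom.ker φ.toRingHom, g₂ * a ∈ Ideal.ofList l₀ := by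
  haveI h𝔮' : (q'.comap (mu n p)).IsPrime := Ideal.comap_isPrime _ _
  have hM' := fibModel_psi n p q'
  have hk : RingHom.ker (phik n φ p) = (RingHom.ker φ.toRingHom).map (mu n p) :=
    ker_phik n φ hφ p
  have hIrs : Ideal.ofList rs = (RingHom.ker φ.toRingHom).map (psi n p q') := by
    rw [hrs]
    have hgen : ∀ J : Ideal (MvPolynomial (Fin n) p.ResidueField),
        J = (RingHom.ker φ.toRingHom).map (mu n p) →
        J.map (algebraMap (MvPolynomial (Fin n) p.ResidueField) (Localization.AtPrime q')) =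
        (RingHom.ker φ.toRingHom).map (psi n p q') := by
      intro J hJ
      rw [hJ, Ideal.map_map]
    exact hgen _ hk
  have hrs' : ∀ r ∈ rs, r ∈ (RingHom.ker φ.toRingHom).map (psi n p q') := by
    intro r hr
    rw [← hIrs]
    exact Ideal.subset_span hr
  obtain ⟨l₀, hl₀, hfa⟩ := hM'.exists_lifts (RingHom.ker φ.toRingHom) rs hrs'
  have hcont : ∀ a ∈ RingHom.ker φ.toRingHom, ∃ s, s ∉ q'.comap (mu n p) ∧
      s * a ∈ ((q'.comap (mu n p)).comap (algebraMap R (MvPolynomial (Fin n) R))).map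
        (algebraMap R (MvPolynomial (Fin n) R)) ⊔ Ideal.ofList l₀ := by
    intro a ha
    apply hM'.pullback_mem
    rw [hM'.map_ofList_eq hfa, hIrs]
    exact Ideal.mem_map_of_mem _ ha
  have hK𝔮 : RingHom.ker φ.toRingHom ≤ q'.comap (mu n p) := by
    rw [h𝔮eq]
    intro a ha
    rw [Ideal.mem_comap, RingHom.mem_ker.mp ha]
    exact 𝔮T.zero_mem
  haveI : Module.Flat R (MvPolynomial (Fin n) R ⧸ RingHom.ker φ.toRingHom) :=
    Module.Flat.of_linearEquiv (Ideal.quotientKerAlgEquivOfSurjective hφ).toLinearEquiv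
  obtain ⟨g₂, hg₂, hnak⟩ := nak_step (R := R) (RingHom.ker φ.toRingHom) hfg (q'.comap (mu n p))
    l₀ hl₀ (fun a ha => by
      obtain ⟨s, hs, h⟩ := hcont a ha
      exact ⟨s, hs, h⟩)
  refine ⟨l₀, g₂, hl₀, hfa.length_eq, ?_, hnak⟩
  rw [← h𝔮eq]
  exact hg₂

theorem exists_gen (hsy : Synt.IsSyntomic R T) (n : ℕ) (φ : MvPolynomial (Fin n) R →ₐ[R] T)
    (hφ : Function.Surjective φ) (hfg : (RingHom.ker φ.toRingHom).FG)
    (𝔮T : Ideal T) [h𝔮T : 𝔮T.IsPrime] :
    ∃ (l₀ : List (MvPolynomial (Fin n) R)) (g₂ : MvPolynomial (Fin n) R),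
      (∀ a ∈ l₀, a ∈ RingHom.ker φ.toRingHom) ∧ l₀.length ≤ n ∧
      g₂ ∉ 𝔮T.comap φ.toRingHom ∧
      ∀ a ∈ RingHom.ker φ.toRingHom, g₂ * a ∈ Ideal.ofList l₀ := by
  obtain ⟨hflat, hfp, hfib⟩ := hsy
  have hφ' : Function.Surjective φ.toRingHom := hφ
  haveI h𝔮 : (𝔮T.comap φ.toRingHom).IsPrime := Ideal.comap_isPrime _ _
  have hI𝔮 : RingHom.ker φ.toRingHom ≤ 𝔮T.comap φ.toRingHom := by
    intro a ha
    rw [Ideal.mem_comap, RingHom.mem_ker.mp ha]
    exact 𝔮T.zero_mem
  haveI hp : ((𝔮T.comap φ.toRingHom).comap (algebraMap R (MvPolynomial (Fin n) R))).IsPrime :=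
    Ideal.comap_isPrime _ _
  -- the prime of `T`
  have hqSeq : (𝔮T.comap φ.toRingHom).map φ.toRingHom = 𝔮T :=
    Ideal.map_comap_of_surjective _ hφ' 𝔮T
  have halg : algebraMap R T = φ.toRingHom.comp (algebraMap R (MvPolynomial (Fin n) R)) := by
    ext r
    exact (φ.commutes r).symm
  haveI hlies : 𝔮T.LiesOver
      ((𝔮T.comap φ.toRingHom).comap (algebraMap R (MvPolynomial (Fin n) R))) := by
    constructor
    rw [Ideal.under_def, halg, ← Ideal.comap_comap]
  -- the prime of the fibre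
  let Q' : PrimeSpectrum
      (((𝔮T.comap φ.toRingHom).comap (algebraMap R (MvPolynomial (Fin n) R))).Fiber T) :=
    PrimeSpectrum.primesOverOrderIsoFiber R T
      ((𝔮T.comap φ.toRingHom).comap (algebraMap R (MvPolynomial (Fin n) R))) ⟨𝔮T, ⟨h𝔮T, hlies⟩⟩
  have hQ' : Q'.asIdeal.comap (Algebra.TensorProduct.includeRight (R := R)
      (A := ((𝔮T.comap φ.toRingHom).comap (algebraMap R (MvPolynomial (Fin n) R))).ResidueField)
      (B := T)).toRingHom = 𝔮T := by
    have h1 := (PrimeSpectrum.primesOverOrderIsoFiber R T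
      ((𝔮T.comap φ.toRingHom).comap (algebraMap R (MvPolynomial (Fin n) R)))).symm_apply_apply
      ⟨𝔮T, ⟨h𝔮T, hlies⟩⟩
    have h2 := congrArg Subtype.val h1
    rw [PrimeSpectrum.coe_primesOverOrderIsoFiber_symm_apply] at h2
    exact h2
  obtain ⟨g, hg, hGCI⟩ := (hfib ⟨_, hp⟩).2 Q'
  -- the presentation of the fibre
  let e := Ideal.quotientKerAlgEquivOfSurjective (phik_surjective n φ hφ
    ((𝔮T.comap φ.toRingHom).comap (algebraMap R (MvPolynomial (Fin n) R))))
  have he : ∀ y, e (Ideal.Quotient.mk _ y) = phik n φ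
    ((𝔮T.comap φ.toRingHom).comap (algebraMap R (MvPolynomial (Fin n) R))) y := fun y => rfl
  haveI hq : (Q'.asIdeal.comap e).IsPrime := Ideal.comap_isPrime _ _
  have hg' : e.symm g ∉ Q'.asIdeal.comap e := by
    intro hmem
    rw [Ideal.mem_comap] at hmem
    apply hg
    have h1 : e (e.symm g) = g := e.apply_symm_apply g
    rwa [h1] at hmem
  have hGCI' := globalCI_away_equiv e.symm g hGCI
  obtain ⟨c₀, hc₀⟩ := exists_c _ n (RingHom.ker (phik n φ
    ((𝔮T.comap φ.toRingHom).comap (algebraMap R (MvPolynomial (Fin n) R)))))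
    (Q'.asIdeal.comap e)
  obtain ⟨rs, hreg, hrs⟩ := ((Groth.Agent.S9171.main _ n (RingHom.ker (phik n φ
    ((𝔮T.comap φ.toRingHom).comap (algebraMap R (MvPolynomial (Fin n) R)))))
    (Q'.asIdeal.comap e) c₀ hc₀).2).mp ⟨e.symm g, hg', hGCI'⟩
  -- the prime of `κ(p)[x]`
  haveI hq'p : ((Q'.asIdeal.comap e).comap
      (Ideal.Quotient.mk (RingHom.ker (phik n φ
        ((𝔮T.comap φ.toRingHom).comap (algebraMap R (MvPolynomial (Fin n) R))))))).IsPrime :=
    Ideal.comap_isPrime _ _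
  have h𝔮eq : ((Q'.asIdeal.comap e).comap
      (Ideal.Quotient.mk (RingHom.ker (phik n φ
        ((𝔮T.comap φ.toRingHom).comap (algebraMap R (MvPolynomial (Fin n) R))))))).comap
      (mu n ((𝔮T.comap φ.toRingHom).comap (algebraMap R (MvPolynomial (Fin n) R)))) =
      𝔮T.comap φ.toRingHom := by
    ext x
    rw [Ideal.mem_comap, Ideal.mem_comap, Ideal.mem_comap]
    have h1 : e (Ideal.Quotient.mk _ (mu n
        ((𝔮T.comap φ.toRingHom).comap (algebraMap R (MvPolynomial (Fin n) R))) x)) =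
        (1 : ((𝔮T.comap φ.toRingHom).comap
          (algebraMap R (MvPolynomial (Fin n) R))).ResidueField) ⊗ₜ[R] φ x := by
      rw [← phik_mu]
      exact he _
    rw [h1]
    have h2 : (1 : ((𝔮T.comap φ.toRingHom).comap
          (algebraMap R (MvPolynomial (Fin n) R))).ResidueField) ⊗ₜ[R] φ x ∈ Q'.asIdeal ↔
        φ.toRingHom x ∈ Q'.asIdeal.comap (Algebra.TensorProduct.includeRight (R := R)
          (A := ((𝔮T.comap φ.toRingHom).comap
            (algebraMap R (MvPolynomial (Fin n) R))).ResidueField) (B := T)).toRingHom := by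
      rw [Ideal.mem_comap]
      rfl
    rw [h2, hQ', Ideal.mem_comap]
  haveI := hflat
  obtain ⟨l₀, g₂, hl₀, hlen, hg₂, hnak⟩ := core_gen n φ hφ hfg 𝔮T _ _ h𝔮eq rs hreg hrs
  refine ⟨l₀, g₂, hl₀, ?_, hg₂, hnak⟩
  rw [hlen]
  -- the length bound
  obtain ⟨δ, -, hq'δ⟩ := exists_localDim_eq _ n (RingHom.ker (phik n φ
    ((𝔮T.comap φ.toRingHom).comap (algebraMap R (MvPolynomial (Fin n) R))))) (Q'.asIdeal.comap e)
  have hL := IsLocalization.AtPrime.ringKrullDim_eq_height ((Q'.asIdeal.comap e).comap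
      (Ideal.Quotient.mk (RingHom.ker (phik n φ
        ((𝔮T.comap φ.toRingHom).comap (algebraMap R (MvPolynomial (Fin n) R)))))))
    (Localization.AtPrime ((Q'.asIdeal.comap e).comap
      (Ideal.Quotient.mk (RingHom.ker (phik n φ
        ((𝔮T.comap φ.toRingHom).comap (algebraMap R (MvPolynomial (Fin n) R))))))))
  exact length_le_of_isRegular rs hreg _ δ n hL hq'δ

end Core

end Groth.Agent.Helper2.FinSynt
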