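import Mathlib

universe u

namespace Groth.Agent.Helper2.FittLI

open TensorProduct

/-- generic smoothness over a perfect field: every class of `H¹(L_{B/k})` is killed by an element
outside any given minimal prime of the reduced finite type `k`-algebra `B`. -/
theorem h1_torsion {k B : Type u} [Field k] [PerfectField k] [CommRing B] [Algebra k B]
    [Algebra.FiniteType k B] [IsReduced B]
    (p : Ideal B) (hp : p ∈ minimalPrimes B) (η : Algebra.H1Cotangent k B) :
    ∃ s : B, s ∉ p ∧ s • η = 0 := by
  haveI : p.IsPrime := hp.1.1
  have hmax : IsLocalRing.maximalIdeal (Localization.AtPrime p) = ⊥ := by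
    have h1 := IsLocalization.AtPrime.radical_map_of_mem_minimalPrimes
      (A := Localization.AtPrime p) p ⊥ hp
    rw [Ideal.map_bot, IsLocalization.AtPrime.map_eq_maximalIdeal p (Localization.AtPrime p)] at h1
    rw [← h1]
    exact nilradical_eq_zero _
  have hK : IsField (Localization.AtPrime p) := IsLocalRing.isField_iff_maximalIdeal_eq.mpr hmax
  letI : Field (Localization.AtPrime p) := hK.toField
  haveI : Algebra.EssFiniteType k (Localization.AtPrime p) :=
    Algebra.EssFiniteType.comp k B (Localization.AtPrime p)
  haveI : Algebra.FormallySmooth k (Localization.AtPrime p) := Algebra.FormallySmooth.of_perfectField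
  haveI : Subsingleton (Algebra.H1Cotangent k (Localization.AtPrime p)) := inferInstance
  haveI : Subsingleton ((Localization.AtPrime p) ⊗[B] Algebra.H1Cotangent k B) :=
    (Algebra.tensorH1CotangentOfIsLocalization k (Localization.AtPrime p)
      p.primeCompl).toEquiv.subsingleton
  have hloc : IsLocalizedModule p.primeCompl
      (TensorProduct.mk B (Localization.AtPrime p) (Algebra.H1Cotangent k B) 1) :=
    (isLocalizedModule_iff_isBaseChange p.primeCompl (Localization.AtPrime p) _).mpr
      (TensorProduct.isBaseChange B _ (Localization.AtPrime p))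
  obtain ⟨s, hs⟩ := IsLocalizedModule.exists_of_eq (S := p.primeCompl)
    (f := TensorProduct.mk B (Localization.AtPrime p) (Algebra.H1Cotangent k B) 1)
    (x₁ := η) (x₂ := 0) (Subsingleton.elim _ _)
  refine ⟨s, s.2, ?_⟩
  rw [smul_zero] at hs
  exact hs

end Groth.Agent.Helper2.FittLI
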