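import Mathlib
import Groth.Agent.Lib.Helper2.FittLI1
import Groth.Agent.Lib.Helper16.Alg.LciFittA

universe u

namespace Groth.Agent.Helper2.FittLI

open TensorProduct MvPolynomial

/-- rows of the Jacobian matrix of a Koszul-regular presentation of a reduced algebra over a
perfect field are linearly independent. -/
theorem jac_linearIndependent {k B : Type u} [Field k] [PerfectField k] [CommRing B] [Algebra k B]
    [IsReduced B] {r c : ℕ} (G : Algebra.Generators k B (Fin r))
    (a : Fin c → MvPolynomial (Fin r) k)
    (hker : Ideal.span (Set.range a) = G.toExtension.ker)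
    (hKR : LCI.IsKoszulRegularSeq G.toExtension.Ring (List.ofFn a)) :
    LinearIndependent B (fun i : Fin c =>
      (fun j : Fin r => MvPolynomial.aeval G.val (MvPolynomial.pderiv j (a i)))) := by
  classical
  haveI : Algebra.FiniteType k B := G.finiteType
  have hli := Groth.Agent.Helper16.LciFitt.cotangent_linearIndependent G.toExtension a hker hKR
  rw [Fintype.linearIndependent_iff] at hli ⊢
  intro v hv
  -- the class ξ
  set m : Fin c → G.toExtension.Cotangent := fun i => Algebra.Extension.Cotangent.mk
      (P := G.toExtension) ⟨a i, hker.le (Ideal.subset_span ⟨i, rfl⟩)⟩ with hm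
  set ξ : G.toExtension.Cotangent := ∑ i, v i • m i with hξ
  have hξker : G.toExtension.cotangentComplex ξ = 0 := by
    apply G.cotangentSpaceBasis.repr.injective
    ext j
    rw [hξ, map_sum, map_sum, map_zero, Finsupp.coe_finsetSum, Finset.sum_apply,
      Finsupp.coe_zero, Pi.zero_apply]
    have h2 := congrFun hv j
    rw [Finset.sum_apply, Pi.zero_apply] at h2
    rw [← h2]
    refine Finset.sum_congr rfl fun i _ => ?_
    rw [map_smul, map_smul, Finsupp.smul_apply, hm]
    simp only [Algebra.Extension.cotangentComplex_mk, Pi.smul_apply]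
    rw [Algebra.Generators.cotangentSpaceBasis_repr_one_tmul]
  -- each coefficient lies in every minimal prime
  have key : ∀ p ∈ minimalPrimes B, ∀ i, v i ∈ p := by
    intro p hp i
    haveI : p.IsPrime := hp.1.1
    let ξ' : G.toExtension.H1Cotangent := ⟨ξ, hξker⟩
    obtain ⟨s, hs, hsη⟩ := h1_torsion p hp (G.equivH1Cotangent ξ')
    have h3 : s • ξ' = 0 := by
      apply G.equivH1Cotangent.injective
      rw [map_smul, hsη, map_zero]
    have h4 : s • ξ = 0 := by
      have := congrArg Subtype.val h3
      simpa using this
    have h5 : ∑ i, (s * v i) • m i = 0 := by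
      rw [← h4, hξ, Finset.smul_sum]
      refine Finset.sum_congr rfl fun i _ => ?_
      rw [mul_smul]
    have h6 := hli (fun i => s * v i) h5 i
    have h7 : s * v i ∈ p := by
      rw [h6]; exact p.zero_mem
    exact (Ideal.IsPrime.mem_or_mem inferInstance h7).resolve_left hs
  intro i
  have h8 : v i ∈ sInf (minimalPrimes B) := by
    rw [Ideal.mem_sInf]
    intro p hp
    exact key p hp i
  have h9 : sInf (minimalPrimes B) = (⊥ : Ideal B) := by
    rw [minimalPrimes, Ideal.sInf_minimalPrimes]
    exact nilradical_eq_zero B
  rw [h9] at h8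
  exact h8

end Groth.Agent.Helper2.FittLI
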