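import Mathlib
import Groth.Prelude.Def_CAlg
import Groth.Agent.Lib.Helper12.GorArt

/-!
# Artinian rings: socles of localizations vs. torsion submodules (helper2)
-/

set_option autoImplicit false

namespace Groth.Agent.Helper2.FrobA

universe u

open IsLocalRing Groth.Agent.Helper12.GorFlatLoc

section Atom

variable {R M : Type*} [Ring R] [AddCommGroup M] [Module R M]

theorem isAtom_iff (m : Submodule R M) :
    IsAtom m ↔ m ≠ ⊥ ∧ ∀ x ∈ m, x ≠ 0 → ∀ y ∈ m, ∃ r : R, y = r • x := by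
  constructor
  · intro h
    refine ⟨h.1, fun x hx hx0 y hy => ?_⟩
    have hle : Submodule.span R {x} ≤ m := (Submodule.span_singleton_le_iff_mem x m).mpr hx
    have hne : Submodule.span R {x} ≠ ⊥ := by
      rw [Ne, Submodule.span_singleton_eq_bot]; exact hx0
    have heq : Submodule.span R {x} = m := (h.le_iff.mp hle).resolve_left hne
    rw [← heq] at hy
    obtain ⟨r, hr⟩ := Submodule.mem_span_singleton.mp hy
    exact ⟨r, hr.symm⟩
  · rintro ⟨hne, h⟩
    refine ⟨hne, fun b hb => ?_⟩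
    by_contra hb0
    obtain ⟨x, hxb, hx0⟩ := Submodule.exists_mem_ne_zero_of_ne_bot hb0
    apply hb.not_ge
    intro y hy
    obtain ⟨r, rfl⟩ := h x (hb.le hxb) hx0 y hy
    exact b.smul_mem r hxb

end Atom

section Soc

variable (F : Type u) [CommRing F] [IsArtinianRing F] (𝔫 : Ideal F) [𝔫.IsPrime]

/-- the `𝔫`-torsion of the ring itself -/
abbrev tors : Submodule F F := Submodule.torsionBySet F F (𝔫 : Set F)

variable {F 𝔫}

theorem mem_tors {x : F} : x ∈ tors F 𝔫 ↔ ∀ z ∈ 𝔫, z * x = 0 := by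
  rw [Submodule.mem_torsionBySet_iff]
  constructor
  · intro h z hz
    exact h ⟨z, hz⟩
  · intro h z
    exact h z.1 z.2

variable (F 𝔫)

theorem pi_surj : Function.Surjective (algebraMap F (Localization.AtPrime 𝔫)) :=
  IsArtinianRing.localization_surjective 𝔫.primeCompl _

variable {F 𝔫}

theorem map_mem_soc {x : F} (hx : x ∈ tors F 𝔫) :
    algebraMap F (Localization.AtPrime 𝔫) x ∈
      soc (Localization.AtPrime 𝔫) (Localization.AtPrime 𝔫) := by
  rw [Submodule.mem_torsionBySet_iff]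
  rintro ⟨m, hm⟩
  obtain ⟨y, rfl⟩ := pi_surj F 𝔫 m
  have hy : y ∈ 𝔫 :=
    (IsLocalization.AtPrime.to_map_mem_maximal_iff (Localization.AtPrime 𝔫) 𝔫 y).mp hm
  change algebraMap F (Localization.AtPrime 𝔫) y * algebraMap F (Localization.AtPrime 𝔫) x = 0
  rw [← map_mul, mem_tors.mp hx y hy, map_zero]

theorem eq_zero_of_map_eq_zero {x : F} (hx : x ∈ tors F 𝔫)
    (h0 : algebraMap F (Localization.AtPrime 𝔫) x = 0) : x = 0 := by
  obtain ⟨s, hs⟩ := (IsLocalization.map_eq_zero_iff 𝔫.primeCompl (Localization.AtPrime 𝔫) x).mp h0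
  haveI : 𝔫.IsMaximal := Ideal.isMaximal_of_isPrime 𝔫
  obtain ⟨t, z, hz, hsum⟩ := Ideal.IsMaximal.exists_inv (I := 𝔫) ‹_› s.2
  calc x = (t * s + z) * x := by rw [hsum, one_mul]
    _ = t * (s * x) + z * x := by ring
    _ = 0 := by rw [hs, mem_tors.mp hx z hz, mul_zero, add_zero]

theorem exists_of_mem_soc {c : Localization.AtPrime 𝔫}
    (hc : c ∈ soc (Localization.AtPrime 𝔫) (Localization.AtPrime 𝔫)) :
    ∃ x ∈ tors F 𝔫, algebraMap F (Localization.AtPrime 𝔫) x = c := by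
  classical
  obtain ⟨y, rfl⟩ := pi_surj F 𝔫 c
  obtain ⟨G, hG⟩ := (isNoetherianRing_iff_ideal_fg F).mp inferInstance 𝔫
  have hGn : ∀ z ∈ G, z ∈ 𝔫 := fun z hz => by rw [← hG]; exact Ideal.subset_span hz
  have key : ∀ z ∈ 𝔫, ∃ s : 𝔫.primeCompl, (s : F) * (z * y) = 0 := by
    intro z hz
    have hm : algebraMap F (Localization.AtPrime 𝔫) z ∈ maximalIdeal (Localization.AtPrime 𝔫) :=
      (IsLocalization.AtPrime.to_map_mem_maximal_iff (Localization.AtPrime 𝔫) 𝔫 z).mpr hz
    have h1 := ((Submodule.mem_torsionBySet_iff _ _).mp hc) ⟨_, hm⟩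
    have h2 : algebraMap F (Localization.AtPrime 𝔫) (z * y) = 0 := by
      rw [map_mul]; exact h1
    exact (IsLocalization.map_eq_zero_iff 𝔫.primeCompl (Localization.AtPrime 𝔫) _).mp h2
  choose! s hs using key
  let S : F := ∏ z ∈ G, (s z : F)
  have hS : S ∈ 𝔫.primeCompl := by
    apply Submonoid.prod_mem
    intro z _
    exact (s z).2
  have hSG : ∀ z ∈ G, z * (S * y) = 0 := by
    intro z hz
    obtain ⟨d, hd⟩ := Finset.dvd_prod_of_mem (fun z => (s z : F)) hz
    calc z * (S * y) = d * ((s z : F) * (z * y)) := by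
          change z * ((∏ z ∈ G, (s z : F)) * y) = _
          rw [hd]; ring
      _ = 0 := by rw [hs z (hGn z hz), mul_zero]
  have hSn : S * y ∈ tors F 𝔫 := by
    rw [mem_tors]
    intro z hz
    rw [← hG] at hz
    induction hz using Submodule.span_induction with
    | mem z hz => exact hSG z hz
    | zero => simp
    | add a b _ _ ha hb => rw [add_mul, ha, hb, add_zero]
    | smul a b _ hb => rw [smul_eq_mul, mul_assoc, hb, mul_zero]
  have hunit : IsUnit (algebraMap F (Localization.AtPrime 𝔫) S) :=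
    IsLocalization.map_units (Localization.AtPrime 𝔫) ⟨S, hS⟩
  obtain ⟨u, hu⟩ := hunit
  obtain ⟨t, ht⟩ := pi_surj F 𝔫 (↑u⁻¹ : Localization.AtPrime 𝔫)
  refine ⟨t * (S * y), (tors F 𝔫).smul_mem t hSn, ?_⟩
  rw [map_mul, map_mul, ht, ← hu, ← mul_assoc, Units.inv_mul, one_mul]

variable (F 𝔫)

theorem soc_atom_iff :
    IsAtom (soc (Localization.AtPrime 𝔫) (Localization.AtPrime 𝔫)) ↔ IsAtom (tors F 𝔫) := by
  rw [isAtom_iff, isAtom_iff]
  constructor
  · rintro ⟨hne, h⟩
    constructor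
    · obtain ⟨c, hc, hc0⟩ := Submodule.exists_mem_ne_zero_of_ne_bot hne
      obtain ⟨x, hx, rfl⟩ := exists_of_mem_soc hc
      intro hbot
      apply hc0
      have : x = 0 := by
        have : x ∈ (⊥ : Submodule F F) := hbot ▸ hx
        simpa using this
      rw [this, map_zero]
    · intro x hx hx0 y hy
      have hπx : algebraMap F (Localization.AtPrime 𝔫) x ≠ 0 := fun h0 =>
        hx0 (eq_zero_of_map_eq_zero hx h0)
      obtain ⟨u, hu⟩ := h _ (map_mem_soc hx) hπx _ (map_mem_soc hy)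
      obtain ⟨b, rfl⟩ := pi_surj F 𝔫 u
      refine ⟨b, ?_⟩
      have hmem : y - b * x ∈ tors F 𝔫 :=
        (tors F 𝔫).sub_mem hy ((tors F 𝔫).smul_mem b hx)
      have h0 : algebraMap F (Localization.AtPrime 𝔫) (y - b * x) = 0 := by
        rw [map_sub, map_mul, hu, smul_eq_mul, sub_self]
      have := eq_zero_of_map_eq_zero hmem h0
      rw [smul_eq_mul]
      exact sub_eq_zero.mp this
  · rintro ⟨hne, h⟩
    constructor
    · obtain ⟨x, hx, hx0⟩ := Submodule.exists_mem_ne_zero_of_ne_bot hne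
      intro hbot
      apply hx0
      apply eq_zero_of_map_eq_zero hx
      have : algebraMap F (Localization.AtPrime 𝔫) x ∈
          (⊥ : Submodule (Localization.AtPrime 𝔫) (Localization.AtPrime 𝔫)) :=
        hbot ▸ map_mem_soc hx
      simpa using this
    · intro c hc hc0 c' hc'
      obtain ⟨x, hx, rfl⟩ := exists_of_mem_soc hc
      obtain ⟨x', hx', rfl⟩ := exists_of_mem_soc hc'
      have hx0 : x ≠ 0 := fun h0 => hc0 (by rw [h0, map_zero])
      obtain ⟨b, hb⟩ := h x hx hx0 x' hx'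
      refine ⟨algebraMap F (Localization.AtPrime 𝔫) b, ?_⟩
      rw [hb, smul_eq_mul, map_mul, smul_eq_mul]

theorem gor_iff_atom :
    LocCoh.IsGorensteinLocalRing (Localization.AtPrime 𝔫) ↔ IsAtom (tors F 𝔫) := by
  have hdim : ringKrullDim (Localization.AtPrime 𝔫) = 0 :=
    ringKrullDimZero_iff_ringKrullDim_eq_zero.mp inferInstance
  rw [gorenstein_iff_of_dim_zero _ hdim, Module.length_eq_one_iff, isSimpleModule_iff_isAtom]
  exact soc_atom_iff F 𝔫

end Soc

section Min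

variable (F : Type u) [CommRing F] [IsArtinianRing F]

/-- in an Artinian ring all of whose torsion ideals `F[𝔫]` are atoms, every nonzero ideal contains
one of them. -/
theorem exists_tors_le (hat : ∀ (𝔫 : Ideal F) [𝔫.IsPrime], IsAtom (tors F 𝔫)) (I : Ideal F)
    (hI : I ≠ ⊥) : ∃ (𝔫 : Ideal F) (_ : 𝔫.IsMaximal), tors F 𝔫 ≤ I := by
  obtain ⟨a, ha, haI⟩ := (eq_bot_or_exists_atom_le I).resolve_left hI
  obtain ⟨x, hxa, hx0⟩ := Submodule.exists_mem_ne_zero_of_ne_bot ha.1
  have hspan : ∀ y ∈ a, ∃ r : F, y = r • x := ((isAtom_iff a).mp ha).2 x hxa hx0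
  let 𝔫 : Ideal F := LinearMap.ker (LinearMap.toSpanSingleton F F x)
  have hmem : ∀ b : F, b ∈ 𝔫 ↔ b * x = 0 := fun b => by
    simp [𝔫, LinearMap.mem_ker, LinearMap.toSpanSingleton_apply]
  have hmax : 𝔫.IsMaximal := by
    rw [Ideal.isMaximal_iff]
    refine ⟨fun h1 => hx0 (by simpa using (hmem 1).mp h1), fun J b hle hb hbJ => ?_⟩
    have hbx : b * x ≠ 0 := fun h0 => hb ((hmem b).mpr h0)
    have hbxa : b * x ∈ a := a.smul_mem b hxa
    obtain ⟨c, hc⟩ := ((isAtom_iff a).mp ha).2 (b * x) hbxa hbx x hxa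
    have h1 : 1 - c * b ∈ 𝔫 := by
      rw [hmem, sub_mul, one_mul, mul_assoc, sub_eq_zero]
      exact hc
    have : (1 : F) = (1 - c * b) + c * b := by ring
    rw [this]
    exact J.add_mem (hle h1) (J.mul_mem_left c hbJ)
  haveI := hmax
  have hle : a ≤ tors F 𝔫 := by
    intro y hy
    obtain ⟨r, rfl⟩ := hspan y hy
    rw [mem_tors]
    intro z hz
    rw [smul_eq_mul, ← mul_assoc, mul_comm z r, mul_assoc, (hmem z).mp hz, mul_zero]
  have heq : a = tors F 𝔫 := ((hat 𝔫).le_iff.mp hle).resolve_left ha.1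
  exact ⟨𝔫, hmax, heq ▸ haI⟩

end Min

end Groth.Agent.Helper2.FrobA
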