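import Mathlib
import Groth.Prelude.Def_Disc
import Groth.Agent.Lib.Helper2.FrobA

/-!
# Finite-dimensional commutative algebras over a field: Gorenstein iff `Hom_k(F,k) ≅ F` (helper2)
-/

set_option autoImplicit false

namespace Groth.Agent.Helper2.FrobB

universe u

open Disc Groth.Agent.Helper2.FrobA Module

variable {k F : Type u} [Field k] [CommRing F] [Algebra k F]

/-- the `𝔫`-torsion of `Hom_k(F,k)` -/
abbrev otors (k : Type u) {F : Type u} [Field k] [CommRing F] [Algebra k F] (𝔫 : Ideal F) :
    Submodule F (Omega k F) :=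
  Submodule.torsionBySet F (Omega k F) (𝔫 : Set F)

theorem mem_otors {𝔫 : Ideal F} {φ : Omega k F} :
    φ ∈ otors k 𝔫 ↔ ∀ z ∈ 𝔫, ∀ x, φ.toLinearMap (z * x) = 0 := by
  rw [Submodule.mem_torsionBySet_iff]
  constructor
  · intro h z hz x
    have := h ⟨z, hz⟩
    have h2 := congrArg (fun ψ : Omega k F => ψ.toLinearMap x) this
    simpa using h2
  · intro h z
    apply Omega.ext
    refine LinearMap.ext fun x => ?_
    simpa using h z.1 z.2 x

variable [Module.Finite k F]

/-- the functional `x ↦ φ (b x)` as a `k`-linear map in `b` -/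
noncomputable def T (φ : Omega k F) : F →ₗ[k] Module.Dual k F where
  toFun b := φ.toLinearMap ∘ₗ LinearMap.mulLeft k b
  map_add' a b := by
    refine LinearMap.ext fun x => ?_
    simp [add_mul]
  map_smul' c b := by
    refine LinearMap.ext fun x => ?_
    simp

@[simp] theorem T_apply (φ : Omega k F) (b x : F) : T φ b x = φ.toLinearMap (b * x) := rfl

theorem otors_atom (𝔫 : Ideal F) [h𝔫 : 𝔫.IsMaximal] : IsAtom (otors k 𝔫) := by
  rw [isAtom_iff]
  let N : Submodule k F := 𝔫.restrictScalars k
  have hN : ∀ x, x ∈ N ↔ x ∈ 𝔫 := fun x => Iff.rfl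
  have h1 : (1 : F) ∉ N := fun h => h𝔫.ne_top ((Ideal.eq_top_iff_one 𝔫).mpr h)
  constructor
  · obtain ⟨f, hf1, hf⟩ := Submodule.exists_dual_map_eq_bot_of_notMem h1 inferInstance
    intro hbot
    have hmem : (⟨f⟩ : Omega k F) ∈ otors k 𝔫 := by
      rw [mem_otors]
      intro z hz x
      have : f (z * x) ∈ N.map f := ⟨z * x, 𝔫.mul_mem_right x hz, rfl⟩
      rw [hf] at this
      simpa using this
    rw [hbot] at hmem
    have h0 : (⟨f⟩ : Omega k F) = 0 := by simpa using hmem
    apply hf1
    have := congrArg (fun ψ : Omega k F => ψ.toLinearMap 1) h0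
    simpa using this
  · intro φ hφ hφ0 ψ hψ
    rw [mem_otors] at hφ hψ
    -- kernel of T φ is 𝔫
    have hker : LinearMap.ker (T φ) = N := by
      ext b
      rw [LinearMap.mem_ker, hN]
      constructor
      · intro hb
        by_contra hbn
        obtain ⟨c, z, hz, hsum⟩ := Ideal.IsMaximal.exists_inv h𝔫 hbn
        apply hφ0
        apply Omega.ext
        refine LinearMap.ext fun x => ?_
        have e1 : x = b * (c * x) + z * x := by
          calc x = (c * b + z) * x := by rw [hsum, one_mul]
            _ = _ := by ring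
        have e2 : φ.toLinearMap (b * (c * x)) = 0 := by
          have := LinearMap.congr_fun hb (c * x)
          simpa using this
        rw [e1, map_add, e2, hφ z hz x]
        simp
      · intro hb
        refine LinearMap.ext fun x => ?_
        simpa using hφ b hb x
    have hrange : LinearMap.range (T φ) ≤ N.dualAnnihilator := by
      rintro _ ⟨b, rfl⟩
      rw [Submodule.mem_dualAnnihilator]
      intro z hz
      rw [T_apply, mul_comm]
      exact hφ z hz b
    have hfr : finrank k (LinearMap.range (T φ)) = finrank k N.dualAnnihilator := by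
      have e1 := LinearMap.finrank_range_add_finrank_ker (T φ)
      have e2 := Subspace.finrank_add_finrank_dualAnnihilator_eq N
      rw [hker] at e1
      omega
    have heq : LinearMap.range (T φ) = N.dualAnnihilator :=
      Submodule.eq_of_le_of_finrank_eq hrange hfr
    have hψmem : ψ.toLinearMap ∈ N.dualAnnihilator := by
      rw [Submodule.mem_dualAnnihilator]
      intro z hz
      have := hψ z hz 1
      rwa [mul_one] at this
    rw [← heq] at hψmem
    obtain ⟨b, hb⟩ := hψmem
    refine ⟨b, ?_⟩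
    apply Omega.ext
    refine LinearMap.ext fun x => ?_
    have := LinearMap.congr_fun hb x
    simpa using this.symm

theorem isArtinianRing (k : Type u) (F : Type u) [Field k] [CommRing F] [Algebra k F]
    [Module.Finite k F] : IsArtinianRing F := IsArtinianRing.of_finite k F

/-- if `Hom_k(F,k) ≅ F` then every localization of `F` is Gorenstein. -/
theorem gor_of_equiv (e : Omega k F ≃ₗ[F] F) (𝔫 : Ideal F) [𝔫.IsPrime] :
    LocCoh.IsGorensteinLocalRing (Localization.AtPrime 𝔫) := by
  haveI : IsArtinianRing F := isArtinianRing k F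
  haveI : 𝔫.IsMaximal := Ideal.isMaximal_of_isPrime 𝔫
  rw [gor_iff_atom, isAtom_iff]
  obtain ⟨hne, hat⟩ := (isAtom_iff _).mp (otors_atom (k := k) 𝔫)
  have htr : ∀ φ : Omega k F, φ ∈ otors k 𝔫 ↔ e φ ∈ tors F 𝔫 := by
    intro φ
    rw [Submodule.mem_torsionBySet_iff, Submodule.mem_torsionBySet_iff]
    refine forall_congr' fun z => ?_
    rw [← map_smul, e.map_eq_zero_iff]
  constructor
  · obtain ⟨φ, hφ, hφ0⟩ := Submodule.exists_mem_ne_zero_of_ne_bot hne
    intro hbot
    have h1 : e φ ∈ tors F 𝔫 := (htr φ).mp hφ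
    rw [hbot] at h1
    have h2 : e φ = 0 := by simpa using h1
    exact hφ0 (e.map_eq_zero_iff.mp h2)
  · intro x hx hx0 y hy
    have hx' : e.symm x ∈ otors k 𝔫 := by rw [htr, e.apply_symm_apply]; exact hx
    have hy' : e.symm y ∈ otors k 𝔫 := by rw [htr, e.apply_symm_apply]; exact hy
    have hx0' : e.symm x ≠ 0 := fun h0 => hx0 (e.symm.map_eq_zero_iff.mp h0)
    obtain ⟨b, hb⟩ := hat _ hx' hx0' _ hy'
    refine ⟨b, ?_⟩
    have := congrArg e hb
    rwa [map_smul, e.apply_symm_apply, e.apply_symm_apply] at this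

/-- a Gorenstein finite-dimensional algebra carries a nondegenerate (Frobenius) form. -/
theorem exists_frobenius
    (h : ∀ (𝔫 : Ideal F) [𝔫.IsPrime], LocCoh.IsGorensteinLocalRing (Localization.AtPrime 𝔫)) :
    ∃ lam : F →ₗ[k] k, ∀ b : F, (∀ x, lam (b * x) = 0) → b = 0 := by
  classical
  haveI : IsArtinianRing F := isArtinianRing k F
  have hat : ∀ (𝔫 : Ideal F) [𝔫.IsPrime], IsAtom (tors F 𝔫) := fun 𝔫 _ =>
    (gor_iff_atom F 𝔫).mp (h 𝔫)
  cases nonempty_fintype (MaximalSpectrum F)
  -- nonzero socle elements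
  have hx : ∀ i : MaximalSpectrum F, ∃ x ∈ tors F i.asIdeal, x ≠ 0 := fun i =>
    haveI := i.isMaximal.isPrime
    Submodule.exists_mem_ne_zero_of_ne_bot (hat i.asIdeal).1
  choose x hxm hx0 using hx
  have hl : ∀ i : MaximalSpectrum F, ∃ f : Module.Dual k F, f (x i) ≠ 0 := fun i =>
    Module.Projective.exists_dual_ne_zero k (hx0 i)
  choose l hl using hl
  -- CRT idempotent-like elements
  have hcop : Pairwise (Function.onFun IsCoprime fun i : MaximalSpectrum F => i.asIdeal) := by
    intro i j hij
    haveI := i.isMaximal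
    haveI := j.isMaximal
    exact Ideal.isCoprime_of_isMaximal (fun heq => hij (MaximalSpectrum.ext heq))
  have he : ∀ i : MaximalSpectrum F, ∃ e : F, ∀ j : MaximalSpectrum F,
      e - (Pi.single i (1 : F) : MaximalSpectrum F → F) j ∈ j.asIdeal := fun i =>
    Ideal.exists_forall_sub_mem_ideal hcop (Pi.single i (1 : F))
  choose e he using he
  let lam : F →ₗ[k] k := ∑ i, (l i) ∘ₗ LinearMap.mulLeft k (e i)
  have hlam : ∀ (j : MaximalSpectrum F) (y : F), y ∈ tors F j.asIdeal → lam y = l j y := by
    intro j y hy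
    have hsum : lam y = ∑ i, l i (e i * y) := by
      simp [lam, LinearMap.sum_apply]
    rw [hsum, Finset.sum_eq_single j]
    · have h1 := he j j
      rw [Pi.single_eq_same] at h1
      have h2 := mem_tors.mp hy _ h1
      rw [sub_mul, one_mul, sub_eq_zero] at h2
      rw [h2]
    · intro i _ hij
      have h1 := he i j
      rw [Pi.single_eq_of_ne (Ne.symm hij), sub_zero] at h1
      rw [mem_tors.mp hy _ h1, map_zero]
    · intro hj
      exact absurd (Finset.mem_univ j) hj
  refine ⟨lam, fun b hb => ?_⟩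
  by_contra hb0
  let I : Ideal F :=
    { carrier := {b | ∀ x, lam (b * x) = 0}
      add_mem' := fun {a b} ha hb x => by
        change lam ((a + b) * x) = 0
        rw [add_mul, map_add, ha x, hb x, add_zero]
      zero_mem' := fun x => by
        change lam (0 * x) = 0
        rw [zero_mul, map_zero]
      smul_mem' := fun c b hb x => by
        change lam (c • b * x) = 0
        rw [smul_eq_mul, mul_assoc, mul_left_comm]
        exact hb (c * x) }
  have hbI : b ∈ I := hb
  have hI : I ≠ ⊥ := fun hbot => hb0 (by rw [hbot] at hbI; simpa using hbI)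
  obtain ⟨𝔫, h𝔫, hle⟩ := exists_tors_le F hat I hI
  let j : MaximalSpectrum F := ⟨𝔫, h𝔫⟩
  have hxj : x j ∈ I := hle (hxm j)
  have h0 : lam (x j * 1) = 0 := hxj 1
  rw [mul_one, hlam j (x j) (hxm j)] at h0
  exact hl j h0

/-- a Gorenstein finite-dimensional algebra `F` has `Hom_k(F,k)` cyclic. -/
theorem cyclic_of_gor
    (h : ∀ (𝔫 : Ideal F) [𝔫.IsPrime], LocCoh.IsGorensteinLocalRing (Localization.AtPrime 𝔫)) :
    ∃ lam : Omega k F, ∀ φ : Omega k F, ∃ b : F, φ = b • lam := by
  obtain ⟨lam, hlam⟩ := exists_frobenius (k := k) h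
  refine ⟨⟨lam⟩, fun φ => ?_⟩
  have hinj : Function.Injective (T (⟨lam⟩ : Omega k F)) := by
    rw [← LinearMap.ker_eq_bot, LinearMap.ker_eq_bot']
    intro b hb
    apply hlam b
    intro x
    have := LinearMap.congr_fun hb x
    simpa using this
  have hsurj : Function.Surjective (T (⟨lam⟩ : Omega k F)) :=
    (LinearMap.injective_iff_surjective_of_finrank_eq_finrank
      (Subspace.dual_finrank_eq (K := k) (V := F)).symm).mp hinj
  obtain ⟨b, hb⟩ := hsurj φ.toLinearMap
  refine ⟨b, ?_⟩
  apply Omega.ext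
  refine LinearMap.ext fun x => ?_
  have := LinearMap.congr_fun hb x
  simpa using this.symm

end Groth.Agent.Helper2.FrobB
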