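import Mathlib
import Groth.Agent.S12080

/-!
# A faithful module which is cyclic on a cover pulled back from the base is invertible (helper2)
-/

set_option autoImplicit false

namespace Groth.Agent.Helper2.FrobC

universe u

section L

variable {B M : Type u} [CommRing B] [AddCommGroup M] [Module B M]

theorem away_equiv (r : B) (φ₀ : M) (hgen : ∀ m : M, ∃ c : B, r • m = c • φ₀)
    (hfaith : ∀ b : B, (∀ m : M, b • m = 0) → b = 0) :
    Nonempty (LocalizedModule.Away r M ≃ₗ[Localization.Away r] Localization.Away r) := by
  let h : Localization.Away r →ₗ[Localization.Away r] LocalizedModule.Away r M :=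
    LinearMap.toSpanSingleton _ _ (LocalizedModule.mk φ₀ 1)
  have hr : r ∈ Submonoid.powers r := Submonoid.mem_powers r
  have hinj : Function.Injective h := by
    rw [← LinearMap.ker_eq_bot, LinearMap.ker_eq_bot']
    intro x hx
    induction x using Localization.induction_on with
    | H y =>
      obtain ⟨b, s⟩ := y
      have h1 : h (Localization.mk b s) = LocalizedModule.mk (b • φ₀) (s * 1) := by
        simp only [h, LinearMap.toSpanSingleton_apply]
        exact LocalizedModule.mk_smul_mk b φ₀ s 1
      rw [h1, ← LocalizedModule.zero_mk (1 : Submonoid.powers r), LocalizedModule.mk_eq] at hx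
      obtain ⟨u, hu⟩ := hx
      have hub : (u : B) • b • φ₀ = 0 := by
        simpa [Submonoid.smul_def] using hu
      have hz : (u : B) * r * b = 0 := by
        apply hfaith
        intro m
        obtain ⟨c, hc⟩ := hgen m
        calc ((u : B) * r * b) • m = ((u : B) * b) • (r • m) := by
              rw [smul_smul]; congr 1; ring
          _ = c • ((u : B) • b • φ₀) := by
              rw [hc, smul_smul, smul_smul, smul_smul]; congr 1; ring
          _ = 0 := by rw [hub, smul_zero]
      rw [Localization.mk_eq_mk', IsLocalization.mk'_eq_zero_iff]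
      exact ⟨u * ⟨r, hr⟩, hz⟩
  have hsurj : Function.Surjective h := by
    intro y
    induction y using LocalizedModule.induction_on with
    | h m s =>
      obtain ⟨c, hc⟩ := hgen m
      refine ⟨Localization.mk c (⟨r, hr⟩ * s), ?_⟩
      have h1 : h (Localization.mk c (⟨r, hr⟩ * s)) =
          LocalizedModule.mk (c • φ₀) (⟨r, hr⟩ * s * 1) := by
        simp only [h, LinearMap.toSpanSingleton_apply]
        exact LocalizedModule.mk_smul_mk c φ₀ _ 1
      rw [h1, LocalizedModule.mk_eq]
      refine ⟨1, ?_⟩
      simp only [one_smul, mul_one, Submonoid.smul_def, Submonoid.coe_mul]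
      rw [← hc, smul_smul]
      congr 1
      ring
  exact ⟨(LinearEquiv.ofBijective h ⟨hinj, hsurj⟩).symm⟩

end L

section C

variable {A B M : Type u} [CommRing A] [CommRing B] [Algebra A B] [AddCommGroup M] [Module B M]

theorem invertible_of_cover
    (hfaith : ∀ b : B, (∀ m : M, b • m = 0) → b = 0)
    (hloc : ∀ (p : Ideal A) [p.IsMaximal], ∃ a : A, a ∉ p ∧
      ∃ φ₀ : M, ∀ m : M, ∃ c : B, algebraMap A B a • m = c • φ₀) :
    Module.Invertible B M := by
  let s : Set B := {r | Nonempty (LocalizedModule.Away r M ≃ₗ[Localization.Away r]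
    Localization.Away r)}
  refine Groth.Agent.S12080.result B M s ?_ (fun f hf => hf)
  let T : Ideal A := Ideal.span {a | algebraMap A B a ∈ s}
  have hT : T = ⊤ := by
    by_contra hne
    obtain ⟨p, hp, hTp⟩ := Ideal.exists_le_maximal T hne
    haveI := hp
    obtain ⟨a, hap, φ₀, hgen⟩ := hloc p
    have : algebraMap A B a ∈ s := away_equiv _ φ₀ hgen hfaith
    exact hap (hTp (Ideal.subset_span this))
  rw [eq_top_iff, ← Ideal.map_top (algebraMap A B), ← hT, Ideal.map_span]
  apply Ideal.span_mono
  rintro _ ⟨a, ha, rfl⟩
  exact ha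

end C

end Groth.Agent.Helper2.FrobC
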