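import Mathlib.CategoryTheory.Abelian.GrothendieckCategory.EnoughInjectives
import Mathlib.CategoryTheory.Abelian.GrothendieckAxioms.Sheaf
import Mathlib.Algebra.Category.Grp.AB

/-! Functorial injective embeddings in Grothendieck abelian categories. -/

namespace Groth.Agent.Helper2

open CategoryTheory Limits MorphismProperty ZeroObject

universe w v u

/-- In a Grothendieck abelian category there are functorial injective embeddings. -/
theorem exists_functorial_injective_embedding (C : Type u) [Category.{v} C] [Abelian C]
    [IsGrothendieckAbelian.{w} C] :
    ∃ (J : C ⥤ C) (j : 𝟭 C ⟶ J), ∀ X : C, Injective (J.obj X) ∧ Mono (j.app X) := by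
  let data : FunctorialFactorizationData (monomorphisms C) (monomorphisms C).rlp :=
    functorialFactorizationData _ _
  let T : C ⥤ Arrow C :=
    { obj := fun X => Arrow.mk (0 : X ⟶ (0 : C))
      map := fun {X Y} f => Arrow.homMk f (𝟙 (0 : C)) (by simp)
      map_id := fun X => by ext <;> simp
      map_comp := fun f g => by ext <;> simp }
  refine ⟨T ⋙ data.Z, { app := fun X => data.i.app (T.obj X), naturality := ?_ }, ?_⟩
  · intro X Y f
    exact data.i.naturality (T.map f)
  · intro X
    constructor
    · rw [injective_iff_rlp_monomorphisms_zero]
      have h := data.hp (T.obj X)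
      have e : data.p.app (T.obj X) = 0 := (isZero_zero C).eq_of_tgt _ _
      rw [e] at h
      exact h
    · exact data.hi (T.obj X)

end Groth.Agent.Helper2
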