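import Mathlib

universe u

namespace Groth.Agent.Helper2.GenPt

/-- localization of a reduced ring at a minimal prime is a field. -/
theorem isField_of_atPrime_minimal {A K : Type u} [CommRing A] [IsReduced A] [CommRing K]
    [Algebra A K] (q : Ideal A) [q.IsPrime] [IsLocalization.AtPrime K q]
    (hq : q ∈ minimalPrimes A) : IsField K := by
  haveI : IsReduced K := isReduced_localizationPreserves q.primeCompl K inferInstance
  haveI : IsLocalRing K := IsLocalization.AtPrime.isLocalRing K q
  have h1 := IsLocalization.AtPrime.radical_map_of_mem_minimalPrimes (A := K) q ⊥ hq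
  rw [Ideal.map_bot, IsLocalization.AtPrime.map_eq_maximalIdeal q K] at h1
  refine IsLocalRing.isField_iff_maximalIdeal_eq.mpr ?_
  rw [← h1]
  exact nilradical_eq_zero _

/-- an element avoiding all minimal primes of a reduced ring is a non-zero-divisor. -/
theorem mem_nonZeroDivisors_of_forall_notMem {A : Type*} [CommRing A] [IsReduced A] (s : A)
    (hs : ∀ q ∈ minimalPrimes A, s ∉ q) : s ∈ nonZeroDivisors A := by
  rw [mem_nonZeroDivisors_iff_right]
  intro y hy
  have h1 : y ∈ sInf (minimalPrimes A) := by
    rw [Ideal.mem_sInf]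
    intro q hq
    haveI : q.IsPrime := hq.1.1
    have h2 : y * s ∈ q := by rw [hy]; exact q.zero_mem
    exact (Ideal.IsPrime.mem_or_mem inferInstance h2).resolve_right (hs q hq)
  have h9 : sInf (minimalPrimes A) = (⊥ : Ideal A) := by
    rw [minimalPrimes, Ideal.sInf_minimalPrimes]
    exact nilradical_eq_zero A
  rw [h9] at h1
  exact h1

/-- if an element `t` of a module over a reduced noetherian ring has nonzero image in a torsion-free
localization at a prime, then its image in the localization at some minimal prime is nonzero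
(no element outside that minimal prime kills `t`). -/
theorem exists_minimal_forall_smul_ne_zero {A : Type*} [CommRing A] [IsNoetherianRing A]
    [IsReduced A] {M : Type*} [AddCommGroup M] [Module A M] (t : M)
    {Ap Mp : Type*} [CommRing Ap] [Algebra A Ap] (S : Submonoid A) [IsLocalization S Ap]
    [AddCommGroup Mp] [Module A Mp] [Module Ap Mp] [IsScalarTower A Ap Mp]
    (f : M →ₗ[A] Mp) [Module.IsTorsionFree Ap Mp] (ht : f t ≠ 0) :
    ∃ q ∈ minimalPrimes A, ∀ s : A, s ∉ q → s • t ≠ 0 := by
  classical
  by_contra hcon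
  push Not at hcon
  set I : Ideal A := LinearMap.ker (LinearMap.toSpanSingleton A M t) with hI
  have hmem : ∀ s : A, s ∈ I ↔ s • t = 0 := by
    intro s
    rw [hI, LinearMap.mem_ker, LinearMap.toSpanSingleton_apply]
  have hfin : (minimalPrimes A).Finite := minimalPrimes.finite_of_isNoetherianRing A
  have key := Ideal.subset_union_prime (R := A) (s := hfin.toFinset) (f := fun q : Ideal A => q)
    ⊥ ⊥ (fun q hq _ _ => by rw [Set.Finite.mem_toFinset] at hq; exact hq.1.1) (I := I)
  have hnot : ¬ ((I : Set A) ⊆ ⋃ q ∈ (↑hfin.toFinset : Set (Ideal A)), (q : Set A)) := by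
    rw [key]
    rintro ⟨q, hq, hle⟩
    rw [Set.Finite.mem_toFinset] at hq
    obtain ⟨s, hsq, hst⟩ := hcon q hq
    exact hsq (hle ((hmem s).mpr hst))
  rw [Set.not_subset] at hnot
  obtain ⟨s, hsI, hsU⟩ := hnot
  have hs : ∀ q ∈ minimalPrimes A, s ∉ q := by
    intro q hq hsq
    apply hsU
    simp only [Set.mem_iUnion]
    exact ⟨q, by simpa using hq, hsq⟩
  have hnzd := mem_nonZeroDivisors_of_forall_notMem s hs
  have hnzd' : algebraMap A Ap s ∈ nonZeroDivisors Ap :=
    IsLocalization.map_nonZeroDivisors_le S Ap (Submonoid.mem_map_of_mem _ hnzd)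
  have hreg : IsRegular (algebraMap A Ap s) := isRegular_iff_mem_nonZeroDivisors.mpr hnzd'
  have hsm : IsSMulRegular Mp (algebraMap A Ap s) := Module.IsTorsionFree.isSMulRegular hreg
  apply ht
  apply hsm
  show algebraMap A Ap s • f t = algebraMap A Ap s • 0
  rw [smul_zero, algebraMap_smul, ← map_smul, (hmem s).mp hsI, map_zero]

end Groth.Agent.Helper2.GenPt
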