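import Mathlib
import Groth.Prelude.Def_Coh
import Groth.Prelude.Def_TorSh
import Groth.Prelude.Def_FlatMod2
import Groth.Agent.Lib.Helper13.QCohLoc
import Groth.Agent.Lib.Helper13.LocFree2
import Groth.Agent.Lib.Helper2.GenPt1

universe u
open CategoryTheory CategoryTheory.Limits AlgebraicGeometry

namespace Groth.Agent.Helper2.GenPt

open Groth.Agent.Helper13.QCohLoc

/-- (GEN) a nonzero torsion-free coherent module on a reduced locally noetherian scheme has a nonzero
stalk of finite length at a generic point `ξ` of an irreducible component. -/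
theorem exists_minimal_point_length_ne_zero {X : Scheme.{u}} [IsReduced X] [IsLocallyNoetherian X]
    (G : X.Modules) (hG : Coh.IsCoh G) (htf : TorSh.IsTorsionFree G) (h0 : ¬ IsZero G) :
    ∃ ξ : X, (∀ y : X, ξ ∈ closure ({y} : Set X) → y = ξ) ∧
      (Module.length (X.presheaf.stalk ξ) (G.presheaf.stalk ξ)).toNat ≠ 0 := by
  classical
  haveI : G.IsQuasicoherent := hG.1
  haveI : SheafOfModules.IsFiniteType (R := X.ringCatSheaf) G := hG.2
  rw [Groth.Agent.Helper13.QCoh.isZero_iff_stalk] at h0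
  push Not at h0
  obtain ⟨x, hx⟩ := h0
  obtain ⟨_, ⟨U, hU, rfl⟩, hxU, -⟩ :=
    X.isBasis_affineOpens.exists_subset_of_mem_open (Set.mem_univ x) isOpen_univ
  haveI : IsNoetherianRing Γ(X, U) := IsLocallyNoetherian.component_noetherian ⟨U, hU⟩
  obtain ⟨xU, rfl⟩ : ∃ xU : U, (xU : X) = x := ⟨⟨x, hxU⟩, rfl⟩
  -- step 1: a section with nonzero germ at x
  obtain ⟨t, ht⟩ : ∃ t : Γ(G, U), germLin G xU t ≠ 0 := by
    letI := modStalk G xU
    haveI := isScalarTower_stalk G xU
    haveI := isLocalizedModule_germ G hU xU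
    obtain ⟨m, hm⟩ := exists_ne (0 : G.presheaf.stalk (xU : X))
    obtain ⟨⟨t, s⟩, hts⟩ := IsLocalizedModule.surj (hU.primeIdealOf xU).asIdeal.primeCompl
      (germLin G xU) m
    refine ⟨t, fun h => hm ?_⟩
    rw [h] at hts
    have hu := IsLocalizedModule.map_units (germLin G xU) s
    rw [Module.End.isUnit_iff] at hu
    apply hu.1
    rw [map_zero]
    exact hts
  -- step 2: a minimal prime at which `t` stays nonzero
  obtain ⟨q, hq, hqt⟩ : ∃ q ∈ minimalPrimes Γ(X, U), ∀ s : Γ(X, U), s ∉ q → s • t ≠ 0 := by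
    letI := modStalk G xU
    haveI := isScalarTower_stalk G xU
    haveI : IsLocalization (hU.primeIdealOf xU).asIdeal.primeCompl
        (X.presheaf.stalk (xU : X)) := hU.isLocalization_stalk xU
    haveI : Module.IsTorsionFree (X.presheaf.stalk (xU : X))
        (G.presheaf.stalk (xU : X)) := htf xU
    exact exists_minimal_forall_smul_ne_zero (Ap := X.presheaf.stalk (xU : X)) t
      (hU.primeIdealOf xU).asIdeal.primeCompl (germLin G xU) ht
  -- step 3: the corresponding point
  haveI hqp : q.IsPrime := hq.1.1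
  obtain ⟨ξ, hξ⟩ : ∃ ξ : U, (ξ : X) = hU.fromSpec ⟨q, hqp⟩ := by
    have h1 := hU.range_fromSpec
    have h2 : hU.fromSpec ⟨q, hqp⟩ ∈ (U : Set X) := by
      rw [← h1]
      exact ⟨_, rfl⟩
    exact ⟨⟨_, h2⟩, rfl⟩
  have hprime : hU.primeIdealOf ξ = ⟨q, hqp⟩ := by
    apply hU.fromSpec.isOpenEmbedding.injective
    rw [← hξ]
    exact hU.fromSpec_primeIdealOf ξ
  -- step 4: the stalk at ξ is nonzero
  have hne : germLin G ξ t ≠ 0 := by
    letI := modStalk G ξ
    haveI := isScalarTower_stalk G ξ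
    haveI := isLocalizedModule_germ G hU ξ
    intro h
    have h1 : germLin G ξ t = germLin G ξ 0 := by
      rw [map_zero]
      exact h
    obtain ⟨⟨s, hsmem⟩, hs⟩ := IsLocalizedModule.exists_of_eq
      (S := (hU.primeIdealOf ξ).asIdeal.primeCompl) h1
    rw [smul_zero] at hs
    have hsq : s ∉ q := by
      have h2 : s ∉ (hU.primeIdealOf ξ).asIdeal := hsmem
      rw [hprime] at h2
      exact h2
    exact hqt s hsq hs
  -- step 5: field and length
  have hK : IsField (X.presheaf.stalk (ξ : X)) := by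
    haveI : IsLocalization.AtPrime (X.presheaf.stalk (ξ : X)) (hU.primeIdealOf ξ).asIdeal :=
      hU.isLocalization_stalk ξ
    apply isField_of_atPrime_minimal (hU.primeIdealOf ξ).asIdeal
    rw [hprime]
    exact hq
  haveI hfin : Module.Finite (X.presheaf.stalk (ξ : X)) (G.presheaf.stalk (ξ : X)) :=
    Groth.Agent.Helper13.LocFree.finite_stalk_of_isFiniteType G ξ
  haveI : Nontrivial (G.presheaf.stalk (ξ : X)) := ⟨⟨_, 0, hne⟩⟩
  have hlen : (Module.length (X.presheaf.stalk (ξ : X)) (G.presheaf.stalk (ξ : X))).toNat ≠ 0 := by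
    letI : Field (X.presheaf.stalk (ξ : X)) := hK.toField
    rw [Ne, ENat.toNat_eq_zero, not_or]
    constructor
    · rw [Module.length_eq_zero_iff]
      exact not_subsingleton _
    · rw [← Ne, Module.length_ne_top_iff]
      exact isFiniteLength_iff_isNoetherian_isArtinian.mpr ⟨inferInstance, inferInstance⟩
  -- step 6: minimality
  refine ⟨ξ, ?_, hlen⟩
  intro y hy
  have hspec : y ⤳ (ξ : X) := specializes_iff_mem_closure.mpr hy
  have hyU : y ∈ U := hspec.mem_open U.isOpen ξ.2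
  have h2 : (⟨y, hyU⟩ : U) ⤳ ξ := (subtype_specializes_iff _ _).mpr hspec
  have h3 : hU.primeIdealOf ⟨y, hyU⟩ ⤳ hU.primeIdealOf ξ :=
    h2.map (hU.isoSpec.hom.continuous)
  rw [← PrimeSpectrum.le_iff_specializes] at h3
  have h4 : (hU.primeIdealOf ⟨y, hyU⟩).asIdeal ≤ q := by
    have h5 := (PrimeSpectrum.asIdeal_le_asIdeal _ _).mpr h3
    rw [hprime] at h5
    exact h5
  have h5 : q ≤ (hU.primeIdealOf ⟨y, hyU⟩).asIdeal :=
    hq.2 ⟨(hU.primeIdealOf ⟨y, hyU⟩).isPrime, bot_le⟩ h4
  have h6 : hU.primeIdealOf ⟨y, hyU⟩ = hU.primeIdealOf ξ := by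
    rw [hprime]
    exact PrimeSpectrum.ext (le_antisymm h4 h5)
  have h7 : hU.fromSpec (hU.primeIdealOf ⟨y, hyU⟩) = hU.fromSpec (hU.primeIdealOf ξ) := by
    rw [h6]
  rw [hU.fromSpec_primeIdealOf, hU.fromSpec_primeIdealOf] at h7
  exact h7

end Groth.Agent.Helper2.GenPt
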