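import Mathlib.Topology.Sober
import Mathlib.Topology.Irreducible
import Mathlib.Topology.Inseparable

set_option autoImplicit false

namespace Groth.Agent.Helper2.GenericPtsTop

open Topology

section
variable {α β : Type*} [TopologicalSpace α] [TopologicalSpace β]

/-- In a quasi-sober space, the generic points of irreducible components are the points all of
whose generizations are specializations. -/
theorem mem_genericPoints_iff [QuasiSober α] (x : α) :
    x ∈ genericPoints α ↔ ∀ y, y ⤳ x → x ⤳ y := by
  constructor
  · intro h y hyx
    have hsub : closure ({x} : Set α) ⊆ closure {y} :=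
      closure_minimal (Set.singleton_subset_iff.mpr (specializes_iff_mem_closure.mp hyx))
        isClosed_closure
    have hirr : IsIrreducible (closure ({y} : Set α)) := isIrreducible_singleton.closure
    have := h.2 hirr hsub
    exact specializes_iff_mem_closure.mpr (this (subset_closure rfl))
  · intro h
    refine ⟨isIrreducible_singleton.closure, ?_⟩
    intro Z hZ hsub
    obtain ⟨ζ, hζ⟩ := QuasiSober.sober hZ.closure isClosed_closure
    have hxZ : x ∈ closure Z := subset_closure (hsub (subset_closure rfl))
    rw [← hζ.def] at hxZ
    have h1 : ζ ⤳ x := specializes_iff_mem_closure.mpr hxZ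
    have h2 : x ⤳ ζ := h ζ h1
    have h3 : ζ ∈ closure ({x} : Set α) := specializes_iff_mem_closure.mp h2
    calc Z ⊆ closure Z := subset_closure
      _ = closure {ζ} := hζ.def.symm
      _ ⊆ closure {x} := closure_minimal (Set.singleton_subset_iff.mpr h3) isClosed_closure

/-- Generic points are compatible with open embeddings. -/
theorem mem_genericPoints_iff_of_isOpenEmbedding [QuasiSober α] [QuasiSober β] {j : α → β}
    (hj : IsOpenEmbedding j) (x : α) : x ∈ genericPoints α ↔ j x ∈ genericPoints β := by
  rw [mem_genericPoints_iff, mem_genericPoints_iff]
  constructor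
  · intro h y hy
    have hyr : y ∈ Set.range j := hy.mem_open hj.isOpen_range ⟨x, rfl⟩
    obtain ⟨y', rfl⟩ := hyr
    have : y' ⤳ x := hj.isInducing.specializes_iff.mp hy
    exact hj.isInducing.specializes_iff.mpr (h y' this)
  · intro h y hy
    have : j y ⤳ j x := hj.isInducing.specializes_iff.mpr hy
    exact hj.isInducing.specializes_iff.mp (h (j y) this)

theorem image_genericPoints_of_isOpenEmbedding [QuasiSober α] [QuasiSober β] {j : α → β}
    (hj : IsOpenEmbedding j) : j '' genericPoints α = Set.range j ∩ genericPoints β := by
  ext y
  constructor
  · rintro ⟨x, hx, rfl⟩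
    exact ⟨⟨x, rfl⟩, (mem_genericPoints_iff_of_isOpenEmbedding hj x).mp hx⟩
  · rintro ⟨⟨x, rfl⟩, hx⟩
    exact ⟨x, (mem_genericPoints_iff_of_isOpenEmbedding hj x).mpr hx, rfl⟩

theorem finite_irreducibleComponents_iff [QuasiSober α] [T0Space α] :
    (irreducibleComponents α).Finite ↔ (genericPoints α).Finite := by
  constructor
  · exact genericPoints.finite
  · intro h
    haveI : Finite (genericPoints α) := h
    haveI : Finite (irreducibleComponents α) := Finite.of_equiv _ genericPoints.equiv
    exact Set.toFinite _

/-- Finiteness of irreducible components of the source of an open embedding in terms of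
generic points of the target. -/
theorem finite_irreducibleComponents_iff_of_isOpenEmbedding [QuasiSober α] [T0Space α]
    [QuasiSober β] {j : α → β} (hj : IsOpenEmbedding j) :
    (irreducibleComponents α).Finite ↔ (Set.range j ∩ genericPoints β).Finite := by
  rw [finite_irreducibleComponents_iff, ← image_genericPoints_of_isOpenEmbedding hj]
  exact (Set.finite_image_iff hj.injective.injOn).symm

end

end Groth.Agent.Helper2.GenericPtsTop
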