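import Mathlib.RingTheory.GradedAlgebra.Homogeneous.Ideal
import Mathlib.RingTheory.Ideal.Operations

set_option autoImplicit false
universe u

open DirectSum

namespace Groth.Agent.Helper2.GradedAvoid

variable {R S : Type u} [CommRing R] [CommRing S] [Algebra R S]
  (𝒜 : ℕ → Submodule R S) [GradedAlgebra 𝒜]

/-- A homogeneous ideal not contained in an ideal `q` has a homogeneous element outside `q`. -/
theorem exists_homogeneous_notMem {J q : Ideal S} (hJ : J.IsHomogeneous 𝒜) (h : ¬ J ≤ q) :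
    ∃ (y : S) (d : ℕ), y ∈ 𝒜 d ∧ y ∈ J ∧ y ∉ q := by
  classical
  obtain ⟨a, haJ, haq⟩ := Set.not_subset.mp h
  by_contra hcon
  push Not at hcon
  apply haq
  rw [← DirectSum.sum_support_decompose 𝒜 a]
  refine Ideal.sum_mem _ (fun i _ => ?_)
  exact hcon _ i (SetLike.coe_mem _) (hJ i haJ)

/-- A nonzero homogeneous element of the irrelevant ideal has positive degree. -/
theorem pos_of_mem_irrelevant {y : S} {d : ℕ} (hy : y ∈ 𝒜 d)
    (hirr : y ∈ (HomogeneousIdeal.irrelevant 𝒜).toIdeal) (hy0 : y ≠ 0) : 0 < d := by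
  rcases Nat.eq_zero_or_pos d with rfl | h
  · exfalso
    apply hy0
    have h1 : GradedRing.proj 𝒜 0 y = 0 := hirr
    rw [GradedRing.proj_apply, DirectSum.decompose_of_mem_same 𝒜 hy] at h1
    exact h1
  · exact h

/-- Graded prime avoidance. -/
theorem graded_prime_avoidance (T : Finset (Ideal S))
    (hT : ∀ q ∈ T, q.IsPrime ∧ q.IsHomogeneous 𝒜) (I : Ideal S) (hIh : I.IsHomogeneous 𝒜)
    (hI : I ≤ (HomogeneousIdeal.irrelevant 𝒜).toIdeal) (h : ∀ q ∈ T, ¬ I ≤ q) :
    ∃ (x : S) (d : ℕ), 0 < d ∧ x ∈ 𝒜 d ∧ x ∈ I ∧ ∀ q ∈ T, x ∉ q := by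
  classical
  suffices H : ∀ n : ℕ, ∀ T : Finset (Ideal S), (∀ q ∈ T, q.IsPrime ∧ q.IsHomogeneous 𝒜) →
      (∀ q ∈ T, ¬ I ≤ q) → T.card = n →
      ∃ (x : S) (d : ℕ), 0 < d ∧ x ∈ 𝒜 d ∧ x ∈ I ∧ ∀ q ∈ T, x ∉ q from H _ T hT h rfl
  clear hT h T
  intro n
  induction n using Nat.strong_induction_on with
  | _ n ih =>
  intro T hT h hn
  rcases T.eq_empty_or_nonempty with rfl | hne
  · exact ⟨0, 1, Nat.one_pos, zero_mem _, zero_mem _, by simp⟩
  by_cases hchain : ∃ q ∈ T, ∃ q' ∈ T, q ≠ q' ∧ q ≤ q'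
  · obtain ⟨q, hq, q', hq', hne', hle⟩ := hchain
    obtain ⟨x, d, hd, hx, hxI, hxT⟩ := ih (T.erase q).card (by
      rw [← hn]; exact Finset.card_erase_lt_of_mem hq) (T.erase q)
      (fun a ha => hT a (Finset.mem_of_mem_erase ha))
      (fun a ha => h a (Finset.mem_of_mem_erase ha)) rfl
    refine ⟨x, d, hd, hx, hxI, ?_⟩
    intro a ha hxa
    by_cases haq : a = q
    · subst haq
      exact hxT q' (Finset.mem_erase.mpr ⟨hne'.symm, hq'⟩) (hle hxa)
    · exact hxT a (Finset.mem_erase.mpr ⟨haq, ha⟩) hxa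
  · push Not at hchain
    obtain ⟨q, hq⟩ := hne
    obtain ⟨x, d, hd, hx, hxI, hxT⟩ := ih (T.erase q).card (by
      rw [← hn]; exact Finset.card_erase_lt_of_mem hq) (T.erase q)
      (fun a ha => hT a (Finset.mem_of_mem_erase ha))
      (fun a ha => h a (Finset.mem_of_mem_erase ha)) rfl
    by_cases hxq : x ∉ q
    · refine ⟨x, d, hd, hx, hxI, ?_⟩
      intro a ha
      by_cases haq : a = q
      · subst haq; exact hxq
      · exact hxT a (Finset.mem_erase.mpr ⟨haq, ha⟩)
    · push Not at hxq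
      haveI hqp : q.IsPrime := (hT q hq).1
      let J : Ideal S := I * ∏ a ∈ T.erase q, a
      have hJh : J.IsHomogeneous 𝒜 := by
        refine hIh.mul ?_
        refine Finset.prod_induction _ (fun K : Ideal S => K.IsHomogeneous 𝒜)
          (fun _ _ ha hb => ha.mul hb) ?_ (fun a ha => (hT a (Finset.mem_of_mem_erase ha)).2)
        rw [Ideal.one_eq_top]
        exact Ideal.IsHomogeneous.top 𝒜
      have hJq : ¬ J ≤ q := by
        intro hle
        rcases (Ideal.IsPrime.mul_le hqp).mp hle with h1 | h1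
        · exact h q hq h1
        · obtain ⟨a, ha, haq⟩ := (Ideal.IsPrime.prod_le hqp).mp h1
          have ha' := Finset.mem_erase.mp ha
          exact hchain a ha'.2 q hq ha'.1 haq
      obtain ⟨y, e, hy, hyJ, hyq⟩ := exists_homogeneous_notMem 𝒜 hJh hJq
      have hyI : y ∈ I := (Ideal.mul_le_left : I * (∏ a ∈ T.erase q, a) ≤ I) hyJ
      have hyT : ∀ a ∈ T.erase q, y ∈ a := by
        intro a ha
        have : J ≤ a := (Ideal.mul_le_right : I * (∏ a ∈ T.erase q, a) ≤ _).trans (Ideal.prod_le_inf.trans (Finset.inf_le ha))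
        exact this hyJ
      have he : 0 < e := pos_of_mem_irrelevant 𝒜 hy (hI hyI) (fun h0 => hyq (h0 ▸ zero_mem _))
      refine ⟨x ^ e + y ^ d, d * e, Nat.mul_pos hd he, ?_, ?_, ?_⟩
      · refine add_mem ?_ ?_
        · have := SetLike.pow_mem_graded e hx
          rwa [smul_eq_mul, mul_comm] at this
        · have := SetLike.pow_mem_graded d hy
          rwa [smul_eq_mul] at this
      · exact add_mem (Ideal.pow_mem_of_mem _ hxI e he) (Ideal.pow_mem_of_mem _ hyI d hd)
      · intro a ha hmem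
        by_cases haq : a = q
        · subst haq
          have h1 : x ^ e ∈ a := Ideal.pow_mem_of_mem _ hxq e he
          have h2 : y ^ d ∈ a := (Ideal.add_mem_iff_right _ h1).mp hmem
          exact hyq (hqp.mem_of_pow_mem d h2)
        · have ha' : a ∈ T.erase q := Finset.mem_erase.mpr ⟨haq, ha⟩
          haveI hap : a.IsPrime := (hT a ha).1
          have h1 : y ^ d ∈ a := Ideal.pow_mem_of_mem _ (hyT a ha') d hd
          have h2 : x ^ e ∈ a := (Ideal.add_mem_iff_left _ h1).mp hmem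
          exact hxT a ha' (hap.mem_of_pow_mem e h2)

end Groth.Agent.Helper2.GradedAvoid
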