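import Mathlib.RingTheory.Ideal.KrullsHeightTheorem
import Mathlib.RingTheory.Ideal.Height
import Mathlib.RingTheory.Spectrum.Prime.Topology
import Mathlib.RingTheory.Ideal.MinimalPrime.Noetherian

set_option autoImplicit false

namespace Groth.Agent.Helper2.HeightOne

section
variable {R : Type*} [CommRing R] [IsDomain R] [IsNoetherianRing R]

/-- In a Noetherian domain, given a nonzero prime `Q` and a finite set `T` of primes none of which
contains `Q`, there is a height-one prime below `Q` contained in no member of `T`. -/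
theorem exists_height_one (Q : Ideal R) [Q.IsPrime] (hQ : Q ≠ ⊥) (T : Finset (PrimeSpectrum R))
    (hT : ∀ p ∈ T, ¬ Q ≤ p.asIdeal) :
    ∃ P : PrimeSpectrum R, P.asIdeal.height = 1 ∧ P.asIdeal ≤ Q ∧
      ∀ p ∈ T, ¬ P.asIdeal ≤ p.asIdeal := by
  classical
  let b : PrimeSpectrum R := ⟨⊥, Ideal.isPrime_bot⟩
  let T' : Finset (PrimeSpectrum R) := insert b T
  have hT' : ∀ p ∈ T', ¬ Q ≤ p.asIdeal := by
    intro p hp
    rcases Finset.mem_insert.mp hp with rfl | hp
    · intro hle
      exact hQ (le_bot_iff.mp hle)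
    · exact hT p hp
  have h2 : ¬ ((Q : Set R) ⊆ ⋃ p ∈ (↑T' : Set (PrimeSpectrum R)), (p.asIdeal : Set R)) := by
    rw [Ideal.subset_union_prime (f := fun p : PrimeSpectrum R => p.asIdeal) b b
      (fun p _ _ _ => p.isPrime)]
    rintro ⟨p, hp, hle⟩
    exact hT' p hp hle
  rw [Set.not_subset] at h2
  obtain ⟨x, hxQ, hx⟩ := h2
  have hx' : ∀ p ∈ T', x ∉ p.asIdeal := by
    intro p hp hxp
    apply hx
    simp only [Set.mem_iUnion]
    exact ⟨p, hp, hxp⟩
  have hx0 : x ≠ 0 := by
    intro h0
    apply hx' b (Finset.mem_insert_self _ _)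
    rw [h0]
    exact Ideal.zero_mem _
  have hle : Ideal.span {x} ≤ Q := (Ideal.span_singleton_le_iff_mem Q).mpr hxQ
  obtain ⟨P, hPmin, hPQ⟩ := Ideal.exists_minimalPrimes_le hle
  haveI hPprime : P.IsPrime := hPmin.1.1
  have hxP : x ∈ P := hPmin.1.2 (Ideal.mem_span_singleton_self x)
  have h1 : P.height ≤ 1 :=
    Ideal.height_le_one_of_isPrincipal_of_mem_minimalPrimes (Ideal.span {x}) P hPmin
  have h0 : P.height ≠ 0 := by
    intro h
    rw [Ideal.height_eq_zero_iff_eq_bot] at h
    rw [h] at hxP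
    exact hx0 ((Ideal.mem_bot).mp hxP)
  refine ⟨⟨P, hPprime⟩, le_antisymm h1 (Order.one_le_iff_pos.mpr (pos_iff_ne_zero.mpr h0)), hPQ, ?_⟩
  intro p hp hle
  exact hx' p (Finset.mem_insert_of_mem hp) (hle hxP)

/-- In a Noetherian domain, a prime of height at least two contains infinitely many height-one
primes. -/
theorem infinite_height_one (Q : Ideal R) [Q.IsPrime] (hQ : 2 ≤ Q.height) :
    {P : PrimeSpectrum R | P.asIdeal.height = 1 ∧ P.asIdeal ≤ Q}.Infinite := by
  classical
  intro hfin
  have hQ0 : Q ≠ ⊥ := by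
    intro h
    rw [h, Ideal.height_bot] at hQ
    exact absurd hQ (by decide)
  obtain ⟨P, hP1, hPQ, hPT⟩ := exists_height_one Q hQ0 hfin.toFinset (by
    intro p hp hle
    have hp' := hfin.mem_toFinset.mp hp
    have := Ideal.height_mono hle
    rw [hp'.1] at this
    exact absurd (hQ.trans this) (by decide))
  exact hPT P (hfin.mem_toFinset.mpr ⟨hP1, hPQ⟩) le_rfl

/-- In a Noetherian domain, only finitely many height-one primes contain a given nonzero element. -/
theorem finite_height_one_mem (f : R) (hf : f ≠ 0) :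
    {P : PrimeSpectrum R | P.asIdeal.height = 1 ∧ f ∈ P.asIdeal}.Finite := by
  have hfin : (Ideal.span {f} : Ideal R).minimalPrimes.Finite :=
    Ideal.finite_minimalPrimes_of_isNoetherianRing R _
  refine (hfin.preimage (f := fun P : PrimeSpectrum R => P.asIdeal) ?_).subset ?_
  · intro p _ q _ h
    exact PrimeSpectrum.ext h
  · rintro P ⟨hP1, hfP⟩
    have hle : Ideal.span {f} ≤ P.asIdeal := (Ideal.span_singleton_le_iff_mem _).mpr hfP
    haveI : P.asIdeal.FiniteHeight := ⟨Or.inr (by rw [hP1]; exact ENat.one_ne_top)⟩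
    refine Ideal.mem_minimalPrimes_of_height_le hle ?_
    rw [hP1]
    exact Ideal.one_le_height_span_singleton_of_mem_nonZeroDivisors
      (mem_nonZeroDivisors_of_ne_zero hf)

end

end Groth.Agent.Helper2.HeightOne
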