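import Mathlib

universe u v

namespace Groth.Agent.Lib.Helper2.ReesFam

open Polynomial

attribute [local instance] Polynomial.algebra

/-- a weighted basis of a `K`-algebra with a multiplicative weight filtration -/
structure Fam (K : Type u) (A : Type u) (ι : Type v) [Field K] [CommRing A] [Algebra K A] where
  a : ι → A
  ω : ι → ℕ
  li : LinearIndependent K a
  span : ∀ x : A, x ∈ Submodule.span K (Set.range a)
  i₀ : ι
  a_i₀ : a i₀ = 1
  ω_i₀ : ω i₀ = 0
  mul : ∀ i j, a i * a j ∈ Submodule.span K (a '' {k | ω k ≤ ω i + ω j})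

variable {K : Type u} {A : Type u} {ι : Type v} [Field K] [CommRing A] [Algebra K A]

namespace Fam

variable (F : Fam K A ι)

/-- the filtration -/
def Fil (N : ℕ) : Submodule K A := Submodule.span K (F.a '' {k | F.ω k ≤ N})

theorem Fil_mono {N N' : ℕ} (h : N ≤ N') : F.Fil N ≤ F.Fil N' := by
  apply Submodule.span_mono
  apply Set.image_mono
  intro k hk
  exact le_trans hk h

theorem a_mem_Fil (i : ι) : F.a i ∈ F.Fil (F.ω i) :=
  Submodule.subset_span ⟨i, le_refl (F.ω i), rfl⟩

theorem Fil_mul {N N' : ℕ} {x y : A} (hx : x ∈ F.Fil N) (hy : y ∈ F.Fil N') :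
    x * y ∈ F.Fil (N + N') := by
  refine Submodule.span_induction ?_ ?_ ?_ ?_ hx
  · rintro _ ⟨i, hi, rfl⟩
    refine Submodule.span_induction ?_ ?_ ?_ ?_ hy
    · rintro _ ⟨j, hj, rfl⟩
      exact F.Fil_mono (add_le_add hi hj) (F.mul i j)
    · rw [mul_zero]; exact Submodule.zero_mem _
    · intro y z _ _ hy hz
      rw [mul_add]; exact Submodule.add_mem _ hy hz
    · intro c y _ hy
      rw [mul_smul_comm]; exact Submodule.smul_mem _ _ hy
  · rw [zero_mul]; exact Submodule.zero_mem _
  · intro x z _ _ hx hz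
    rw [add_mul]; exact Submodule.add_mem _ hx hz
  · intro c x _ hx
    rw [smul_mul_assoc]; exact Submodule.smul_mem _ _ hx

/-- the homogenized basis -/
noncomputable def e (i : ι) : A[X] := monomial (F.ω i) (F.a i)

/-- the Rees module -/
noncomputable def M : Submodule K[X] A[X] := Submodule.span K[X] (Set.range F.e)

theorem smul_monomial (p : K[X]) (N : ℕ) (x : A) (m : ℕ) :
    (p • (monomial N x : A[X])).coeff m = if N ≤ m then p.coeff (m - N) • x else 0 := by
  rw [Algebra.smul_def, Polynomial.algebraMap_def, coe_mapRingHom, ← C_mul_X_pow_eq_monomial,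
    ← mul_assoc, coeff_mul_X_pow']
  split_ifs with h
  · rw [coeff_mul_C, coeff_map, Algebra.smul_def]
  · rfl

theorem monomial_mem {N : ℕ} {x : A} (hx : x ∈ F.Fil N) : (monomial N x : A[X]) ∈ F.M := by
  refine Submodule.span_induction ?_ ?_ ?_ ?_ hx
  · rintro _ ⟨i, hi, rfl⟩
    have : (monomial N (F.a i) : A[X]) = (X ^ (N - F.ω i) : K[X]) • F.e i := by
      ext m
      unfold e
      rw [smul_monomial, coeff_monomial, coeff_X_pow]
      have hi' : F.ω i ≤ N := hi
      by_cases h1 : N = m
      · subst h1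
        rw [if_pos rfl, if_pos hi', if_pos rfl, one_smul]
      · rw [if_neg h1]
        split_ifs with h2 h3
        · omega
        · rw [zero_smul]
        · rfl
    rw [this]
    exact Submodule.smul_mem _ _ (Submodule.subset_span ⟨i, rfl⟩)
  · rw [map_zero]; exact Submodule.zero_mem _
  · intro x y _ _ hx hy
    rw [map_add]; exact Submodule.add_mem _ hx hy
  · intro c x _ hx
    have : (monomial N (c • x) : A[X]) = (C c : K[X]) • monomial N x := by
      ext m
      rw [smul_monomial, coeff_monomial]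
      by_cases h1 : N = m
      · subst h1
        rw [if_pos rfl, if_pos (le_refl _), Nat.sub_self, coeff_C_zero]
      · rw [if_neg h1]
        split_ifs with h2
        · rw [coeff_C, if_neg (by omega), zero_smul]
        · rfl
    rw [this]
    exact Submodule.smul_mem _ _ hx

theorem one_mem : (1 : A[X]) ∈ F.M := by
  have : (1 : A[X]) = F.e F.i₀ := by
    unfold e
    rw [F.a_i₀, F.ω_i₀]
    rfl
  rw [this]
  exact Submodule.subset_span ⟨_, rfl⟩

theorem mul_mem {x y : A[X]} (hx : x ∈ F.M) (hy : y ∈ F.M) : x * y ∈ F.M := by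
  refine Submodule.span_induction ?_ ?_ ?_ ?_ hx
  · rintro _ ⟨i, rfl⟩
    refine Submodule.span_induction ?_ ?_ ?_ ?_ hy
    · rintro _ ⟨j, rfl⟩
      unfold e
      rw [monomial_mul_monomial]
      exact F.monomial_mem (F.mul i j)
    · rw [mul_zero]; exact Submodule.zero_mem _
    · intro y z _ _ hy hz
      rw [mul_add]; exact Submodule.add_mem _ hy hz
    · intro c y _ hy
      rw [mul_smul_comm]; exact Submodule.smul_mem _ _ hy
  · rw [zero_mul]; exact Submodule.zero_mem _
  · intro x z _ _ hx hz
    rw [add_mul]; exact Submodule.add_mem _ hx hz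
  · intro c x _ hx
    rw [smul_mul_assoc]; exact Submodule.smul_mem _ _ hx

/-- the Rees algebra -/
noncomputable def R : Subalgebra K[X] A[X] :=
  F.M.toSubalgebra F.one_mem (fun _ _ hx hy => F.mul_mem hx hy)

theorem e_li : LinearIndependent K[X] F.e := by
  rw [linearIndependent_iff']
  intro s g hg i hi
  ext k
  have h1 := congrArg (fun q => q.coeff (k + F.ω i)) hg
  simp only [finsetSum_coeff, coeff_zero] at h1
  have h2 : ∀ j, (g j • F.e j).coeff (k + F.ω i) =
      (if F.ω j ≤ k + F.ω i then (g j).coeff (k + F.ω i - F.ω j) else 0) • F.a j := by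
    intro j
    unfold e
    rw [smul_monomial]
    split_ifs
    · rfl
    · rw [zero_smul]
  simp_rw [h2] at h1
  have h3 := linearIndependent_iff'.mp F.li s _ h1 i hi
  rw [if_pos (by omega)] at h3
  simpa using h3

noncomputable instance : Algebra K F.R := inferInstance

instance : IsScalarTower K K[X] F.R := inferInstance

/-- the basis elements in the Rees algebra -/
noncomputable def e' (i : ι) : F.R := ⟨F.e i, Submodule.subset_span ⟨i, rfl⟩⟩

theorem free : Module.Free K[X] F.R := by
  have b : Module.Basis ι K[X] (Submodule.span K[X] (Set.range F.e)) := Module.Basis.span F.e_li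
  have e1 : (Submodule.span K[X] (Set.range F.e)) ≃ₗ[K[X]] F.R :=
    (LinearEquiv.ofEq _ _ (Submodule.toSubalgebra_toSubmodule F.M F.one_mem
      (fun _ _ hx hy => F.mul_mem hx hy)).symm).trans (Subalgebra.toSubmoduleEquiv _)
  haveI : Module.Free K[X] (Submodule.span K[X] (Set.range F.e)) := Module.Free.of_basis b
  exact Module.Free.of_equiv e1

/-- evaluation at `t = c` -/
noncomputable def evc (c : K) : F.R →ₐ[K] A :=
  ((Polynomial.aeval (algebraMap K A c) : A[X] →ₐ[A] A).restrictScalars K).comp
    (F.R.val.restrictScalars K)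

theorem evc_apply (c : K) (r : F.R) : F.evc c r = (r : A[X]).eval (algebraMap K A c) := by
  unfold evc
  simp

theorem eval_smul_e (c : K) (p : K[X]) (i : ι) :
    (p • F.e i).eval (algebraMap K A c) = (p.eval c * c ^ F.ω i) • F.a i := by
  unfold e
  rw [Algebra.smul_def, Polynomial.algebraMap_def, coe_mapRingHom, eval_mul, eval_monomial,
    eval_map_algebraMap, Algebra.smul_def, map_mul, map_pow, mul_assoc, aeval_algebraMap_apply]
  congr 1
  rw [mul_comm]

theorem evc_surjective (c : K) (hc : c ≠ 0) : Function.Surjective (F.evc c) := by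
  intro x
  have hx := F.span x
  have : Submodule.span K (Set.range F.a) ≤ LinearMap.range (F.evc c).toLinearMap := by
    rw [Submodule.span_le]
    rintro _ ⟨i, rfl⟩
    refine ⟨(c⁻¹ ^ F.ω i) • F.e' i, ?_⟩
    rw [AlgHom.toLinearMap_apply, map_smul, evc_apply]
    have h1 : ((F.e' i : F.R) : A[X]) = (1 : K[X]) • F.e i := by rw [one_smul]; rfl
    rw [h1, eval_smul_e, eval_one, one_mul, smul_smul, ← mul_pow, inv_mul_cancel₀ hc, one_pow,
      one_smul]
  obtain ⟨r, hr⟩ := this hx
  exact ⟨r, hr⟩

theorem exists_finsupp (r : F.R) : ∃ l : ι →₀ K[X], (r : A[X]) = l.sum fun i p => p • F.e i := by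
  have hr : (r : A[X]) ∈ Submodule.span K[X] (Set.range F.e) := r.2
  rw [Finsupp.mem_span_range_iff_exists_finsupp] at hr
  obtain ⟨l, hl⟩ := hr
  exact ⟨l, hl.symm⟩

theorem sum_mem (l : ι →₀ K[X]) : (l.sum fun i p => p • F.e i) ∈ F.R := by
  apply Subalgebra.sum_mem
  intro i _
  exact Submodule.smul_mem F.M _ (Submodule.subset_span ⟨i, rfl⟩)

theorem ker_evc (c : K) (hc : c ≠ 0) :
    RingHom.ker (F.evc c).toRingHom = Ideal.span {algebraMap K[X] F.R (X - C c)} := by
  apply le_antisymm
  · intro r hr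
    rw [RingHom.mem_ker] at hr
    have hr' : F.evc c r = 0 := hr
    rw [evc_apply] at hr'
    obtain ⟨l, hl⟩ := F.exists_finsupp r
    rw [hl, Finsupp.sum, eval_finsetSum] at hr'
    simp_rw [eval_smul_e] at hr'
    have h1 := linearIndependent_iff'.mp F.li l.support _ hr'
    have h2 : ∀ i, (l i).eval c = 0 := by
      intro i
      by_cases hi : i ∈ l.support
      · have := h1 i hi
        rcases mul_eq_zero.mp this with h | h
        · exact h
        · exact absurd (eq_zero_of_pow_eq_zero h) hc
      · rw [Finsupp.notMem_support_iff.mp hi, eval_zero]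
    have h3 : ∀ i, ∃ q : K[X], l i = (X - C c) * q := by
      intro i
      exact dvd_iff_isRoot.mpr (h2 i)
    choose q hq using h3
    have hq0 : ∀ i, i ∉ l.support → q i = 0 := by
      intro i hi
      have := hq i
      rw [Finsupp.notMem_support_iff.mp hi] at this
      rcases mul_eq_zero.mp this.symm with h | h
      · exact absurd h (X_sub_C_ne_zero c)
      · exact h
    let l' : ι →₀ K[X] := Finsupp.onFinset l.support q (fun i hi => by
      by_contra hcon
      exact hi (hq0 i hcon))
    rw [Ideal.mem_span_singleton']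
    refine ⟨⟨_, F.sum_mem l'⟩, ?_⟩
    apply Subtype.ext
    rw [Subalgebra.coe_mul, hl]
    show (l'.sum fun i p => p • F.e i) * algebraMap K[X] A[X] (X - C c) = _
    rw [Finsupp.sum, Finsupp.sum, Finset.sum_mul]
    have hsub : l'.support ⊆ l.support := Finsupp.support_onFinset_subset
    rw [Finset.sum_subset hsub]
    · apply Finset.sum_congr rfl
      intro i _
      rw [hq i, mul_comm, ← Algebra.smul_def, smul_smul]
      rfl
    · intro i _ hi
      rw [Finsupp.notMem_support_iff.mp hi, zero_smul, zero_mul]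
  · rw [Ideal.span_le]
    intro r hr
    rw [Set.mem_singleton_iff] at hr
    subst hr
    rw [SetLike.mem_coe, RingHom.mem_ker]
    show F.evc c _ = 0
    rw [evc_apply]
    show (algebraMap K[X] A[X] (X - C c)).eval _ = 0
    rw [Polynomial.algebraMap_def, coe_mapRingHom, eval_map_algebraMap]
    simp

/-- the fibre at `c ≠ 0` -/
noncomputable def fibreEquiv (c : K) (hc : c ≠ 0) :
    (F.R ⧸ Ideal.span {algebraMap K[X] F.R (X - C c)}) ≃ₐ[K] A :=
  (Ideal.quotientEquivAlgOfEq K (F.ker_evc c hc).symm).trans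
    (Ideal.quotientKerAlgEquivOfSurjective (F.evc_surjective c hc))

theorem mem_span_X_of_monomial (r : F.R) (N : ℕ) (x : A) (hx : x ∈ F.Fil N)
    (hr : (r : A[X]) = monomial (N + 1) x) : r ∈ Ideal.span {algebraMap K[X] F.R X} := by
  rw [Ideal.mem_span_singleton']
  refine ⟨⟨monomial N x, F.monomial_mem hx⟩, ?_⟩
  apply Subtype.ext
  rw [Subalgebra.coe_mul, hr]
  show monomial N x * algebraMap K[X] A[X] X = _
  rw [Polynomial.algebraMap_def, coe_mapRingHom, map_X, monomial_mul_X]

theorem coe_e' (i : ι) : ((F.e' i : F.R) : A[X]) = F.e i := rfl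

theorem smul_e'_mk (p : K[X]) (i : ι) :
    Ideal.Quotient.mk (Ideal.span {algebraMap K[X] F.R X}) (p • F.e' i) =
      (p.coeff 0) • Ideal.Quotient.mk (Ideal.span {algebraMap K[X] F.R X}) (F.e' i) := by
  have h1 : p • F.e' i = (p.coeff 0) • F.e' i + algebraMap K[X] F.R X * (p.divX • F.e' i) := by
    conv_lhs => rw [← Polynomial.divX_mul_X_add p, add_smul, add_comm]
    congr 1
    · rw [← IsScalarTower.algebraMap_smul K[X] (p.coeff 0) (F.e' i)]
      rfl
    · rw [mul_comm, mul_smul, Algebra.smul_def]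
  rw [h1, map_add, map_mul]
  have h2 : Ideal.Quotient.mk (Ideal.span {algebraMap K[X] F.R X}) (algebraMap K[X] F.R X) = 0 := by
    rw [Ideal.Quotient.eq_zero_iff_mem]
    exact Ideal.subset_span rfl
  rw [h2, zero_mul, add_zero]
  rfl

theorem eq_sum_e' (r : F.R) (l : ι →₀ K[X]) (hl : (r : A[X]) = l.sum fun i p => p • F.e i) :
    r = l.sum fun i p => p • F.e' i := by
  apply Subtype.ext
  rw [hl, Finsupp.sum, Finsupp.sum]
  have : ((∑ i ∈ l.support, l i • F.e' i : F.R) : A[X]) = ∑ i ∈ l.support, ((l i • F.e' i : F.R) : A[X]) := by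
    exact map_sum F.R.val _ _
  rw [this]
  rfl

theorem fibre0_bijective {B : Type*} [CommRing B] [Algebra K B]
    (g : B →ₐ[K] (F.R ⧸ Ideal.span {algebraMap K[X] F.R X})) (b : ι → B)
    (hb : ∀ y : B, y ∈ Submodule.span K (Set.range b))
    (hg : ∀ i, g (b i) = Ideal.Quotient.mk _ (F.e' i)) : Function.Bijective g := by
  classical
  constructor
  · rw [injective_iff_map_eq_zero]
    intro y hy
    have hy' := hb y
    rw [Finsupp.mem_span_range_iff_exists_finsupp] at hy'
    obtain ⟨c, rfl⟩ := hy'
    rw [Finsupp.sum, map_sum] at hy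
    simp_rw [map_smul, hg] at hy
    have h1 : (Ideal.Quotient.mk (Ideal.span {algebraMap K[X] F.R X}))
        (∑ i ∈ c.support, c i • F.e' i) = 0 := by
      rw [map_sum, ← hy]
      rfl
    rw [Ideal.Quotient.eq_zero_iff_mem, Ideal.mem_span_singleton'] at h1
    obtain ⟨r', hr'⟩ := h1
    obtain ⟨q, hq⟩ := F.exists_finsupp r'
    have h2 : ((r' * algebraMap K[X] F.R X : F.R) : A[X]) =
        ((∑ i ∈ c.support, c i • F.e' i : F.R) : A[X]) := congrArg (fun r : F.R => (r : A[X])) hr'
    rw [Subalgebra.coe_mul, hq] at h2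
    have h3 : ((∑ i ∈ c.support, c i • F.e' i : F.R) : A[X]) = ∑ i ∈ c.support, C (c i) • F.e i := by
      rw [show ((∑ i ∈ c.support, c i • F.e' i : F.R) : A[X]) =
        ∑ i ∈ c.support, ((c i • F.e' i : F.R) : A[X]) from map_sum F.R.val _ _]
      apply Finset.sum_congr rfl
      intro i _
      rw [← IsScalarTower.algebraMap_smul K[X] (c i) (F.e' i)]
      rfl
    rw [h3] at h2
    have h4 : (q.sum fun i p => p • F.e i) * ((algebraMap K[X] F.R X : F.R) : A[X]) =
        ∑ i ∈ q.support, (X * q i) • F.e i := by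
      rw [Finsupp.sum, Finset.sum_mul]
      apply Finset.sum_congr rfl
      intro i _
      show (q i • F.e i) * algebraMap K[X] A[X] X = _
      rw [mul_comm, ← Algebra.smul_def, smul_smul]
    rw [h4] at h2
    set s := c.support ∪ q.support with hs
    have h5 : ∑ i ∈ s, (C (c i) - X * q i) • F.e i = 0 := by
      simp_rw [sub_smul]
      rw [Finset.sum_sub_distrib, sub_eq_zero]
      rw [← Finset.sum_subset (Finset.subset_union_left : c.support ⊆ s),
        ← Finset.sum_subset (Finset.subset_union_right : q.support ⊆ s)]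
      · exact h2.symm
      · intro i _ hi
        rw [Finsupp.notMem_support_iff.mp hi, mul_zero, zero_smul]
      · intro i _ hi
        rw [Finsupp.notMem_support_iff.mp hi, map_zero, zero_smul]
    have h6 := linearIndependent_iff'.mp F.e_li s _ h5
    have h7 : ∀ i ∈ c.support, c i = 0 := by
      intro i hi
      have := h6 i (Finset.mem_union_left _ hi)
      have h8 := congrArg (fun p => Polynomial.coeff p 0) this
      simpa using h8
    rw [Finsupp.sum]
    apply Finset.sum_eq_zero
    intro i hi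
    rw [h7 i hi, zero_smul]
  · intro z
    obtain ⟨r, rfl⟩ := Ideal.Quotient.mk_surjective z
    obtain ⟨l, hl⟩ := F.exists_finsupp r
    rw [F.eq_sum_e' r l hl, Finsupp.sum, map_sum]
    simp_rw [smul_e'_mk]
    refine ⟨∑ i ∈ l.support, ((l i).coeff 0) • b i, ?_⟩
    rw [map_sum]
    apply Finset.sum_congr rfl
    intro i _
    rw [map_smul, hg]

theorem exists_family {B : Type u} [CommRing B] [Algebra K B]
    (g : B →ₐ[K] (F.R ⧸ Ideal.span {algebraMap K[X] F.R X})) (b : ι → B)
    (hb : ∀ y : B, y ∈ Submodule.span K (Set.range b))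
    (hg : ∀ i, g (b i) = Ideal.Quotient.mk _ (F.e' i)) :
    ∃ (R : Type u) (_ : CommRing R) (_ : Algebra K R) (_ : Algebra (Polynomial K) R)
      (_ : IsScalarTower K (Polynomial K) R),
      Module.Free (Polynomial K) R ∧
      Nonempty ((R ⧸ Ideal.span {algebraMap (Polynomial K) R Polynomial.X}) ≃ₐ[K] B) ∧
      ∀ c : K, c ≠ 0 →
        Nonempty ((R ⧸ Ideal.span {algebraMap (Polynomial K) R (Polynomial.X - Polynomial.C c)})
          ≃ₐ[K] A) :=
  ⟨F.R, inferInstance, inferInstance, inferInstance, inferInstance, F.free,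
    ⟨(AlgEquiv.ofBijective g (F.fibre0_bijective g b hb hg)).symm⟩,
    fun c hc => ⟨F.fibreEquiv c hc⟩⟩

end Fam

end Groth.Agent.Lib.Helper2.ReesFam
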