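import Mathlib

namespace Groth.Agent.Lib.Helper2.ShuffleAlt

section adj

variable {R M P : Type*} [CommRing R] [AddCommGroup M] [Module R M] [AddCommGroup P] [Module R P]
  {N : ℕ}

theorem swap_adj (f : MultilinearMap R (fun _ : Fin N => M) P)
    (hadj : ∀ (v : Fin N → M) (k : ℕ) (hk : k + 1 < N),
      v ⟨k, by omega⟩ = v ⟨k + 1, hk⟩ → f v = 0)
    (v : Fin N → M) (k : ℕ) (hk : k + 1 < N) :
    f (v ∘ Equiv.swap (⟨k, by omega⟩ : Fin N) ⟨k + 1, hk⟩) = - f v := by
  set a : Fin N := ⟨k, by omega⟩ with ha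
  set b : Fin N := ⟨k + 1, hk⟩ with hb
  have hab : a ≠ b := by
    intro h; rw [ha, hb, Fin.mk.injEq] at h; omega
  set x := v a with hx
  set y := v b with hy
  have h0 := hadj (Function.update (Function.update v a (x + y)) b (x + y)) k hk
    (by rw [← ha, ← hb, Function.update_self, Function.update_of_ne hab, Function.update_self])
  rw [f.map_update_add] at h0
  rw [Function.update_comm (β := fun _ => M) hab (x + y) x v,
    Function.update_comm (β := fun _ => M) hab (x + y) y v] at h0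
  rw [f.map_update_add, f.map_update_add] at h0
  have e1 : f (Function.update (Function.update v b x) a x) = 0 := by
    apply hadj _ k hk
    rw [← ha, ← hb, Function.update_self, Function.update_of_ne hab.symm, Function.update_self]
  have e2 : f (Function.update (Function.update v b y) a y) = 0 := by
    apply hadj _ k hk
    rw [← ha, ← hb, Function.update_self, Function.update_of_ne hab.symm, Function.update_self]
  have e3 : Function.update (Function.update v b y) a x = v := by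
    rw [hy, Function.update_eq_self, hx, Function.update_eq_self]
  have e4 : Function.update (Function.update v b x) a y = v ∘ Equiv.swap a b := by
    funext i
    by_cases hia : i = a
    · subst hia
      simp [hy]
    · by_cases hib : i = b
      · subst hib
        simp [Function.update_of_ne hia, hx]
      · rw [Function.update_of_ne hia, Function.update_of_ne hib, Function.comp,
          Equiv.swap_apply_of_ne_of_ne hia hib]
  rw [e1, e2, e3, e4] at h0
  rw [eq_neg_iff_add_eq_zero]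
  rw [← h0]
  abel

theorem map_eq_zero_of_adjacent (f : MultilinearMap R (fun _ : Fin N => M) P)
    (hadj : ∀ (v : Fin N → M) (k : ℕ) (hk : k + 1 < N),
      v ⟨k, by omega⟩ = v ⟨k + 1, hk⟩ → f v = 0) :
    ∀ (v : Fin N → M) (i j : Fin N), i ≠ j → v i = v j → f v = 0 := by
  have key : ∀ (g : ℕ) (v : Fin N → M) (i j : Fin N), i.val + g + 1 = j.val → v i = v j → f v = 0 := by
    intro g
    induction g with
    | zero =>
      intro v i j hij hv
      have := hadj v i.val (by omega)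
      apply this
      have e : (⟨i.val + 1, by omega⟩ : Fin N) = j := Fin.ext (by simp only; omega)
      rw [e]
      exact hv
    | succ g ih =>
      intro v i j hij hv
      have hk : (j.val - 1) + 1 < N := by omega
      have hsw := swap_adj f hadj v (j.val - 1) hk
      have e : (⟨j.val - 1 + 1, hk⟩ : Fin N) = j := Fin.ext (by simp only; omega)
      rw [e] at hsw
      set j' : Fin N := ⟨j.val - 1, by omega⟩ with hj'
      have h1 : f (v ∘ Equiv.swap j' j) = 0 := by
        apply ih _ i j'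
        · simp only [hj']; omega
        · have hi1 : i ≠ j' := by
            intro h; rw [hj', Fin.ext_iff] at h; simp only at h; omega
          have hi2 : i ≠ j := by
            intro h; rw [Fin.ext_iff] at h; omega
          simp only [Function.comp, Equiv.swap_apply_of_ne_of_ne hi1 hi2, Equiv.swap_apply_left]
          exact hv
      rw [h1] at hsw
      have := neg_eq_zero.mp hsw.symm
      exact this
  intro v i j hij hv
  rcases lt_or_gt_of_ne hij with h | h
  · exact key (j.val - i.val - 1) v i j (by have : i.val < j.val := h; omega) hv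
  · exact key (i.val - j.val - 1) v j i (by have : j.val < i.val := h; omega) hv.symm

end adj

section shuffle

variable {K V : Type*} [CommRing K] [AddCommGroup V] [Module K V] {a b N : ℕ}

theorem card_compl_of (hab : a + b = N) (A : Finset (Fin N)) (h : A.card = a) : Aᶜ.card = b := by
  rw [Finset.card_compl, h, Fintype.card_fin]; omega

/-- the sum-equivalence attached to a subset -/
noncomputable def sumEquiv (hab : a + b = N) (A : Finset (Fin N)) (h : A.card = a) :
    Fin a ⊕ Fin b ≃ Fin N :=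
  Equiv.ofBijective (Sum.elim (A.orderEmbOfFin h) (Aᶜ.orderEmbOfFin (card_compl_of hab A h))) (by
    constructor
    · rintro (x | x) (y | y) hxy
      · simp only [Sum.elim_inl] at hxy
        rw [(A.orderEmbOfFin h).injective hxy]
      · simp only [Sum.elim_inl, Sum.elim_inr] at hxy
        have h1 := Finset.orderEmbOfFin_mem A h x
        have h2 := Finset.orderEmbOfFin_mem Aᶜ (card_compl_of hab A h) y
        rw [hxy] at h1
        exact absurd h1 (Finset.mem_compl.mp h2)
      · simp only [Sum.elim_inl, Sum.elim_inr] at hxy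
        have h1 := Finset.orderEmbOfFin_mem A h y
        have h2 := Finset.orderEmbOfFin_mem Aᶜ (card_compl_of hab A h) x
        rw [← hxy] at h1
        exact absurd h1 (Finset.mem_compl.mp h2)
      · simp only [Sum.elim_inr] at hxy
        rw [(Aᶜ.orderEmbOfFin _).injective hxy]
    · intro z
      by_cases hz : z ∈ A
      · have : z ∈ Set.range (A.orderEmbOfFin h) := by
          rw [Finset.range_orderEmbOfFin]; exact hz
        obtain ⟨x, hx⟩ := this
        exact ⟨Sum.inl x, hx⟩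
      · have : z ∈ Set.range (Aᶜ.orderEmbOfFin (card_compl_of hab A h)) := by
          rw [Finset.range_orderEmbOfFin]; exact Finset.mem_coe.mpr (Finset.mem_compl.mpr hz)
        obtain ⟨x, hx⟩ := this
        exact ⟨Sum.inr x, hx⟩)

/-- one term of the shuffle product, as a multilinear map -/
noncomputable def termM (hab : a + b = N) (D₁ : V [⋀^Fin a]→ₗ[K] K) (D₂ : V [⋀^Fin b]→ₗ[K] K)
    (A : Finset (Fin N)) (h : A.card = a) : MultilinearMap K (fun _ : Fin N => V) K :=
  (LinearMap.mul' K K).compMultilinearMap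
    ((D₁.toMultilinearMap.domCoprod D₂.toMultilinearMap).domDomCongr (sumEquiv hab A h))

theorem termM_apply (hab : a + b = N) (D₁ : V [⋀^Fin a]→ₗ[K] K) (D₂ : V [⋀^Fin b]→ₗ[K] K)
    (A : Finset (Fin N)) (h : A.card = a) (v : Fin N → V) :
    termM hab D₁ D₂ A h v =
      D₁ (v ∘ A.orderEmbOfFin h) * D₂ (v ∘ Aᶜ.orderEmbOfFin (card_compl_of hab A h)) := by
  unfold termM
  rw [LinearMap.compMultilinearMap_apply, MultilinearMap.domDomCongr_apply]
  show (LinearMap.mul' K K) (_ ⊗ₜ[K] _) = _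
  rw [LinearMap.mul'_apply]
  rfl

/-- the shuffle product of two alternating forms, as a multilinear map -/
noncomputable def shuf (hab : a + b = N) (D₁ : V [⋀^Fin a]→ₗ[K] K) (D₂ : V [⋀^Fin b]→ₗ[K] K) :
    MultilinearMap K (fun _ : Fin N => V) K :=
  ∑ A : Finset (Fin N), if h : A.card = a then
    ((-1 : K) ^ (∑ x ∈ A, x.val)) • termM hab D₁ D₂ A h else 0

theorem shuf_apply (hab : a + b = N) (D₁ : V [⋀^Fin a]→ₗ[K] K) (D₂ : V [⋀^Fin b]→ₗ[K] K)
    (v : Fin N → V) :
    shuf hab D₁ D₂ v = ∑ A : Finset (Fin N), if h : A.card = a then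
      (-1 : K) ^ (∑ x ∈ A, x.val) *
        (D₁ (v ∘ A.orderEmbOfFin h) * D₂ (v ∘ Aᶜ.orderEmbOfFin (card_compl_of hab A h))) else 0 := by
  unfold shuf
  rw [_root_.sum_apply]
  refine Finset.sum_congr rfl fun A _ => ?_
  by_cases h : A.card = a
  · rw [dif_pos h, dif_pos h, _root_.smul_apply, termM_apply, smul_eq_mul]
  · rw [dif_neg h, dif_neg h, _root_.zero_apply]

/-- adjacent transposition -/
def adjSwap (k : ℕ) (hk : k + 1 < N) : Equiv.Perm (Fin N) :=
  Equiv.swap (⟨k, by omega⟩ : Fin N) ⟨k + 1, hk⟩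

theorem adjSwap_val (k : ℕ) (hk : k + 1 < N) (z : Fin N) :
    (adjSwap k hk z).val = if z.val = k then k + 1 else if z.val = k + 1 then k else z.val := by
  unfold adjSwap
  rw [Equiv.swap_apply_def]
  by_cases h1 : z.val = k
  · have : z = ⟨k, by omega⟩ := Fin.ext h1
    rw [if_pos this, if_pos h1]
  · have hz : z ≠ ⟨k, by omega⟩ := fun h => h1 (by rw [h])
    rw [if_neg hz, if_neg h1]
    by_cases h2 : z.val = k + 1
    · have : z = ⟨k + 1, hk⟩ := Fin.ext h2
      rw [if_pos this, if_pos h2]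
    · have hz : z ≠ ⟨k + 1, hk⟩ := fun h => h2 (by rw [h])
      rw [if_neg hz, if_neg h2]

theorem adjSwap_lt (k : ℕ) (hk : k + 1 < N) (x y : Fin N) (hxy : x < y)
    (hne : ¬ (x.val = k ∧ y.val = k + 1)) : adjSwap k hk x < adjSwap k hk y := by
  rw [Fin.lt_def, adjSwap_val, adjSwap_val]
  have : x.val < y.val := hxy
  split_ifs <;> omega

theorem adjSwap_invol (k : ℕ) (hk : k + 1 < N) (z : Fin N) :
    adjSwap k hk (adjSwap k hk z) = z := by
  unfold adjSwap
  exact Equiv.swap_apply_self _ _ z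

/-- image of a subset under the adjacent transposition -/
def gmap (k : ℕ) (hk : k + 1 < N) (A : Finset (Fin N)) : Finset (Fin N) :=
  A.map (adjSwap k hk).toEmbedding

theorem mem_gmap (k : ℕ) (hk : k + 1 < N) (A : Finset (Fin N)) (z : Fin N) :
    z ∈ gmap k hk A ↔ adjSwap k hk z ∈ A := by
  unfold gmap
  rw [Finset.mem_map]
  constructor
  · rintro ⟨x, hx, rfl⟩
    simp only [Equiv.coe_toEmbedding]
    rw [adjSwap_invol]; exact hx
  · intro h
    exact ⟨_, h, by simp only [Equiv.coe_toEmbedding]; exact adjSwap_invol k hk z⟩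

theorem gmap_gmap (k : ℕ) (hk : k + 1 < N) (A : Finset (Fin N)) : gmap k hk (gmap k hk A) = A := by
  ext z
  rw [mem_gmap, mem_gmap, adjSwap_invol]

theorem card_gmap (k : ℕ) (hk : k + 1 < N) (A : Finset (Fin N)) : (gmap k hk A).card = A.card := by
  unfold gmap
  rw [Finset.card_map]

theorem gmap_compl (k : ℕ) (hk : k + 1 < N) (A : Finset (Fin N)) :
    (gmap k hk A)ᶜ = gmap k hk Aᶜ := by
  ext z
  rw [Finset.mem_compl, mem_gmap, mem_gmap, Finset.mem_compl]

/-- order embedding of the image -/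
theorem emb_gmap (k : ℕ) (hk : k + 1 < N) (A : Finset (Fin N)) {c : ℕ} (h : A.card = c)
    (h' : (gmap k hk A).card = c)
    (hne : ¬ ((⟨k, by omega⟩ : Fin N) ∈ A ∧ (⟨k + 1, hk⟩ : Fin N) ∈ A)) (s : Fin c) :
    (gmap k hk A).orderEmbOfFin h' s = adjSwap k hk (A.orderEmbOfFin h s) := by
  have := Finset.orderEmbOfFin_unique (s := gmap k hk A) h'
    (f := fun s => adjSwap k hk (A.orderEmbOfFin h s))
    (fun x => by rw [mem_gmap, adjSwap_invol]; exact Finset.orderEmbOfFin_mem A h x)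
    (fun x y hxy => by
      apply adjSwap_lt
      · exact (A.orderEmbOfFin h).strictMono hxy
      · rintro ⟨h1, h2⟩
        apply hne
        constructor
        · have := Finset.orderEmbOfFin_mem A h x
          have e : (⟨k, by omega⟩ : Fin N) = A.orderEmbOfFin h x := Fin.ext h1.symm
          rw [e]; exact this
        · have := Finset.orderEmbOfFin_mem A h y
          have e : (⟨k + 1, hk⟩ : Fin N) = A.orderEmbOfFin h y := Fin.ext h2.symm
          rw [e]; exact this)
  exact (congrFun this s).symm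

theorem orderEmb_congr {S S' : Finset (Fin N)} (hS : S = S') {c : ℕ} (h : S.card = c)
    (h' : S'.card = c) (s : Fin c) : S.orderEmbOfFin h s = S'.orderEmbOfFin h' s := by
  subst hS; rfl

theorem alt_zero {c : ℕ} (D : V [⋀^Fin c]→ₗ[K] K) (S : Finset (Fin N)) (h : S.card = c)
    (v : Fin N → V) (x y : Fin N) (hx : x ∈ S) (hy : y ∈ S) (hxy : x ≠ y) (hv : v x = v y) :
    D (v ∘ S.orderEmbOfFin h) = 0 := by
  have hx' : x ∈ Set.range (S.orderEmbOfFin h) := by
    rw [Finset.range_orderEmbOfFin]; exact hx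
  have hy' : y ∈ Set.range (S.orderEmbOfFin h) := by
    rw [Finset.range_orderEmbOfFin]; exact hy
  obtain ⟨s, hs⟩ := hx'
  obtain ⟨s', hs'⟩ := hy'
  apply D.map_eq_zero_of_eq _ (i := s) (j := s')
  · simp only [Function.comp, hs, hs', hv]
  · rintro rfl
    exact hxy (hs.symm.trans hs')

/-- the summand -/
noncomputable def fterm (hab : a + b = N) (D₁ : V [⋀^Fin a]→ₗ[K] K) (D₂ : V [⋀^Fin b]→ₗ[K] K)
    (v : Fin N → V) (A : Finset (Fin N)) : K :=
  if h : A.card = a then
      (-1 : K) ^ (∑ x ∈ A, x.val) *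
        (D₁ (v ∘ A.orderEmbOfFin h) * D₂ (v ∘ Aᶜ.orderEmbOfFin (card_compl_of hab A h))) else 0

theorem fterm_zero_both (hab : a + b = N) (D₁ : V [⋀^Fin a]→ₗ[K] K) (D₂ : V [⋀^Fin b]→ₗ[K] K)
    (v : Fin N → V) (A : Finset (Fin N)) (k : ℕ) (hk : k + 1 < N)
    (hv : v ⟨k, by omega⟩ = v ⟨k + 1, hk⟩)
    (h1 : (⟨k, by omega⟩ : Fin N) ∈ A) (h2 : (⟨k + 1, hk⟩ : Fin N) ∈ A) :
    fterm hab D₁ D₂ v A = 0 := by
  unfold fterm
  by_cases h : A.card = a
  · rw [dif_pos h, alt_zero D₁ A h v _ _ h1 h2 (by simp [Fin.ext_iff]) hv, zero_mul, mul_zero]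
  · rw [dif_neg h]

theorem fterm_zero_neither (hab : a + b = N) (D₁ : V [⋀^Fin a]→ₗ[K] K) (D₂ : V [⋀^Fin b]→ₗ[K] K)
    (v : Fin N → V) (A : Finset (Fin N)) (k : ℕ) (hk : k + 1 < N)
    (hv : v ⟨k, by omega⟩ = v ⟨k + 1, hk⟩)
    (h1 : (⟨k, by omega⟩ : Fin N) ∉ A) (h2 : (⟨k + 1, hk⟩ : Fin N) ∉ A) :
    fterm hab D₁ D₂ v A = 0 := by
  unfold fterm
  by_cases h : A.card = a
  · rw [dif_pos h, alt_zero D₂ Aᶜ _ v _ _ (Finset.mem_compl.mpr h1) (Finset.mem_compl.mpr h2)
      (by simp [Fin.ext_iff]) hv, mul_zero, mul_zero]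
  · rw [dif_neg h]

theorem comp_adjSwap (v : Fin N → V) (k : ℕ) (hk : k + 1 < N)
    (hv : v ⟨k, by omega⟩ = v ⟨k + 1, hk⟩) (z : Fin N) : v (adjSwap k hk z) = v z := by
  unfold adjSwap
  rw [Equiv.swap_apply_def]
  split_ifs with h1 h2
  · rw [h1]; exact hv.symm
  · rw [h2]; exact hv
  · rfl

theorem sum_gmap (k : ℕ) (hk : k + 1 < N) (A : Finset (Fin N))
    (h1 : (⟨k, by omega⟩ : Fin N) ∈ A) (h2 : (⟨k + 1, hk⟩ : Fin N) ∉ A) :
    ∑ x ∈ gmap k hk A, x.val = (∑ x ∈ A, x.val) + 1 := by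
  unfold gmap
  rw [Finset.sum_map]
  simp only [Equiv.coe_toEmbedding]
  have hA : ∑ x ∈ A, (adjSwap k hk x).val = (adjSwap k hk ⟨k, by omega⟩).val +
      ∑ x ∈ A.erase (⟨k, by omega⟩ : Fin N), (adjSwap k hk x).val :=
    (Finset.add_sum_erase A (fun x => (adjSwap k hk x).val) h1).symm
  have hB : ∑ x ∈ A, x.val = k + ∑ x ∈ A.erase (⟨k, by omega⟩ : Fin N), x.val :=
    (Finset.add_sum_erase A (fun x => x.val) h1).symm
  have e1 : (adjSwap k hk ⟨k, by omega⟩).val = k + 1 := by
    rw [adjSwap_val]; simp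
  have e2 : ∀ x ∈ A.erase (⟨k, by omega⟩ : Fin N), (adjSwap k hk x).val = x.val := by
    intro x hx
    obtain ⟨hx1, hx2⟩ := Finset.mem_erase.mp hx
    rw [adjSwap_val]
    have n1 : x.val ≠ k := fun h => hx1 (Fin.ext h)
    have n2 : x.val ≠ k + 1 := fun h => h2 (by
      have : x = ⟨k + 1, hk⟩ := Fin.ext h
      rw [← this]; exact hx2)
    rw [if_neg n1, if_neg n2]
  have hA' : ∑ x ∈ A, (adjSwap k hk x).val =
      (k + 1) + ∑ x ∈ A.erase (⟨k, by omega⟩ : Fin N), x.val := by
    rw [hA, e1, Finset.sum_congr rfl e2]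
  rw [hA', hB]
  ring

theorem pair_cancel (hab : a + b = N) (D₁ : V [⋀^Fin a]→ₗ[K] K) (D₂ : V [⋀^Fin b]→ₗ[K] K)
    (v : Fin N → V) (A : Finset (Fin N)) (k : ℕ) (hk : k + 1 < N)
    (hv : v ⟨k, by omega⟩ = v ⟨k + 1, hk⟩)
    (h1 : (⟨k, by omega⟩ : Fin N) ∈ A) (h2 : (⟨k + 1, hk⟩ : Fin N) ∉ A) :
    fterm hab D₁ D₂ v (gmap k hk A) = - fterm hab D₁ D₂ v A := by
  unfold fterm
  by_cases h : A.card = a
  swap
  · rw [dif_neg h, dif_neg (by rw [card_gmap]; exact h), neg_zero]
  have h' : (gmap k hk A).card = a := by rw [card_gmap]; exact h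
  rw [dif_pos h, dif_pos h', sum_gmap k hk A h1 h2, pow_succ]
  have e1 : v ∘ (gmap k hk A).orderEmbOfFin h' = v ∘ A.orderEmbOfFin h := by
    funext s
    simp only [Function.comp]
    rw [emb_gmap k hk A h h' (fun hc => h2 hc.2), comp_adjSwap v k hk hv]
  have e2 : v ∘ (gmap k hk A)ᶜ.orderEmbOfFin (card_compl_of hab _ h') =
      v ∘ Aᶜ.orderEmbOfFin (card_compl_of hab A h) := by
    funext s
    simp only [Function.comp]
    have hc' : (gmap k hk Aᶜ).card = b := by rw [card_gmap]; exact card_compl_of hab A h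
    rw [orderEmb_congr (gmap_compl k hk A) _ hc',
      emb_gmap k hk Aᶜ (card_compl_of hab A h) hc'
        (fun hc => (Finset.mem_compl.mp hc.1) h1), comp_adjSwap v k hk hv]
  rw [e1, e2]
  ring

theorem shuf_adj (hab : a + b = N) (D₁ : V [⋀^Fin a]→ₗ[K] K) (D₂ : V [⋀^Fin b]→ₗ[K] K)
    (v : Fin N → V) (k : ℕ) (hk : k + 1 < N) (hv : v ⟨k, by omega⟩ = v ⟨k + 1, hk⟩) :
    shuf hab D₁ D₂ v = 0 := by
  rw [shuf_apply]
  show ∑ A : Finset (Fin N), fterm hab D₁ D₂ v A = 0
  have hkk : ∀ A : Finset (Fin N), ((⟨k, by omega⟩ : Fin N) ∈ gmap k hk A ↔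
      (⟨k + 1, hk⟩ : Fin N) ∈ A) := by
    intro A
    rw [mem_gmap]
    have : adjSwap k hk ⟨k, by omega⟩ = ⟨k + 1, hk⟩ := by
      apply Fin.ext; rw [adjSwap_val]; simp
    rw [this]
  have hkk' : ∀ A : Finset (Fin N), ((⟨k + 1, hk⟩ : Fin N) ∈ gmap k hk A ↔
      (⟨k, by omega⟩ : Fin N) ∈ A) := by
    intro A
    rw [mem_gmap]
    have : adjSwap k hk ⟨k + 1, hk⟩ = ⟨k, by omega⟩ := by
      apply Fin.ext; rw [adjSwap_val]; simp
    rw [this]
  apply Finset.sum_involution (fun A _ => gmap k hk A)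
  · intro A _
    by_cases h1 : (⟨k, by omega⟩ : Fin N) ∈ A <;> by_cases h2 : (⟨k + 1, hk⟩ : Fin N) ∈ A
    · rw [fterm_zero_both hab D₁ D₂ v A k hk hv h1 h2,
        fterm_zero_both hab D₁ D₂ v _ k hk hv ((hkk A).mpr h2) ((hkk' A).mpr h1), add_zero]
    · rw [pair_cancel hab D₁ D₂ v A k hk hv h1 h2, add_neg_cancel]
    · have := pair_cancel hab D₁ D₂ v (gmap k hk A) k hk hv ((hkk A).mpr h2)
        (fun hc => h1 ((hkk' A).mp hc))
      rw [gmap_gmap] at this
      rw [this, neg_add_cancel]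
    · rw [fterm_zero_neither hab D₁ D₂ v A k hk hv h1 h2,
        fterm_zero_neither hab D₁ D₂ v _ k hk hv (fun hc => h2 ((hkk A).mp hc))
          (fun hc => h1 ((hkk' A).mp hc)), add_zero]
  · intro A _ hne hfix
    apply hne
    by_cases h1 : (⟨k, by omega⟩ : Fin N) ∈ A
    · have h2 : (⟨k + 1, hk⟩ : Fin N) ∈ A := by
        rw [← hkk, hfix]; exact h1
      exact fterm_zero_both hab D₁ D₂ v A k hk hv h1 h2
    · have h2 : (⟨k + 1, hk⟩ : Fin N) ∉ A := by
        rw [← hkk, hfix]; exact h1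
      exact fterm_zero_neither hab D₁ D₂ v A k hk hv h1 h2
  · intro A _; exact Finset.mem_univ _
  · intro A _; exact gmap_gmap k hk A

/-- the shuffle product is alternating -/
theorem shuf_alt (hab : a + b = N) (D₁ : V [⋀^Fin a]→ₗ[K] K) (D₂ : V [⋀^Fin b]→ₗ[K] K)
    (v : Fin N → V) (i j : Fin N) (hij : i ≠ j) (hv : v i = v j) : shuf hab D₁ D₂ v = 0 :=
  map_eq_zero_of_adjacent (shuf hab D₁ D₂) (fun v k hk h => shuf_adj hab D₁ D₂ v k hk h) v i j hij hv

/-- the shuffle product as an alternating map -/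
noncomputable def shufAlt (hab : a + b = N) (D₁ : V [⋀^Fin a]→ₗ[K] K) (D₂ : V [⋀^Fin b]→ₗ[K] K) :
    V [⋀^Fin N]→ₗ[K] K :=
  { shuf hab D₁ D₂ with
    map_eq_zero_of_eq' := fun v i j hv hij => shuf_alt hab D₁ D₂ v i j hij hv }

theorem shufAlt_apply (hab : a + b = N) (D₁ : V [⋀^Fin a]→ₗ[K] K) (D₂ : V [⋀^Fin b]→ₗ[K] K)
    (v : Fin N → V) : shufAlt hab D₁ D₂ v = ∑ A : Finset (Fin N), fterm hab D₁ D₂ v A := by
  show shuf hab D₁ D₂ v = _
  rw [shuf_apply]
  rfl

end shuffle

end Groth.Agent.Lib.Helper2.ShuffleAlt
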