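import Mathlib
import Groth.Prelude.Def_W4bk4grassmannianPl
import Groth.Agent.S11256
import Groth.Agent.S11251
import Groth.Agent.Lib.Helper2.ShuffleAlt

universe u

namespace Groth.Agent.Lib.Helper2.PluckerRel

open W4bk4grassmannian MvPolynomial Groth.Agent.Lib.Helper2.ShuffleAlt

variable {K : Type u} [Field K] {d n : ℕ}

theorem evalMinors_coord (A : Matrix (Fin n) (Fin d) K) (a : Fin d → Fin n) :
    evalMinors K d n A (coord K d n a) = (A.submatrix a id).det := by
  have := Groth.Agent.S11256.br_minors A a
  unfold Groth.Agent.S11256.br at this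
  rw [← this]
  unfold evalMinors
  rw [MvPolynomial.aeval_eq_eval]

/-- matrix with first `r+1` rows variable -/
def M1 (p : Fin d → (Fin d → K)) (r : Fin d) (u : Fin (r.val + 1) → (Fin d → K)) :
    Matrix (Fin d) (Fin d) K :=
  Matrix.of fun t : Fin d => if h : t.val ≤ r.val then u ⟨t.val, Nat.lt_succ_of_le h⟩ else p t

theorem M1_update (p : Fin d → (Fin d → K)) (r : Fin d) [DecidableEq (Fin (r.val + 1))]
    (u : Fin (r.val + 1) → (Fin d → K)) (s : Fin (r.val + 1)) (z : Fin d → K) :
    M1 p r (Function.update u s z) =
      (M1 p r u).updateRow ⟨s.val, by have := s.isLt; have := r.isLt; omega⟩ z := by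
  ext t c
  unfold M1
  by_cases ht : t = ⟨s.val, by have := s.isLt; have := r.isLt; omega⟩
  · subst ht
    rw [Matrix.updateRow_self]
    simp only [Matrix.of_apply]
    rw [dif_pos (by have := s.isLt; omega)]
    simp
  · rw [Matrix.updateRow_ne ht]
    simp only [Matrix.of_apply]
    by_cases h : t.val ≤ r.val
    · rw [dif_pos h, dif_pos h, Function.update_of_ne]
      intro hc
      apply ht
      rw [← hc]
    · rw [dif_neg h, dif_neg h]

/-- first alternating form -/
noncomputable def D1 (p : Fin d → (Fin d → K)) (r : Fin d) :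
    (Fin d → K) [⋀^Fin (r.val + 1)]→ₗ[K] K where
  toFun u := (M1 p r u).det
  map_update_add' := by
    intro _ u s x y
    rw [M1_update, M1_update, M1_update, Matrix.det_updateRow_add]
  map_update_smul' := by
    intro _ u s c x
    rw [M1_update, M1_update, Matrix.det_updateRow_smul, smul_eq_mul]
  map_eq_zero_of_eq' := by
    intro u s s' hu hss
    apply Matrix.det_zero_of_row_eq (i := ⟨s.val, by have := s.isLt; have := r.isLt; omega⟩)
      (j := ⟨s'.val, by have := s'.isLt; have := r.isLt; omega⟩)
    · intro h
      apply hss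
      apply Fin.ext
      simpa using h
    · unfold M1
      funext c
      simp only [Matrix.of_apply]
      rw [dif_pos (by have := s.isLt; omega), dif_pos (by have := s'.isLt; omega)]
      exact congrFun hu c

/-- matrix with last `d - r` rows variable -/
def M2 (q : Fin d → (Fin d → K)) (r : Fin d) (w : Fin (d - r.val) → (Fin d → K)) :
    Matrix (Fin d) (Fin d) K :=
  Matrix.of fun t : Fin d => if h : t.val < r.val then q t
    else w ⟨t.val - r.val, by have := t.isLt; omega⟩

theorem M2_update (q : Fin d → (Fin d → K)) (r : Fin d) [DecidableEq (Fin (d - r.val))]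
    (w : Fin (d - r.val) → (Fin d → K)) (s : Fin (d - r.val)) (z : Fin d → K) :
    M2 q r (Function.update w s z) =
      (M2 q r w).updateRow ⟨r.val + s.val, by have := s.isLt; omega⟩ z := by
  ext t c
  unfold M2
  by_cases ht : t = ⟨r.val + s.val, by have := s.isLt; omega⟩
  · subst ht
    rw [Matrix.updateRow_self]
    simp only [Matrix.of_apply]
    rw [dif_neg (by simp)]
    have : (⟨r.val + s.val - r.val, by have := s.isLt; omega⟩ : Fin (d - r.val)) = s :=
      Fin.ext (by simp)
    rw [this]
    simp
  · rw [Matrix.updateRow_ne ht]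
    simp only [Matrix.of_apply]
    by_cases h : t.val < r.val
    · rw [dif_pos h, dif_pos h]
    · rw [dif_neg h, dif_neg h, Function.update_of_ne]
      intro hc
      apply ht
      apply Fin.ext
      have := congrArg Fin.val hc
      simp only at this ⊢
      omega

/-- second alternating form -/
noncomputable def D2 (q : Fin d → (Fin d → K)) (r : Fin d) :
    (Fin d → K) [⋀^Fin (d - r.val)]→ₗ[K] K where
  toFun w := (M2 q r w).det
  map_update_add' := by
    intro _ u s x y
    rw [M2_update, M2_update, M2_update, Matrix.det_updateRow_add]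
  map_update_smul' := by
    intro _ u s c x
    rw [M2_update, M2_update, Matrix.det_updateRow_smul, smul_eq_mul]
  map_eq_zero_of_eq' := by
    intro u s s' hu hss
    apply Matrix.det_zero_of_row_eq (i := ⟨r.val + s.val, by have := s.isLt; omega⟩)
      (j := ⟨r.val + s'.val, by have := s'.isLt; omega⟩)
    · intro h
      apply hss
      apply Fin.ext
      simpa using h
    · unfold M2
      funext c
      simp only [Matrix.of_apply]
      rw [dif_neg (by simp), dif_neg (by simp)]
      have e1 : (⟨r.val + s.val - r.val, by have := s.isLt; omega⟩ : Fin (d - r.val)) = s :=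
        Fin.ext (by simp)
      have e2 : (⟨r.val + s'.val - r.val, by have := s'.isLt; omega⟩ : Fin (d - r.val)) = s' :=
        Fin.ext (by simp)
      rw [e1, e2]
      exact congrFun hu c

theorem gauss_le (r : ℕ) {N : ℕ} (A : Finset (Fin N)) (hA : A.card = r + 1) :
    r * (r + 1) / 2 ≤ ∑ x ∈ A, x.val := by
  rw [← Groth.Agent.S11251.sum_orderEmb A hA (fun x => x.val)]
  have h1 : ∑ s : Fin (r + 1), s.val ≤ ∑ s : Fin (r + 1), (A.orderEmbOfFin hA s).val := by
    apply Finset.sum_le_sum
    intro s _
    exact Groth.Agent.S11251.le_strictMono_fin _ (A.orderEmbOfFin hA).strictMono s.val s.isLt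
  have h2 : ∑ s : Fin (r + 1), s.val = r * (r + 1) / 2 := by
    rw [Fin.sum_univ_eq_sum_range (fun s => s) (r + 1), Finset.sum_range_id]
    simp [Nat.mul_comm]
  omega

theorem shuffleRel_minors (A : Matrix (Fin n) (Fin d) K) (i j : Idx d n) (r : Fin d) :
    evalMinors K d n A (shuffleRel K i j r) = 0 := by
  classical
  set v : Fin (d + 1) → (Fin d → K) := fun k => A (movingRows i j r k) with hv
  set p : Fin d → (Fin d → K) := fun t => A (i.1 t) with hp
  set q : Fin d → (Fin d → K) := fun t => A (j.1 t) with hq
  have hab : (r.val + 1) + (d - r.val) = d + 1 := by have := r.isLt; omega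
  have hzero : shufAlt hab (D1 p r) (D2 q r) v = 0 := by
    apply AlternatingMap.map_linearDependent
    intro hli
    have := hli.fintype_card_le_finrank
    rw [Module.finrank_fin_fun, Fintype.card_fin] at this
    omega
  rw [shufAlt_apply] at hzero
  unfold shuffleRel
  rw [map_sum]
  have hterm : ∀ A' : Finset (Fin (d + 1)),
      evalMinors K d n A (shuffleTerm K i j r A') =
        (-1 : K) ^ (r.val * (r.val + 1) / 2) * fterm hab (D1 p r) (D2 q r) v A' := by
    intro A'
    unfold shuffleTerm fterm
    by_cases hA : A'.card = r.val + 1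
    swap
    · rw [dif_neg hA, dif_neg hA, map_zero, mul_zero]
    rw [dif_pos hA, dif_pos hA, map_mul, map_mul, map_pow, map_neg, map_one,
      evalMinors_coord, evalMinors_coord]
    have e1 : A.submatrix (shuffleI i j r A' hA) id = M1 p r (v ∘ A'.orderEmbOfFin hA) := by
      ext t c
      unfold shuffleI M1
      simp only [Matrix.submatrix_apply, id, Matrix.of_apply, Function.comp]
      by_cases h : t.val ≤ r.val
      · rw [dif_pos h, dif_pos h]
      · rw [dif_neg h, dif_neg h]
    have e2 : A.submatrix (shuffleJ i j r A' hA) id =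
        M2 q r (v ∘ A'ᶜ.orderEmbOfFin (card_compl_of hab A' hA)) := by
      ext t c
      unfold shuffleJ M2
      simp only [Matrix.submatrix_apply, id, Matrix.of_apply, Function.comp]
      by_cases h : t.val < r.val
      · rw [dif_pos h, dif_pos h]
      · rw [dif_neg h, dif_neg h]
    rw [e1, e2]
    have hs : (-1 : K) ^ shuffleSign r A' =
        (-1) ^ (r.val * (r.val + 1) / 2) * (-1) ^ (∑ x ∈ A', x.val) := by
      unfold shuffleSign
      have hle := gauss_le r.val A' hA
      have : ∑ x ∈ A', x.val = (∑ x ∈ A', x.val - r.val * (r.val + 1) / 2) +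
          r.val * (r.val + 1) / 2 := by omega
      conv_rhs => rw [this, pow_add]
      have h2 : ((-1 : K) ^ (r.val * (r.val + 1) / 2)) * ((-1) ^ (r.val * (r.val + 1) / 2)) = 1 := by
        rw [← pow_add, ← two_mul, pow_mul]; simp
      calc (-1 : K) ^ (∑ a ∈ A', a.val - r.val * (r.val + 1) / 2)
          = (-1 : K) ^ (∑ a ∈ A', a.val - r.val * (r.val + 1) / 2) *
            (((-1 : K) ^ (r.val * (r.val + 1) / 2)) * ((-1) ^ (r.val * (r.val + 1) / 2))) := by
              rw [h2, mul_one]
        _ = _ := by ring
    rw [hs]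
    show _ * (D1 p r (v ∘ A'.orderEmbOfFin hA)) * (D2 q r (v ∘ A'ᶜ.orderEmbOfFin _)) = _
    ring
  simp_rw [hterm]
  rw [← Finset.mul_sum, hzero, mul_zero]

end Groth.Agent.Lib.Helper2.PluckerRel
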