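import Mathlib
import Groth.Prelude.Def_W4bk4grassmannianPl
import Groth.Agent.S11256
import Groth.Agent.S11251
import Groth.Agent.Lib.Helper2.PluckerRel

universe u

namespace Groth.Agent.Lib.Helper2.SMT

open W4bk4grassmannian MvPolynomial

variable {K : Type u} [Field K] {d n : ℕ}

variable (K) in
/-- the generic matrix of the Schubert variety `X(τ)` -/
noncomputable def G (τ : Idx d n) : Matrix (Fin n) (Fin d) (MatRing K d n) :=
  Matrix.of fun i t => if i ≤ τ.1 t then (X (i, t) : MatRing K d n) else 0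

variable (K) in
/-- evaluation of Plücker polynomials at the generic matrix of `X(τ)` -/
noncomputable def ψ (τ : Idx d n) : PlRing K d n →ₐ[K] MatRing K d n :=
  MvPolynomial.aeval fun θ : Idx d n => ((G K τ).submatrix θ.1 id).det

variable (K) in
/-- specialization to the smaller Schubert variety -/
noncomputable def spec (θ : Idx d n) : MatRing K d n →ₐ[K] MatRing K d n :=
  MvPolynomial.aeval fun p : Fin n × Fin d => if p.1 ≤ θ.1 p.2 then (X p : MatRing K d n) else 0

theorem ψ_X (τ θ : Idx d n) : ψ K τ (X θ) = ((G K τ).submatrix θ.1 id).det := by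
  unfold ψ
  rw [MvPolynomial.aeval_X]

theorem det_zero_of_block {R : Type*} [CommRing R] (M : Matrix (Fin d) (Fin d) R) (t₀ : Fin d)
    (h : ∀ s t : Fin d, t₀ ≤ s → t ≤ t₀ → M s t = 0) : M.det = 0 := by
  rw [Matrix.det_apply']
  apply Finset.sum_eq_zero
  intro σ _
  have hex : ∃ t : Fin d, t ≤ t₀ ∧ t₀ ≤ σ t := by
    by_contra hcon
    push Not at hcon
    have hinj : Set.InjOn σ (Finset.Iic t₀ : Finset (Fin d)) := fun x _ y _ hxy => σ.injective hxy
    have hmaps : ∀ x ∈ (Finset.Iic t₀ : Finset (Fin d)), σ x ∈ (Finset.Iio t₀ : Finset (Fin d)) := by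
      intro x hx
      rw [Finset.mem_Iio]
      exact hcon x (Finset.mem_Iic.mp hx)
    have := Finset.card_le_card_of_injOn σ hmaps hinj
    rw [Fin.card_Iic, Fin.card_Iio] at this
    omega
  obtain ⟨t, ht1, ht2⟩ := hex
  have : ∏ i, M (σ i) i = 0 := Finset.prod_eq_zero (Finset.mem_univ t) (h _ _ ht2 ht1)
  rw [this, mul_zero]

theorem ψ_X_eq_zero (τ φ : Idx d n) (h : ¬ φ ≤ τ) : ψ K τ (X φ) = 0 := by
  rw [ψ_X]
  have h1 : ∃ t₀, τ.1 t₀ < φ.1 t₀ := by
    by_contra hcon
    push Not at hcon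
    exact h (fun t => hcon t)
  obtain ⟨t₀, ht₀⟩ := h1
  apply det_zero_of_block _ t₀
  intro s t hs ht
  unfold G
  simp only [Matrix.submatrix_apply, id, Matrix.of_apply]
  rw [if_neg]
  rw [not_le]
  calc τ.1 t ≤ τ.1 t₀ := τ.2.monotone ht
    _ < φ.1 t₀ := ht₀
    _ ≤ φ.1 s := φ.2.monotone hs

theorem ψ_X_self_ne_zero (θ : Idx d n) : ψ K θ (X θ) ≠ 0 := by
  rw [ψ_X]
  have htri : ((G K θ).submatrix θ.1 id).BlockTriangular id := by
    intro s t hts
    unfold G
    simp only [Matrix.submatrix_apply, id, Matrix.of_apply]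
    rw [if_neg]
    rw [not_le]
    exact θ.2 hts
  rw [Matrix.det_of_isUpperTriangular htri]
  rw [Finset.prod_ne_zero_iff]
  intro t _
  unfold G
  simp only [Matrix.submatrix_apply, id, Matrix.of_apply]
  rw [if_pos le_rfl]
  exact MvPolynomial.X_ne_zero _

theorem spec_G (τ θ : Idx d n) (h : θ ≤ τ) : (G K τ).map (spec K θ) = G K θ := by
  ext i t
  unfold G spec
  simp only [Matrix.map_apply, Matrix.of_apply]
  by_cases h1 : i ≤ θ.1 t
  · have h2 : i ≤ τ.1 t := le_trans h1 (h t)
    rw [if_pos h2, if_pos h1, MvPolynomial.aeval_X]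
    simp only [if_pos h1]
  · rw [if_neg h1]
    by_cases h2 : i ≤ τ.1 t
    · rw [if_pos h2, MvPolynomial.aeval_X]
      simp only [if_neg h1]
    · rw [if_neg h2, map_zero]

theorem spec_ψ (τ θ : Idx d n) (h : θ ≤ τ) (x : PlRing K d n) :
    spec K θ (ψ K τ x) = ψ K θ x := by
  have : (spec K θ).comp (ψ K τ) = ψ K θ := by
    apply MvPolynomial.algHom_ext
    intro φ
    rw [AlgHom.comp_apply, ψ_X, ψ_X, AlgHom.map_det]
    congr 1
    rw [← spec_G τ θ h]
    ext s t
    simp
  rw [← this, AlgHom.comp_apply]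

variable (K d n) in
/-- evaluation at the zero matrix -/
noncomputable def ev0 : MatRing K d n →ₐ[K] K := MvPolynomial.aeval fun _ => (0 : K)

theorem ev0_ψ_X (hd : 0 < d) (τ φ : Idx d n) : ev0 K d n (ψ K τ (X φ)) = 0 := by
  rw [ψ_X, AlgHom.map_det]
  have : (ev0 K d n).mapMatrix ((G K τ).submatrix φ.1 id) = 0 := by
    ext s t
    unfold G ev0
    simp only [AlgHom.mapMatrix_apply, Matrix.map_apply, Matrix.submatrix_apply, id, Matrix.of_apply,
      Matrix.zero_apply]
    split_ifs
    · rw [MvPolynomial.aeval_X]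
    · rw [map_zero]
  rw [this]
  haveI : Nonempty (Fin d) := ⟨⟨0, hd⟩⟩
  exact Matrix.det_zero

/-- standard lists on `X(τ)` -/
def IsStd (τ : Idx d n) (L : List (Idx d n)) : Prop :=
  L.Pairwise (fun x y => y ≤ x) ∧ ∀ x ∈ L, x ≤ τ

open Groth.Agent.S11251 in
theorem listMon_cons (h : Idx d n) (t : List (Idx d n)) :
    listMon K (h :: t) = X h * listMon K t := by
  unfold listMon
  simp only [List.map_cons, List.prod_cons]

open Groth.Agent.S11251 in
theorem listMon_nil : listMon K ([] : List (Idx d n)) = 1 := by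
  unfold listMon
  simp

open Groth.Agent.S11251 in
theorem c_nil (hd : 0 < d) (τ : Idx d n) (s : Finset (List (Idx d n))) (c : List (Idx d n) → K)
    (hrel : ∑ L ∈ s, c L • ψ K τ (listMon K L) = 0) (h : [] ∈ s) : c [] = 0 := by
  have h1 := congrArg (ev0 K d n) hrel
  rw [map_sum, map_zero] at h1
  rw [Finset.sum_eq_single_of_mem [] h] at h1
  · rw [map_smul, listMon_nil, map_one, map_one, smul_eq_mul, mul_one] at h1
    exact h1
  · intro L _ hne
    rw [map_smul]
    cases L with
    | nil => exact absurd rfl hne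
    | cons x t =>
      rw [listMon_cons, map_mul, map_mul, ev0_ψ_X hd, zero_mul, smul_zero]

open Groth.Agent.S11251 in
theorem indep_aux (hd : 0 < d) (m : ℕ) :
    ∀ (τ : Idx d n) (s : Finset (List (Idx d n))) (c : List (Idx d n) → K),
      (∀ L ∈ s, IsStd τ L ∧ L.length ≤ m) → ∑ L ∈ s, c L • ψ K τ (listMon K L) = 0 →
        ∀ L ∈ s, c L = 0 := by
  classical
  induction m with
  | zero =>
    intro τ s c hs hrel L hL
    have : L = [] := List.length_eq_zero_iff.mp (Nat.le_zero.mp (hs L hL).2)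
    subst this
    exact c_nil hd τ s c hrel hL
  | succ m ih =>
    intro τ s c hs hrel
    by_contra hcon
    push Not at hcon
    obtain ⟨L₀, hL₀, hc₀⟩ := hcon
    have hnil : ∀ L ∈ s, c L ≠ 0 → L ≠ [] := by
      intro L hL hc hnil
      subst hnil
      exact hc (c_nil hd τ s c hrel hL)
    let P : Idx d n → Prop := fun θ => ∃ L ∈ s, c L ≠ 0 ∧ ∃ t, L = θ :: t
    have hP : ∃ θ, P θ := by
      cases L₀ with
      | nil => exact absurd rfl (hnil _ hL₀ hc₀)
      | cons x t => exact ⟨x, _, hL₀, hc₀, t, rfl⟩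
    obtain ⟨θ, hθP, hθmin⟩ := exists_minimal_of_wellFoundedLT P hP
    obtain ⟨L₁, hL₁, hc₁, t₁, hL₁eq⟩ := hθP
    have hθτ : θ ≤ τ := by
      apply (hs L₁ hL₁).1.2
      rw [hL₁eq]
      exact List.mem_cons_self
    have h1 := congrArg (spec K θ) hrel
    rw [map_sum, map_zero] at h1
    simp_rw [map_smul, spec_ψ τ θ hθτ] at h1
    obtain ⟨s₂, hs₂⟩ : ∃ s₂ : Finset (List (Idx d n)),
        ∀ L, L ∈ s₂ ↔ L ∈ s ∧ (c L ≠ 0 ∧ ∃ t, L = θ :: t) :=
      ⟨s.filter (fun L => c L ≠ 0 ∧ ∃ t, L = θ :: t), fun L => Finset.mem_filter⟩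
    have hsum : ∑ L ∈ s, c L • ψ K θ (listMon K L) = ∑ L ∈ s₂, c L • ψ K θ (listMon K L) := by
      symm
      apply Finset.sum_subset (fun L hL => ((hs₂ L).mp hL).1)
      intro L hL hnot
      by_cases hc : c L = 0
      · rw [hc, zero_smul]
      · cases L with
        | nil => exact absurd rfl (hnil _ hL hc)
        | cons x t =>
          have hxθ : ¬ x ≤ θ := by
            intro hle
            have hPx : P x := ⟨_, hL, hc, t, rfl⟩
            have := hθmin hPx hle
            have hx : x = θ := le_antisymm hle this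
            apply hnot
            rw [hs₂]
            exact ⟨hL, hc, t, by rw [hx]⟩
          rw [listMon_cons, map_mul, ψ_X_eq_zero θ x hxθ, zero_mul, smul_zero]
    rw [hsum] at h1
    have hform : ∀ L ∈ s₂, L = θ :: L.tail := by
      intro L hL
      rw [hs₂] at hL
      obtain ⟨_, _, t, rfl⟩ := hL
      rfl
    have h2 : ∑ L ∈ s₂, c L • ψ K θ (listMon K L) =
        ψ K θ (X θ) * ∑ L ∈ s₂, c L • ψ K θ (listMon K L.tail) := by
      rw [Finset.mul_sum]
      refine Finset.sum_congr rfl fun L hL => ?_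
      have e : ψ K θ (listMon K L) = ψ K θ (X θ) * ψ K θ (listMon K L.tail) := by
        conv_lhs => rw [hform L hL]
        rw [listMon_cons, map_mul]
      rw [e, mul_smul_comm]
    rw [h2] at h1
    have h3 := (mul_eq_zero.mp h1).resolve_left (ψ_X_self_ne_zero θ)
    have hinj : Set.InjOn List.tail (s₂ : Set (List (Idx d n))) := by
      intro L hL L' hL' hLL'
      rw [hform L hL, hform L' hL', hLL']
    have h4 : ∑ L ∈ s₂, c L • ψ K θ (listMon K L.tail) =
        ∑ L' ∈ s₂.image List.tail, c (θ :: L') • ψ K θ (listMon K L') := by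
      rw [Finset.sum_image hinj]
      refine Finset.sum_congr rfl fun L hL => ?_
      rw [← hform L hL]
    rw [h4] at h3
    have h5 := ih θ (s₂.image List.tail) (fun L' => c (θ :: L')) (by
      intro L' hL'
      obtain ⟨L, hL, rfl⟩ := Finset.mem_image.mp hL'
      have hLs : L ∈ s := ((hs₂ L).mp hL).1
      obtain ⟨⟨hpw, hle⟩, hlen⟩ := hs L hLs
      rw [hform L hL] at hpw hlen
      rw [List.pairwise_cons] at hpw
      refine ⟨⟨hpw.2, fun x hx => hpw.1 x hx⟩, ?_⟩
      simp only [List.length_cons] at hlen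
      omega) h3
    have hL₁s₂ : L₁ ∈ s₂ := by
      rw [hs₂]
      exact ⟨hL₁, hc₁, t₁, hL₁eq⟩
    have h6 := h5 L₁.tail (Finset.mem_image_of_mem _ hL₁s₂)
    rw [← hform L₁ hL₁s₂] at h6
    exact hc₁ h6

open Groth.Agent.S11251 in
/-- linear independence of standard monomials on `X(τ)`, in list form -/
theorem indep (hd : 0 < d) (τ : Idx d n) (s : Finset (List (Idx d n))) (c : List (Idx d n) → K)
    (hs : ∀ L ∈ s, IsStd τ L) (hrel : ∑ L ∈ s, c L • ψ K τ (listMon K L) = 0) :
    ∀ L ∈ s, c L = 0 := by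
  classical
  apply indep_aux hd (s.sup List.length) τ s c _ hrel
  intro L hL
  exact ⟨hs L hL, Finset.le_sup (f := List.length) hL⟩

theorem eval_ψ (τ : Idx d n) (a : Fin n × Fin d → K) (p : PlRing K d n) :
    MvPolynomial.eval a (ψ K τ p) = evalMinors K d n ((G K τ).map (MvPolynomial.eval a)) p := by
  have : ((MvPolynomial.aeval a : MatRing K d n →ₐ[K] K).comp (ψ K τ)) =
      evalMinors K d n ((G K τ).map (MvPolynomial.eval a)) := by
    apply MvPolynomial.algHom_ext
    intro θ
    rw [AlgHom.comp_apply, ψ_X]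
    unfold evalMinors
    rw [MvPolynomial.aeval_X, AlgHom.map_det]
    congr 1
  have h2 := congrArg (fun f => f p) this
  simp only [AlgHom.comp_apply] at h2
  rw [← h2, MvPolynomial.aeval_eq_eval]

theorem schubertVanishing_le_ker [Infinite K] (τ : Idx d n) (p : PlRing K d n)
    (hp : p ∈ schubertVanishing K d n τ) : ψ K τ p = 0 := by
  apply MvPolynomial.funext
  intro a
  rw [map_zero, eval_ψ]
  unfold schubertVanishing at hp
  rw [Ideal.mem_iInf] at hp
  have h1 := hp ((G K τ).map (MvPolynomial.eval a))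
  rw [Ideal.mem_iInf] at h1
  have h2 := h1 (by
    intro φ hφ
    have h3 := ψ_X_eq_zero (K := K) τ φ hφ
    rw [ψ_X] at h3
    have h4 := congrArg (MvPolynomial.eval a) h3
    rw [RingHom.map_det, map_zero] at h4
    rw [← h4]
    congr 1)
  exact h2

theorem plIdealTop_le (τ : Idx d n) : plIdealTop K ≤ schubertVanishing K d n τ := by
  unfold plIdealTop
  rw [Ideal.span_le]
  rintro _ ⟨i, j, r, _, rfl⟩
  unfold schubertVanishing
  simp only [SetLike.mem_coe, Ideal.mem_iInf]
  intro A _
  exact Groth.Agent.Lib.Helper2.PluckerRel.shuffleRel_minors A i j r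

theorem X_mem_schubertVanishing (τ φ : Idx d n) (h : ¬ φ ≤ τ) :
    (X φ : PlRing K d n) ∈ schubertVanishing K d n τ := by
  unfold schubertVanishing
  simp only [Ideal.mem_iInf]
  intro A hA
  rw [RingHom.mem_ker]
  show evalMinors K d n A (X φ) = 0
  unfold evalMinors
  rw [MvPolynomial.aeval_X]
  exact hA φ h

theorem plIdealTop_le_plIdeal (τ : Idx d n) : plIdealTop K ≤ plIdeal K τ := by
  unfold plIdealTop plIdeal
  apply Ideal.span_mono
  exact Set.subset_union_left

theorem X_mem_plIdeal (τ φ : Idx d n) (h : ¬ φ ≤ τ) : (X φ : PlRing K d n) ∈ plIdeal K τ := by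
  unfold plIdeal
  apply Ideal.subset_span
  right
  exact ⟨φ, h, rfl⟩

theorem plIdeal_le (τ : Idx d n) : plIdeal K τ ≤ schubertVanishing K d n τ := by
  unfold plIdeal
  rw [Ideal.span_le]
  rintro f (⟨i, j, r, hp, rfl⟩ | ⟨φ, hφ, rfl⟩)
  · exact plIdealTop_le τ (Ideal.subset_span ⟨i, j, r, hp, rfl⟩)
  · exact X_mem_schubertVanishing τ φ hφ

open Groth.Agent.S11251 in
variable (K) in
/-- the span of the standard monomials on `X(τ)` -/
noncomputable def Sstd (τ : Idx d n) : Submodule K (PlRing K d n) :=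
  Submodule.span K ((fun L => listMon K L) '' {L | IsStd τ L})

open Groth.Agent.S11251 in
theorem Sstd_inter [Infinite K] (hd : 0 < d) (τ : Idx d n) (q : PlRing K d n)
    (hq : q ∈ Sstd K τ) (hq2 : ψ K τ q = 0) : q = 0 := by
  classical
  unfold Sstd at hq
  obtain ⟨l, hl, rfl⟩ := (Finsupp.mem_span_image_iff_linearCombination K).mp hq
  rw [Finsupp.linearCombination_apply, Finsupp.sum] at hq2 ⊢
  rw [map_sum] at hq2
  simp_rw [map_smul] at hq2
  have h := indep hd τ l.support (fun L => l L)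
    (fun L hL => (Finsupp.mem_supported K l).mp hl hL) hq2
  apply Finset.sum_eq_zero
  intro L hL
  rw [h L hL, zero_smul]

open Groth.Agent.S11251 in
theorem chainMon_mem (τ : Idx d n) {m : ℕ} (c : Fin m → Idx d n) (hc : Antitone c) :
    chainMon K c ∈ Sstd K τ ⊔ (plIdeal K τ).restrictScalars K := by
  by_cases h : ∀ k, c k ≤ τ
  · apply Submodule.mem_sup_left
    unfold Sstd
    apply Submodule.subset_span
    refine ⟨List.ofFn c, ⟨?_, ?_⟩, ?_⟩
    · rw [List.pairwise_ofFn]
      intro i j hij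
      exact hc hij.le
    · intro x hx
      rw [List.mem_ofFn] at hx
      obtain ⟨k, rfl⟩ := hx
      exact h k
    · unfold listMon chainMon
      simp only
      rw [List.map_ofFn, List.prod_ofFn]
      rfl
  · push Not at h
    obtain ⟨k, hk⟩ := h
    apply Submodule.mem_sup_right
    show chainMon K c ∈ plIdeal K τ
    unfold chainMon
    exact Ideal.prod_mem _ (Finset.mem_univ k) (X_mem_plIdeal τ (c k) hk)

theorem span_std (τ : Idx d n) (p : PlRing K d n) :
    p ∈ Sstd K τ ⊔ (plIdeal K τ).restrictScalars K := by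
  have hmain := Groth.Agent.S11251.main K d n
  have hp : Ideal.Quotient.mk (plIdealTop (d := d) (n := n) K) p ∈
      Submodule.span K (Set.range fun c : (Σ m : ℕ, {c : Fin m → Idx d n // Antitone c}) =>
        Ideal.Quotient.mk (plIdealTop (d := d) (n := n) K) (chainMon K c.2.1)) := by
    rw [hmain]; trivial
  have hrange : (Set.range fun c : (Σ m : ℕ, {c : Fin m → Idx d n // Antitone c}) =>
        Ideal.Quotient.mk (plIdealTop (d := d) (n := n) K) (chainMon K c.2.1)) =
      (Ideal.Quotient.mkₐ K (plIdealTop (d := d) (n := n) K)).toLinearMap ''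
        (Set.range fun c : (Σ m : ℕ, {c : Fin m → Idx d n // Antitone c}) => chainMon K c.2.1) := by
    rw [← Set.range_comp]
    rfl
  rw [hrange, Submodule.span_image] at hp
  obtain ⟨q, hq, hqp⟩ := hp
  have hdiff : p - q ∈ plIdealTop (d := d) (n := n) K := by
    rw [← Ideal.Quotient.eq]
    exact hqp.symm
  have h1 : q ∈ Sstd K τ ⊔ (plIdeal K τ).restrictScalars K := by
    refine Submodule.span_le.mpr ?_ hq
    rintro _ ⟨c, rfl⟩
    exact chainMon_mem τ c.2.1 c.2.2
  have h2 : p - q ∈ Sstd K τ ⊔ (plIdeal K τ).restrictScalars K :=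
    Submodule.mem_sup_right (plIdealTop_le_plIdeal τ hdiff)
  have := Submodule.add_mem _ h1 h2
  rwa [add_sub_cancel] at this

end Groth.Agent.Lib.Helper2.SMT
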