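import Mathlib
import Groth.Prelude.Def_W4bk4grassmannianPl
import Groth.Agent.Lib.Helper2.SMT
import Groth.Agent.Lib.Helper2.ReesFam

universe u

namespace Groth.Agent.Lib.Helper2.StdFam

open W4bk4grassmannian MvPolynomial Groth.Agent.S11251 Groth.Agent.Lib.Helper2.SMT

variable {K : Type u} [Field K] {d n : ℕ}

/-- index type of the standard monomial basis -/
abbrev StdIdx (w : Idx d n) : Type := {L : List (Idx d n) // IsStd w L}

variable (K) in
/-- the standard monomial basis of `S/J(w)` -/
noncomputable def stdA (w : Idx d n) (L : StdIdx w) : PlRing K d n ⧸ schubertVanishing K d n w :=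
  Ideal.Quotient.mk _ (listMon K L.1)

variable (K) in
/-- the induced map `S/J(w) → K[x_{it}]` -/
noncomputable def ψbar [Infinite K] (w : Idx d n) :
    (PlRing K d n ⧸ schubertVanishing K d n w) →ₐ[K] MatRing K d n :=
  Ideal.Quotient.liftₐ _ (ψ K w) (fun p hp => schubertVanishing_le_ker w p hp)

theorem ψbar_mk [Infinite K] (w : Idx d n) (p : PlRing K d n) :
    ψbar K w (Ideal.Quotient.mk _ p) = ψ K w p := by
  unfold ψbar
  rfl

theorem stdA_li [Infinite K] (hd : 0 < d) (w : Idx d n) : LinearIndependent K (stdA K w) := by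
  classical
  rw [linearIndependent_iff']
  intro s g hg L hL
  have h1 := congrArg (ψbar K w) hg
  rw [map_sum, map_zero] at h1
  simp_rw [map_smul] at h1
  have hinj : Function.Injective (Subtype.val : StdIdx w → List (Idx d n)) := Subtype.val_injective
  have h2 : ∑ L' ∈ s.image Subtype.val, (Function.extend Subtype.val g 0) L' • ψ K w (listMon K L') = 0 := by
    rw [Finset.sum_image (fun x _ y _ h => hinj h)]
    rw [← h1]
    apply Finset.sum_congr rfl
    intro L' _
    rw [hinj.extend_apply]
    rfl
  have h3 := indep hd w (s.image Subtype.val) _ (by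
    intro L' hL'
    obtain ⟨L'', _, rfl⟩ := Finset.mem_image.mp hL'
    exact L''.2) h2 L.1 (Finset.mem_image_of_mem _ hL)
  rwa [hinj.extend_apply] at h3

theorem stdA_span (w : Idx d n) (x : PlRing K d n ⧸ schubertVanishing K d n w) :
    x ∈ Submodule.span K (Set.range (stdA K w)) := by
  obtain ⟨p, rfl⟩ := Ideal.Quotient.mk_surjective x
  obtain ⟨q, hq, i, hi, rfl⟩ := Submodule.mem_sup.mp (span_std w p)
  have hi' : i ∈ schubertVanishing K d n w := plIdeal_le w hi
  rw [map_add, Ideal.Quotient.eq_zero_iff_mem.mpr hi', add_zero]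
  unfold Sstd at hq
  refine Submodule.span_induction ?_ ?_ ?_ ?_ hq
  · rintro _ ⟨L, hL, rfl⟩
    exact Submodule.subset_span ⟨⟨L, hL⟩, rfl⟩
  · rw [map_zero]; exact Submodule.zero_mem _
  · intro x y _ _ hx hy
    rw [map_add]; exact Submodule.add_mem _ hx hy
  · intro c x _ hx
    have : Ideal.Quotient.mk (schubertVanishing K d n w) (c • x) =
        c • Ideal.Quotient.mk (schubertVanishing K d n w) x := rfl
    rw [this]
    exact Submodule.smul_mem _ _ hx

/-- the empty list -/
def nilIdx (w : Idx d n) : StdIdx w := ⟨[], List.Pairwise.nil, fun _ h => absurd h (List.not_mem_nil)⟩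

theorem stdA_nil (w : Idx d n) : stdA K w (nilIdx w) = 1 := by
  unfold stdA nilIdx
  simp only
  rw [listMon_nil, map_one]

theorem neg_one_pow_mul_mem' (P : Submodule K (PlRing K d n)) (k : ℕ) (x : PlRing K d n)
    (hx : x ∈ P) : (-1) ^ k * x ∈ P := by
  rcases neg_one_pow_eq_or (PlRing K d n) k with h | h
  · rw [h, one_mul]; exact hx
  · rw [h, neg_one_mul]; exact Submodule.neg_mem _ hx

theorem step' (P : Submodule K (PlRing K d n)) (hP : ∀ f ∈ plIdealTop (d := d) (n := n) K, f ∈ P)
    (a b : Idx d n) (r : Fin d) (hpiv : IsPivot a b r) (M : PlRing K d n)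
    (hIH : ∀ a' b' : Idx d n, wt a'.1 + wt b'.1 = wt a.1 + wt b.1 → wt a.1 < wt a'.1 →
      X a' * X b' * M ∈ P) :
    X a * X b * M ∈ P := by
  classical
  have hrel : shuffleRel K a b r * M ∈ P := by
    apply hP
    apply Ideal.mul_mem_right
    exact Ideal.subset_span ⟨a, b, r, hpiv, rfl⟩
  have hterm : ∀ A : Finset (Fin (d + 1)), A ≠ A0 r → shuffleTerm K a b r A * M ∈ P := by
    intro A hne
    unfold shuffleTerm
    by_cases hA : A.card = r.val + 1
    swap
    · rw [dif_neg hA, zero_mul]; exact Submodule.zero_mem _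
    rw [dif_pos hA]
    obtain ⟨hw1, hw2⟩ := wt_facts a b r hpiv.2 A hA hne
    unfold coord
    by_cases hI : (Finset.univ.image (shuffleI a b r A hA)).card = d
    swap
    · rw [dif_neg hI, mul_zero, zero_mul, zero_mul]; exact Submodule.zero_mem _
    by_cases hJ : (Finset.univ.image (shuffleJ a b r A hA)).card = d
    swap
    · rw [dif_neg hJ, mul_zero, zero_mul]; exact Submodule.zero_mem _
    rw [dif_pos hI, dif_pos hJ]
    have hmem := hIH (sortIdx d n _ hI) (sortIdx d n _ hJ)
      (by rw [wt_sortIdx, wt_sortIdx]; exact hw1) (by rw [wt_sortIdx]; exact hw2)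
    have e : (-1 : PlRing K d n) ^ shuffleSign r A *
        ((-1) ^ invCount d n (shuffleI a b r A hA) * X (sortIdx d n (shuffleI a b r A hA) hI)) *
        ((-1) ^ invCount d n (shuffleJ a b r A hA) * X (sortIdx d n (shuffleJ a b r A hA) hJ)) * M =
        (-1) ^ (shuffleSign r A + invCount d n (shuffleI a b r A hA) +
          invCount d n (shuffleJ a b r A hA)) *
        (X (sortIdx d n (shuffleI a b r A hA) hI) * X (sortIdx d n (shuffleJ a b r A hA) hJ) * M) := by
      rw [pow_add, pow_add]; ring
    rw [e]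
    exact neg_one_pow_mul_mem' P _ _ hmem
  have hsum : shuffleRel K a b r * M =
      shuffleTerm K a b r (A0 r) * M +
        ∑ A ∈ Finset.univ.erase (A0 r), shuffleTerm K a b r A * M := by
    unfold shuffleRel
    rw [Finset.sum_mul, ← Finset.add_sum_erase Finset.univ _ (Finset.mem_univ (A0 r))]
  have h0 : shuffleTerm K a b r (A0 r) * M =
      (-1) ^ shuffleSign r (A0 r) * (X a * X b * M) := by
    unfold shuffleTerm
    rw [dif_pos (card_A0 r), shuffleI_A0, shuffleJ_A0, coord_idx, coord_idx]
    ring
  have hS : ∑ A ∈ Finset.univ.erase (A0 r), shuffleTerm K a b r A * M ∈ P := by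
    apply Submodule.sum_mem
    intro A hA
    exact hterm A (Finset.ne_of_mem_erase hA)
  have h5 : (-1) ^ shuffleSign r (A0 r) * (X a * X b * M) ∈ P := by
    have : (-1) ^ shuffleSign r (A0 r) * (X a * X b * M) =
        shuffleRel K a b r * M - ∑ A ∈ Finset.univ.erase (A0 r), shuffleTerm K a b r A * M := by
      rw [hsum, h0]; ring
    rw [this]
    exact Submodule.sub_mem _ hrel hS
  rcases neg_one_pow_eq_or (PlRing K d n) (shuffleSign r (A0 r)) with h | h
  · rw [h, one_mul] at h5; exact h5
  · rw [h, neg_one_mul] at h5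
    have := Submodule.neg_mem _ h5
    rwa [neg_neg] at this

variable (K) in
/-- the span of standard monomials of length `m` and potential at least `φ`, plus `J(w)` -/
noncomputable def T (w : Idx d n) (m φ : ℕ) : Submodule K (PlRing K d n) :=
  Submodule.span K ((fun L => listMon K L) '' {L | IsStd w L ∧ L.length = m ∧ φ ≤ Phi L}) ⊔
    (schubertVanishing K d n w).restrictScalars K

theorem T_anti (w : Idx d n) (m : ℕ) {φ φ' : ℕ} (h : φ ≤ φ') : T K w m φ' ≤ T K w m φ := by
  unfold T
  apply sup_le_sup_right
  apply Submodule.span_mono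
  apply Set.image_mono
  rintro L ⟨h1, h2, h3⟩
  exact ⟨h1, h2, le_trans h h3⟩

theorem chain_mem_T (w : Idx d n) (L : List (Idx d n)) (hL : L.Pairwise fun x y => x ≤ y ∨ y ≤ x) :
    listMon K L ∈ T K w L.length (Phi L) := by
  classical
  by_cases hw : ∀ x ∈ L, x ≤ w
  swap
  · push Not at hw
    obtain ⟨x, hx, hxw⟩ := hw
    apply Submodule.mem_sup_right
    show listMon K L ∈ schubertVanishing K d n w
    have hdvd : (X x : PlRing K d n) ∣ listMon K L := by
      unfold listMon
      exact List.dvd_prod (List.mem_map_of_mem hx)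
    obtain ⟨q, hq⟩ := hdvd
    rw [hq]
    exact Ideal.mul_mem_right _ _ (X_mem_schubertVanishing w x hxw)
  let rel : Idx d n → Idx d n → Prop := fun x y => wt y.1 ≤ wt x.1
  haveI : Std.Total rel := ⟨fun x y => le_total _ _⟩
  haveI : IsTrans (Idx d n) rel := ⟨fun x y z h1 h2 => le_trans h2 h1⟩
  set L' := L.insertionSort rel with hL'
  have hperm : L'.Perm L := List.perm_insertionSort rel L
  have hsorted : L'.Pairwise rel := List.pairwise_insertionSort rel L
  have hcomp : L'.Pairwise fun x y => x ≤ y ∨ y ≤ x :=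
    hperm.symm.pairwise hL (fun h => h.symm)
  have hanti : L'.Pairwise fun x y => y ≤ x := by
    refine (hsorted.and hcomp).imp ?_
    rintro x y ⟨h1, h2 | h2⟩
    · rw [eq_of_le_of_wt x y h2 h1]
    · exact h2
  apply Submodule.mem_sup_left
  apply Submodule.subset_span
  refine ⟨L', ⟨⟨hanti, fun x hx => hw x (hperm.mem_iff.mp hx)⟩, hperm.length_eq, ?_⟩, ?_⟩
  · rw [Phi_perm hperm]
  · exact listMon_perm hperm

theorem refined (w : Idx d n) (L : List (Idx d n)) :
    listMon K L ∈ T K w L.length (Phi L) ∧
      ((¬ L.Pairwise fun x y => x ≤ y ∨ y ≤ x) → listMon K L ∈ T K w L.length (Phi L + 1)) := by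
  induction' hk : (L.length * (d * n) ^ 2 - Phi L) using Nat.strong_induction_on with k ih generalizing L
  have hstrict : (¬ L.Pairwise fun x y => x ≤ y ∨ y ≤ x) → listMon K L ∈ T K w L.length (Phi L + 1) := by
    intro hp
    rw [List.pairwise_iff_forall_sublist] at hp
    push Not at hp
    obtain ⟨x, y, hsub, hxy1, hxy2⟩ := hp
    obtain ⟨L'', hperm⟩ := hsub.exists_perm_append
    have key : ∀ a b : Idx d n, L.Perm (a :: b :: L'') → ¬ b ≤ a → wt b.1 ≤ wt a.1 →
        listMon K L ∈ T K w L.length (Phi L + 1) := by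
      intro a b hperm hba hw
      obtain ⟨r, hpiv⟩ := exists_pivot a b hba
      rw [listMon_perm hperm]
      have e1 : listMon K (a :: b :: L'') = X a * X b * listMon K L'' := by
        unfold listMon
        simp only [List.map_cons, List.prod_cons, mul_assoc]
      rw [e1]
      apply step' _ _ a b r hpiv
      · intro a' b' h1 h2
        have e2 : X a' * X b' * listMon K L'' = listMon K (a' :: b' :: L'') := by
          unfold listMon
          simp only [List.map_cons, List.prod_cons, mul_assoc]
        rw [e2]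
        have hlen : (a' :: b' :: L'').length = L.length := by
          rw [hperm.length_eq]; simp
        have hPhi : Phi L < Phi (a' :: b' :: L'') := by
          rw [Phi_perm hperm]
          exact Phi_lt a b a' b' L'' h1 h2 hw
        have hle := Phi_le (a' :: b' :: L'')
        rw [hlen] at hle
        have := (ih ((a' :: b' :: L'').length * (d * n) ^ 2 - Phi (a' :: b' :: L'')) (by
          rw [hlen, ← hk]
          omega) _ rfl).1
        rw [hlen] at this
        exact T_anti w _ hPhi this
      · intro f hf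
        apply Submodule.mem_sup_right
        exact plIdealTop_le w hf
    rcases le_total (wt y.1) (wt x.1) with hw | hw
    · exact key x y hperm hxy2 hw
    · refine key y x (hperm.trans ?_) hxy1 hw
      exact List.Perm.swap _ _ _
  refine ⟨?_, hstrict⟩
  by_cases hp : L.Pairwise fun x y => x ≤ y ∨ y ≤ x
  · exact chain_mem_T w L hp
  · exact T_anti w _ (Nat.le_succ _) (hstrict hp)

theorem mk_T (w : Idx d n) (m φ : ℕ) (p : PlRing K d n) (hp : p ∈ T K w m φ) :
    Ideal.Quotient.mk (schubertVanishing K d n w) p ∈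
      Submodule.span K (stdA K w '' {L | L.1.length = m ∧ φ ≤ Phi L.1}) := by
  unfold T at hp
  obtain ⟨q, hq, i, hi, rfl⟩ := Submodule.mem_sup.mp hp
  have hi' : i ∈ schubertVanishing K d n w := hi
  rw [map_add, Ideal.Quotient.eq_zero_iff_mem.mpr hi', add_zero]
  refine Submodule.span_induction ?_ ?_ ?_ ?_ hq
  · rintro _ ⟨L, ⟨hL, h1, h2⟩, rfl⟩
    exact Submodule.subset_span ⟨⟨L, hL⟩, ⟨h1, h2⟩, rfl⟩
  · rw [map_zero]; exact Submodule.zero_mem _
  · intro x y _ _ hx hy
    rw [map_add]; exact Submodule.add_mem _ hx hy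
  · intro c x _ hx
    have : Ideal.Quotient.mk (schubertVanishing K d n w) (c • x) =
        c • Ideal.Quotient.mk (schubertVanishing K d n w) x := rfl
    rw [this]
    exact Submodule.smul_mem _ _ hx

theorem listMon_append (L M : List (Idx d n)) : listMon K (L ++ M) = listMon K L * listMon K M := by
  unfold listMon
  rw [List.map_append, List.prod_append]

theorem Phi_append (L M : List (Idx d n)) : Phi (L ++ M) = Phi L + Phi M := by
  unfold Phi
  rw [List.map_append, List.sum_append]

/-- the constant in the Stanley–Reisner weight -/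
def CC (d n : ℕ) : ℕ := (d * n) ^ 2 + 1

theorem Phi_le' (L : List (Idx d n)) : Phi L ≤ L.length * CC d n := by
  refine le_trans (Phi_le L) ?_
  apply Nat.mul_le_mul_left
  unfold CC
  omega

/-- the Stanley–Reisner weight -/
def ωSR (w : Idx d n) (L : StdIdx w) : ℕ := L.1.length * CC d n - Phi L.1

/-- the weighted family degenerating to the Stanley–Reisner ring -/
noncomputable def famSR [Infinite K] (hd : 0 < d) (w : Idx d n) :
    ReesFam.Fam K (PlRing K d n ⧸ schubertVanishing K d n w) (StdIdx w) where
  a := stdA K w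
  ω := ωSR w
  li := stdA_li hd w
  span := stdA_span w
  i₀ := nilIdx w
  a_i₀ := stdA_nil w
  ω_i₀ := by simp [ωSR, nilIdx, Phi]
  mul := by
    intro L M
    have h1 : stdA K w L * stdA K w M =
        Ideal.Quotient.mk (schubertVanishing K d n w) (listMon K (L.1 ++ M.1)) := by
      unfold stdA
      rw [listMon_append, map_mul]
    rw [h1]
    have h2 := mk_T w _ _ _ (refined (K := K) w (L.1 ++ M.1)).1
    refine Submodule.span_mono ?_ h2
    apply Set.image_mono
    rintro P ⟨hP1, hP2⟩
    show ωSR w P ≤ ωSR w L + ωSR w M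
    unfold ωSR
    rw [hP1, List.length_append, add_mul]
    rw [Phi_append] at hP2
    have hL := Phi_le' L.1
    have hM := Phi_le' M.1
    omega

end Groth.Agent.Lib.Helper2.StdFam
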