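import Mathlib
import Groth.Prelude.Def_W4bk4grassmannianPl
import Groth.Agent.Lib.Helper2.StdFam

universe u

namespace Groth.Agent.Lib.Helper2.StdFamB

open W4bk4grassmannian MvPolynomial Groth.Agent.S11251 Groth.Agent.Lib.Helper2.SMT
  Groth.Agent.Lib.Helper2.StdFam Groth.Agent.Lib.Helper2.ReesFam

attribute [local instance] Polynomial.algebra

variable {K : Type u} [Field K] {d n : ℕ}

open Classical in
/-- a total function to `Below w` -/
noncomputable def tb (w : Idx d n) (θ : Idx d n) : Below w := if h : θ ≤ w then ⟨θ, h⟩ else ⟨w, le_refl w⟩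

theorem tb_val (w θ : Idx d n) (h : θ ≤ w) : (tb w θ).1 = θ := by
  unfold tb
  rw [dif_pos h]

theorem tb_coe (w : Idx d n) (x : Below w) : tb w x.1 = x := by
  unfold tb
  rw [dif_pos x.2]

variable (K) in
/-- the monomial of a list of elements of `H(w)` -/
noncomputable def monB (w : Idx d n) (L : List (Below w)) : MvPolynomial (Below w) K := (L.map X).prod

theorem monB_perm (w : Idx d n) {L L' : List (Below w)} (h : L.Perm L') : monB K w L = monB K w L' := by
  unfold monB
  exact (h.map _).prod_eq

theorem monB_cons (w : Idx d n) (x : Below w) (L : List (Below w)) :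
    monB K w (x :: L) = X x * monB K w L := by
  unfold monB
  simp only [List.map_cons, List.prod_cons]

theorem span_of_lists (w : Idx d n) (I : Ideal (MvPolynomial (Below w) K))
    (S : Submodule K (MvPolynomial (Below w) K ⧸ I))
    (h : ∀ L : List (Below w), Ideal.Quotient.mk I (monB K w L) ∈ S)
    (y : MvPolynomial (Below w) K ⧸ I) : y ∈ S := by
  obtain ⟨p, rfl⟩ := Ideal.Quotient.mk_surjective y
  have hgen : ∀ (p : MvPolynomial (Below w) K) (L : List (Below w)),
      Ideal.Quotient.mk I (p * monB K w L) ∈ S := by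
    intro p
    induction p using MvPolynomial.induction_on with
    | C c =>
      intro L
      have : Ideal.Quotient.mk I (C c * monB K w L) = c • Ideal.Quotient.mk I (monB K w L) := by
        rw [← MvPolynomial.smul_eq_C_mul]
        rfl
      rw [this]
      exact Submodule.smul_mem _ _ (h L)
    | add p q hp hq =>
      intro L
      rw [add_mul, map_add]
      exact Submodule.add_mem _ (hp L) (hq L)
    | mul_X p i hp =>
      intro L
      have : p * X i * monB K w L = p * monB K w (i :: L) := by
        rw [monB_cons, mul_assoc]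
      rw [this]
      exact hp _
  have := hgen p []
  simpa [monB] using this

/-- the singleton list -/
def sing (w : Idx d n) (x : Below w) : StdIdx w :=
  ⟨[x.1], List.pairwise_singleton _ _, fun y hy => by rw [List.mem_singleton.mp hy]; exact x.2⟩

variable (K) in
/-- the candidate basis of the special fibre -/
noncomputable def bB (w : Idx d n) (I : Ideal (MvPolynomial (Below w) K)) (L : StdIdx w) :
    MvPolynomial (Below w) K ⧸ I :=
  Ideal.Quotient.mk I (monB K w (L.1.map (tb w)))

/-- a pairwise comparable list in `H(w)` gives a basis element -/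
theorem chain_mem_bB (w : Idx d n) (I : Ideal (MvPolynomial (Below w) K)) (L : List (Below w))
    (hL : L.Pairwise fun x y => x ≤ y ∨ y ≤ x) :
    Ideal.Quotient.mk I (monB K w L) ∈ Submodule.span K (Set.range (bB K w I)) := by
  classical
  let rel : Below w → Below w → Prop := fun x y => wt y.1.1 ≤ wt x.1.1
  haveI : Std.Total rel := ⟨fun x y => le_total _ _⟩
  haveI : IsTrans (Below w) rel := ⟨fun x y z h1 h2 => le_trans h2 h1⟩
  set L' := L.insertionSort rel with hL'
  have hperm : L'.Perm L := List.perm_insertionSort rel L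
  have hsorted : L'.Pairwise rel := List.pairwise_insertionSort rel L
  have hcomp : L'.Pairwise fun x y => x ≤ y ∨ y ≤ x :=
    hperm.symm.pairwise hL (fun h => h.symm)
  have hanti : L'.Pairwise fun x y => y ≤ x := by
    refine (hsorted.and hcomp).imp ?_
    rintro x y ⟨h1, h2 | h2⟩
    · have := eq_of_le_of_wt x.1 y.1 h2 h1
      have hxy : x = y := Subtype.ext this
      rw [hxy]
    · exact h2
  rw [← monB_perm w hperm]
  apply Submodule.subset_span
  refine ⟨⟨L'.map Subtype.val, ?_, ?_⟩, ?_⟩
  · rw [List.pairwise_map]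
    exact hanti
  · intro x hx
    obtain ⟨y, _, rfl⟩ := List.mem_map.mp hx
    exact y.2
  · unfold bB
    simp only [List.map_map]
    congr 2
    conv_rhs => rw [← List.map_id L']
    apply List.map_congr_left
    intro x _
    exact tb_coe w x

theorem sing_tb (w θ : Idx d n) (h : IsStd w [θ]) : sing w (tb w θ) = ⟨[θ], h⟩ := by
  apply Subtype.ext
  show [(tb w θ).1] = [θ]
  rw [tb_val w θ (h.2 θ List.mem_cons_self)]

open Polynomial in
theorem prod_e' (w : Idx d n)
    (F : Fam K (PlRing K d n ⧸ schubertVanishing K d n w) (StdIdx w))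
    (hFa : F.a = stdA K w) (hω0 : F.ω (nilIdx w) = 0)
    (hωadd : ∀ (θ : Idx d n) (L : List (Idx d n)) (h : IsStd w (θ :: L)) (h1 : IsStd w [θ])
      (h2 : IsStd w L), F.ω ⟨θ :: L, h⟩ = F.ω ⟨[θ], h1⟩ + F.ω ⟨L, h2⟩)
    (L : List (Idx d n)) (hL : IsStd w L) :
    (L.map (fun θ => F.e' (sing w (tb w θ)))).prod = F.e' ⟨L, hL⟩ := by
  induction L with
  | nil =>
    rw [List.map_nil, List.prod_nil]
    apply Subtype.ext
    rw [Fam.coe_e']
    unfold Fam.e
    have h1 : (⟨[], hL⟩ : StdIdx w) = nilIdx w := rfl
    rw [h1, hω0, hFa, stdA_nil]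
    rfl
  | cons θ L ih =>
    have h2 : IsStd w L := ⟨(List.pairwise_cons.mp hL.1).2, fun x hx => hL.2 x (List.mem_cons_of_mem _ hx)⟩
    have h1 : IsStd w [θ] := ⟨List.pairwise_singleton _ _, fun x hx => by
      rw [List.mem_singleton.mp hx]; exact hL.2 θ List.mem_cons_self⟩
    rw [List.map_cons, List.prod_cons, ih h2, sing_tb w θ h1]
    apply Subtype.ext
    rw [Subalgebra.coe_mul, Fam.coe_e', Fam.coe_e', Fam.coe_e']
    unfold Fam.e
    rw [monomial_mul_monomial, hωadd θ L hL h1 h2, hFa]
    congr 1
    unfold stdA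
    rw [← map_mul]
    congr 1
    show listMon K [θ] * listMon K L = listMon K (θ :: L)
    rw [listMon_cons, listMon_cons, listMon_nil, mul_one]

open Polynomial in
theorem assemble (w : Idx d n)
    (F : Fam K (PlRing K d n ⧸ schubertVanishing K d n w) (StdIdx w))
    (hFa : F.a = stdA K w) (hω0 : F.ω (nilIdx w) = 0)
    (hωadd : ∀ (θ : Idx d n) (L : List (Idx d n)) (h : IsStd w (θ :: L)) (h1 : IsStd w [θ])
      (h2 : IsStd w L), F.ω ⟨θ :: L, h⟩ = F.ω ⟨[θ], h1⟩ + F.ω ⟨L, h2⟩)
    (I : Ideal (MvPolynomial (Below w) K))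
    (hI : ∀ f ∈ I, MvPolynomial.aeval (fun x : Below w =>
      Ideal.Quotient.mk (Ideal.span {algebraMap K[X] F.R Polynomial.X}) (F.e' (sing w x))) f = 0)
    (hspan : ∀ L : List (Below w),
      Ideal.Quotient.mk I (monB K w L) ∈ Submodule.span K (Set.range (bB K w I))) :
    ∃ (R : Type u) (_ : CommRing R) (_ : Algebra K R) (_ : Algebra (Polynomial K) R)
      (_ : IsScalarTower K (Polynomial K) R),
      Module.Free (Polynomial K) R ∧
      Nonempty ((R ⧸ Ideal.span {algebraMap (Polynomial K) R Polynomial.X}) ≃ₐ[K]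
        (MvPolynomial (Below w) K ⧸ I)) ∧
      ∀ c : K, c ≠ 0 →
        Nonempty ((R ⧸ Ideal.span {algebraMap (Polynomial K) R (Polynomial.X - Polynomial.C c)})
          ≃ₐ[K] (PlRing K d n ⧸ schubertVanishing K d n w)) := by
  let g : (MvPolynomial (Below w) K ⧸ I) →ₐ[K]
      (F.R ⧸ Ideal.span {algebraMap K[X] F.R Polynomial.X}) :=
    Ideal.Quotient.liftₐ I (MvPolynomial.aeval (fun x : Below w =>
      Ideal.Quotient.mk (Ideal.span {algebraMap K[X] F.R Polynomial.X}) (F.e' (sing w x)))) hI
  apply F.exists_family g (bB K w I) (span_of_lists w I _ hspan)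
  intro L
  unfold bB
  show MvPolynomial.aeval (fun x : Below w =>
      Ideal.Quotient.mk (Ideal.span {algebraMap K[X] F.R Polynomial.X}) (F.e' (sing w x)))
      (monB K w (L.1.map (tb w))) = _
  unfold monB
  rw [map_list_prod, List.map_map, List.map_map, ← prod_e' w F hFa hω0 hωadd L.1 L.2, map_list_prod,
    List.map_map]
  congr 1
  apply List.map_congr_left
  intro θ _
  simp only [Function.comp_apply]
  rw [MvPolynomial.aeval_X]

end Groth.Agent.Lib.Helper2.StdFamB
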