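import Mathlib
import Groth.Prelude.Def_W4bk4grassmannianPl
import Groth.Agent.Lib.Helper2.StdFamB

universe u

namespace Groth.Agent.Lib.Helper2.HibiDeg

open W4bk4grassmannian MvPolynomial Groth.Agent.S11251 Groth.Agent.Lib.Helper2.SMT
  Groth.Agent.Lib.Helper2.StdFam Groth.Agent.Lib.Helper2.ReesFam Groth.Agent.Lib.Helper2.StdFamB

variable {K : Type u} [Field K] {d n : ℕ}

/-- the weight of a matrix variable -/
def wgt (p : Fin n × Fin d) : ℕ := p.1.val * p.2.val + 1

variable (K d n) in
/-- homogenization with respect to the weights -/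
noncomputable def Ω : MatRing K d n →ₐ[K] Polynomial (MatRing K d n) :=
  MvPolynomial.aeval fun p => Polynomial.monomial (wgt p) (X p : MatRing K d n)

/-- the weight of the diagonal term of a minor -/
def lam (θ : Idx d n) : ℕ := ∑ t : Fin d, ((θ.1 t).val * t.val + 1)

variable (K) in
/-- the diagonal term of a minor -/
noncomputable def Dm (θ : Idx d n) : MatRing K d n := ∏ t : Fin d, X (θ.1 t, t)

theorem rearr_le (θ : Idx d n) (σ : Equiv.Perm (Fin d)) :
    ∑ t : Fin d, ((θ.1 (σ t)).val * t.val + 1) ≤ lam θ := by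
  unfold lam
  rw [Finset.sum_add_distrib, Finset.sum_add_distrib]
  apply Nat.add_le_add_right
  have hmono : Monovary (fun t : Fin d => (θ.1 t).val) (fun t : Fin d => t.val) := by
    intro i j hij
    have : i < j := hij
    exact le_of_lt (θ.2 this)
  exact hmono.sum_comp_perm_mul_le_sum_mul

theorem rearr_lt (θ : Idx d n) (σ : Equiv.Perm (Fin d)) (hσ : σ ≠ 1) :
    ∑ t : Fin d, ((θ.1 (σ t)).val * t.val + 1) < lam θ := by
  unfold lam
  rw [Finset.sum_add_distrib, Finset.sum_add_distrib]
  apply Nat.add_lt_add_right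
  have hmono : Monovary (fun t : Fin d => (θ.1 t).val) (fun t : Fin d => t.val) := by
    intro i j hij
    have : i < j := hij
    exact le_of_lt (θ.2 this)
  rw [hmono.sum_comp_perm_mul_lt_sum_mul_iff]
  intro hcon
  apply hσ
  have hm : Monotone σ := by
    intro i j hij
    rcases hij.lt_or_eq with h | h
    · have h1 := hcon (show (i.val : ℕ) < j.val from h)
      simp only [Function.comp_apply] at h1
      have h2 : θ.1 (σ i) ≤ θ.1 (σ j) := h1
      exact θ.2.le_iff_le.mp h2
    · rw [h]
  have hsm : StrictMono σ := hm.strictMono_of_injective σ.injective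
  have h3 : (σ : Fin d → Fin d) = id := by
    rw [← hsm.range_inj strictMono_id]
    rw [Set.range_id]
    exact σ.surjective.range_eq
  ext t
  rw [h3]
  rfl

theorem Ω_X (p : Fin n × Fin d) : Ω K d n (X p) = Polynomial.monomial (wgt p) (X p : MatRing K d n) := by
  unfold Ω
  rw [MvPolynomial.aeval_X]

theorem Ω_G (w : Idx d n) (i : Fin n) (t : Fin d) :
    Ω K d n (G K w i t) = if i ≤ w.1 t then Polynomial.monomial (wgt (i, t)) (X (i, t) : MatRing K d n) else 0 := by
  unfold G
  simp only [Matrix.of_apply]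
  split_ifs with h
  · rw [Ω_X]
  · rw [map_zero]

theorem natDegree_Ω_G (w : Idx d n) (i : Fin n) (t : Fin d) :
    (Ω K d n (G K w i t)).natDegree ≤ i.val * t.val + 1 := by
  rw [Ω_G]
  split_ifs with h
  · exact Polynomial.natDegree_monomial_le _
  · simp

theorem prod_monomial {ι : Type*} {R : Type*} [CommSemiring R] (s : Finset ι) (e : ι → ℕ) (c : ι → R) :
    ∏ i ∈ s, Polynomial.monomial (e i) (c i) = Polynomial.monomial (∑ i ∈ s, e i) (∏ i ∈ s, c i) := by
  classical
  induction s using Finset.induction_on with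
  | empty => simp
  | insert a s ha ih =>
    rw [Finset.prod_insert ha, Finset.sum_insert ha, Finset.prod_insert ha, ih,
      Polynomial.monomial_mul_monomial]

theorem Ω_ψ_X (w θ : Idx d n) (hθ : θ ≤ w) :
    (Ω K d n (ψ K w (X θ))).natDegree ≤ lam θ ∧ (Ω K d n (ψ K w (X θ))).coeff (lam θ) = Dm K θ := by
  classical
  rw [ψ_X, AlgHom.map_det, Matrix.det_apply']
  have hterm : ∀ σ : Equiv.Perm (Fin d),
      (((Equiv.Perm.sign σ : ℤ) : Polynomial (MatRing K d n)) *
        ∏ t, ((Ω K d n).mapMatrix ((G K w).submatrix θ.1 id)) (σ t) t).natDegree ≤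
        ∑ t : Fin d, ((θ.1 (σ t)).val * t.val + 1) := by
    intro σ
    refine le_trans Polynomial.natDegree_mul_le ?_
    rw [Polynomial.natDegree_intCast, zero_add]
    refine le_trans (Polynomial.natDegree_prod_le _ _) ?_
    apply Finset.sum_le_sum
    intro t _
    exact natDegree_Ω_G w _ _
  constructor
  · apply Polynomial.natDegree_sum_le_of_forall_le
    intro σ _
    exact le_trans (hterm σ) (rearr_le θ σ)
  · rw [Polynomial.finsetSum_coeff, Finset.sum_eq_single_of_mem (1 : Equiv.Perm (Fin d)) (Finset.mem_univ _)]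
    · rw [Equiv.Perm.sign_one]
      simp only [Units.val_one, Int.cast_one, one_mul, Equiv.Perm.coe_one, id_eq]
      have : ∀ t : Fin d, ((Ω K d n).mapMatrix ((G K w).submatrix θ.1 id)) t t =
          Polynomial.monomial ((θ.1 t).val * t.val + 1) (X (θ.1 t, t) : MatRing K d n) := by
        intro t
        show Ω K d n (G K w (θ.1 t) t) = _
        rw [Ω_G, if_pos (hθ t)]
        rfl
      simp_rw [this]
      rw [prod_monomial, Polynomial.coeff_monomial]
      unfold lam Dm
      rw [if_pos rfl]
    · intro σ _ hσ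
      apply Polynomial.coeff_eq_zero_of_natDegree_lt
      exact lt_of_le_of_lt (hterm σ) (rearr_lt θ σ hσ)

/-- the weight of a list -/
def lamL (L : List (Idx d n)) : ℕ := (L.map lam).sum

variable (K) in
/-- the diagonal term of a list monomial -/
noncomputable def DL (L : List (Idx d n)) : MatRing K d n := (L.map (Dm K)).prod

theorem Ω_ψ_listMon (w : Idx d n) (L : List (Idx d n)) (hL : ∀ x ∈ L, x ≤ w) :
    (Ω K d n (ψ K w (listMon K L))).natDegree ≤ lamL L ∧
      (Ω K d n (ψ K w (listMon K L))).coeff (lamL L) = DL K L := by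
  induction L with
  | nil =>
    rw [listMon_nil, map_one, map_one]
    unfold lamL DL
    simp
  | cons θ L ih =>
    have h1 := Ω_ψ_X (K := K) w θ (hL θ List.mem_cons_self)
    have h2 := ih (fun x hx => hL x (List.mem_cons_of_mem _ hx))
    rw [listMon_cons, map_mul, map_mul]
    have e1 : lamL (θ :: L) = lam θ + lamL L := by
      unfold lamL
      simp
    have e2 : DL K (θ :: L) = Dm K θ * DL K L := by
      unfold DL
      simp
    rw [e1, e2]
    constructor
    · exact Polynomial.natDegree_mul_le_of_le h1.1 h2.1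
    · rw [Polynomial.coeff_mul_add_eq_of_natDegree_le h1.1 h2.1, h1.2, h2.2]

/-- exponent vector of the diagonal term -/
noncomputable def eθ (θ : Idx d n) : (Fin n × Fin d) →₀ ℕ := ∑ t : Fin d, Finsupp.single (θ.1 t, t) 1

theorem Dm_eq (θ : Idx d n) : Dm K θ = monomial (eθ θ) 1 := by
  unfold Dm eθ
  rw [MvPolynomial.monomial_sum_one]
  rfl

/-- exponent vector of the diagonal term of a list -/
noncomputable def eL (L : List (Idx d n)) : (Fin n × Fin d) →₀ ℕ := (L.map eθ).sum

theorem DL_eq (L : List (Idx d n)) : DL K L = monomial (eL L) 1 := by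
  induction L with
  | nil =>
    unfold DL eL
    simp
  | cons θ L ih =>
    have e1 : eL (θ :: L) = eθ θ + eL L := by
      unfold eL
      simp
    have e2 : DL K (θ :: L) = Dm K θ * DL K L := by
      unfold DL
      simp
    rw [e1, e2, ih, Dm_eq, MvPolynomial.monomial_mul, one_mul]

theorem eθ_apply (θ : Idx d n) (i : Fin n) (t : Fin d) :
    eθ θ (i, t) = if θ.1 t = i then 1 else 0 := by
  classical
  unfold eθ
  rw [Finsupp.finsetSum_apply]
  simp_rw [Finsupp.single_apply]
  rw [Finset.sum_eq_single_of_mem t (Finset.mem_univ _)]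
  · by_cases h : θ.1 t = i
    · rw [if_pos h, if_pos (by rw [h])]
    · rw [if_neg h, if_neg (by
        intro hcon
        exact h (Prod.ext_iff.mp hcon).1)]
  · intro t' _ ht'
    rw [if_neg]
    intro hcon
    exact ht' (Prod.ext_iff.mp hcon).2

theorem eL_apply (L : List (Idx d n)) (i : Fin n) (t : Fin d) :
    eL L (i, t) = (L.map (fun θ => θ.1 t)).count i := by
  induction L with
  | nil =>
    unfold eL
    simp
  | cons θ L ih =>
    have e1 : eL (θ :: L) = eθ θ + eL L := by
      unfold eL
      simp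
    rw [e1, Finsupp.add_apply, ih, eθ_apply, List.map_cons, List.count_cons]
    simp only [beq_iff_eq]
    omega

theorem eL_inj (hd : 0 < d) (L L' : List (Idx d n)) (hL : L.Pairwise (fun x y => y ≤ x))
    (hL' : L'.Pairwise (fun x y => y ≤ x)) (h : eL L = eL L') : L = L' := by
  have hcol : ∀ t : Fin d, L.map (fun θ => θ.1 t) = L'.map (fun θ => θ.1 t) := by
    intro t
    have hperm : (L.map (fun θ => θ.1 t)).Perm (L'.map (fun θ => θ.1 t)) := by
      rw [List.perm_iff_count]
      intro i
      rw [← eL_apply, ← eL_apply, h]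
    have hs : (L.map (fun θ => θ.1 t)).Pairwise (fun a b => b ≤ a) := by
      rw [List.pairwise_map]
      exact hL.imp (fun hxy => hxy t)
    have hs' : (L'.map (fun θ => θ.1 t)).Pairwise (fun a b => b ≤ a) := by
      rw [List.pairwise_map]
      exact hL'.imp (fun hxy => hxy t)
    haveI : Std.Antisymm (fun a b : Fin n => b ≤ a) := ⟨fun a b h1 h2 => le_antisymm h2 h1⟩
    exact hperm.eq_of_pairwise' hs hs'
  have hlen : L.length = L'.length := by
    have := congrArg List.length (hcol ⟨0, hd⟩)
    simpa using this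
  apply List.ext_getElem hlen
  intro k hk hk'
  apply Subtype.ext
  funext t
  have := hcol t
  have h1 : (L.map (fun θ => θ.1 t))[k]'(by simpa using hk) = (L'.map (fun θ => θ.1 t))[k]'(by simpa using hk') := by
    simp only [this]
  simpa using h1

theorem mem_span_of_natDegree [Infinite K] (hd : 0 < d) (w : Idx d n)
    (f : PlRing K d n ⧸ schubertVanishing K d n w) (N : ℕ)
    (hf : (Ω K d n (ψbar K w f)).natDegree ≤ N) :
    f ∈ Submodule.span K (stdA K w '' {L | lamL L.1 ≤ N}) := by
  classical
  have hspan := stdA_span w f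
  rw [Finsupp.mem_span_range_iff_exists_finsupp] at hspan
  obtain ⟨c, hc⟩ := hspan
  have claim : ∀ L ∈ c.support, lamL L.1 ≤ N := by
    by_contra hcon
    push Not at hcon
    obtain ⟨L₁, hL₁, hL₁N⟩ := hcon
    obtain ⟨L₀, hL₀, hmax⟩ := Finset.exists_max_image c.support (fun L => lamL L.1) ⟨L₁, hL₁⟩
    have hN' : N < lamL L₀.1 := lt_of_lt_of_le hL₁N (hmax L₁ hL₁)
    have h0 : (Ω K d n (ψbar K w f)).coeff (lamL L₀.1) = 0 :=
      Polynomial.coeff_eq_zero_of_natDegree_lt (lt_of_le_of_lt hf hN')
    rw [← hc, Finsupp.sum, map_sum, map_sum, Polynomial.finsetSum_coeff] at h0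
    have h1 := congrArg (MvPolynomial.coeff (eL L₀.1)) h0
    rw [MvPolynomial.coeff_sum, MvPolynomial.coeff_zero] at h1
    rw [Finset.sum_eq_single_of_mem L₀ hL₀] at h1
    · have h2 : ψbar K w (c L₀ • stdA K w L₀) = c L₀ • ψ K w (listMon K L₀.1) := by
        rw [map_smul]
        rfl
      rw [h2, map_smul, Polynomial.coeff_smul, (Ω_ψ_listMon w L₀.1 L₀.2.2).2, DL_eq,
        MvPolynomial.coeff_smul, MvPolynomial.coeff_monomial, if_pos rfl, smul_eq_mul, mul_one] at h1
      exact (Finsupp.mem_support_iff.mp hL₀) h1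
    · intro L hL hne
      have h2 : ψbar K w (c L • stdA K w L) = c L • ψ K w (listMon K L.1) := by
        rw [map_smul]
        rfl
      rw [h2, map_smul, Polynomial.coeff_smul, MvPolynomial.coeff_smul]
      rcases (hmax L hL).lt_or_eq with hlt | heq
      · rw [Polynomial.coeff_eq_zero_of_natDegree_lt
          (lt_of_le_of_lt (Ω_ψ_listMon w L.1 L.2.2).1 hlt), MvPolynomial.coeff_zero, smul_zero]
      · have heq' : lamL L.1 = lamL L₀.1 := heq
        rw [← heq', (Ω_ψ_listMon w L.1 L.2.2).2, DL_eq, MvPolynomial.coeff_monomial, if_neg, smul_zero]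
        intro hcon
        apply hne
        apply Subtype.ext
        exact eL_inj hd L.1 L₀.1 L.2.1 L₀.2.1 hcon
  rw [← hc, Finsupp.sum]
  apply Submodule.sum_mem
  intro L hL
  apply Submodule.smul_mem
  apply Submodule.subset_span
  exact ⟨L, claim L hL, rfl⟩

end Groth.Agent.Lib.Helper2.HibiDeg
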