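import Mathlib

/-!
# Generic lemmas for lifting smooth algebras

* `exists_derivation_extension`: derivations extend along formally étale maps.
* `formallySmooth_away_quotient`: a quotient `T ⧸ range u` (localized) of a formally smooth algebra is
  formally smooth as soon as there is an "approximate retraction" of `x ↦ d (u x)`.
-/

universe u

namespace Groth.Agent.Helper2.LiftSm

section Ext

open TensorProduct KaehlerDifferential

variable {R Q T N : Type*} [CommRing R] [CommRing Q] [CommRing T] [Algebra R Q] [Algebra R T]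
  [Algebra Q T] [IsScalarTower R Q T] [Algebra.FormallyEtale Q T]
  [AddCommGroup N] [Module R N] [Module Q N] [Module T N] [IsScalarTower R Q N]
  [IsScalarTower R T N] [IsScalarTower Q T N]

/-- Derivations extend along formally étale maps. -/
theorem exists_derivation_extension (δ : Derivation R Q N) :
    ∃ δ' : Derivation R T N, ∀ q, δ' (algebraMap Q T q) = δ q := by
  let L : Ω[T⁄R] →ₗ[T] N :=
    (LinearMap.liftBaseChange T δ.liftKaehlerDifferential) ∘ₗ
      (KaehlerDifferential.tensorKaehlerEquivOfFormallyEtale R Q T).symm.toLinearMap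
  refine ⟨L.compDer (D R T), fun q => ?_⟩
  change L (D R T (algebraMap Q T q)) = δ q
  change (LinearMap.liftBaseChange T δ.liftKaehlerDifferential)
    ((KaehlerDifferential.tensorKaehlerEquivOfFormallyEtale R Q T).symm (D R T (algebraMap Q T q))) = δ q
  rw [KaehlerDifferential.tensorKaehlerEquivOfFormallyEtale_symm_D_algebraMap]
  simp

end Ext

end Groth.Agent.Helper2.LiftSm

namespace Groth.Agent.Helper2.LiftSm

section QuotSmooth

open KaehlerDifferential

variable {R T X : Type u} [CommRing R] [CommRing T] [Algebra R T] [Algebra.FormallySmooth R T]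
  [AddCommGroup X] [Module T X]

/-- Let `T` be formally smooth over `R`, `u : X → T` linear with image the ideal `J`, and `r : Ω[T/R] → X`
linear with `r (d (u x)) ≡ t x` modulo `J X`.  Then `(T/J)[1/t]` is formally smooth over `R`. -/
theorem formallySmooth_away_quotient (u : X →ₗ[T] T) (t : T) (r : Ω[T⁄R] →ₗ[T] X)
    (hr : ∀ x, r (D R T (u x)) - t • x ∈
      (LinearMap.range u : Ideal T) • (⊤ : Submodule T X)) :
    Algebra.FormallySmooth R
      (Localization.Away (Ideal.Quotient.mk (LinearMap.range u : Ideal T) t)) := by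
  classical
  set J : Ideal T := LinearMap.range u with hJ
  refine Algebra.FormallySmooth.of_comp_surjective fun E _ _ N hN f => ?_
  -- the composite `T → T/J → (T/J)[1/t] → E/N`
  let gT : T →ₐ[R] Localization.Away (Ideal.Quotient.mk J t) :=
    (IsScalarTower.toAlgHom R (T ⧸ J) (Localization.Away (Ideal.Quotient.mk J t))).comp
      (Ideal.Quotient.mkₐ R J)
  obtain ⟨F, hF⟩ := Algebra.FormallySmooth.comp_surjective R T N hN (f.comp gT)
  have hFmk : ∀ τ : T, Ideal.Quotient.mk N (F τ) = f (gT τ) := fun τ =>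
    congrArg (fun g : T →ₐ[R] E ⧸ N => g τ) hF
  letI : Algebra T E := F.toRingHom.toAlgebra
  haveI : IsScalarTower R T E := IsScalarTower.of_algebraMap_eq fun x => (F.commutes x).symm
  have halg : ∀ τ : T, algebraMap T E τ = F τ := fun _ => rfl
  have hgJ : ∀ a ∈ J, gT a = 0 := by
    intro a ha
    change algebraMap (T ⧸ J) _ (Ideal.Quotient.mk J a) = 0
    rw [Ideal.Quotient.eq_zero_iff_mem.mpr ha, map_zero]
  have hFJ : ∀ a ∈ J, F a ∈ N := by
    intro a ha
    rw [← Ideal.Quotient.eq_zero_iff_mem, hFmk, hgJ a ha, map_zero]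
  have hN2 : ∀ a ∈ N, ∀ b ∈ N, a * b = 0 := by
    intro a ha b hb
    have : a * b ∈ N ^ 2 := by rw [pow_two]; exact Ideal.mul_mem_mul ha hb
    rwa [hN] at this
  -- inverse of `t` modulo `N`
  have hunit : IsUnit (f (gT t)) := by
    refine IsUnit.map f ?_
    exact IsLocalization.Away.algebraMap_isUnit (Ideal.Quotient.mk J t)
  obtain ⟨e', he'⟩ := Ideal.Quotient.mk_surjective (↑hunit.unit⁻¹ : E ⧸ N)
  have he't : e' * F t - 1 ∈ N := by
    rw [← Ideal.Quotient.eq_zero_iff_mem, map_sub, map_mul, he', hFmk, map_one, sub_eq_zero]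
    exact IsUnit.val_inv_mul hunit
  -- the linear map `β : X → N`
  let β : X →ₗ[T] N :=
    { toFun := fun x => ⟨F (u x), hFJ _ ⟨x, rfl⟩⟩
      map_add' := fun x y => by ext; simp
      map_smul' := fun τ x => by
        ext
        simp only [map_smul, smul_eq_mul, map_mul, RingHom.id_apply, Submodule.coe_smul_of_tower]
        rw [Algebra.smul_def, halg] }
  have hβJ : ∀ y ∈ J • (⊤ : Submodule T X), β y = 0 := by
    intro y hy
    refine Submodule.smul_induction_on hy ?_ ?_
    · intro a ha x _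
      ext
      change F (u (a • x)) = 0
      rw [map_smul, smul_eq_mul, map_mul]
      exact hN2 _ (hFJ a ha) _ (hFJ _ ⟨x, rfl⟩)
    · intro x y hx hy
      rw [map_add, hx, hy, add_zero]
  -- multiplication by `-e'` on `N`
  let m : N →ₗ[T] N :=
    { toFun := fun n => ⟨-e' * n.1, N.mul_mem_left _ n.2⟩
      map_add' := fun x y => by ext; simp [mul_add]
      map_smul' := fun τ x => by
        ext
        simp only [RingHom.id_apply, Submodule.coe_smul_of_tower, Algebra.smul_def]
        ring }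
  let δ : Derivation R T N := (m ∘ₗ β ∘ₗ r).compDer (D R T)
  have hδ : ∀ x : X, ((δ (u x) : N) : E) = - F (u x) := by
    intro x
    change -e' * ((β (r (D R T (u x))) : N) : E) = - F (u x)
    have h1 : r (D R T (u x)) = t • x + (r (D R T (u x)) - t • x) := by abel
    rw [h1, map_add, hβJ _ (hr x), add_zero, map_smul]
    change -e' * (t • (β x : N) : N).1 = _
    rw [Submodule.coe_smul_of_tower, Algebra.smul_def, halg]
    change -e' * (F t * F (u x)) = - F (u x)
    have h2 : (e' * F t - 1) * F (u x) = 0 := hN2 _ he't _ (hFJ _ ⟨x, rfl⟩)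
    linear_combination -h2
  let F' : T →ₐ[R] E := liftOfDerivationToSquareZero N hN δ
  have hF' : ∀ τ, F' τ = (δ τ : E) + F τ := fun τ => rfl
  have hF'J : ∀ a ∈ J, F' a = 0 := by
    rintro _ ⟨x, rfl⟩
    rw [hF', hδ, neg_add_cancel]
  have hF'mk : ∀ τ, Ideal.Quotient.mk N (F' τ) = f (gT τ) := by
    intro τ
    rw [hF', map_add, Ideal.Quotient.eq_zero_iff_mem.mpr (δ τ).2, zero_add, hFmk]
  let F'' : T ⧸ J →ₐ[R] E := Ideal.Quotient.liftₐ J F' hF'J
  have hF''u : ∀ y : Submonoid.powers (Ideal.Quotient.mk J t), IsUnit (F'' y) := by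
    rintro ⟨_, k, rfl⟩
    rw [map_pow]
    refine IsUnit.pow k ?_
    change IsUnit (F' t)
    rw [← IsNilpotent.isUnit_quotient_mk_iff (I := N) ⟨2, hN⟩, hF'mk]
    exact hunit
  refine ⟨IsLocalization.liftAlgHom (M := Submonoid.powers (Ideal.Quotient.mk J t)) hF''u, ?_⟩
  apply IsLocalization.algHom_ext (Submonoid.powers (Ideal.Quotient.mk J t))
  apply Ideal.Quotient.algHom_ext
  ext τ
  simp only [AlgHom.coe_comp, Function.comp_apply, Ideal.Quotient.mkₐ_eq_mk,
    IsLocalization.coe_liftAlgHom]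
  have h1 : (Algebra.algHom R (T ⧸ J) (Localization.Away ((Ideal.Quotient.mk J) t)))
      ((Ideal.Quotient.mk J) τ) = algebraMap (T ⧸ J) _ ((Ideal.Quotient.mk J) τ) := rfl
  rw [h1, IsLocalization.lift_eq]
  exact hF'mk τ

end QuotSmooth

end Groth.Agent.Helper2.LiftSm

namespace Groth.Agent.Helper2.LiftSm

section CH

open KaehlerDifferential Polynomial

variable {R T X : Type u} [CommRing R] [CommRing T] [Algebra R T]
  [AddCommGroup X] [Module T X] [Module.Finite T X] [Module.Projective T X]

/-- From a retraction modulo a bigger ideal `𝔠` to an approximate retraction modulo `J = range u`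
(Cayley–Hamilton). -/
theorem exists_approx_retraction (u : X →ₗ[T] T) (𝔠 : Ideal T) (r₁ : Ω[T⁄R] →ₗ[T] X)
    (hr₁ : ∀ x, r₁ (D R T (u x)) - x ∈ 𝔠 • (⊤ : Submodule T X)) :
    ∃ (t : T) (r : Ω[T⁄R] →ₗ[T] X), t - 1 ∈ 𝔠 ∧
      ∀ x, r (D R T (u x)) - t • x ∈ (LinearMap.range u : Ideal T) • (⊤ : Submodule T X) := by
  classical
  set J : Ideal T := LinearMap.range u with hJ
  set K : Submodule T X := J • (⊤ : Submodule T X) with hK
  have hJK : ∀ a ∈ J, ∀ y : X ⧸ K, a • y = 0 := by
    intro a ha y
    obtain ⟨y, rfl⟩ := K.mkQ_surjective y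
    rw [← map_smul, Submodule.mkQ_apply, Submodule.Quotient.mk_eq_zero]
    exact Submodule.smul_mem_smul ha Submodule.mem_top
  -- the map `x ↦ [r₁ (d (u x))]`
  let φ' : X →ₗ[T] X ⧸ K :=
    { toFun := fun x => K.mkQ (r₁ (D R T (u x)))
      map_add' := fun x y => by simp
      map_smul' := fun τ x => by
        simp only [map_smul, smul_eq_mul, Derivation.leibniz, map_add, RingHom.id_apply]
        rw [hJK (u x) ⟨x, rfl⟩, add_zero] }
  have hφ'K : K ≤ LinearMap.ker φ' := by
    intro y hy
    refine Submodule.smul_induction_on hy ?_ ?_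
    · intro a ha x _
      rw [LinearMap.mem_ker, map_smul]
      exact hJK a ha _
    · intro x y hx hy
      exact Submodule.add_mem _ hx hy
  let φ : Module.End T (X ⧸ K) := K.liftQ φ' hφ'K
  have hφ : ∀ x, φ (K.mkQ x) = K.mkQ (r₁ (D R T (u x))) := fun x => by
    simp [φ, φ']
  have hrange : LinearMap.range (1 - φ) ≤ 𝔠 • (⊤ : Submodule T (X ⧸ K)) := by
    rintro _ ⟨y, rfl⟩
    obtain ⟨x, rfl⟩ := K.mkQ_surjective y
    have h1 : (1 - φ) (K.mkQ x) = - K.mkQ (r₁ (D R T (u x)) - x) := by
      simp only [LinearMap.sub_apply, Module.End.one_apply, hφ, map_sub]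
      abel
    rw [h1]
    refine Submodule.neg_mem _ ?_
    have h2 := hr₁ x
    refine Submodule.smul_induction_on h2 ?_ ?_
    · intro c hc y _
      rw [map_smul]
      exact Submodule.smul_mem_smul hc Submodule.mem_top
    · intro a b ha hb
      rw [map_add]
      exact Submodule.add_mem _ ha hb
  obtain ⟨p, hpm, -, hpc, hp0⟩ :=
    LinearMap.exists_monic_and_natDegree_eq_and_coeff_mem_pow_and_aeval_eq_zero T (1 - φ) 𝔠 hrange
  set p' : T[X] := p.comp (1 - Polynomial.X) with hp'
  have hp'0 : Polynomial.aeval φ p' = 0 := by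
    rw [hp', Polynomial.aeval_comp]
    simpa using hp0
  set t : T := p'.coeff 0 with ht
  have ht1 : t - 1 ∈ 𝔠 := by
    have h1 : t = p.eval 1 := by
      rw [ht, Polynomial.coeff_zero_eq_eval_zero, hp', Polynomial.eval_comp]
      simp
    rw [h1, Polynomial.eval_eq_sum_range, Finset.sum_range_succ, hpm.coeff_natDegree]
    simp only [one_pow, mul_one, add_sub_cancel_right]
    refine Ideal.sum_mem _ fun i hi => ?_
    have hi' : i < p.natDegree := Finset.mem_range.mp hi
    exact Ideal.pow_le_self (by omega) (hpc i)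
  let ψ : Module.End T (X ⧸ K) := Polynomial.aeval φ p'.divX
  have hψφ : ψ * φ = - (t • (1 : Module.End T (X ⧸ K))) := by
    have h1 : Polynomial.aeval φ (p'.divX * Polynomial.X + Polynomial.C (p'.coeff 0)) = 0 := by
      rw [Polynomial.divX_mul_X_add]; exact hp'0
    rw [map_add, map_mul, Polynomial.aeval_X, Polynomial.aeval_C, Algebra.algebraMap_eq_smul_one] at h1
    exact eq_neg_of_add_eq_zero_left h1
  obtain ⟨ψ', hψ'⟩ := Module.projective_lifting_property K.mkQ (ψ ∘ₗ K.mkQ) K.mkQ_surjective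
  refine ⟨t, - (ψ' ∘ₗ r₁), ht1, fun x => ?_⟩
  rw [← Submodule.Quotient.mk_eq_zero, ← Submodule.mkQ_apply, map_sub, map_smul]
  have h1 : K.mkQ ((ψ' ∘ₗ r₁) (D R T (u x))) = ψ (K.mkQ (r₁ (D R T (u x)))) :=
    congrArg (fun g => g (r₁ (D R T (u x)))) hψ'
  rw [LinearMap.neg_apply, map_neg, h1, ← hφ]
  have h2 : ψ (φ (K.mkQ x)) = - (t • K.mkQ x) := by
    have := congrArg (fun g => g (K.mkQ x)) hψφ
    simpa using this
  rw [h2, neg_neg, sub_self]

end CH

end Groth.Agent.Helper2.LiftSm
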