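import Mathlib
import Groth.Agent.Lib.Helper2.LiftSm1

/-!
# Lifting a smooth quotient through an étale neighbourhood: the core construction
-/

universe u

namespace Groth.Agent.Helper2.LiftSm

section Core

open TensorProduct KaehlerDifferential

variable {R Q T A₀ P₀ P' : Type u} [CommRing R] [CommRing Q] [CommRing T] [CommRing A₀]
  [Algebra R Q] [Algebra R T] [Algebra Q T] [IsScalarTower R Q T] [Algebra R A₀]
  [AddCommGroup P₀] [Module A₀ P₀] [AddCommGroup P'] [Module T P']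

/-- Elements of `𝔠` kill `(T ⧸ 𝔠) ⊗ P'`. -/
lemma smul_quot_tensor_eq_zero (𝔠 : Ideal T) {a : T} (ha : a ∈ 𝔠) (n : (T ⧸ 𝔠) ⊗[T] P') :
    a • n = 0 := by
  induction n using TensorProduct.induction_on with
  | zero => simp
  | tmul x y =>
    rw [TensorProduct.smul_tmul']
    obtain ⟨x, rfl⟩ := Ideal.Quotient.mk_surjective x
    have : a • (Ideal.Quotient.mk 𝔠 x) = 0 := by
      rw [Algebra.smul_def, Ideal.Quotient.algebraMap_eq, ← map_mul,
        Ideal.Quotient.eq_zero_iff_mem]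
      exact 𝔠.mul_mem_right _ ha
    rw [this, zero_tmul]
  | add x y hx hy => rw [smul_add, hx, hy, add_zero]

/-- `1 ⊗ y = 0` in `(T ⧸ 𝔠) ⊗ P'` iff `y ∈ 𝔠 P'`. -/
lemma one_tmul_eq_zero_iff (𝔠 : Ideal T) (y : P') :
    ((1 : T ⧸ 𝔠) ⊗ₜ[T] y = 0) ↔ y ∈ 𝔠 • (⊤ : Submodule T P') := by
  have h := TensorProduct.quotTensorEquivQuotSMul_mk_tmul (M := P') 𝔠 1 y
  rw [one_smul, map_one] at h
  rw [← Submodule.Quotient.mk_eq_zero, ← h, LinearEquiv.map_eq_zero_iff]


/-- Step data: the derivation `T → (T/𝔞T) ⊗ P'` extending `j ∘ Δ`. -/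
theorem exists_deriv [Algebra.FormallyEtale Q T]
    (π : Q →ₐ[R] A₀)
    (Δ : Q → P₀)
    (hΔadd : ∀ q q', Δ (q + q') = Δ q + Δ q')
    (hΔmul : ∀ q q', Δ (q * q') = π q • Δ q' + π q' • Δ q)
    (hΔR : ∀ r, Δ (algebraMap R Q r) = 0)
    (j : P₀ →+ ((T ⧸ (RingHom.ker π).map (algebraMap Q T)) ⊗[T] P'))
    (hjsmul : ∀ q p, j (π q • p) = (algebraMap Q T q) • j p) :
    ∃ δ : Derivation R T ((T ⧸ (RingHom.ker π).map (algebraMap Q T)) ⊗[T] P'),
      ∀ q, δ (algebraMap Q T q) = j (Δ q) := by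
  have hsm : ∀ (r : R) (q : Q), Δ (r • q) = algebraMap R A₀ r • Δ q := by
    intro r q
    rw [Algebra.smul_def, hΔmul, hΔR, smul_zero, add_zero, AlgHom.commutes]
  let lin : Q →ₗ[R] ((T ⧸ (RingHom.ker π).map (algebraMap Q T)) ⊗[T] P') :=
    { toFun := fun q => j (Δ q)
      map_add' := fun q q' => by rw [hΔadd, map_add]
      map_smul' := fun r q => by
        rw [hsm, ← AlgHom.commutes π, hjsmul, RingHom.id_apply,
          ← IsScalarTower.algebraMap_apply R Q T, algebraMap_smul] }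
  let δQ : Derivation R Q ((T ⧸ (RingHom.ker π).map (algebraMap Q T)) ⊗[T] P') :=
    Derivation.mk' lin (fun q q' => by
      change j (Δ (q * q')) = q • j (Δ q') + q' • j (Δ q)
      rw [hΔmul, map_add, hjsmul, hjsmul, algebraMap_smul, algebraMap_smul])
  obtain ⟨δ, hδ⟩ := exists_derivation_extension (T := T) δQ
  exact ⟨δ, fun q => hδ q⟩


variable (𝔞 : Ideal Q)

local notation "𝔞T" => Ideal.map (algebraMap Q T) 𝔞

set_option maxHeartbeats 1600000 in
/-- The core construction. -/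
theorem core2 [Algebra.Smooth R T] [Module.Finite T P'] [Module.Projective T P']
    (I : Ideal R) (π : Q →ₐ[R] A₀) (hπ : Function.Surjective π)
    (hIA : ∀ i ∈ I, algebraMap R A₀ i = 0)
    (h𝔞 : ∀ q, q ∈ 𝔞 ↔ π q = 0)
    (hβ : Function.Bijective
      (algebraMap (Q ⧸ 𝔞) (T ⧸ 𝔞.map (algebraMap Q T))))
    (Δ : Q → P₀)
    (hΔsurj : ∀ p, ∃ f ∈ 𝔞, Δ f = p)
    (hΔker : ∀ f ∈ 𝔞, Δ f = 0 → f ∈ 𝔞 ^ 2 ⊔ I.map (algebraMap R Q))
    (F : Finset Q) (hF : 𝔞 = Ideal.span (F : Set Q) ⊔ I.map (algebraMap R Q))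
    (j : P₀ →+ ((T ⧸ 𝔞.map (algebraMap Q T)) ⊗[T] P'))
    (hj : Function.Bijective j)
    (δ : Derivation R T ((T ⧸ 𝔞.map (algebraMap Q T)) ⊗[T] P'))
    (hδ : ∀ q, δ (algebraMap Q T q) = j (Δ q)) :
    ∃ (A : Type u) (_ : CommRing A) (_ : Algebra R A), Algebra.Smooth R A ∧
      ∃ Φ : A →ₐ[R] A₀, Function.Surjective Φ ∧ RingHom.ker Φ = I.map (algebraMap R A) := by
  classical
  -- facts from `β`
  have hβ1 : ∀ τ : T, ∃ q : Q, τ - algebraMap Q T q ∈ 𝔞T := by
    intro τ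
    obtain ⟨y, hy⟩ := hβ.2 (Ideal.Quotient.mk 𝔞T τ)
    obtain ⟨q, rfl⟩ := Ideal.Quotient.mk_surjective y
    rw [Ideal.Quotient.algebraMap_quotient_map_quotient] at hy
    exact ⟨q, Ideal.Quotient.eq.mp hy.symm⟩
  have hβ2 : ∀ q : Q, algebraMap Q T q ∈ 𝔞T → q ∈ 𝔞 := by
    intro q hq
    have h1 : algebraMap (Q ⧸ 𝔞) (T ⧸ 𝔞T) (Ideal.Quotient.mk 𝔞 q) = 0 := by
      rw [Ideal.Quotient.algebraMap_quotient_map_quotient, Ideal.Quotient.eq_zero_iff_mem]
      exact hq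
    have h2 := hβ.1 (h1.trans (map_zero _).symm)
    exact Ideal.Quotient.eq_zero_iff_mem.mp h2
  have hkill : ∀ a ∈ 𝔞T, ∀ n : (T ⧸ 𝔞T) ⊗[T] P', a • n = 0 :=
    fun a ha n => smul_quot_tensor_eq_zero 𝔞T ha n
  -- the restriction of `δ` to `𝔞T`
  let lam : 𝔞T →ₗ[T] (T ⧸ 𝔞T) ⊗[T] P' :=
    { toFun := fun a => δ a.1
      map_add' := fun a b => by simp
      map_smul' := fun τ a => by
        simp only [Submodule.coe_smul_of_tower, smul_eq_mul, Derivation.leibniz, RingHom.id_apply]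
        rw [hkill a.1 a.2, add_zero] }
  have hlam_surj : Function.Surjective lam := by
    intro n
    obtain ⟨p, rfl⟩ := hj.2 n
    obtain ⟨f, hf, rfl⟩ := hΔsurj p
    exact ⟨⟨algebraMap Q T f, Ideal.mem_map_of_mem _ hf⟩, hδ f⟩
  let mk1 : P' →ₗ[T] (T ⧸ 𝔞T) ⊗[T] P' := TensorProduct.mk T (T ⧸ 𝔞T) P' 1
  have hmk1_surj : Function.Surjective mk1 :=
    TensorProduct.mk_surjective T P' (T ⧸ 𝔞T) Ideal.Quotient.mk_surjective
  obtain ⟨u₀, hu₀⟩ := Module.projective_lifting_property lam mk1 hlam_surj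
  let u : P' →ₗ[T] T := (Submodule.subtype 𝔞T) ∘ₗ u₀
  have hu_mem : ∀ x, u x ∈ 𝔞T := fun x => (u₀ x).2
  have hδu : ∀ x, δ (u x) = (1 : T ⧸ 𝔞T) ⊗ₜ[T] x := fun x => congrArg (fun g => g x) hu₀
  -- the retraction modulo `𝔞T`
  obtain ⟨r₁, hr₁'⟩ := Module.projective_lifting_property mk1 δ.liftKaehlerDifferential hmk1_surj
  have hr₁ : ∀ x, r₁ (D R T (u x)) - x ∈ 𝔞T • (⊤ : Submodule T P') := by
    intro x
    rw [← one_tmul_eq_zero_iff, tmul_sub]
    have h1 := congrArg (fun g => g (D R T (u x))) hr₁'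
    simp only [LinearMap.coe_comp, Function.comp_apply,
      Derivation.liftKaehlerDifferential_comp_D] at h1
    have h2 : (1 : T ⧸ 𝔞T) ⊗ₜ[T] r₁ (D R T (u x)) = δ (u x) := h1
    rw [h2, hδu, sub_self]
  obtain ⟨t₂, r, ht₂, hr⟩ := exists_approx_retraction u 𝔞T r₁ hr₁
  set J : Ideal T := LinearMap.range u with hJ
  have hJle : J ≤ 𝔞T := by
    rintro _ ⟨x, rfl⟩
    exact hu_mem x
  -- `δ` kills `𝔞T²`
  have hδsq : ∀ b ∈ 𝔞T * 𝔞T, δ b = 0 := by
    intro b hb
    refine Submodule.mul_induction_on hb ?_ ?_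
    · intro c hc c' hc'
      rw [Derivation.leibniz, hkill c hc, hkill c' hc', add_zero]
    · intro x y hx hy
      rw [map_add, hx, hy, add_zero]
  have hdecomp : ∀ a ∈ 𝔞T, ∃ g ∈ 𝔞, a - algebraMap Q T g ∈ 𝔞T * 𝔞T := by
    intro a ha
    have ha' : a ∈ Submodule.span T ((algebraMap Q T) '' (𝔞 : Set Q)) := ha
    induction ha' using Submodule.span_induction with
    | mem x hx =>
      obtain ⟨f, hf, rfl⟩ := hx
      exact ⟨f, hf, by simp⟩
    | zero => exact ⟨0, 𝔞.zero_mem, by simp⟩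
    | add x y hx hy ihx ihy =>
      obtain ⟨g, hg, hxg⟩ := ihx hx
      obtain ⟨g', hg', hyg⟩ := ihy hy
      refine ⟨g + g', 𝔞.add_mem hg hg', ?_⟩
      have : x + y - algebraMap Q T (g + g') =
          (x - algebraMap Q T g) + (y - algebraMap Q T g') := by rw [map_add]; ring
      rw [this]
      exact Ideal.add_mem _ hxg hyg
    | smul τ x hx ihx =>
      obtain ⟨g, hg, hxg⟩ := ihx hx
      obtain ⟨q, hq⟩ := hβ1 τ
      refine ⟨q * g, 𝔞.mul_mem_left _ hg, ?_⟩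
      have : τ • x - algebraMap Q T (q * g) =
          algebraMap Q T q * (x - algebraMap Q T g) + (τ - algebraMap Q T q) * x := by
        rw [map_mul, smul_eq_mul]; ring
      rw [this]
      exact Ideal.add_mem _ (Ideal.mul_mem_left _ _ hxg) (Ideal.mul_mem_mul hq hx)
  have hker : ∀ a ∈ 𝔞T, δ a = 0 → a ∈ 𝔞T * 𝔞T ⊔ I.map (algebraMap R T) := by
    intro a ha h0
    obtain ⟨g, hg, hag⟩ := hdecomp a ha
    have h1 : δ (algebraMap Q T g) = 0 := by
      have := hδsq _ hag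
      rw [map_sub, h0, zero_sub, neg_eq_zero] at this
      exact this
    rw [hδ] at h1
    have h2 : Δ g = 0 := hj.1 (h1.trans (map_zero j).symm)
    have h3 := hΔker g hg h2
    have h4 : algebraMap Q T g ∈ 𝔞T * 𝔞T ⊔ I.map (algebraMap R T) := by
      have := Ideal.mem_map_of_mem (algebraMap Q T) h3
      rw [Ideal.map_sup, Ideal.map_pow, Ideal.map_map, ← IsScalarTower.algebraMap_eq, pow_two]
        at this
      exact this
    have : a = (a - algebraMap Q T g) + algebraMap Q T g := by ring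
    rw [this]
    exact Ideal.add_mem _ (Ideal.mem_sup_left hag) h4
  set L : Ideal T := J ⊔ I.map (algebraMap R T) with hL
  have hgen : 𝔞T ≤ L ⊔ 𝔞T * 𝔞T := by
    intro a ha
    obtain ⟨x, hx⟩ := hmk1_surj (δ a)
    have h1 : δ (a - u x) = 0 := by
      rw [map_sub, hδu, ← hx]
      exact sub_self _
    have h2 := hker (a - u x) (Ideal.sub_mem _ ha (hu_mem x)) h1
    have : a = u x + (a - u x) := by ring
    rw [this]
    refine Ideal.add_mem _ (Ideal.mem_sup_left (Ideal.mem_sup_left ⟨x, rfl⟩)) ?_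
    rcases Submodule.mem_sup.mp h2 with ⟨b, hb, c, hc, hbc⟩
    rw [← hbc]
    exact Ideal.add_mem _ (Ideal.mem_sup_right hb) (Ideal.mem_sup_left (Ideal.mem_sup_right hc))
  -- Nakayama modulo `L`
  have h𝔟fg : (Ideal.map (Ideal.Quotient.mk L) 𝔞T).FG := by
    have h1 : 𝔞T = Ideal.span ((algebraMap Q T) '' (F : Set Q)) ⊔ I.map (algebraMap R T) := by
      conv_lhs => rw [hF]
      rw [Ideal.map_sup, Ideal.map_span, Ideal.map_map, ← IsScalarTower.algebraMap_eq]
    have h2 : (I.map (algebraMap R T)).map (Ideal.Quotient.mk L) = ⊥ := by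
      rw [eq_bot_iff, Ideal.map_le_iff_le_comap]
      intro x hx
      rw [Ideal.mem_comap, Ideal.mem_bot, Ideal.Quotient.eq_zero_iff_mem]
      exact Ideal.mem_sup_right hx
    rw [h1, Ideal.map_sup, h2, sup_bot_eq, Ideal.map_span]
    refine ⟨(F.image (algebraMap Q T)).image (Ideal.Quotient.mk L), ?_⟩
    simp only [Finset.coe_image]
  have h𝔟sq : (Ideal.map (Ideal.Quotient.mk L) 𝔞T : Submodule (T ⧸ L) (T ⧸ L)) ≤
      (Ideal.map (Ideal.Quotient.mk L) 𝔞T) • (Ideal.map (Ideal.Quotient.mk L) 𝔞T : Submodule (T ⧸ L) (T ⧸ L)) := by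
    have h1 := Ideal.map_mono (f := Ideal.Quotient.mk L) hgen
    rw [Ideal.map_sup, Ideal.map_quotient_self, bot_sup_eq, Ideal.map_mul] at h1
    exact h1
  obtain ⟨rbar, hrbar1, hrbar2⟩ := Submodule.exists_sub_one_mem_and_smul_eq_zero_of_fg_of_le_smul
    (Ideal.map (Ideal.Quotient.mk L) 𝔞T) (Ideal.map (Ideal.Quotient.mk L) 𝔞T) h𝔟fg h𝔟sq
  obtain ⟨a₁, ha₁, ha₁'⟩ :=
    (Ideal.mem_map_iff_of_surjective (Ideal.Quotient.mk L) Ideal.Quotient.mk_surjective).mp hrbar1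
  set t₁ : T := 1 + a₁ with ht₁def
  have ht₁ : t₁ - 1 ∈ 𝔞T := by
    rw [ht₁def, add_sub_cancel_left]; exact ha₁
  have ht₁L : ∀ a ∈ 𝔞T, t₁ * a ∈ L := by
    intro a ha
    rw [← Ideal.Quotient.eq_zero_iff_mem, map_mul, ht₁def, map_add, map_one, ha₁', add_sub_cancel]
    exact hrbar2 _ (Ideal.mem_map_of_mem _ ha)
  -- the final approximate retraction
  set t : T := t₁ * t₂ with htdef
  have ht : t - 1 ∈ 𝔞T := by
    have : t - 1 = t₁ * (t₂ - 1) + (t₁ - 1) := by rw [htdef]; ring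
    rw [this]
    exact Ideal.add_mem _ (Ideal.mul_mem_left _ _ ht₂) ht₁
  have hr' : ∀ x, (t₁ • r) (D R T (u x)) - t • x ∈ J • (⊤ : Submodule T P') := by
    intro x
    have : (t₁ • r) (D R T (u x)) - t • x = t₁ • (r (D R T (u x)) - t₂ • x) := by
      rw [LinearMap.smul_apply, smul_sub, htdef, mul_smul]
    rw [this]
    exact Submodule.smul_mem _ _ (hr x)
  haveI hfs : Algebra.FormallySmooth R (Localization.Away (Ideal.Quotient.mk J t)) :=
    formallySmooth_away_quotient u t (t₁ • r) hr'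
  -- finite presentation
  have hJfg : J.FG := by
    rw [hJ, LinearMap.range_eq_map]
    exact Submodule.FG.map _ Module.Finite.fg_top
  haveI : Algebra.FinitePresentation R (T ⧸ J) := Algebra.FinitePresentation.quotient hJfg
  haveI : Algebra.FinitePresentation (T ⧸ J) (Localization.Away (Ideal.Quotient.mk J t)) :=
    IsLocalization.Away.finitePresentation (Ideal.Quotient.mk J t)
  haveI hfp : Algebra.FinitePresentation R (Localization.Away (Ideal.Quotient.mk J t)) :=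
    Algebra.FinitePresentation.trans R (T ⧸ J) _
  refine ⟨Localization.Away (Ideal.Quotient.mk J t), inferInstance, inferInstance, ⟨hfs, hfp⟩, ?_⟩
  -- the map to `A₀`
  let e : (Q ⧸ 𝔞) ≃+* (T ⧸ 𝔞T) := RingEquiv.ofBijective _ hβ
  have he : ∀ q : Q, e (Ideal.Quotient.mk 𝔞 q) = Ideal.Quotient.mk 𝔞T (algebraMap Q T q) :=
    fun q => Ideal.Quotient.algebraMap_quotient_map_quotient q
  let ψ : (Q ⧸ 𝔞) →+* A₀ := Ideal.Quotient.lift 𝔞 (π : Q →+* A₀) (fun a ha => (h𝔞 a).mp ha)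
  have hψinj : Function.Injective ψ := by
    rw [injective_iff_map_eq_zero]
    intro y hy
    obtain ⟨q, rfl⟩ := Ideal.Quotient.mk_surjective y
    rw [Ideal.Quotient.eq_zero_iff_mem, h𝔞]
    exact hy
  let ΦT : T →+* A₀ := ψ.comp (e.symm.toRingHom.comp (Ideal.Quotient.mk 𝔞T))
  have hΦalg : ∀ q : Q, ΦT (algebraMap Q T q) = π q := by
    intro q
    change ψ (e.symm (Ideal.Quotient.mk 𝔞T (algebraMap Q T q))) = π q
    rw [← he, RingEquiv.symm_apply_apply]
    rfl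
  have hΦker : ∀ τ : T, ΦT τ = 0 ↔ τ ∈ 𝔞T := by
    intro τ
    change ψ (e.symm (Ideal.Quotient.mk 𝔞T τ)) = 0 ↔ _
    rw [← map_zero ψ, hψinj.eq_iff, ← map_zero e.symm, e.symm.injective.eq_iff,
      Ideal.Quotient.eq_zero_iff_mem]
  let ΦTa : T →ₐ[R] A₀ :=
    { ΦT with
      commutes' := fun x => by
        change ΦT (algebraMap R T x) = _
        rw [IsScalarTower.algebraMap_apply R Q T, hΦalg, AlgHom.commutes] }
  have hΦTa : ∀ τ, ΦTa τ = ΦT τ := fun _ => rfl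
  have hΦJ : ∀ a ∈ J, ΦTa a = 0 := fun a ha => (hΦker a).mpr (hJle ha)
  let ΦJ : T ⧸ J →ₐ[R] A₀ := Ideal.Quotient.liftₐ J ΦTa hΦJ
  have hΦt : ΦT t = 1 := by
    have h1 := (hΦker (t - 1)).mpr ht
    rw [map_sub, map_one, sub_eq_zero] at h1
    exact h1
  have hunits : ∀ y : Submonoid.powers (Ideal.Quotient.mk J t), IsUnit (ΦJ y) := by
    rintro ⟨_, k, rfl⟩
    rw [map_pow]
    refine IsUnit.pow k ?_
    change IsUnit (ΦT t)
    rw [hΦt]
    exact isUnit_one
  let Φ : Localization.Away (Ideal.Quotient.mk J t) →ₐ[R] A₀ :=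
    IsLocalization.liftAlgHom (M := Submonoid.powers (Ideal.Quotient.mk J t)) hunits
  have hΦg : ∀ τ : T, Φ (algebraMap (T ⧸ J) _ (Ideal.Quotient.mk J τ)) = ΦT τ := by
    intro τ
    change IsLocalization.lift hunits (algebraMap (T ⧸ J) _ (Ideal.Quotient.mk J τ)) = _
    rw [IsLocalization.lift_eq]
    rfl
  refine ⟨Φ, ?_, ?_⟩
  · intro a₀
    obtain ⟨q, rfl⟩ := hπ a₀
    exact ⟨algebraMap (T ⧸ J) _ (Ideal.Quotient.mk J (algebraMap Q T q)), by rw [hΦg, hΦalg]⟩
  · let g : T →+* Localization.Away (Ideal.Quotient.mk J t) :=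
      (algebraMap (T ⧸ J) _).comp (Ideal.Quotient.mk J)
    have hgR : ∀ x : R, g (algebraMap R T x) =
        algebraMap R (Localization.Away (Ideal.Quotient.mk J t)) x := by
      intro x
      change algebraMap (T ⧸ J) _ (Ideal.Quotient.mk J (algebraMap R T x)) = _
      rw [← Ideal.Quotient.algebraMap_eq, ← IsScalarTower.algebraMap_apply R T (T ⧸ J),
        ← IsScalarTower.algebraMap_apply R (T ⧸ J)]
    have hgL : L ≤ Ideal.comap g (I.map (algebraMap R _)) := by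
      rw [hL]
      refine sup_le ?_ ?_
      · intro a ha
        rw [Ideal.mem_comap]
        have : g a = 0 := by
          change algebraMap (T ⧸ J) _ (Ideal.Quotient.mk J a) = 0
          rw [Ideal.Quotient.eq_zero_iff_mem.mpr ha, map_zero]
        rw [this]
        exact Ideal.zero_mem _
      · rw [Ideal.map_le_iff_le_comap]
        intro x hx
        rw [Ideal.mem_comap, Ideal.mem_comap, hgR]
        exact Ideal.mem_map_of_mem _ hx
    have hgt : IsUnit (g t) :=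
      IsLocalization.Away.algebraMap_isUnit (Ideal.Quotient.mk J t)
    have hgt₁ : IsUnit (g t₁) := by
      have hmul : g t = g t₁ * g t₂ := map_mul g t₁ t₂
      rw [hmul] at hgt
      exact isUnit_of_mul_isUnit_left hgt
    apply le_antisymm
    · intro x hx
      obtain ⟨⟨abar, s⟩, hxs⟩ := IsLocalization.surj (Submonoid.powers (Ideal.Quotient.mk J t)) x
      obtain ⟨τ, rfl⟩ := Ideal.Quotient.mk_surjective abar
      have hs : IsUnit (algebraMap (T ⧸ J) (Localization.Away (Ideal.Quotient.mk J t)) s) :=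
        IsLocalization.map_units _ s
      have h1 : ΦT τ = 0 := by
        rw [← hΦg, ← hxs, map_mul, (RingHom.mem_ker).mp hx, zero_mul]
      have h2 : τ ∈ 𝔞T := (hΦker τ).mp h1
      have h3 : g (t₁ * τ) ∈ I.map (algebraMap R _) := hgL (ht₁L τ h2)
      rw [show g (t₁ * τ) = g t₁ * g τ from map_mul g t₁ τ] at h3
      have h4 : g τ ∈ I.map (algebraMap R (Localization.Away (Ideal.Quotient.mk J t))) :=
        (Ideal.unit_mul_mem_iff_mem _ hgt₁).mp h3
      have h5 : x * algebraMap (T ⧸ J) _ (s : T ⧸ J) ∈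
          I.map (algebraMap R (Localization.Away (Ideal.Quotient.mk J t))) := by
        rw [hxs]; exact h4
      exact (Ideal.mul_unit_mem_iff_mem _ hs).mp h5
    · rw [Ideal.map_le_iff_le_comap]
      intro i hi
      rw [Ideal.mem_comap, RingHom.mem_ker, AlgHom.commutes]
      exact hIA i hi

end Core

end Groth.Agent.Helper2.LiftSm
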