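import Mathlib
import Groth.Agent.Lib.Helper2.LiftSm2

/-!
# Transport lemmas used in the lifting of smooth algebras
-/

universe u

namespace Groth.Agent.Helper2.LiftSm

section Transport

open TensorProduct

variable {S A M : Type*} [CommRing S] [CommRing A] [Algebra S A] [AddCommGroup M] [Module A M]
  [Module S M] [IsScalarTower S A M]

/-- Finite projective modules transport along a bijective algebra map. -/
theorem finite_projective_of_bijective (h : Function.Bijective (algebraMap S A))
    [Module.Finite A M] [Module.Projective A M] :
    Module.Finite S M ∧ Module.Projective S M := by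
  classical
  obtain ⟨n, f, g, hf, -, hfg⟩ := Module.Finite.exists_comp_eq_id_of_projective A M
  let e : S ≃+* A := RingEquiv.ofBijective (algebraMap S A) h
  have he : ∀ s, e s = algebraMap S A s := fun _ => rfl
  let f' : (Fin n → S) →ₗ[S] M :=
    { toFun := fun v => f (fun i => e (v i))
      map_add' := fun v w => by
        rw [← map_add]; congr 1; ext i; simp
      map_smul' := fun s v => by
        have : (fun i => e ((s • v) i)) = (algebraMap S A s) • (fun i => e (v i)) := by
          ext i; simp [he]
        rw [this, map_smul, algebraMap_smul, RingHom.id_apply] }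
  let g' : M →ₗ[S] (Fin n → S) :=
    { toFun := fun m i => e.symm (g m i)
      map_add' := fun m m' => by ext i; simp
      map_smul' := fun s m => by
        ext i
        have : g (s • m) = (algebraMap S A s) • g m := by
          rw [← algebraMap_smul A s m, map_smul]
        simp only [this, Pi.smul_apply, smul_eq_mul, map_mul, RingHom.id_apply]
        rw [← he, RingEquiv.symm_apply_apply] }
  have hf'g' : f' ∘ₗ g' = LinearMap.id := by
    ext m
    change f (fun i => e (e.symm (g m i))) = m
    simp only [RingEquiv.apply_symm_apply]
    exact congrArg (fun k => k m) hfg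
  have hf'surj : Function.Surjective f' := fun m => ⟨g' m, congrArg (fun k => k m) hf'g'⟩
  exact ⟨Module.Finite.of_surjective f' hf'surj, Module.Projective.of_split g' f' hf'g'⟩

omit [IsScalarTower S A M] [Module A M] in
/-- `m ↦ 1 ⊗ m` is bijective when the algebra map is. -/
theorem mk_one_bijective (h : Function.Bijective (algebraMap S A)) :
    Function.Bijective (fun m : M => (1 : A) ⊗ₜ[S] m) := by
  let e : S ≃ₗ[S] A := LinearEquiv.ofBijective (Algebra.linearMap S A) h
  let E : A ⊗[S] M ≃ₗ[S] M :=
    (TensorProduct.congr e.symm (LinearEquiv.refl S M)) ≪≫ₗ TensorProduct.lid S M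
  have hE : ∀ m : M, E ((1 : A) ⊗ₜ[S] m) = m := by
    intro m
    have h1 : e.symm (1 : A) = 1 := by
      rw [LinearEquiv.symm_apply_eq]
      simp [e]
    simp [E, h1]
  constructor
  · intro m m' hmm
    have := congrArg E hmm
    simpa [hE] using this
  · intro x
    refine ⟨E x, ?_⟩
    apply E.injective
    rw [hE]

end Transport

end Groth.Agent.Helper2.LiftSm
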