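import Mathlib
import Groth.Agent.S6827
import Groth.Prelude.Def_Smoothing

/-!
# Ind-smoothness along square-zero thickenings: basic lemmas
-/

universe u

namespace Groth.Agent.Helper2.IndSm

section Basic

variable {R : Type u} [CommRing R]

/-- Elements of `IΛ` as finite combinations, uniformly for a finite family. -/
theorem exists_finset_combination {Λ : Type*} [CommRing Λ] [Algebra R Λ] (I : Ideal R)
    {ι : Type*} [Finite ι] (x : ι → Λ) (hx : ∀ i, x i ∈ I.map (algebraMap R Λ)) :
    ∃ (S : Finset R), (∀ r ∈ S, r ∈ I) ∧ ∃ l : ι → R → Λ,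
      ∀ i, x i = ∑ r ∈ S, algebraMap R Λ r * l i r := by
  classical
  cases nonempty_fintype ι
  have h1 : ∀ i, ∃ l : R →₀ Λ, l ∈ Finsupp.supported Λ Λ (I : Set R) ∧
      Finsupp.linearCombination Λ (algebraMap R Λ) l = x i := by
    intro i
    have := hx i
    rw [Ideal.map, Ideal.span, Finsupp.mem_span_image_iff_linearCombination] at this
    exact this
  choose l hl hlx using h1
  refine ⟨Finset.univ.biUnion (fun i => (l i).support), ?_, fun i r => l i r, ?_⟩
  · intro r hr
    rw [Finset.mem_biUnion] at hr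
    obtain ⟨i, -, hi⟩ := hr
    exact (Finsupp.mem_supported _ _).mp (hl i) hi
  · intro i
    rw [← hlx i, Finsupp.linearCombination_apply, Finsupp.sum]
    rw [Finset.sum_subset (Finset.subset_biUnion_of_mem (fun i => (l i).support)
      (Finset.mem_univ i))]
    · refine Finset.sum_congr rfl fun r _ => ?_
      rw [smul_eq_mul, mul_comm]
    · intro r _ hr
      rw [Finsupp.notMem_support_iff] at hr
      rw [hr, zero_smul]

/-- If `I ^ 2 = 0` then `I` kills `IB`. -/
theorem mul_eq_zero_of_sq_zero {B : Type*} [CommRing B] [Algebra R B] (I : Ideal R)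
    (hI : I ^ 2 = ⊥) {r : R} (hr : r ∈ I) {x : B} (hx : x ∈ I.map (algebraMap R B)) :
    algebraMap R B r * x = 0 := by
  have h1 : algebraMap R B r * x ∈ (I.map (algebraMap R B)) * (I.map (algebraMap R B)) :=
    Ideal.mul_mem_mul (Ideal.mem_map_of_mem _ hr) hx
  rw [← Ideal.map_mul, ← pow_two, hI, Ideal.map_bot] at h1
  exact h1

theorem smul_eq_zero_of_sq_zero {B : Type*} [CommRing B] [Algebra R B] (I : Ideal R)
    (hI : I ^ 2 = ⊥) {r : R} (hr : r ∈ I) {x : B} (hx : x ∈ I.map (algebraMap R B)) :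
    r • x = 0 := by
  rw [Algebra.smul_def]
  exact mul_eq_zero_of_sq_zero I hI hr hx

theorem isNilpotent_map_of_sq_zero {B : Type*} [CommRing B] [Algebra R B] (I : Ideal R)
    (hI : I ^ 2 = ⊥) : IsNilpotent (I.map (algebraMap R B)) := by
  refine ⟨2, ?_⟩
  rw [← Ideal.map_pow, hI, Ideal.map_bot]
  rfl

end Basic

section Lift

variable {R R₀ : Type u} [CommRing R] [CommRing R₀] [Algebra R R₀]

/-- General form of lifting smooth algebras along a surjection `R → R₀` with kernel `I`. -/
theorem exists_lift_general (I : Ideal R) (hR : Function.Surjective (algebraMap R R₀))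
    (hkR : RingHom.ker (algebraMap R R₀) = I)
    (B₀ : Type u) [CommRing B₀] [Algebra R₀ B₀] [Algebra R B₀] [IsScalarTower R R₀ B₀]
    [Algebra.Smooth R₀ B₀] :
    ∃ (B : Type u) (_ : CommRing B) (_ : Algebra R B), Algebra.Smooth R B ∧
      ∃ Φ : B →ₐ[R] B₀, Function.Surjective Φ ∧ RingHom.ker Φ = I.map (algebraMap R B) := by
  subst hkR
  let e : (R ⧸ RingHom.ker (algebraMap R R₀)) ≃+* R₀ :=
    RingHom.quotientKerEquivOfSurjective hR
  letI : Algebra (R ⧸ RingHom.ker (algebraMap R R₀)) R₀ := e.toRingHom.toAlgebra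
  letI : Algebra (R ⧸ RingHom.ker (algebraMap R R₀)) B₀ :=
    ((algebraMap R₀ B₀).comp e.toRingHom).toAlgebra
  haveI : IsScalarTower (R ⧸ RingHom.ker (algebraMap R R₀)) R₀ B₀ :=
    IsScalarTower.of_algebraMap_eq (fun _ => rfl)
  haveI : IsScalarTower R (R ⧸ RingHom.ker (algebraMap R R₀)) B₀ :=
    IsScalarTower.of_algebraMap_eq (fun r => by
      rw [IsScalarTower.algebraMap_apply R R₀ B₀]
      rfl)
  haveI : Algebra.Smooth (R ⧸ RingHom.ker (algebraMap R R₀))
      (R ⧸ RingHom.ker (algebraMap R R₀)) := ⟨inferInstance, inferInstance⟩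
  haveI : Algebra.Smooth (R ⧸ RingHom.ker (algebraMap R R₀)) R₀ :=
    Algebra.Smooth.of_equiv (AlgEquiv.ofRingEquiv (f := e) (fun _ => rfl))
  haveI : Algebra.Smooth (R ⧸ RingHom.ker (algebraMap R R₀)) B₀ :=
    Algebra.Smooth.comp _ R₀ B₀
  exact Groth.Agent.S6827.exists_lift (R := R) (A₀ := B₀) (RingHom.ker (algebraMap R R₀))

end Lift

end Groth.Agent.Helper2.IndSm
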