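import Mathlib
import Groth.Agent.Lib.Helper2.IndSm1

/-!
# Ind-smoothness along square-zero thickenings: factorization modulo `I` and the
quotient-of-smooth factorization
-/

universe u

namespace Groth.Agent.Helper2.IndSm

section Factor

open TensorProduct

variable {R R₀ Λ Λ₀ : Type u} [CommRing R] [CommRing R₀] [CommRing Λ] [CommRing Λ₀]
  [Algebra R R₀] [Algebra R Λ] [Algebra R₀ Λ₀] [Algebra R Λ₀] [Algebra Λ Λ₀]
  [IsScalarTower R R₀ Λ₀] [IsScalarTower R Λ Λ₀]

/-- Factor a map from a finitely presented algebra modulo `I` through a smooth `R₀`-algebra. -/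
theorem factor_mod (h : Smoothing.IndSmooth R₀ Λ₀)
    {C : Type u} [CommRing C] [Algebra R C] [Algebra.FinitePresentation R C] (χ : C →ₐ[R] Λ) :
    ∃ (C' : Type u) (_ : CommRing C') (_ : Algebra R₀ C') (_ : Algebra R C')
      (_ : IsScalarTower R R₀ C'), Algebra.Smooth R₀ C' ∧
      ∃ (g : C →ₐ[R] C') (k : C' →ₐ[R₀] Λ₀), ∀ c, k (g c) = algebraMap Λ Λ₀ (χ c) := by
  let f : R₀ ⊗[R] C →ₐ[R₀] Λ₀ :=
    Algebra.TensorProduct.lift (Algebra.ofId R₀ Λ₀) ((IsScalarTower.toAlgHom R Λ Λ₀).comp χ)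
      (fun _ _ => Commute.all _ _)
  obtain ⟨C', _, _, hsm, g, k, hgk⟩ := h (R₀ ⊗[R] C) inferInstance f
  letI : Algebra R C' := ((algebraMap R₀ C').comp (algebraMap R R₀)).toAlgebra
  haveI : IsScalarTower R R₀ C' := IsScalarTower.of_algebraMap_eq (fun _ => rfl)
  refine ⟨C', inferInstance, inferInstance, inferInstance, inferInstance, hsm,
    (g.restrictScalars R).comp Algebra.TensorProduct.includeRight, k, ?_⟩
  intro c
  have := congrArg (fun F => F ((1 : R₀) ⊗ₜ[R] c)) hgk
  simp only [AlgHom.comp_apply] at this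
  change k (g ((1 : R₀) ⊗ₜ[R] c)) = _
  rw [this]
  simp [f]

/-- Enlarge a smooth algebra over `Λ` by polynomial variables to correct finitely many elements
by elements of `IΛ`. -/
theorem exists_adjust (I : Ideal R) {B' : Type u} [CommRing B'] [Algebra R B']
    [Algebra.Smooth R B'] (ψ' : B' →ₐ[R] Λ) {n : ℕ} (b : Fin n → B') (lam : Fin n → Λ)
    (hlam : ∀ i, lam i ∈ I.map (algebraMap R Λ)) :
    ∃ (B : Type u) (_ : CommRing B) (_ : Algebra R B), Algebra.Smooth R B ∧
      ∃ (ι : B' →ₐ[R] B) (ψ : B →ₐ[R] Λ) (c : Fin n → B), ψ.comp ι = ψ' ∧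
        (∀ i, c i - ι (b i) ∈ I.map (algebraMap R B)) ∧ (∀ i, ψ (c i) = ψ' (b i) + lam i) := by
  classical
  obtain ⟨S, hS, l, hl⟩ := exists_finset_combination I lam hlam
  letI : Algebra B' Λ := ψ'.toRingHom.toAlgebra
  haveI : IsScalarTower R B' Λ := IsScalarTower.of_algebraMap_eq (fun r => (ψ'.commutes r).symm)
  haveI : Algebra.Smooth B' (MvPolynomial (Fin n × ↥S) B') := ⟨inferInstance, inferInstance⟩
  haveI : Algebra.Smooth R (MvPolynomial (Fin n × ↥S) B') :=
    Algebra.Smooth.comp R B' (MvPolynomial (Fin n × ↥S) B')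
  let ψB : MvPolynomial (Fin n × ↥S) B' →ₐ[B'] Λ := MvPolynomial.aeval (fun p => l p.1 p.2)
  refine ⟨MvPolynomial (Fin n × ↥S) B', inferInstance, inferInstance, inferInstance,
    IsScalarTower.toAlgHom R B' (MvPolynomial (Fin n × ↥S) B'), ψB.restrictScalars R,
    fun i => MvPolynomial.C (b i) +
      ∑ r : ↥S, algebraMap R (MvPolynomial (Fin n × ↥S) B') r * MvPolynomial.X (i, r), ?_, ?_, ?_⟩
  · ext x
    change ψB (algebraMap B' _ x) = ψ' x
    rw [ψB.commutes]
    rfl
  · intro i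
    change MvPolynomial.C (b i) + _ - MvPolynomial.C (b i) ∈ _
    rw [add_sub_cancel_left]
    refine Ideal.sum_mem _ fun r _ => ?_
    exact Ideal.mul_mem_right _ _ (Ideal.mem_map_of_mem _ (hS r r.2))
  · intro i
    change ψB (MvPolynomial.C (b i) + _) = _
    rw [map_add, map_sum]
    congr 1
    · change ψB (algebraMap B' _ (b i)) = ψ' (b i)
      rw [ψB.commutes]
      rfl
    · rw [hl i, ← Finset.sum_coe_sort S]
      refine Finset.sum_congr rfl fun r _ => ?_
      rw [map_mul, MvPolynomial.aeval_X,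
        IsScalarTower.algebraMap_apply R B' (MvPolynomial (Fin n × ↥S) B'), ψB.commutes,
        ← IsScalarTower.algebraMap_apply R B' Λ]

/-- The quotient-of-smooth factorization (general form). -/
theorem exists_factor_quotient (I : Ideal R) (hI : I ^ 2 = ⊥)
    (hR : Function.Surjective (algebraMap R R₀)) (hkR : RingHom.ker (algebraMap R R₀) = I)
    (hΛ : Function.Surjective (algebraMap Λ Λ₀))
    (hkΛ : RingHom.ker (algebraMap Λ Λ₀) = I.map (algebraMap R Λ))
    (h : Smoothing.IndSmooth R₀ Λ₀)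
    {A : Type u} [CommRing A] [Algebra R A] [Algebra.FinitePresentation R A] (φ : A →ₐ[R] Λ) :
    ∃ (B : Type u) (_ : CommRing B) (_ : Algebra R B), Algebra.Smooth R B ∧
      ∃ J : Ideal B, J ≤ I.map (algebraMap R B) ∧ J.FG ∧
        ∃ (g : A →ₐ[R] B ⧸ J) (k : (B ⧸ J) →ₐ[R] Λ), k.comp g = φ := by
  classical
  obtain ⟨C', _, _, _, _, hsmC', g₀, k₀, hgk₀⟩ :=
    factor_mod (R := R) (R₀ := R₀) (Λ := Λ) (Λ₀ := Λ₀) h φ
  obtain ⟨B', _, _, hsmB', Φ, hΦsurj, hΦker⟩ := exists_lift_general I hR hkR C'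
  have hnil : IsNilpotent
      (RingHom.ker ((IsScalarTower.toAlgHom R Λ Λ₀ : Λ →ₐ[R] Λ₀) : Λ →+* Λ₀)) := by
    have : RingHom.ker ((IsScalarTower.toAlgHom R Λ Λ₀ : Λ →ₐ[R] Λ₀) : Λ →+* Λ₀) =
        I.map (algebraMap R Λ) := hkΛ
    rw [this]
    exact isNilpotent_map_of_sq_zero I hI
  let ψ' : B' →ₐ[R] Λ := Algebra.FormallySmooth.liftOfSurjective
    ((k₀.restrictScalars R).comp Φ) (IsScalarTower.toAlgHom R Λ Λ₀) hΛ hnil
  have hψ' : ∀ x, algebraMap Λ Λ₀ (ψ' x) = k₀ (Φ x) := fun x =>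
    Algebra.FormallySmooth.liftOfSurjective_apply _ (IsScalarTower.toAlgHom R Λ Λ₀) hΛ hnil x
  obtain ⟨n, p, hp, hK⟩ := Algebra.FinitePresentation.out (R := R) (A := A)
  choose b hb using fun i : Fin n => hΦsurj (g₀ (p (MvPolynomial.X i)))
  have hlam : ∀ i, φ (p (MvPolynomial.X i)) - ψ' (b i) ∈ I.map (algebraMap R Λ) := by
    intro i
    rw [← hkΛ, RingHom.mem_ker, map_sub, hψ', hb, hgk₀, sub_self]
  obtain ⟨B, _, _, hsmB, ι, ψ, c, hψι, hc, hψc⟩ := exists_adjust I ψ' b _ hlam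
  let cP : MvPolynomial (Fin n) R →ₐ[R] B := MvPolynomial.aeval c
  let bP : MvPolynomial (Fin n) R →ₐ[R] B' := MvPolynomial.aeval b
  have h1 : ψ.comp cP = φ.comp p := by
    apply MvPolynomial.algHom_ext
    intro i
    simp only [AlgHom.comp_apply, cP, MvPolynomial.aeval_X, hψc]
    ring
  have h2 : Φ.comp bP = g₀.comp p := by
    apply MvPolynomial.algHom_ext
    intro i
    simp only [AlgHom.comp_apply, bP, MvPolynomial.aeval_X, hb]
  have h3 : ∀ f, cP f - ι (bP f) ∈ I.map (algebraMap R B) := by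
    intro f
    have h31 : (Ideal.Quotient.mkₐ R (I.map (algebraMap R B))).comp cP =
        (Ideal.Quotient.mkₐ R (I.map (algebraMap R B))).comp (ι.comp bP) := by
      apply MvPolynomial.algHom_ext
      intro i
      simp only [AlgHom.comp_apply, cP, bP, MvPolynomial.aeval_X, Ideal.Quotient.mkₐ_eq_mk]
      exact Ideal.Quotient.eq.mpr (hc i)
    have h32 := congrArg (fun F => F f) h31
    exact Ideal.Quotient.eq.mp h32
  have h4 : ∀ f ∈ RingHom.ker p.toRingHom, cP f ∈ I.map (algebraMap R B) := by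
    intro f hf
    have hpf : p f = 0 := (RingHom.mem_ker).mp hf
    have hb0 : bP f ∈ I.map (algebraMap R B') := by
      rw [← hΦker, RingHom.mem_ker]
      have h41 := congrArg (fun F => F f) h2
      simp only [AlgHom.comp_apply] at h41
      change Φ (bP f) = 0
      rw [h41, hpf, map_zero]
    have hι : ι (bP f) ∈ I.map (algebraMap R B) := by
      have h42 : (I.map (algebraMap R B')).map (ι : B' →+* B) ≤ I.map (algebraMap R B) := by
        rw [Ideal.map_map, ι.comp_algebraMap]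
      exact h42 (Ideal.mem_map_of_mem _ hb0)
    have h43 := Ideal.add_mem _ (h3 f) hι
    rwa [sub_add_cancel] at h43
  have h5 : ∀ f ∈ RingHom.ker p.toRingHom, ψ (cP f) = 0 := by
    intro f hf
    have hpf : p f = 0 := (RingHom.mem_ker).mp hf
    have h51 := congrArg (fun F => F f) h1
    simp only [AlgHom.comp_apply] at h51
    rw [h51, hpf, map_zero]
  refine ⟨B, inferInstance, inferInstance, hsmB,
    (RingHom.ker p.toRingHom).map (cP : MvPolynomial (Fin n) R →+* B), ?_, hK.map _, ?_⟩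
  · rw [Ideal.map_le_iff_le_comap]
    intro f hf
    exact h4 f hf
  · have hJψ : ∀ a ∈ (RingHom.ker p.toRingHom).map (cP : MvPolynomial (Fin n) R →+* B),
        ψ a = 0 := by
      intro a ha
      have h61 : (RingHom.ker p.toRingHom).map (cP : MvPolynomial (Fin n) R →+* B) ≤
          RingHom.ker (ψ : B →+* Λ) := by
        rw [Ideal.map_le_iff_le_comap]
        intro f hf
        rw [Ideal.mem_comap, RingHom.mem_ker]
        exact h5 f hf
      exact (RingHom.mem_ker).mp (h61 ha)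
    refine ⟨AlgHom.liftOfSurjective p hp ((Ideal.Quotient.mkₐ R _).comp cP) ?_,
      Ideal.Quotient.liftₐ _ ψ hJψ, ?_⟩
    · intro f hf
      rw [RingHom.mem_ker]
      change Ideal.Quotient.mk _ (cP f) = 0
      rw [Ideal.Quotient.eq_zero_iff_mem]
      exact Ideal.mem_map_of_mem _ hf
    · ext a
      obtain ⟨f, rfl⟩ := hp a
      rw [AlgHom.comp_apply, AlgHom.liftOfSurjective_apply]
      change ψ (cP f) = φ (p f)
      exact congrArg (fun F => F f) h1

end Factor

end Groth.Agent.Helper2.IndSm
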