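import Mathlib
import Groth.Agent.Lib.Helper2.IndSm2

/-!
# Ind-smoothness along square-zero thickenings: killing an ideal `J ⊆ IB` (uses flatness)
-/

universe u

namespace Groth.Agent.Helper2.IndSm

section Kill

open TensorProduct

variable {R R₀ Λ Λ₀ : Type u} [CommRing R] [CommRing R₀] [CommRing Λ] [CommRing Λ₀]
  [Algebra R R₀] [Algebra R Λ] [Algebra R₀ Λ₀] [Algebra R Λ₀] [Algebra Λ Λ₀]
  [IsScalarTower R R₀ Λ₀] [IsScalarTower R Λ Λ₀]

set_option maxHeartbeats 1600000 in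
/-- Killing a finitely generated ideal `J ⊆ IB` in the kernel of `B → Λ`, up to a map that
commutes modulo `I`. -/
theorem exists_kill (I : Ideal R) (hI : I ^ 2 = ⊥)
    (hR : Function.Surjective (algebraMap R R₀)) (hkR : RingHom.ker (algebraMap R R₀) = I)
    (hΛ : Function.Surjective (algebraMap Λ Λ₀))
    (hkΛ : RingHom.ker (algebraMap Λ Λ₀) = I.map (algebraMap R Λ))
    [Module.Flat R Λ] (h : Smoothing.IndSmooth R₀ Λ₀)
    {B : Type u} [CommRing B] [Algebra R B] [Algebra.Smooth R B] (φ : B →ₐ[R] Λ)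
    (J : Ideal B) (hJ : J ≤ I.map (algebraMap R B)) (hJfg : J.FG) (hφJ : ∀ j ∈ J, φ j = 0) :
    ∃ (B' : Type u) (_ : CommRing B') (_ : Algebra R B'), Algebra.Smooth R B' ∧
      ∃ (α : B →ₐ[R] B') (β : B' →ₐ[R] Λ), (∀ j ∈ J, α j = 0) ∧
        ∀ b, β (α b) - φ b ∈ I.map (algebraMap R Λ) := by
  classical
  obtain ⟨F, rfl⟩ := hJfg
  have hF : ∀ s : ↥F, (s : B) ∈ I.map (algebraMap R B) := fun s => hJ (Ideal.subset_span s.2)
  obtain ⟨S, hS, l, hl⟩ := exists_finset_combination I (fun s : ↥F => (s : B)) hF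
  have hrel : ∀ s : ↥F, ∑ r : ↥S, (r : R) • φ (l s r) = 0 := by
    intro s
    have h1 := hφJ s (Ideal.subset_span s.2)
    rw [hl s, map_sum, ← Finset.sum_coe_sort S] at h1
    rw [← h1]
    refine Finset.sum_congr rfl fun r _ => ?_
    rw [map_mul, AlgHom.commutes, Algebra.smul_def]
  have htriv := fun s : ↥F => Module.Flat.isTrivialRelation_of_sum_smul_eq_zero (R := R) (M := Λ)
    (f := fun r : ↥S => (r : R)) (x := fun r : ↥S => φ (l s r)) (hrel s)
  choose κ a y hy0 ha0 using htriv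
  have hy : ∀ (s : ↥F) (i : ↥S), φ (l s i) = ∑ j, a s i j • y s j := hy0
  have ha : ∀ (s : ↥F) (j : Fin (κ s)), ∑ i : ↥S, (i : R) * a s i j = 0 := ha0
  -- the auxiliary finitely presented algebra
  letI : Algebra B Λ := φ.toRingHom.toAlgebra
  haveI : IsScalarTower R B Λ := IsScalarTower.of_algebraMap_eq (fun r => (φ.commutes r).symm)
  let rel : ↥F × ↥S → MvPolynomial (Σ s : ↥F, Fin (κ s)) B := fun p =>
    MvPolynomial.C (l p.1 p.2) -
      ∑ j : Fin (κ p.1), MvPolynomial.C (algebraMap R B (a p.1 p.2 j)) * MvPolynomial.X ⟨p.1, j⟩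
  let K : Ideal (MvPolynomial (Σ s : ↥F, Fin (κ s)) B) := Ideal.span (Set.range rel)
  have hKfg : K.FG := by
    refine ⟨Finset.univ.image rel, ?_⟩
    simp [K]
  haveI : Algebra.FinitePresentation B (MvPolynomial (Σ s : ↥F, Fin (κ s)) B ⧸ K) :=
    Algebra.FinitePresentation.quotient hKfg
  haveI : Algebra.FinitePresentation R (MvPolynomial (Σ s : ↥F, Fin (κ s)) B ⧸ K) :=
    Algebra.FinitePresentation.trans R B _
  let χB : MvPolynomial (Σ s : ↥F, Fin (κ s)) B →ₐ[B] Λ := MvPolynomial.aeval (fun p => y p.1 p.2)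
  have hχK : ∀ x ∈ K, χB x = 0 := by
    intro x hx
    have h1 : K ≤ RingHom.ker (χB : MvPolynomial (Σ s : ↥F, Fin (κ s)) B →+* Λ) := by
      rw [Ideal.span_le]
      rintro _ ⟨p, rfl⟩
      rw [SetLike.mem_coe, RingHom.mem_ker]
      change χB (rel p) = 0
      simp only [rel, map_sub, map_sum, map_mul, χB, MvPolynomial.aeval_C, MvPolynomial.aeval_X]
      rw [sub_eq_zero]
      change φ (l p.1 p.2) = _
      rw [hy p.1 p.2]
      refine Finset.sum_congr rfl fun j _ => ?_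
      rw [← IsScalarTower.algebraMap_apply R B Λ, Algebra.smul_def]
    exact (RingHom.mem_ker).mp (h1 hx)
  let χ : (MvPolynomial (Σ s : ↥F, Fin (κ s)) B ⧸ K) →ₐ[R] Λ :=
    (Ideal.Quotient.liftₐ K χB hχK).restrictScalars R
  have hχB : ∀ b : B, χ (algebraMap B _ b) = φ b := by
    intro b
    change (Ideal.Quotient.liftₐ K χB hχK) (algebraMap B _ b) = φ b
    rw [AlgHom.commutes]
    rfl
  -- factor modulo `I`
  obtain ⟨C', _, _, _, _, hsmC', g, k, hgk⟩ :=
    factor_mod (R := R) (R₀ := R₀) (Λ := Λ) (Λ₀ := Λ₀) h χ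
  obtain ⟨B', _, _, hsmB', Φ, hΦsurj, hΦker⟩ := exists_lift_general I hR hkR C'
  have hnilΦ : IsNilpotent (RingHom.ker (Φ : B' →+* C')) := by
    have h1 : RingHom.ker (Φ : B' →+* C') = I.map (algebraMap R B') := hΦker
    rw [h1]
    exact isNilpotent_map_of_sq_zero I hI
  have hnil : IsNilpotent
      (RingHom.ker ((IsScalarTower.toAlgHom R Λ Λ₀ : Λ →ₐ[R] Λ₀) : Λ →+* Λ₀)) := by
    have h1 : RingHom.ker ((IsScalarTower.toAlgHom R Λ Λ₀ : Λ →ₐ[R] Λ₀) : Λ →+* Λ₀) =
        I.map (algebraMap R Λ) := hkΛ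
    rw [h1]
    exact isNilpotent_map_of_sq_zero I hI
  let α : B →ₐ[R] B' := Algebra.FormallySmooth.liftOfSurjective
    (g.comp (IsScalarTower.toAlgHom R B _)) Φ hΦsurj hnilΦ
  have hα : ∀ b, Φ (α b) = g (algebraMap B _ b) := fun b =>
    Algebra.FormallySmooth.liftOfSurjective_apply _ Φ hΦsurj hnilΦ b
  let β : B' →ₐ[R] Λ := Algebra.FormallySmooth.liftOfSurjective
    ((k.restrictScalars R).comp Φ) (IsScalarTower.toAlgHom R Λ Λ₀) hΛ hnil
  have hβ : ∀ x, algebraMap Λ Λ₀ (β x) = k (Φ x) := fun x =>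
    Algebra.FormallySmooth.liftOfSurjective_apply _ (IsScalarTower.toAlgHom R Λ Λ₀) hΛ hnil x
  refine ⟨B', inferInstance, inferInstance, hsmB', α, β, ?_, ?_⟩
  · -- `α` kills `J`
    have hYsurj := fun p : (Σ s : ↥F, Fin (κ s)) =>
      hΦsurj (g (Ideal.Quotient.mk K (MvPolynomial.X p)))
    choose Y hY using hYsurj
    have hd : ∀ (s : ↥F) (r : ↥S), α (l s r) - ∑ j : Fin (κ s), a s r j • Y ⟨s, j⟩ ∈
        I.map (algebraMap R B') := by
      intro s r
      rw [← hΦker, RingHom.mem_ker, map_sub, sub_eq_zero, hα, map_sum]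
      have h1 : algebraMap B (MvPolynomial (Σ s : ↥F, Fin (κ s)) B ⧸ K) (l s r) =
          ∑ j : Fin (κ s), a s r j • Ideal.Quotient.mk K (MvPolynomial.X ⟨s, j⟩) := by
        have h2 : rel (s, r) ∈ K := Ideal.subset_span ⟨(s, r), rfl⟩
        have h3 := Ideal.Quotient.eq_zero_iff_mem.mpr h2
        simp only [rel, map_sub, map_sum, map_mul] at h3
        rw [sub_eq_zero] at h3
        change Ideal.Quotient.mk K (MvPolynomial.C (l s r)) = _
        rw [h3]
        refine Finset.sum_congr rfl fun j _ => ?_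
        exact (Algebra.smul_def (a s r j) (Ideal.Quotient.mk K (MvPolynomial.X ⟨s, j⟩))).symm
      rw [h1, map_sum]
      refine Finset.sum_congr rfl fun j _ => ?_
      rw [map_smul, map_smul, hY]
    have hαs : ∀ s : ↥F, α (s : B) = 0 := by
      intro s
      have h1 : α (s : B) = ∑ r : ↥S, (r : R) • α (l s r) := by
        conv_lhs => rw [hl s, map_sum, ← Finset.sum_coe_sort S]
        refine Finset.sum_congr rfl fun r _ => ?_
        rw [map_mul, AlgHom.commutes, Algebra.smul_def]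
      have h2 : ∀ r : ↥S, (r : R) • α (l s r) =
          ∑ j : Fin (κ s), ((r : R) * a s r j) • Y ⟨s, j⟩ := by
        intro r
        have h3 := smul_eq_zero_of_sq_zero I hI (hS r r.2) (hd s r)
        rw [smul_sub, sub_eq_zero] at h3
        rw [h3, Finset.smul_sum]
        refine Finset.sum_congr rfl fun j _ => ?_
        rw [smul_smul]
      rw [h1]
      simp only [h2]
      rw [Finset.sum_comm]
      refine Finset.sum_eq_zero fun j _ => ?_
      rw [← Finset.sum_smul, ha s j, zero_smul]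
    intro j hj
    have h1 : Ideal.span (F : Set B) ≤ RingHom.ker (α : B →+* B') := by
      rw [Ideal.span_le]
      intro s hs
      rw [SetLike.mem_coe, RingHom.mem_ker]
      exact hαs ⟨s, hs⟩
    exact (RingHom.mem_ker).mp (h1 hj)
  · intro b
    rw [← hkΛ, RingHom.mem_ker, map_sub, hβ, hα, hgk, hχB, sub_self]

end Kill

end Groth.Agent.Helper2.IndSm
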