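import Mathlib
import Groth.Agent.Lib.Helper2.IndSm3

/-!
# Ind-smoothness along square-zero thickenings: correcting a map by a derivation, and the
square-zero case of the main theorem
-/

universe u

namespace Groth.Agent.Helper2.IndSm

section Correct

open KaehlerDifferential

variable {R : Type u} [CommRing R]

theorem mul_eq_zero_of_mem_map {B : Type*} [CommRing B] [Algebra R B] (I : Ideal R)
    (hI : I ^ 2 = ⊥) {x y : B} (hx : x ∈ I.map (algebraMap R B))
    (hy : y ∈ I.map (algebraMap R B)) : x * y = 0 := by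
  have h1 : x * y ∈ (I.map (algebraMap R B)) * (I.map (algebraMap R B)) :=
    Ideal.mul_mem_mul hx hy
  rw [← Ideal.map_mul, ← pow_two, hI, Ideal.map_bot] at h1
  exact h1

theorem linearMap_mem_map {B C : Type*} [CommRing B] [Algebra R B] [CommRing C] [Algebra R C]
    (I : Ideal R) (L : B →ₗ[R] C) {j : B} (hj : j ∈ I.map (algebraMap R B)) :
    L j ∈ I.map (algebraMap R C) := by
  have h1 : j ∈ I • (⊤ : Submodule R B) := by
    rw [Ideal.smul_top_eq_map]
    exact hj
  refine Submodule.smul_induction_on h1 ?_ ?_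
  · intro r hr b _
    rw [map_smul, Algebra.smul_def]
    exact Ideal.mul_mem_right _ _ (Ideal.mem_map_of_mem _ hr)
  · intro x y hx hy
    rw [map_add]
    exact Ideal.add_mem _ hx hy

/-- An algebra map plus a square-zero-valued derivation is an algebra map. -/
theorem algHom_add_derivation {B C : Type*} [CommRing B] [Algebra R B] [CommRing C] [Algebra R C]
    (f : B →ₐ[R] C) (δ : B → C) (hadd : ∀ b b', δ (b + b') = δ b + δ b')
    (hmul : ∀ b b', δ (b * b') = f b * δ b' + f b' * δ b)
    (hR : ∀ r, δ (algebraMap R B r) = 0) (hsq : ∀ b b', δ b * δ b' = 0) :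
    ∃ F : B →ₐ[R] C, ∀ b, F b = f b + δ b := by
  have h0 : δ 0 = 0 := by
    have := hadd 0 0
    rw [add_zero] at this
    exact left_eq_add.mp this
  have h1 : δ 1 = 0 := by
    rw [← map_one (algebraMap R B)]
    exact hR 1
  refine ⟨{ toFun := fun b => f b + δ b
            map_one' := by rw [map_one, h1, add_zero]
            map_mul' := fun b b' => by
              rw [map_mul, hmul]
              have := hsq b b'
              linear_combination -this
            map_zero' := by rw [map_zero, h0, add_zero]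
            map_add' := fun b b' => by
              rw [map_add, hadd]
              ring
            commutes' := fun r => by
              rw [hR, add_zero, AlgHom.commutes] }, fun b => rfl⟩

set_option maxHeartbeats 1600000 in
/-- Correct a factorization commuting modulo `I` to one commuting on the nose. -/
theorem exists_correct {Λ : Type u} [CommRing Λ] [Algebra R Λ] (I : Ideal R) (hI : I ^ 2 = ⊥)
    {B B' : Type u} [CommRing B] [Algebra R B] [Algebra.Smooth R B] [CommRing B'] [Algebra R B']
    [Algebra.Smooth R B']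
    (φ : B →ₐ[R] Λ) (α : B →ₐ[R] B') (β : B' →ₐ[R] Λ)
    (hβα : ∀ b, β (α b) - φ b ∈ I.map (algebraMap R Λ)) :
    ∃ (B'' : Type u) (_ : CommRing B'') (_ : Algebra R B''), Algebra.Smooth R B'' ∧
      ∃ (α' : B →ₐ[R] B'') (β' : B'' →ₐ[R] Λ), β'.comp α' = φ ∧
        ∀ j ∈ I.map (algebraMap R B), α j = 0 → α' j = 0 := by
  classical
  letI : Algebra B Λ := φ.toRingHom.toAlgebra
  haveI : IsScalarTower R B Λ := IsScalarTower.of_algebraMap_eq (fun r => (φ.commutes r).symm)
  have hsmulB : ∀ (b : B) (x : Λ), b • x = φ b * x := fun b x => rfl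
  -- the derivation `φ - β ∘ α`
  let D : Derivation R B Λ := Derivation.mk' (φ.toLinearMap - (β.comp α).toLinearMap) (by
    intro b b'
    simp only [LinearMap.sub_apply, AlgHom.toLinearMap_apply, AlgHom.comp_apply, map_mul, hsmulB]
    have h1 := mul_eq_zero_of_mem_map I hI (hβα b) (hβα b')
    linear_combination -h1)
  have hD : ∀ b, D b = φ b - β (α b) := fun b => rfl
  let ξ : Ω[B⁄R] →ₗ[B] Λ := D.liftKaehlerDifferential
  have hξD : ∀ b, ξ (KaehlerDifferential.D R B b) = D b := fun b =>
    Derivation.liftKaehlerDifferential_comp_D D b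
  have hξmem : ∀ ω, ξ ω ∈ I.map (algebraMap R Λ) := by
    intro ω
    have h1 : ω ∈ Submodule.span B (Set.range (KaehlerDifferential.D R B)) := by
      rw [KaehlerDifferential.span_range_derivation]
      exact Submodule.mem_top
    induction h1 using Submodule.span_induction with
    | mem x hx =>
      obtain ⟨b, rfl⟩ := hx
      rw [hξD, hD]
      have := hβα b
      rw [← neg_sub]
      exact Ideal.neg_mem_iff _ |>.mpr this
    | zero => rw [map_zero]; exact Ideal.zero_mem _
    | add x y _ _ hx hy => rw [map_add]; exact Ideal.add_mem _ hx hy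
    | smul b x _ hx =>
      rw [map_smul, hsmulB]
      exact Ideal.mul_mem_left _ _ hx
  -- splitting of the differentials
  obtain ⟨N, f, g, -, -, hfg⟩ := Module.Finite.exists_comp_eq_id_of_projective B Ω[B⁄R]
  have hfg' : ∀ ω, f (g ω) = ω := fun ω => congrArg (fun F => F ω) hfg
  obtain ⟨S, hS, l, hl⟩ := exists_finset_combination I
    (fun t : Fin N => ξ (f (fun j => if t = j then 1 else 0))) (fun t => hξmem _)
  let ut : Fin N → Derivation R B B := fun t =>
    ((LinearMap.proj t).comp g).compDer (KaehlerDifferential.D R B)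
  have hut : ∀ t b, ut t b = g (KaehlerDifferential.D R B b) t := fun t b => rfl
  have hDexp : ∀ b, D b = ∑ t : Fin N, φ (ut t b) * ∑ r : ↥S, algebraMap R Λ r * l t r := by
    intro b
    rw [← hξD, ← hfg' (KaehlerDifferential.D R B b), LinearMap.pi_apply_eq_sum_univ, map_sum]
    refine Finset.sum_congr rfl fun t _ => ?_
    rw [map_smul, hsmulB, hl t, Finset.sum_coe_sort S (fun r => algebraMap R Λ r * l t r)]
    rfl
  -- the new smooth algebra
  letI : Algebra B' Λ := β.toRingHom.toAlgebra
  haveI : IsScalarTower R B' Λ := IsScalarTower.of_algebraMap_eq (fun r => (β.commutes r).symm)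
  haveI : Algebra.Smooth B' (MvPolynomial (Fin N × ↥S) B') := ⟨inferInstance, inferInstance⟩
  haveI : Algebra.Smooth R (MvPolynomial (Fin N × ↥S) B') :=
    Algebra.Smooth.comp R B' (MvPolynomial (Fin N × ↥S) B')
  let βB : MvPolynomial (Fin N × ↥S) B' →ₐ[B'] Λ := MvPolynomial.aeval (fun p => l p.1 p.2)
  let δ : B → MvPolynomial (Fin N × ↥S) B' := fun b =>
    ∑ t : Fin N, ∑ r : ↥S, algebraMap R (MvPolynomial (Fin N × ↥S) B') r *
      (MvPolynomial.C (α (ut t b)) * MvPolynomial.X (t, r))
  have hδmem : ∀ b, δ b ∈ I.map (algebraMap R (MvPolynomial (Fin N × ↥S) B')) := by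
    intro b
    refine Ideal.sum_mem _ fun t _ => Ideal.sum_mem _ fun r _ => ?_
    exact Ideal.mul_mem_right _ _ (Ideal.mem_map_of_mem _ (hS r r.2))
  obtain ⟨α', hα'⟩ := algHom_add_derivation
    ((IsScalarTower.toAlgHom R B' (MvPolynomial (Fin N × ↥S) B')).comp α) δ
    (by
      intro b b'
      simp only [δ, map_add, add_mul, mul_add, Finset.sum_add_distrib])
    (by
      intro b b'
      simp only [δ, Derivation.leibniz, smul_eq_mul, map_add, map_mul, Finset.mul_sum,
        ← Finset.sum_add_distrib, AlgHom.comp_apply]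
      refine Finset.sum_congr rfl fun t _ => Finset.sum_congr rfl fun r _ => ?_
      change _ = MvPolynomial.C (α b) * _ + MvPolynomial.C (α b') * _
      ring)
    (by
      intro r
      simp only [δ, Derivation.map_algebraMap, map_zero, zero_mul, mul_zero, Finset.sum_const_zero])
    (fun b b' => mul_eq_zero_of_mem_map I hI (hδmem b) (hδmem b'))
  refine ⟨MvPolynomial (Fin N × ↥S) B', inferInstance, inferInstance, inferInstance, α',
    βB.restrictScalars R, ?_, ?_⟩
  · ext b
    change βB (α' b) = φ b
    rw [hα', map_add]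
    have h1 : βB (((IsScalarTower.toAlgHom R B' (MvPolynomial (Fin N × ↥S) B')).comp α) b) =
        β (α b) := by
      change βB (algebraMap B' _ (α b)) = _
      rw [βB.commutes]
      rfl
    have h2 : βB (δ b) = D b := by
      rw [hDexp]
      simp only [δ, map_sum, Finset.mul_sum]
      refine Finset.sum_congr rfl fun t _ => Finset.sum_congr rfl fun r _ => ?_
      rw [map_mul, map_mul, MvPolynomial.aeval_X]
      have h3 : βB (algebraMap R (MvPolynomial (Fin N × ↥S) B') r) = algebraMap R Λ r := by
        rw [IsScalarTower.algebraMap_apply R B' (MvPolynomial (Fin N × ↥S) B'), βB.commutes,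
          ← IsScalarTower.algebraMap_apply R B' Λ]
      have h4 : βB (MvPolynomial.C (α (ut t b))) = β (α (ut t b)) := by
        change βB (algebraMap B' _ (α (ut t b))) = _
        rw [βB.commutes]
        rfl
      rw [h3, h4]
      have h5 := mul_eq_zero_of_sq_zero I hI (hS r r.2) (hβα (ut t b))
      linear_combination (l t r) * h5
    rw [h1, h2, hD]
    ring
  · intro j hj hαj
    rw [hα', AlgHom.comp_apply, hαj, map_zero, zero_add]
    refine Finset.sum_eq_zero fun t _ => Finset.sum_eq_zero fun r _ => ?_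
    have h1 : MvPolynomial.C (α (ut t j)) ∈ I.map (algebraMap R (MvPolynomial (Fin N × ↥S) B')) :=
      linearMap_mem_map I (((IsScalarTower.toAlgHom R B' (MvPolynomial (Fin N × ↥S) B')).comp
        α).toLinearMap.comp (ut t : B →ₗ[R] B)) hj
    rw [← mul_assoc, mul_eq_zero_of_sq_zero I hI (hS r r.2) h1, zero_mul]

end Correct

section SqZero

variable {R R₀ Λ Λ₀ : Type u} [CommRing R] [CommRing R₀] [CommRing Λ] [CommRing Λ₀]
  [Algebra R R₀] [Algebra R Λ] [Algebra R₀ Λ₀] [Algebra R Λ₀] [Algebra Λ Λ₀]
  [IsScalarTower R R₀ Λ₀] [IsScalarTower R Λ Λ₀]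

/-- Ind-smoothness lifts along a square-zero thickening for flat algebras (general form). -/
theorem indSmooth_of_sq_zero (I : Ideal R) (hI : I ^ 2 = ⊥)
    (hR : Function.Surjective (algebraMap R R₀)) (hkR : RingHom.ker (algebraMap R R₀) = I)
    (hΛ : Function.Surjective (algebraMap Λ Λ₀))
    (hkΛ : RingHom.ker (algebraMap Λ Λ₀) = I.map (algebraMap R Λ))
    [Module.Flat R Λ] (h : Smoothing.IndSmooth R₀ Λ₀) : Smoothing.IndSmooth R Λ := by
  intro A _ _ hA φ
  haveI := hA
  obtain ⟨B, _, _, hsmB, J, hJ, hJfg, g, k, hgk⟩ :=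
    exists_factor_quotient I hI hR hkR hΛ hkΛ h φ
  haveI := hsmB
  let φB : B →ₐ[R] Λ := k.comp (Ideal.Quotient.mkₐ R J)
  have hφBJ : ∀ j ∈ J, φB j = 0 := by
    intro j hj
    change k (Ideal.Quotient.mk J j) = 0
    rw [Ideal.Quotient.eq_zero_iff_mem.mpr hj, map_zero]
  obtain ⟨B', _, _, hsmB', α, β, hαJ, hβα⟩ :=
    exists_kill I hI hR hkR hΛ hkΛ h φB J hJ hJfg hφBJ
  haveI := hsmB'
  obtain ⟨B'', _, _, hsmB'', α', β', hβα', hα'⟩ := exists_correct I hI φB α β hβα
  have hα'J : ∀ j ∈ J, α' j = 0 := fun j hj => hα' j (hJ hj) (hαJ j hj)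
  refine ⟨B'', inferInstance, inferInstance, hsmB'',
    (Ideal.Quotient.liftₐ J α' hα'J).comp g, β', ?_⟩
  rw [← hgk, ← AlgHom.comp_assoc]
  congr 1
  apply AlgHom.ext
  intro x
  obtain ⟨b, rfl⟩ := Ideal.Quotient.mk_surjective x
  change β' (α' b) = k (Ideal.Quotient.mk J b)
  exact congrArg (fun F => F b) hβα'

end SqZero

end Groth.Agent.Helper2.IndSm
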