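import Groth.Agent.Lib.Helper2.InfNbhdSmooth
import Groth.Agent.Lib.Helper2.ThickUnram
import Mathlib.RingTheory.RingHom.Etale

/-!
# Etaleness at a prime from etaleness on all infinitesimal neighbourhoods (ring level)
-/

set_option autoImplicit false
universe u

namespace Groth.Agent.Helper2.InfNbhd
open TensorProduct KaehlerDifferential

variable {A B : Type u} [CommRing A] [CommRing B] [Algebra A B]

/-- If `A/J → B/JB` is formally unramified, `B` is of finite type and `q ⊇ JB`, then `B` is unramified at `q`. -/
theorem isUnramifiedAt_of_quotient [Algebra.FiniteType A B] (J : Ideal A) (q : Ideal B) [q.IsPrime]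
    (hq : J.map (algebraMap A B) ≤ q)
    (h : (Ideal.quotientMap (J.map (algebraMap A B)) (algebraMap A B)
      Ideal.le_comap_map).FormallyUnramified) :
    Algebra.IsUnramifiedAt A q := by
  have h1 := Groth.Agent.Helper2.ThickAlg.kaehler_smul_top_eq_top (A' := A) (B' := B) J h
  obtain ⟨r, hr, hr0⟩ := Submodule.exists_sub_one_mem_and_smul_eq_zero_of_fg_of_le_smul
    (J.map (algebraMap A B)) (⊤ : Submodule B Ω[B⁄A]) Module.Finite.fg_top (by rw [h1])
  have hrq : r ∉ q := by
    intro hrq
    have h2 : r - 1 ∈ q := hq hr
    have h3 : (1 : B) ∈ q := by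
      have := q.sub_mem hrq h2
      simpa using this
    exact (Ideal.IsPrime.ne_top ‹_›) ((Ideal.eq_top_iff_one _).2 h3)
  show (⟨q, inferInstance⟩ : PrimeSpectrum B) ∈ Algebra.unramifiedLocus A B
  rw [Algebra.unramifiedLocus_eq_compl_support, Set.mem_compl_iff, Module.notMem_support_iff']
  intro m
  exact ⟨r, hrq, hr0 m Submodule.mem_top⟩

/-- Ring-level statement: etale on all infinitesimal neighbourhoods of `V(J)` implies etale at every prime
containing `JB`. -/
theorem isEtaleAt_of_etale_quotients [IsNoetherianRing A] [Algebra.FinitePresentation A B]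
    (J : Ideal A) (q : Ideal B) [q.IsPrime] (hq : J.map (algebraMap A B) ≤ q)
    (h : ∀ n : ℕ, (Ideal.quotientMap ((J ^ (n + 1)).map (algebraMap A B)) (algebraMap A B)
      Ideal.le_comap_map).Etale) :
    Algebra.IsEtaleAt A q := by
  have hs : Algebra.IsSmoothAt A q := isSmoothAt_of_smooth_quotients J q hq
    (fun n => ((RingHom.etale_iff_formallyUnramified_and_smooth _).1 (h n)).2)
  have h0 : (Ideal.quotientMap (J.map (algebraMap A B)) (algebraMap A B)
      Ideal.le_comap_map).FormallyUnramified := by
    have key : ∀ K : Ideal A, K = J →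
        (Ideal.quotientMap (K.map (algebraMap A B)) (algebraMap A B)
          Ideal.le_comap_map).FormallyUnramified →
        (Ideal.quotientMap (J.map (algebraMap A B)) (algebraMap A B)
          Ideal.le_comap_map).FormallyUnramified := by
      rintro K rfl hK
      exact hK
    exact key _ (by rw [zero_add, pow_one]) (h 0).formallyUnramified
  have hu : Algebra.IsUnramifiedAt A q := isUnramifiedAt_of_quotient J q hq h0
  exact Algebra.FormallyEtale.iff_formallyUnramified_and_formallySmooth.2 ⟨hu, hs⟩

end Groth.Agent.Helper2.InfNbhd
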