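import Groth.Agent.Lib.Helper1.LocalCriterion

/-!
# Flatness at a prime from flatness on all infinitesimal neighbourhoods (ring level)
-/

set_option autoImplicit false
universe u

namespace Groth.Agent.Helper2.InfNbhd
open TensorProduct

variable {A B : Type u} [CommRing A] [CommRing B] [Algebra A B]

/-- module flatness of `A/K ⊗ B` from ring-hom flatness of `A/K → B/KB` -/
theorem flat_quot_tensor (K : Ideal A)
    (h : (Ideal.quotientMap (K.map (algebraMap A B)) (algebraMap A B) Ideal.le_comap_map).Flat) :
    Module.Flat (A ⧸ K) ((A ⧸ K) ⊗[A] B) := by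
  have h1 : Module.Flat (A ⧸ K) (B ⧸ K.map (algebraMap A B)) := by
    rw [← RingHom.flat_algebraMap_iff]
    exact h
  exact Module.Flat.of_linearEquiv
    (Algebra.TensorProduct.quotIdealMapEquivQuotTensor B K).symm.toLinearEquiv

/-- If `A`, `B` are noetherian, `q` a prime of `B` containing `JB`, and `A/J^(n+1) → B/J^(n+1)B` is flat for
all `n`, then `B_q` is flat over `A`. -/
theorem flat_localization_of_flat_quotients [IsNoetherianRing A] [IsNoetherianRing B]
    (J : Ideal A) (q : Ideal B) [q.IsPrime] (hq : J.map (algebraMap A B) ≤ q)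
    (h : ∀ n : ℕ, (Ideal.quotientMap ((J ^ (n + 1)).map (algebraMap A B)) (algebraMap A B)
      Ideal.le_comap_map).Flat) :
    Module.Flat A (Localization.AtPrime q) := by
  haveI : IsNoetherianRing (Localization.AtPrime q) :=
    IsLocalization.isNoetherianRing q.primeCompl _ inferInstance
  apply Groth.Agent.Helper1.flat_of_flat_quotient_pow (R := A) (S := Localization.AtPrime q)
    (M := Localization.AtPrime q) J
  · rw [IsLocalRing.jacobson_eq_maximalIdeal ⊥ bot_ne_top,
      IsScalarTower.algebraMap_eq A B (Localization.AtPrime q), ← Ideal.map_map,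
      ← Localization.AtPrime.map_eq_maximalIdeal]
    exact Ideal.map_mono hq
  · intro n hn
    obtain ⟨m, rfl⟩ : ∃ m, n = m + 1 := ⟨n - 1, by omega⟩
    haveI := flat_quot_tensor (J ^ (m + 1)) (h m)
    exact Groth.Agent.Helper1.flat_baseChange_of_isLocalizedModule (R := A) (S := B) (M := B)
      (M' := Localization.AtPrime q) q.primeCompl (Algebra.linearMap B (Localization.AtPrime q))
      (A ⧸ J ^ (m + 1))

end Groth.Agent.Helper2.InfNbhd
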