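import Groth.Agent.Lib.Helper2.ThickRed2
import Mathlib.AlgebraicGeometry.IdealSheaf.Subscheme

/-!
# Infinitesimal neighbourhoods: reduction from schemes to rings
-/

set_option autoImplicit false
open CategoryTheory CategoryTheory.Limits AlgebraicGeometry Opposite
universe u

namespace Groth.Agent.Helper2.InfNbhd

variable {X S : Scheme.{u}} (f : X ⟶ S) (I : S.IdealSheafData)

/-- If the base change of `f` to the `n`-th infinitesimal neighbourhood of `V(I)` has a property `P` given by a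
ring hom property `Q`, then `A/J^(n+1) → B/J^(n+1)B` has `Q` for affine opens `V ⊆ f⁻¹U`, `J = I(U)`. -/
theorem quotientMap_pow (P : MorphismProperty Scheme.{u})
    (Q : ∀ {R S : Type u} [CommRing R] [CommRing S], (R →+* S) → Prop)
    [HasRingHomProperty P Q] (n : ℕ)
    (h : P (pullback.snd f (I ^ (n + 1)).subschemeι))
    (U : S.affineOpens) (V : X.affineOpens) (e : V.1 ≤ f ⁻¹ᵁ U.1) :
    Q (Ideal.quotientMap (((I.ideal U) ^ (n + 1)).map (f.appLE U.1 V.1 e).hom)
      (f.appLE U.1 V.1 e).hom Ideal.le_comap_map) := by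
  have hc : IsPullback (pullback.fst f (I ^ (n + 1)).subschemeι)
      (pullback.snd f (I ^ (n + 1)).subschemeι) f (I ^ (n + 1)).subschemeι :=
    IsPullback.of_hasPullback _ _
  have h1 := ThickRed.quotientMap_of_isPullback hc P Q h U V e
  have hk : RingHom.ker ((I ^ (n + 1)).subschemeι.app U.1).hom = (I.ideal U) ^ (n + 1) := by
    rw [Scheme.IdealSheafData.ker_subschemeι_app]
    rfl
  have key : ∀ K : Ideal Γ(S, U.1), K = (I.ideal U) ^ (n + 1) →
      Q (Ideal.quotientMap (K.map (f.appLE U.1 V.1 e).hom) (f.appLE U.1 V.1 e).hom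
        Ideal.le_comap_map) →
      Q (Ideal.quotientMap (((I.ideal U) ^ (n + 1)).map (f.appLE U.1 V.1 e).hom)
        (f.appLE U.1 V.1 e).hom Ideal.le_comap_map) := by
    rintro K rfl hK
    exact hK
  exact key _ hk h1

/-- `x ∈ X.basicOpen r` when `r` is not in the prime ideal of `x`. -/
theorem mem_basicOpen_of_notMem_primeIdealOf {Y : Scheme.{u}} {V : Y.Opens} (hV : IsAffineOpen V)
    (x : Y) (hxV : x ∈ V) (r : Γ(Y, V)) (hrx : r ∉ (hV.primeIdealOf ⟨x, hxV⟩).asIdeal) :
    x ∈ Y.basicOpen r := by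
  have h1 : hV.primeIdealOf ⟨x, hxV⟩ ∈ (PrimeSpectrum.basicOpen r : Set _) := hrx
  have h2 : hV.primeIdealOf ⟨x, hxV⟩ ∈ hV.fromSpec ⁻¹ᵁ Y.basicOpen r := by
    rw [hV.fromSpec_preimage_basicOpen]
    exact h1
  have h3 : hV.fromSpec (hV.primeIdealOf ⟨x, hxV⟩) ∈ Y.basicOpen r := h2
  rwa [hV.fromSpec_primeIdealOf] at h3

/-- A point over the support of `I` gives a prime containing `I(U)B`. -/
theorem map_ideal_le_primeIdealOf (x : X) (hx : f x ∈ I.support)
    (U : S.affineOpens) (V : X.affineOpens) (e : V.1 ≤ f ⁻¹ᵁ U.1) (hxV : x ∈ V.1) :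
    (I.ideal U).map (f.appLE U.1 V.1 e).hom ≤ (V.2.primeIdealOf ⟨x, hxV⟩).asIdeal := by
  rw [Ideal.map_le_iff_le_comap]
  intro a ha
  rw [Ideal.mem_comap]
  by_contra hcon
  have h1 := mem_basicOpen_of_notMem_primeIdealOf V.2 x hxV _ hcon
  have h2 : f x ∈ S.basicOpen a := by
    have h3 : X.basicOpen ((f.appLE U.1 V.1 e).hom a) ≤ f ⁻¹ᵁ S.basicOpen a := by
      rw [Scheme.Hom.appLE, CommRingCat.hom_comp, RingHom.comp_apply]
      refine (Scheme.basicOpen_res _ _ _).le.trans ?_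
      rw [Scheme.preimage_basicOpen]
      exact inf_le_right
    exact h3 h1
  have h4 := (Scheme.IdealSheafData.mem_support_iff_of_mem (I := I) (U := U) (e hxV)).1 hx
  rw [Scheme.mem_zeroLocus_iff] at h4
  exact h4 a ha h2

end Groth.Agent.Helper2.InfNbhd
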