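import Groth.Agent.Lib.Helper2.InfNbhdFlat

/-!
# Smoothness at a prime from flatness of the local ring and smoothness of the fibre
-/

set_option autoImplicit false
universe u

namespace Groth.Agent.Helper2.InfNbhd
open TensorProduct IsLocalRing Algebra

local notation "𝓀[" R "]" => ResidueField R

/-- Variant of `Algebra.IsSmoothAt.of_formallySmooth_fiber` only assuming flatness of the local ring `S_q`. -/
theorem isSmoothAt_of_flat_localization_of_fiber {R S : Type u} [CommRing R] [CommRing S] [Algebra R S]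
    [Algebra.FinitePresentation R S] (p : Ideal R) (q : Ideal S)
    [p.IsPrime] [q.IsPrime] [q.LiesOver p]
    (hflat : Module.Flat R (Localization.AtPrime q))
    [FormallySmooth p.ResidueField (p.Fiber S)] :
    Algebra.IsSmoothAt R q := by
  let Rp := Localization.AtPrime p
  let Sp := Localization (algebraMapSubmonoid S p.primeCompl)
  let Sq := Localization.AtPrime q
  let := Localization.AtPrime.algebraOfLiesOver p q
  let f : Sp →ₐ[S] Sq := IsLocalization.liftAlgHom (M := algebraMapSubmonoid S p.primeCompl)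
        (f := Algebra.ofId _ _) (by
      rintro ⟨_, x, hx, rfl⟩
      simpa using! IsLocalization.map_units (M := q.primeCompl) Sq ⟨algebraMap _ _ x,
        by simp_all [q.over_def p]⟩)
  algebraize [f.toRingHom]
  have : IsScalarTower R Sp Sq := .to₁₃₄ _ S _ _
  have : IsScalarTower Rp Sp Sq := .of_algebraMap_eq' <| by
    apply IsLocalization.ringHom_ext p.primeCompl
    simp only [RingHom.comp_assoc, ← IsScalarTower.algebraMap_eq]
  have : IsLocalization (algebraMapSubmonoid Sp q.primeCompl) Sq :=
    .isLocalization_of_submonoid_le _ _ (algebraMapSubmonoid S p.primeCompl) _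
    (by rintro _ ⟨x, hx, rfl⟩; simp_all [q.over_def p])
  have : FinitePresentation Rp Sp := by
    have : Algebra.IsPushout R Rp S Sp :=
      .symm <| Algebra.isPushout_of_isLocalization p.primeCompl _ _ _
    exact .equiv (Algebra.IsPushout.equiv R Rp S Sp)
  have : Module.Flat Rp Sq := (Module.flat_iff_of_isLocalization Rp p.primeCompl Sq).2 hflat
  have : FormallySmooth 𝓀[Rp] (𝓀[Rp] ⊗[Rp] Sq) := by
    let : Algebra S (𝓀[Rp] ⊗[R] S) := Algebra.TensorProduct.rightAlgebra
    have : FormallySmooth 𝓀[Rp] ((𝓀[Rp] ⊗[R] S) ⊗[S] Sq) :=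
      .comp _ (𝓀[Rp] ⊗[R] S) _
    let e : 𝓀[Rp] ⊗[R] S ≃ₐ[S] S ⊗[R] 𝓀[Rp] :=
      { __ := Algebra.TensorProduct.comm _ _ _, commutes' _ := rfl }
    let e' : (𝓀[Rp] ⊗[R] S) ⊗[S] Sq ≃ₐ[R] 𝓀[Rp] ⊗[Rp] Sq :=
      ((Algebra.TensorProduct.comm _ _ _).restrictScalars R).trans <|
      ((Algebra.TensorProduct.congr (.refl (R := S)) e).restrictScalars R).trans <|
      ((Algebra.TensorProduct.cancelBaseChange _ _ S _ _).restrictScalars R).trans <|
      (Algebra.TensorProduct.comm _ _ _).trans (Algebra.TensorProduct.equivOfCompatibleSMul ..)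
    have : e'.toAlgHom.comp (IsScalarTower.toAlgHom R p.ResidueField _) =
        IsScalarTower.toAlgHom _ _ _ := by ext
    let e'' : (𝓀[Rp] ⊗[R] S) ⊗[S] Sq ≃ₐ[𝓀[Rp]] 𝓀[Rp] ⊗[Rp] Sq :=
      { __ := e', commutes' r := congr($this r) }
    exact .of_equiv e''
  have := FormallySmooth.of_formallySmooth_residueField_tensor
    (R := Rp) (S := Sq) (P := Sp) (algebraMapSubmonoid _ q.primeCompl)
  exact .comp R Rp Sq

/-- The fibre over a prime `p ⊇ J` is formally smooth if `A/J → B/JB` is smooth. -/
theorem formallySmooth_fiber_of_quotient {A B : Type u} [CommRing A] [CommRing B] [Algebra A B]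
    (J : Ideal A) (p : Ideal A) [p.IsPrime] (hJ : J ≤ p)
    (h : (Ideal.quotientMap (J.map (algebraMap A B)) (algebraMap A B) Ideal.le_comap_map).Smooth) :
    Algebra.FormallySmooth p.ResidueField (p.Fiber B) := by
  have h1 : Algebra.Smooth (A ⧸ J) (B ⧸ J.map (algebraMap A B)) := by
    rw [← RingHom.smooth_algebraMap]
    exact h
  have h2 : Algebra.FormallySmooth (A ⧸ J) ((A ⧸ J) ⊗[A] B) :=
    .of_equiv (Algebra.TensorProduct.quotIdealMapEquivQuotTensor B J)
  let φ : (A ⧸ J) →+* p.ResidueField := Ideal.Quotient.lift J (algebraMap A p.ResidueField)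
    (fun a ha => by
      rw [Ideal.algebraMap_residueField_eq_zero]
      exact hJ ha)
  letI : Algebra (A ⧸ J) p.ResidueField := φ.toAlgebra
  haveI : IsScalarTower A (A ⧸ J) p.ResidueField := IsScalarTower.of_algebraMap_eq (fun a => rfl)
  let e : p.ResidueField ⊗[A ⧸ J] ((A ⧸ J) ⊗[A] B) ≃ₐ[p.ResidueField] p.ResidueField ⊗[A] B :=
    Algebra.TensorProduct.cancelBaseChange A (A ⧸ J) p.ResidueField p.ResidueField B
  have h3 : Algebra.FormallySmooth p.ResidueField
      (p.ResidueField ⊗[A ⧸ J] ((A ⧸ J) ⊗[A] B)) := inferInstance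
  exact @Algebra.FormallySmooth.of_equiv p.ResidueField _ _ _ _ _ _ _ h3 e

/-- Ring-level statement: smooth on all infinitesimal neighbourhoods of `V(J)` implies smooth at every prime
containing `JB`. -/
theorem isSmoothAt_of_smooth_quotients {A B : Type u} [CommRing A] [CommRing B] [Algebra A B]
    [IsNoetherianRing A] [Algebra.FinitePresentation A B]
    (J : Ideal A) (q : Ideal B) [q.IsPrime] (hq : J.map (algebraMap A B) ≤ q)
    (h : ∀ n : ℕ, (Ideal.quotientMap ((J ^ (n + 1)).map (algebraMap A B)) (algebraMap A B)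
      Ideal.le_comap_map).Smooth) :
    Algebra.IsSmoothAt A q := by
  haveI : IsNoetherianRing B := Algebra.FiniteType.isNoetherianRing A B
  have hflat := flat_localization_of_flat_quotients J q hq (fun n => (h n).flat)
  let p := q.under A
  haveI : q.LiesOver p := ⟨rfl⟩
  have hJp : J ≤ p := Ideal.map_le_iff_le_comap.1 hq
  have h0 : (Ideal.quotientMap (J.map (algebraMap A B)) (algebraMap A B)
      Ideal.le_comap_map).Smooth := by
    have key : ∀ K : Ideal A, K = J →
        (Ideal.quotientMap (K.map (algebraMap A B)) (algebraMap A B) Ideal.le_comap_map).Smooth →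
        (Ideal.quotientMap (J.map (algebraMap A B)) (algebraMap A B) Ideal.le_comap_map).Smooth := by
      rintro K rfl hK
      exact hK
    exact key _ (by rw [zero_add, pow_one]) (h 0)
  haveI := formallySmooth_fiber_of_quotient J p hJp h0
  exact isSmoothAt_of_flat_localization_of_fiber p q hflat

end Groth.Agent.Helper2.InfNbhd
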