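import Mathlib.RingTheory.Jacobson.Ring
import Mathlib.RingTheory.Spectrum.Prime.Topology
import Groth.Agent.Lib.Helper2.HeightOne

set_option autoImplicit false

namespace Groth.Agent.Helper2.JacobsonNoeth

open Groth.Agent.Helper2.HeightOne

section Domain
variable {D : Type*} [CommRing D] [IsDomain D] [IsNoetherianRing D]

/-- A Noetherian domain in which some nonzero element lies in every nonzero prime has all primes of
height at most one. -/
theorem height_le_one_of_mem (f : D) (hf0 : f ≠ 0)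
    (hfq : ∀ q : Ideal D, q.IsPrime → q ≠ ⊥ → f ∈ q) (Q : Ideal D) [Q.IsPrime] :
    Q.height ≤ 1 := by
  by_contra hlt
  rw [not_le] at hlt
  have h2 : 2 ≤ Q.height := by
    have := (ENat.add_one_le_iff (ENat.one_ne_top)).mpr hlt
    rwa [one_add_one_eq_two] at this
  have hinf := infinite_height_one Q h2
  have hfin := finite_height_one_mem f hf0
  refine hinf (hfin.subset ?_)
  rintro P ⟨hP1, -⟩
  refine ⟨hP1, hfq P.asIdeal P.isPrime ?_⟩
  exact Ideal.ne_bot_of_height_eq_one hP1

theorem finite_spec_of_mem (f : D) (hf0 : f ≠ 0)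
    (hfq : ∀ q : Ideal D, q.IsPrime → q ≠ ⊥ → f ∈ q) : Finite (PrimeSpectrum D) := by
  classical
  have hfin := finite_height_one_mem f hf0
  let b : PrimeSpectrum D := ⟨⊥, Ideal.isPrime_bot⟩
  have hsub : (Set.univ : Set (PrimeSpectrum D)) ⊆
      insert b {P : PrimeSpectrum D | P.asIdeal.height = 1 ∧ f ∈ P.asIdeal} := by
    intro P _
    by_cases hP : P.asIdeal = ⊥
    · left
      exact PrimeSpectrum.ext hP
    · right
      have h1 := height_le_one_of_mem f hf0 hfq P.asIdeal
      have h0 : P.asIdeal.height ≠ 0 := fun h => hP (Ideal.height_eq_zero_iff_eq_bot.mp h)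
      exact ⟨le_antisymm h1 (Order.one_le_iff_pos.mpr (pos_iff_ne_zero.mpr h0)),
        hfq P.asIdeal P.isPrime hP⟩
  exact Set.finite_univ_iff.mp ((hfin.insert b).subset hsub)

theorem isMaximal_of_mem (f : D) (hf0 : f ≠ 0)
    (hfq : ∀ q : Ideal D, q.IsPrime → q ≠ ⊥ → f ∈ q) (q : Ideal D) [hq : q.IsPrime] (hq0 : q ≠ ⊥) :
    q.IsMaximal := by
  obtain ⟨m, hm, hqm⟩ := Ideal.exists_le_maximal q hq.ne_top
  haveI := hm.isPrime
  rcases eq_or_lt_of_le hqm with rfl | hlt
  · exact hm
  · exfalso
    have h1 := height_le_one_of_mem f hf0 hfq m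
    haveI : m.FiniteHeight := ⟨Or.inr (ne_top_of_le_ne_top ENat.one_ne_top h1)⟩
    haveI : q.FiniteHeight := Ideal.finiteHeight_of_le hqm hm.ne_top
    have h2 := Ideal.height_strict_mono_of_isPrime_of_isPrime hlt
    have h3 : q.height < 1 := lt_of_lt_of_le h2 h1
    have h4 : q.height = 0 := Order.lt_one_iff.mp h3
    exact hq0 (Ideal.height_eq_zero_iff_eq_bot.mp h4)

/-- Key lemma: a Noetherian domain with nonzero Jacobson radical in which every nonzero prime is an
intersection of maximal ideals has finite spectrum and every nonzero prime is maximal. -/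
theorem domain_key (hJ : (⊥ : Ideal D).jacobson ≠ ⊥)
    (h : ∀ q : Ideal D, q.IsPrime → q ≠ ⊥ → q.jacobson = q) :
    Finite (PrimeSpectrum D) ∧ ∀ q : Ideal D, q.IsPrime → q ≠ ⊥ → q.IsMaximal := by
  obtain ⟨f, hfJ, hf0⟩ := Submodule.exists_mem_ne_zero_of_ne_bot hJ
  have hfq : ∀ q : Ideal D, q.IsPrime → q ≠ ⊥ → f ∈ q := by
    intro q hq hq0
    rw [← h q hq hq0]
    exact Ideal.jacobson_mono bot_le hfJ
  exact ⟨finite_spec_of_mem f hf0 hfq, fun q hq hq0 => isMaximal_of_mem f hf0 hfq q hq0⟩

end Domain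

section General
variable {R : Type*} [CommRing R] [IsNoetherianRing R]

/-- A Noetherian ring which is not Jacobson has a non-maximal prime `p` with `V(p)` finite and all
primes strictly above `p` maximal. -/
theorem exists_prime_of_not_jacobson (h : ¬ IsJacobsonRing R) :
    ∃ p : Ideal R, p.IsPrime ∧ ¬ p.IsMaximal ∧ {q : PrimeSpectrum R | p ≤ q.asIdeal}.Finite ∧
      ∀ q : Ideal R, q.IsPrime → p < q → q.IsMaximal := by
  rw [isJacobsonRing_iff_prime_eq] at h
  push Not at h
  let S : Set (Ideal R) := {p | p.IsPrime ∧ p.jacobson ≠ p}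
  have hS : S.Nonempty := by
    obtain ⟨p, hp, hne⟩ := h
    exact ⟨p, hp, hne⟩
  obtain ⟨p, ⟨hp, hpJ⟩, hmax⟩ := (wellFounded_gt (α := Ideal R)).has_min S hS
  haveI := hp
  have hnm : ¬ p.IsMaximal := fun hm => hpJ (Ideal.jacobson_eq_self_of_isMaximal)
  let π : R →+* R ⧸ p := Ideal.Quotient.mk p
  have hπ : Function.Surjective π := Ideal.Quotient.mk_surjective
  have hker : RingHom.ker π = p := Ideal.mk_ker
  have hJ : (⊥ : Ideal (R ⧸ p)).jacobson ≠ ⊥ := fun h0 =>
    hpJ (Ideal.jacobson_eq_iff_jacobson_quotient_eq_bot.mpr h0)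
  have hq : ∀ q : Ideal (R ⧸ p), q.IsPrime → q ≠ ⊥ → q.jacobson = q := by
    intro q hq hq0
    have hle : p ≤ q.comap π := hker.ge.trans (Ideal.ker_le_comap π)
    have hne : p ≠ q.comap π := by
      intro heq
      apply hq0
      rw [← Ideal.map_comap_of_surjective π hπ q, ← heq]
      exact Ideal.map_quotient_self p
    have hlt : p < q.comap π := lt_of_le_of_ne hle hne
    have hnS : q.comap π ∉ S := fun hS' => hmax _ hS' hlt
    have hJq : (q.comap π).jacobson = q.comap π := by
      by_contra hne'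
      exact hnS ⟨Ideal.comap_isPrime π q, hne'⟩
    apply Ideal.comap_injective_of_surjective π hπ
    rw [Ideal.comap_jacobson_of_surjective hπ, hJq]
  obtain ⟨hfin, hmaxq⟩ := domain_key hJ hq
  refine ⟨p, hp, hnm, ?_, ?_⟩
  · have : {q : PrimeSpectrum R | p ≤ q.asIdeal} = Set.range (PrimeSpectrum.comap π) := by
      rw [_root_.range_comap_of_surjective _ π hπ, hker]
      ext q
      simp [PrimeSpectrum.mem_zeroLocus]
    rw [this]
    exact Set.finite_range _
  · intro q hqp hlt
    have hkq : RingHom.ker π ≤ q := by rw [hker]; exact hlt.le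
    haveI : (q.map π).IsPrime := Ideal.map_isPrime_of_surjective hπ hkq
    have hcm : (q.map π).comap π = q := by
      rw [Ideal.comap_map_of_surjective π hπ, sup_eq_left]
      rw [← RingHom.ker_eq_comap_bot]
      exact hkq
    have hq0 : q.map π ≠ ⊥ := by
      intro h0
      rw [h0, ← RingHom.ker_eq_comap_bot, hker] at hcm
      exact hlt.ne hcm
    have := hmaxq (q.map π) inferInstance hq0
    rw [← hcm]
    exact Ideal.comap_isMaximal_of_surjective π hπ

end General

end Groth.Agent.Helper2.JacobsonNoeth
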