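import Mathlib
import Groth.Prelude.Def_RegImm
import Groth.Agent.S9849

/-!
# Descent of regular immersions of kind Koszul, `H_1`, quasi along flat surjective open maps
(no quasi-compactness)
-/

set_option autoImplicit false
universe u

namespace Groth.Agent.Helper2.KindDescOpen

open CategoryTheory CategoryTheory.Limits AlgebraicGeometry TopologicalSpace
open Groth.Agent.Helper28 Groth.Agent.Helper28.RegBC Groth.Agent.Helper2.KindDesc
  Groth.Agent.S8653 Groth.Agent.S9849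

/-- a kernel which is locally generated by sequences of kind `k`, on an affine open over which
the immersion is closed, gives regularity of kind `k` at the points over it -/
theorem regAt_of_lock (k : RegImm.Kind) (hk : k ≠ RegImm.Kind.regular)
    {X Y : Scheme.{u}} (i : Y ⟶ X) (U : X.Opens) (hU : IsAffineOpen U)
    [IsClosedImmersion (i ∣_ U)]
    (hKR : LocK k (RingHom.ker (i.app U).hom)) (y : Y) (hyU : i y ∈ U) :
    RegImm.IsRegularImmersionAt k i y := by
  have hVY : IsAffineOpen (i ⁻¹ᵁ U) := RegImmStalk.isAffineOpen_preimage i U hU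
  have hIle : RingHom.ker (i.app U).hom ≤ (hU.primeIdealOf ⟨i y, hyU⟩).asIdeal := by
    have h1 := IsAffineOpen.comap_primeIdealOf_appLE (f := i) (x := y) U hU (i ⁻¹ᵁ U) hVY
      (le_refl _) hyU
    rw [← h1]
    intro a ha
    show (i.appLE U (i ⁻¹ᵁ U) (le_refl _)).hom a ∈ (hVY.primeIdealOf ⟨y, hyU⟩).asIdeal
    rw [← Scheme.Hom.app_eq_appLE, (RingHom.mem_ker).mp ha]
    exact Ideal.zero_mem _
  obtain ⟨G, hG, l, hl, hIl⟩ := hKR (hU.primeIdealOf ⟨i y, hyU⟩).asIdeal hIle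
  have hW : IsAffineOpen (X.basicOpen G) := hU.basicOpen G
  have hyW : i y ∈ X.basicOpen G := by
    have h1 := (mem_basicOpen_iff hU (hU.primeIdealOf ⟨i y, hyU⟩) G).mpr hG
    rwa [hU.fromSpec_primeIdealOf ⟨i y, hyU⟩] at h1
  have hle' : X.basicOpen G ≤ (𝟙 X) ⁻¹ᵁ U := X.basicOpen_le G
  obtain ⟨hclW, hkerW⟩ := ker_of_isPullback i (𝟙 X) i (𝟙 Y) (IsPullback.id_horiz i) U hU
    (X.basicOpen G) hW hle'
  haveI := hU.isLocalization_basicOpen G
  let e : Localization.Away G ≃ₐ[Γ(X, U)] Γ(X, X.basicOpen G) :=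
    IsLocalization.algEquiv (Submonoid.powers G) (Localization.Away G) Γ(X, X.basicOpen G)
  refine ⟨⟨X.basicOpen G, hW⟩, hyW, hclW, l.map e,
    kind_ringEquiv k hk e.toRingEquiv l hl, ?_⟩
  have h3 : algebraMap Γ(X, U) Γ(X, X.basicOpen G) =
      ((𝟙 X : X ⟶ X).appLE U (X.basicOpen G) hle').hom := by
    rw [RingHom.algebraMap_toAlgebra]
    simp only [Scheme.Hom.appLE, Scheme.Hom.id_app, CommRingCat.hom_comp]
    rfl
  have h4 : algebraMap Γ(X, U) Γ(X, X.basicOpen G) =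
      (e : Localization.Away G →+* Γ(X, X.basicOpen G)).comp
        (algebraMap Γ(X, U) (Localization.Away G)) := by
    ext r
    exact (e.commutes r).symm
  show RingHom.ker (i.app (X.basicOpen G)).hom = Ideal.ofList (l.map e)
  rw [hkerW, ← h3, h4, ← Ideal.map_map, hIl, Ideal.map_ofList]
  rfl

/-- descent of the kernel ideal on an affine open of the base along a flat surjective open map -/
theorem lock_ker_descent_open (k : RegImm.Kind) (hk : k ≠ RegImm.Kind.regular)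
    {X Y X' Y' : Scheme.{u}} (i : Y ⟶ X)
    (g : X' ⟶ X) [Flat g] [Surjective g] (hopen : IsOpenMap g)
    (i' : Y' ⟶ X') (g' : Y' ⟶ Y) (hsq : IsPullback g' i' i g)
    (hi' : RegImm.IsRegularImmersion k i') (U : X.Opens) (hU : IsAffineOpen U)
    [IsClosedImmersion (i ∣_ U)] :
    LocK k (RingHom.ker (i.app U).hom) := by
  classical
  -- the affine opens of `X'` inside the preimage of `U`
  let 𝒱 : Type u := {V : X'.affineOpens // V.1 ≤ g ⁻¹ᵁ U}
  have hcov : (U : Set X) ⊆ ⋃ V : 𝒱, g '' (V.1.1 : Set X') := by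
    intro u hu
    obtain ⟨x', hx'⟩ := g.surjective u
    have hx'U : x' ∈ g ⁻¹ᵁ U := by
      show g x' ∈ U
      rw [hx']
      exact hu
    obtain ⟨_, ⟨V, hV, rfl⟩, hx'V, hVle⟩ :=
      (X'.isBasis_affineOpens).exists_subset_of_mem_open hx'U (g ⁻¹ᵁ U).isOpen
    exact Set.mem_iUnion.mpr ⟨⟨⟨V, hV⟩, hVle⟩, x', hx'V, hx'⟩
  obtain ⟨t, ht⟩ := hU.isCompact.elim_finite_subcover (fun V : 𝒱 => g '' (V.1.1 : Set X'))
    (fun V => hopen _ V.1.1.isOpen) hcov
  have hle : ∀ j : ↥t, j.1.1.1 ≤ g ⁻¹ᵁ U := fun j => j.1.2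
  letI : ∀ j : ↥t, Algebra Γ(X, U) Γ(X', j.1.1.1) :=
    fun j => (g.appLE U j.1.1.1 (hle j)).hom.toAlgebra
  haveI : ∀ j : ↥t, Module.Flat Γ(X, U) Γ(X', j.1.1.1) :=
    fun j => g.flat_appLE hU j.1.1.2 (hle j)
  refine lock_of_family (fun j : ↥t => Γ(X', j.1.1.1)) k hk ?_ _ ?_
  · intro 𝔭 h𝔭
    have hpt : hU.fromSpec ⟨𝔭, h𝔭⟩ ∈ (U : Set X) := fromSpec_mem hU _
    obtain ⟨V, hVt, x', hx'V, hx'⟩ := Set.mem_iUnion₂.mp (ht hpt)
    refine ⟨⟨V, hVt⟩, (V.1.2.primeIdealOf ⟨x', hx'V⟩).asIdeal, inferInstance, ?_⟩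
    have h1 := IsAffineOpen.comap_primeIdealOf_appLE (f := g) (x := x') U hU V.1.1 V.1.2
      V.2 hx'V
    have h2 : hU.primeIdealOf ⟨g x', V.2 hx'V⟩ = ⟨𝔭, h𝔭⟩ := by
      have h3 := primeIdealOf_fromSpec hU ⟨𝔭, h𝔭⟩ (fromSpec_mem hU _)
      rw [← h3]
      congr 1
      exact Subtype.ext hx'
    rw [h2] at h1
    exact congrArg PrimeSpectrum.asIdeal h1
  · intro j
    obtain ⟨hcl, hker⟩ := ker_of_isPullback i g i' g' hsq U hU j.1.1.1 j.1.1.2 (hle j)
    haveI := hcl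
    have h1 := lock_ker k hk i' hi' j.1.1.1 j.1.1.2
    rw [hker] at h1
    exact h1

/-- descent of regular immersions of kind `k` along a flat surjective open base change -/
theorem main_open (k : RegImm.Kind) (hk : k ≠ RegImm.Kind.regular)
    {X Y X' Y' : Scheme.{u}} (i : Y ⟶ X) [IsImmersion i]
    (g : X' ⟶ X) [Flat g] [Surjective g] (hopen : IsOpenMap g)
    (i' : Y' ⟶ X') (g' : Y' ⟶ Y) (hsq : IsPullback g' i' i g)
    (hi' : RegImm.IsRegularImmersion k i') : RegImm.IsRegularImmersion k i := by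
  refine ⟨inferInstance, fun y => ?_⟩
  have hycob : i y ∈ i.coborderRange := subset_coborder (Set.mem_range_self y)
  obtain ⟨_, ⟨U, hU, rfl⟩, hyU, hUle⟩ :=
    (X.isBasis_affineOpens).exists_subset_of_mem_open hycob i.coborderRange.isOpen
  haveI hcl : IsClosedImmersion (i ∣_ U) :=
    Groth.Agent.Helper18.SymAlg.isClosedImmersion_restrict_of_le_coborderRange i U hUle
  exact regAt_of_lock k hk i U hU (lock_ker_descent_open k hk i g hopen i' g' hsq hi' U hU) y hyU

end Groth.Agent.Helper2.KindDescOpen
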