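import Mathlib
import Groth.Prelude.Def_LCI2
import Groth.Prelude.Def_ega3
import Groth.Agent.Lib.Helper21.KL5

/-!
# Koszul complexes with module coefficients: arbitrary direct sums, and lifting along a
square-zero (nilpotent) thickening of the base without Noetherian hypotheses
-/

set_option autoImplicit false
universe u
open CategoryTheory CategoryTheory.Limits CochainComplex HomComplex TensorProduct Pointwise

namespace Groth.Agent.Helper2.KosSum

open Groth.Agent.Helper21.KL Groth.Agent.Helper21.KF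

section Fs

variable {R : Type u} [CommRing R] (ι : Type u)

/-- the functor `M ↦ ι →₀ M` -/
noncomputable def fs : ModuleCat.{u} R ⥤ ModuleCat.{u} R where
  obj M := ModuleCat.of R (ι →₀ M)
  map f := ModuleCat.ofHom (Finsupp.mapRange.linearMap f.hom)
  map_id M := by
    apply ModuleCat.hom_ext
    apply LinearMap.ext
    intro v
    apply Finsupp.ext
    intro j
    rfl
  map_comp f g := by
    apply ModuleCat.hom_ext
    apply LinearMap.ext
    intro v
    apply Finsupp.ext
    intro j
    rfl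

instance : (fs (R := R) ι).Additive where
  map_add {M N f g} := by
    apply ModuleCat.hom_ext
    apply LinearMap.ext
    intro v
    apply Finsupp.ext
    intro j
    rfl

theorem fs_map_smul {M N : ModuleCat.{u} R} (x : R) (f : M ⟶ N) :
    (fs ι).map (x • f) = x • (fs ι).map f := by
  apply ModuleCat.hom_ext
  apply LinearMap.ext
  intro v
  apply Finsupp.ext
  intro j
  rfl

theorem map_smul_id (x : R) (K : CochainComplex (ModuleCat.{u} R) ℤ) :
    ((fs ι).mapHomologicalComplex (ComplexShape.up ℤ)).map (x • 𝟙 K) =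
      x • 𝟙 (((fs ι).mapHomologicalComplex (ComplexShape.up ℤ)).obj K) := by
  ext n : 1
  show (fs ι).map (x • 𝟙 (K.X n)) = x • 𝟙 ((fs ι).obj (K.X n))
  rw [fs_map_smul, CategoryTheory.Functor.map_id]

theorem nonempty_fs_iso (M : ModuleCat.{u} R) : ∀ xs : List R,
    Nonempty (((fs ι).mapHomologicalComplex (ComplexShape.up ℤ)).obj
      (CohIII.koszulCx M xs) ≅ CohIII.koszulCx ((fs ι).obj M) xs)
  | [] => ⟨(HomologicalComplex.singleMapHomologicalComplex (fs ι)
      (ComplexShape.up ℤ) 0).app M⟩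
  | x :: xs => by
    obtain ⟨e⟩ := nonempty_fs_iso M xs
    let e1 := mappingCone.mapHomologicalComplexIso (x • 𝟙 (CohIII.koszulCx M xs)) (fs ι)
    have key : ∀ ψ : ((fs ι).mapHomologicalComplex (ComplexShape.up ℤ)).obj
        (CohIII.koszulCx M xs) ⟶ _, ψ = x • 𝟙 _ →
        Nonempty (mappingCone ψ ≅
          mappingCone (x • 𝟙 (CohIII.koszulCx ((fs ι).obj M) xs))) := by
      rintro ψ rfl
      exact ⟨coneIso e x⟩
    obtain ⟨e2⟩ := key _ (map_smul_id ι x _)
    exact ⟨e1 ≪≫ e2⟩

theorem isZero_homology_map (K : CochainComplex (ModuleCat.{u} R) ℤ) (i : ℤ)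
    (h : IsZero (K.homology i)) :
    IsZero ((((fs ι).mapHomologicalComplex (ComplexShape.up ℤ)).obj K).homology i) := by
  classical
  have h1 : (K.sc i).Exact := (K.exactAt_iff_isZero_homology i).mpr h
  rw [ShortComplex.moduleCat_exact_iff] at h1
  apply (HomologicalComplex.exactAt_iff_isZero_homology _ i).mp
  show ((((fs ι).mapHomologicalComplex (ComplexShape.up ℤ)).obj K).sc i).Exact
  rw [ShortComplex.moduleCat_exact_iff]
  intro y hy
  -- a choice of preimages
  let c : (K.sc i).X₂ → (K.sc i).X₁ := fun v =>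
    if hv : (K.sc i).g v = 0 ∧ v ≠ 0 then (h1 v hv.1).choose else 0
  have hc0 : c 0 = 0 := by
    show (if hv : (K.sc i).g 0 = 0 ∧ (0 : (K.sc i).X₂) ≠ 0 then _ else 0) = 0
    rw [dif_neg]
    rintro ⟨-, h0⟩
    exact h0 rfl
  have hc : ∀ v, (K.sc i).g v = 0 → (K.sc i).f (c v) = v := by
    intro v hv
    by_cases hv0 : v = 0
    · rw [hv0, hc0, map_zero]
    · show (K.sc i).f (if hv : (K.sc i).g v = 0 ∧ v ≠ 0 then (h1 v hv.1).choose else 0) = v
      rw [dif_pos ⟨hv, hv0⟩]
      exact (h1 v hv).choose_spec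
  let y' : ι →₀ (K.sc i).X₂ := y
  have hy' : Finsupp.mapRange.linearMap (K.sc i).g.hom y' = 0 := hy
  have hyj : ∀ j : ι, (K.sc i).g (y' j) = 0 := by
    intro j
    have := DFunLike.congr_fun hy' j
    exact this
  refine ⟨Finsupp.mapRange c hc0 y', ?_⟩
  show Finsupp.mapRange.linearMap (K.sc i).f.hom (Finsupp.mapRange c hc0 y') = y'
  apply Finsupp.ext
  intro j
  exact hc _ (hyj j)

end Fs

section Acyc

variable {R : Type u} [CommRing R] (xs : List R)

theorem AcycAt.finsupp {M : Type u} [AddCommGroup M] [Module R M] {i : ℤ} (hM : AcycAt xs M i)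
    (ι : Type u) : AcycAt xs (ι →₀ M) i := by
  obtain ⟨e⟩ := nonempty_fs_iso ι (ModuleCat.of R M) xs
  exact (isZero_homology_map ι _ i hM).of_iso
    ((HomologicalComplex.homologyFunctor (ModuleCat.{u} R) (ComplexShape.up ℤ) i).mapIso e).symm

end Acyc

section Killed

variable {A B : Type u} [CommRing A] [CommRing B] [Algebra A B] (I : Ideal A)

theorem exists_surjective_of_killed (N : Type u) [AddCommGroup N] [Module A N]
    (hN : ∀ a ∈ I, ∀ y : N, a • y = 0) :
    ∃ p : (N →₀ A ⧸ I) →ₗ[A] N, Function.Surjective p := by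
  classical
  have hle : ∀ y : N, I ≤ LinearMap.ker (LinearMap.toSpanSingleton A N y) := by
    intro y a ha
    rw [LinearMap.mem_ker, LinearMap.toSpanSingleton_apply]
    exact hN a ha _
  let q : N → ((A ⧸ I) →ₗ[A] N) := fun y =>
    Submodule.liftQ I (LinearMap.toSpanSingleton A N y) (hle y)
  refine ⟨Finsupp.lsum ℕ q, ?_⟩
  intro y
  refine ⟨Finsupp.single y 1, ?_⟩
  rw [Finsupp.lsum_single]
  show Submodule.liftQ I (LinearMap.toSpanSingleton A N y) (hle y)
    (Submodule.Quotient.mk 1) = y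
  rw [Submodule.liftQ_apply, LinearMap.toSpanSingleton_apply, one_smul]

theorem smul_finsupp_quot_eq_zero (ι : Type u) (a : A) (ha : a ∈ I) (v : ι →₀ A ⧸ I) :
    a • v = 0 := by
  apply Finsupp.ext
  intro k
  rw [Finsupp.smul_apply, Finsupp.zero_apply, Algebra.smul_def, Ideal.Quotient.algebraMap_eq,
    Ideal.Quotient.eq_zero_iff_mem.mpr ha, zero_mul]

variable (xs : List B) [Module.Flat A B] [Module.Flat A (B ⧸ Ideal.ofList xs)]

theorem acycAt_free (h0 : ∀ i : ℤ, i ≠ 0 → AcycAt xs (B ⊗[A] (A ⧸ I)) i) (ι : Type u)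
    (i : ℤ) (hi : i ≠ 0) : AcycAt xs (B ⊗[A] (ι →₀ A ⧸ I)) i := by
  classical
  exact (AcycAt.finsupp xs (h0 i hi) ι).of_linearEquiv
    (TensorProduct.finsuppRight A B B (A ⧸ I) ι).symm

omit [Module.Flat A (B ⧸ Ideal.ofList xs)] in
theorem step_succ {F N : Type u} [AddCommGroup F] [Module A F] [AddCommGroup N] [Module A N]
    (p : F →ₗ[A] N) (hp : Function.Surjective p) {i j : ℤ} (hij : i + 1 = j)
    (hF : AcycAt xs (B ⊗[A] F) i) (hK : AcycAt xs (B ⊗[A] (LinearMap.ker p)) j) :
    AcycAt xs (B ⊗[A] N) i := by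
  have hinj := Submodule.injective_subtype (LinearMap.ker p)
  have hex := LinearMap.exact_subtype_ker_map p
  exact AcycAt.shift xs ((LinearMap.ker p).subtype.baseChange B) (p.baseChange B)
    (baseChange_injective _ hinj) (baseChange_surjective p hp)
    (baseChange_exact _ p hp hex) hij hF hK

theorem step_zero {F N : Type u} [AddCommGroup F] [Module A F] [AddCommGroup N] [Module A N]
    (p : F →ₗ[A] N) (hp : Function.Surjective p)
    (hF : AcycAt xs (B ⊗[A] F) (-1)) : AcycAt xs (B ⊗[A] N) (-1) := by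
  have hinj := Submodule.injective_subtype (LinearMap.ker p)
  have hex := LinearMap.exact_subtype_ker_map p
  refine AcycAt.shift_top xs ((LinearMap.ker p).subtype.baseChange B) (p.baseChange B)
    (baseChange_injective _ hinj) (baseChange_surjective p hp)
    (baseChange_exact _ p hp hex) hF ?_
  rw [injective_homologyMap_kMap_iff]
  intro m' hm'
  have h1 := (mem_smul_top_iff (Ideal.ofList xs) _ _).mp hm'
  have h1' : (mkA (A := A) (Ideal.ofList xs)).rTensor F
      ((LinearMap.ker p).subtype.lTensor B m') = 0 := h1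
  rw [rTensor_lTensor] at h1'
  have h2 := Module.Flat.lTensor_preserves_injective_linearMap
    (M := B ⧸ Ideal.ofList xs) _ hinj
  exact (mem_smul_top_iff (Ideal.ofList xs) _ m').mpr (h2 (h1'.trans (map_zero _).symm))

/-- Dimension shifting: acyclicity for arbitrary modules killed by `I`. -/
theorem acycAt_of_killed_neg (h0 : ∀ i : ℤ, i ≠ 0 → AcycAt xs (B ⊗[A] (A ⧸ I)) i) :
    ∀ (j : ℕ) (N : Type u) [AddCommGroup N] [Module A N],
      (∀ a ∈ I, ∀ y : N, a • y = 0) → AcycAt xs (B ⊗[A] N) (-((j : ℤ) + 1)) := by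
  classical
  intro j
  induction j with
  | zero =>
    intro N _ _ hN
    obtain ⟨p, hp⟩ := exists_surjective_of_killed I N hN
    have hF : ∀ i : ℤ, i ≠ 0 → AcycAt xs (B ⊗[A] (N →₀ A ⧸ I)) i := acycAt_free I xs h0 N
    have h := step_zero xs p hp (hF (-1) (by norm_num))
    simpa using h
  | succ j ih =>
    intro N _ _ hN
    obtain ⟨p, hp⟩ := exists_surjective_of_killed I N hN
    have hF : ∀ i : ℤ, i ≠ 0 → AcycAt xs (B ⊗[A] (N →₀ A ⧸ I)) i := acycAt_free I xs h0 N
    have hK : ∀ a ∈ I, ∀ y : LinearMap.ker p, a • y = 0 := fun a ha y =>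
      Subtype.ext (smul_finsupp_quot_eq_zero I N a ha y.1)
    have hij : (-(((j + 1 : ℕ) : ℤ) + 1)) + 1 = -((j : ℤ) + 1) := by push_cast; ring
    have hne : (-(((j + 1 : ℕ) : ℤ) + 1)) ≠ 0 := by
      have : (0:ℤ) ≤ ((j + 1 : ℕ) : ℤ) := by positivity
      omega
    exact step_succ xs p hp hij (hF _ hne) (ih (LinearMap.ker p) hK)

theorem acycAt_of_killed (h0 : ∀ i : ℤ, i ≠ 0 → AcycAt xs (B ⊗[A] (A ⧸ I)) i)
    (N : Type u) [AddCommGroup N] [Module A N]
    (hN : ∀ a ∈ I, ∀ y : N, a • y = 0) (i : ℤ) (hi : i ≠ 0) : AcycAt xs (B ⊗[A] N) i := by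
  rcases lt_or_gt_of_ne hi with h | h
  · have := acycAt_of_killed_neg I xs h0 (-i - 1).toNat N hN
    have e : -(((-i - 1).toNat : ℤ) + 1) = i := by
      rw [Int.toNat_of_nonneg (by omega)]
      ring
    rwa [e] at this
  · exact AcycAt.of_pos xs _ i h

/-- Acyclicity for arbitrary modules killed by a power of `I`. -/
theorem acycAt_of_pow (h0 : ∀ i : ℤ, i ≠ 0 → AcycAt xs (B ⊗[A] (A ⧸ I)) i) :
    ∀ (n : ℕ) (N : Type u) [AddCommGroup N] [Module A N],
      I ^ n • (⊤ : Submodule A N) = ⊥ → ∀ i : ℤ, i ≠ 0 → AcycAt xs (B ⊗[A] N) i := by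
  intro n
  induction n with
  | zero =>
    intro N _ _ hN i _
    rw [pow_zero, Ideal.one_eq_top, Submodule.top_smul] at hN
    have hs : Subsingleton (Submodule A N) := subsingleton_of_bot_eq_top hN.symm
    haveI : Subsingleton N := (Submodule.subsingleton_iff A).mp hs
    haveI := subsingleton_tensor (A := A) (B := B) N
    exact AcycAt.of_subsingleton xs _ i
  | succ n ih =>
    intro N _ _ hN i hi
    let N₁ : Submodule A N := I • ⊤
    have h1 : I ^ n • (⊤ : Submodule A N₁) = ⊥ := by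
      rw [eq_bot_iff]
      intro x hx
      rw [Submodule.mem_bot]
      apply Subtype.ext
      have hx' : (N₁.subtype x) ∈ I ^ n • N₁ := by
        refine Submodule.smul_induction_on hx (fun a ha y _ => ?_) (fun x y hx hy => ?_)
        · rw [_root_.map_smul]
          exact Submodule.smul_mem_smul ha y.2
        · rw [map_add]
          exact Submodule.add_mem _ hx hy
      have : I ^ n • N₁ = ⊥ := by
        show I ^ n • (I • (⊤ : Submodule A N)) = ⊥
        rw [← Submodule.mul_smul, ← pow_succ, hN]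
      rw [this, Submodule.mem_bot] at hx'
      exact hx'
    have h2 : ∀ a ∈ I, ∀ y : N ⧸ N₁, a • y = 0 := by
      intro a ha y
      obtain ⟨y, rfl⟩ := Submodule.Quotient.mk_surjective N₁ y
      rw [← Submodule.Quotient.mk_smul, Submodule.Quotient.mk_eq_zero]
      exact Submodule.smul_mem_smul ha Submodule.mem_top
    exact AcycAt.mid xs (N₁.subtype.baseChange B) (N₁.mkQ.baseChange B)
      (baseChange_injective _ (Submodule.injective_subtype N₁))
      (baseChange_surjective _ (Submodule.mkQ_surjective N₁))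
      (baseChange_exact _ _ (Submodule.mkQ_surjective N₁) (LinearMap.exact_subtype_mkQ N₁))
      (ih N₁ h1 i hi) (acycAt_of_killed I xs h0 (N ⧸ N₁) h2 i hi)

end Killed

/-- **Main theorem, no Noetherian hypothesis.** `I` a nilpotent ideal of `A`, `B` a flat
`A`-algebra and `xs` a list in `B` whose Koszul complex with coefficients in `B/IB` is acyclic off
degree zero and such that `(B/(xs))/I` is flat over `A/I`.  Then `B/(xs)` is flat over `A` and the
Koszul complex of `xs` is acyclic off degree zero. -/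
theorem main {A B : Type u} [CommRing A] [CommRing B] [Algebra A B]
    [Module.Flat A B] (xs : List B) (I : Ideal A) (n : ℕ)
    (hn : I ^ n = ⊥) (h0 : ∀ i : ℤ, i ≠ 0 → AcycAt xs (B ⊗[A] (A ⧸ I)) i)
    [H2 : Module.Flat (A ⧸ I) ((A ⧸ I) ⊗[A] (B ⧸ Ideal.ofList xs))] :
    Module.Flat A (B ⧸ Ideal.ofList xs) ∧ ∀ i : ℤ, i ≠ 0 → AcycAt xs B i := by
  have hflat : Module.Flat A (B ⧸ Ideal.ofList xs) := by
    apply Groth.Agent.Helper21.LCV.flat_of_isNilpotent I ⟨n, hn⟩
    rw [← LinearMap.lTensor_inj_iff_rTensor_inj]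
    exact lTensor_quot_injective I.subtype I.mkQ (Submodule.injective_subtype I)
      (Submodule.mkQ_surjective I) (LinearMap.exact_subtype_mkQ I) xs (h0 (-1) (by norm_num))
  refine ⟨hflat, fun i hi => ?_⟩
  have h := acycAt_of_pow I xs h0 n A (by rw [hn, Submodule.bot_smul]) i hi
  exact h.of_linearEquiv (TensorProduct.AlgebraTensorModule.rid A B B)

end Groth.Agent.Helper2.KosSum
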