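import Mathlib

namespace Groth.Agent.Lib.Helper2.KrullInf

/-- the dimension of a finite union of closed subsets is at most the maximum of the dimensions -/
theorem ringKrullDim_quot_finsetInf_le {R : Type*} [CommRing R] {ι : Type*} (s : Finset ι)
    (I : ι → Ideal R) (N : WithBot ℕ∞) (h : ∀ i ∈ s, ringKrullDim (R ⧸ I i) ≤ N) :
    ringKrullDim (R ⧸ s.inf I) ≤ N := by
  rw [ringKrullDim_quotient, Order.krullDim]
  apply iSup_le
  intro p
  have hq : s.inf I ≤ p.head.1.asIdeal := p.head.2
  obtain ⟨i, his, hi⟩ := (Ideal.IsPrime.inf_le' p.head.1.2).mp hq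
  have hmem : ∀ j, (p j).1 ∈ PrimeSpectrum.zeroLocus (R := R) (I i) := by
    intro j
    have h1 : p.head ≤ p j := LTSeries.head_le p j
    have h2 : p.head.1.asIdeal ≤ (p j).1.asIdeal := h1
    exact le_trans hi h2
  let p' : LTSeries (PrimeSpectrum.zeroLocus (R := R) (I i)) :=
    { length := p.length
      toFun := fun j => ⟨(p j).1, hmem j⟩
      step := fun j => p.step j }
  have h3 : (p'.length : WithBot ℕ∞) ≤ Order.krullDim (PrimeSpectrum.zeroLocus (R := R) (I i)) :=
    Order.LTSeries.length_le_krullDim p'
  rw [← ringKrullDim_quotient] at h3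
  exact le_trans h3 (h i his)

/-- the dimension of a localization is at most the dimension of the ring -/
theorem ringKrullDim_le_of_isLocalization {R S : Type*} [CommRing R] [CommRing S] [Algebra R S]
    (M : Submonoid R) [IsLocalization M S] : ringKrullDim S ≤ ringKrullDim R := by
  rw [ringKrullDim_le_iff_height_le]
  intro q hq
  rw [← IsLocalization.height_under M q]
  haveI : (q.under R).IsPrime := Ideal.IsPrime.under R q
  exact Ideal.height_le_ringKrullDim_of_ne_top Ideal.IsPrime.ne_top'

end Groth.Agent.Lib.Helper2.KrullInf
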