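import Mathlib
import Groth.Agent.Lib.Helper2.LCSpec1

/-!
# The ring map `LC(T, A') → B` attached to a continuous map `Spec B → T` (helper2)
-/

set_option autoImplicit false

universe u

namespace Groth.Agent.Helper2.LCHom

open LocallyConstant Topology TopologicalSpace
open Groth.Agent.Helper2.LCSpec

variable {B : Type*} [CommRing B]

/-- equality in the local ring at `y` -/
def LocEq (y : PrimeSpectrum B) (b b' : B) : Prop := ∃ s : B, s ∉ y.asIdeal ∧ s * (b - b') = 0

theorem locEq_refl (y : PrimeSpectrum B) (b : B) : LocEq y b b :=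
  ⟨1, y.isPrime.one_notMem, by rw [sub_self, mul_zero]⟩

theorem LocEq.trans_symm {y : PrimeSpectrum B} {a b c : B} (h₁ : LocEq y a c) (h₂ : LocEq y b c) :
    LocEq y a b := by
  obtain ⟨s₁, hs₁, e₁⟩ := h₁
  obtain ⟨s₂, hs₂, e₂⟩ := h₂
  refine ⟨s₁ * s₂, fun h => (y.isPrime.mem_or_mem h).elim hs₁ hs₂, ?_⟩
  linear_combination s₂ * e₁ - s₁ * e₂

theorem LocEq.add {y : PrimeSpectrum B} {a a' b b' : B} (h₁ : LocEq y a a') (h₂ : LocEq y b b') :
    LocEq y (a + b) (a' + b') := by
  obtain ⟨s₁, hs₁, e₁⟩ := h₁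
  obtain ⟨s₂, hs₂, e₂⟩ := h₂
  refine ⟨s₁ * s₂, fun h => (y.isPrime.mem_or_mem h).elim hs₁ hs₂, ?_⟩
  linear_combination s₂ * e₁ + s₁ * e₂

theorem LocEq.mul {y : PrimeSpectrum B} {a a' b b' : B} (h₁ : LocEq y a a') (h₂ : LocEq y b b') :
    LocEq y (a * b) (a' * b') := by
  obtain ⟨s₁, hs₁, e₁⟩ := h₁
  obtain ⟨s₂, hs₂, e₂⟩ := h₂
  refine ⟨s₁ * s₂, fun h => (y.isPrime.mem_or_mem h).elim hs₁ hs₂, ?_⟩
  linear_combination (s₂ * b) * e₁ + (s₁ * a') * e₂

theorem LocEq.mem_iff {y : PrimeSpectrum B} {a b : B} (h : LocEq y a b) :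
    a ∈ y.asIdeal ↔ b ∈ y.asIdeal := by
  obtain ⟨s, hs, e⟩ := h
  have e' : s * a = s * b := by linear_combination e
  constructor
  · intro ha
    have : s * b ∈ y.asIdeal := by rw [← e']; exact y.asIdeal.mul_mem_left _ ha
    exact (y.isPrime.mem_or_mem this).resolve_left hs
  · intro hb
    have : s * a ∈ y.asIdeal := by rw [e']; exact y.asIdeal.mul_mem_left _ hb
    exact (y.isPrime.mem_or_mem this).resolve_left hs

theorem eq_of_forall_locEq {a b : B} (h : ∀ y : PrimeSpectrum B, LocEq y a b) : a = b := by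
  by_contra hne
  let J : Ideal B := Submodule.comap (LinearMap.mulRight B (a - b)) ⊥
  have hJ : ∀ s, s ∈ J ↔ s * (a - b) = 0 := fun s => Iff.rfl
  have hJne : J ≠ ⊤ := by
    intro htop
    have h1 : (1 : B) ∈ J := by rw [htop]; exact Submodule.mem_top
    rw [hJ, one_mul, sub_eq_zero] at h1
    exact hne h1
  obtain ⟨m, hm, hJm⟩ := Ideal.exists_le_maximal J hJne
  obtain ⟨s, hs, e⟩ := h ⟨m, hm.isPrime⟩
  exact hs (hJm ((hJ s).mpr e))

theorem eq_of_locEq_both {a b : B} {c : PrimeSpectrum B → B}
    (h₁ : ∀ y, LocEq y a (c y)) (h₂ : ∀ y, LocEq y b (c y)) : a = b :=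
  eq_of_forall_locEq fun y => (h₁ y).trans_symm (h₂ y)

section Glue

variable {T : Type*} [TopologicalSpace T] [CompactSpace T]
variable {A' : Type*} [CommRing A'] [Algebra A' B]
variable (τ : C(PrimeSpectrum B, T))

theorem exists_glue (F : LocallyConstant T A') :
    ∃ b : B, ∀ y : PrimeSpectrum B, LocEq y b (algebraMap A' B (F (τ y))) := by
  have key : ∃ (U : Set T) (_ : IsClopen U), Set.univ ⊆ U ∧
      ∃ b : B, ∀ y : PrimeSpectrum B, τ y ∈ U → LocEq y b (algebraMap A' B (F (τ y))) := by
    apply IsCompact.induction_on isCompact_univ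
      (p := fun S => ∃ (U : Set T) (_ : IsClopen U), S ⊆ U ∧
        ∃ b : B, ∀ y : PrimeSpectrum B, τ y ∈ U → LocEq y b (algebraMap A' B (F (τ y))))
    · exact ⟨∅, isClopen_empty, subset_rfl, 0, fun y hy => absurd hy (Set.notMem_empty _)⟩
    · rintro s t hst ⟨U, hU, htU, hb⟩
      exact ⟨U, hU, hst.trans htU, hb⟩
    · rintro s t ⟨U, hU, hsU, b, hb⟩ ⟨V, hV, htV, b', hb'⟩
      refine ⟨U ∪ V, hU.union hV, Set.union_subset_union hsU htV, ?_⟩
      have hclo : IsClopen (τ ⁻¹' U) := hU.preimage τ.continuous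
      obtain ⟨e, he, hUe⟩ := PrimeSpectrum.exists_idempotent_basicOpen_eq_of_isClopen hclo
      have hee : e * e = e := he
      refine ⟨e * b + (1 - e) * b', ?_⟩
      intro y hy
      by_cases hyU : τ y ∈ U
      · have hey : e ∉ y.asIdeal := by
          have : y ∈ τ ⁻¹' U := hyU
          rw [hUe] at this
          exact this
        have h1 : LocEq y (e * b + (1 - e) * b') b :=
          ⟨e, hey, by linear_combination (b - b') * hee⟩
        obtain ⟨s₁, hs₁, e₁⟩ := h1
        obtain ⟨s₂, hs₂, e₂⟩ := hb y hyU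
        refine ⟨s₁ * s₂, fun h => (y.isPrime.mem_or_mem h).elim hs₁ hs₂, ?_⟩
        linear_combination s₂ * e₁ + s₁ * e₂
      · have hyV : τ y ∈ V := hy.resolve_left hyU
        have hey : e ∈ y.asIdeal := by
          by_contra h
          apply hyU
          have : y ∈ (PrimeSpectrum.basicOpen e : Set (PrimeSpectrum B)) := h
          rw [← hUe] at this
          exact this
        have h1e : (1 - e) ∉ y.asIdeal := by
          intro h
          apply y.isPrime.one_notMem
          have := y.asIdeal.add_mem h hey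
          rwa [sub_add_cancel] at this
        have h1 : LocEq y (e * b + (1 - e) * b') b' :=
          ⟨1 - e, h1e, by linear_combination (b' - b) * hee⟩
        obtain ⟨s₁, hs₁, e₁⟩ := h1
        obtain ⟨s₂, hs₂, e₂⟩ := hb' y hyV
        refine ⟨s₁ * s₂, fun h => (y.isPrime.mem_or_mem h).elim hs₁ hs₂, ?_⟩
        linear_combination s₂ * e₁ + s₁ * e₂
    · intro t _
      let U : Set T := F ⁻¹' {F t}
      have hU : IsClopen U := F.isLocallyConstant.isClopen_fiber _
      refine ⟨U, mem_nhdsWithin_of_mem_nhds (hU.isOpen.mem_nhds rfl), U, hU, subset_rfl,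
        algebraMap A' B (F t), ?_⟩
      intro y hy
      have : F (τ y) = F t := hy
      rw [this]
      exact locEq_refl y _
  obtain ⟨U, hU, hsub, b, hb⟩ := key
  exact ⟨b, fun y => hb y (hsub (Set.mem_univ _))⟩

/-- the glued element -/
noncomputable def glue (F : LocallyConstant T A') : B := (exists_glue τ F).choose

theorem glue_spec (F : LocallyConstant T A') (y : PrimeSpectrum B) :
    LocEq y (glue τ F) (algebraMap A' B (F (τ y))) := (exists_glue τ F).choose_spec y

/-- the ring map `LC(T, A') → B` -/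
noncomputable def glueHom : LocallyConstant T A' →+* B where
  toFun := glue τ
  map_one' := by
    apply eq_of_locEq_both (c := fun _ => 1) (fun y => ?_) (fun y => locEq_refl y 1)
    have := glue_spec τ (1 : LocallyConstant T A') y
    rwa [LocallyConstant.one_apply, map_one] at this
  map_mul' F G := by
    apply eq_of_locEq_both
      (c := fun y => algebraMap A' B (F (τ y)) * algebraMap A' B (G (τ y))) (fun y => ?_)
      (fun y => (glue_spec τ F y).mul (glue_spec τ G y))
    have := glue_spec τ (F * G) y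
    rwa [LocallyConstant.mul_apply, map_mul] at this
  map_zero' := by
    apply eq_of_locEq_both (c := fun _ => 0) (fun y => ?_) (fun y => locEq_refl y 0)
    have := glue_spec τ (0 : LocallyConstant T A') y
    rwa [LocallyConstant.zero_apply, map_zero] at this
  map_add' F G := by
    apply eq_of_locEq_both
      (c := fun y => algebraMap A' B (F (τ y)) + algebraMap A' B (G (τ y))) (fun y => ?_)
      (fun y => (glue_spec τ F y).add (glue_spec τ G y))
    have := glue_spec τ (F + G) y
    rwa [LocallyConstant.add_apply, map_add] at this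

theorem glueHom_spec (F : LocallyConstant T A') (y : PrimeSpectrum B) :
    LocEq y (glueHom τ F) (algebraMap A' B (F (τ y))) := glue_spec τ F y

theorem glueHom_algebraMap (a : A') :
    glueHom τ (algebraMap A' (LocallyConstant T A') a) = algebraMap A' B a :=
  eq_of_locEq_both (c := fun _ => algebraMap A' B a) (fun y => glueHom_spec τ _ y)
    (fun y => locEq_refl y _)

theorem glueHom_mem_iff (F : LocallyConstant T A') (y : PrimeSpectrum B) :
    glueHom τ F ∈ y.asIdeal ↔ algebraMap A' B (F (τ y)) ∈ y.asIdeal :=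
  (glueHom_spec τ F y).mem_iff

end Glue

end Groth.Agent.Helper2.LCHom
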