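import Mathlib
import Groth.Prelude.Def_EtMil
import Groth.Agent.S2019
import Groth.Agent.S14949
import Groth.Agent.S14952

/-!
# Algebras over a Milnor square: base changes of the glued algebra
-/

set_option autoImplicit false
universe u

namespace Groth.Agent.Helper2.Mil

section
open TensorProduct

variable {B' B A' A : Type u} [CommRing B'] [CommRing B] [CommRing A'] [CommRing A]
    [Algebra B' B] [Algebra B' A'] [Algebra B A] [Algebra A' A] [Algebra B' A]
    [IsScalarTower B' B A] [IsScalarTower B' A' A]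
    {D' D C' C : Type u} [CommRing D'] [CommRing D] [CommRing C'] [CommRing C]
    [Algebra D' D] [Algebra D' C'] [Algebra D C] [Algebra C' C] [Algebra D' C]
    [IsScalarTower D' D C] [IsScalarTower D' C' C]
    [Algebra B' D'] [Algebra B D] [Algebra A' C'] [Algebra A C]
    [Algebra B' D] [IsScalarTower B' B D] [IsScalarTower B' D' D]
    [Algebra B' C'] [IsScalarTower B' A' C'] [IsScalarTower B' D' C']
    [Algebra B C] [IsScalarTower B A C] [IsScalarTower B D C]
    [Algebra A' C] [IsScalarTower A' A C] [IsScalarTower A' C' C]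
    [Algebra.IsPushout B D A C] [Algebra.IsPushout A' C' A C]

variable (B A' A D C' C) in
/-- the gluing isomorphism `A ⊗_B D ≅ C ≅ A ⊗_{A'} C'` -/
noncomputable def phi : A ⊗[B] D ≃ₗ[A] A ⊗[A'] C' :=
  haveI : Algebra.IsPushout B A D C := Algebra.IsPushout.symm inferInstance
  haveI : Algebra.IsPushout A' A C' C := Algebra.IsPushout.symm inferInstance
  (Algebra.IsPushout.equiv B A D C).toLinearEquiv ≪≫ₗ
    (Algebra.IsPushout.equiv A' A C' C).symm.toLinearEquiv

theorem phi_iff (d : D) (c' : C') :
    phi B A' A D C' C ((1 : A) ⊗ₜ[B] d) = (1 : A) ⊗ₜ[A'] c' ↔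
      algebraMap D C d = algebraMap C' C c' := by
  haveI h1 : Algebra.IsPushout B A D C := Algebra.IsPushout.symm inferInstance
  haveI h2 : Algebra.IsPushout A' A C' C := Algebra.IsPushout.symm inferInstance
  have e1 : phi B A' A D C' C ((1 : A) ⊗ₜ[B] d) =
      (Algebra.IsPushout.equiv A' A C' C).symm (algebraMap D C d) := by
    simp only [phi, LinearEquiv.trans_apply, AlgEquiv.toLinearEquiv_apply]
    rw [Algebra.IsPushout.equiv_tmul, map_one, one_mul]
  rw [e1, AlgEquiv.symm_apply_eq, Algebra.IsPushout.equiv_tmul, map_one, one_mul]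

variable (B' B A' A D' D C' C) in
/-- the map `D' → D ×_C C'` into the glued module -/
noncomputable def toGlue : D' →ₗ[B'] ↥(EtMil.glue B' (phi B A' A D C' C)) :=
  LinearMap.codRestrict _
    ((IsScalarTower.toAlgHom B' D' D).toLinearMap.prod (IsScalarTower.toAlgHom B' D' C').toLinearMap)
    (fun d' => by
      change phi B A' A D C' C ((1 : A) ⊗ₜ[B] (algebraMap D' D d')) =
        (1 : A) ⊗ₜ[A'] (algebraMap D' C' d')
      rw [phi_iff, ← IsScalarTower.algebraMap_apply, ← IsScalarTower.algebraMap_apply])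

theorem toGlue_bijective (hsq' : EtMil.IsFibreSquare D' D C' C) :
    Function.Bijective (toGlue B' B A' A D' D C' C) := by
  constructor
  · intro x y hxy
    have h1 : algebraMap D' D x = algebraMap D' D y := congrArg (fun z => z.1.1) hxy
    have h2 : algebraMap D' C' x = algebraMap D' C' y := congrArg (fun z => z.1.2) hxy
    obtain ⟨z, -, hz⟩ := hsq'.2 (algebraMap D' D y) (algebraMap D' C' y)
      (by rw [← IsScalarTower.algebraMap_apply, ← IsScalarTower.algebraMap_apply])
    rw [hz x ⟨h1, h2⟩, hz y ⟨rfl, rfl⟩]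
  · rintro ⟨⟨d, c'⟩, h⟩
    have h' : algebraMap D C d = algebraMap C' C c' := (phi_iff d c').mp h
    obtain ⟨z, ⟨hz1, hz2⟩, -⟩ := hsq'.2 d c' h'
    refine ⟨z, Subtype.ext (Prod.ext hz1 hz2)⟩

/-- `D = B ⊗_{B'} D'` -/
theorem isPushout_left (hsq : EtMil.IsFibreSquare B' B A' A)
    (hsq' : EtMil.IsFibreSquare D' D C' C) : Algebra.IsPushout B' B D' D := by
  constructor
  have hb := (Groth.Agent.S2019.result B' B A' A hsq D C' (phi B A' A D C' C)).1
  have h1 : IsBaseChange B (EtMil.glueFst B' (phi B A' A D C' C)) :=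
    IsBaseChange.of_equiv (LinearEquiv.ofBijective _ hb) (fun x => by
      simp [LinearMap.liftBaseChange_tmul])
  have h2 := IsBaseChange.comp_equiv
    (LinearEquiv.ofBijective (toGlue B' B A' A D' D C' C) (toGlue_bijective hsq')) _ h1
  exact h2

/-- `C' = A' ⊗_{B'} D'` -/
theorem isPushout_right (hsq : EtMil.IsFibreSquare B' B A' A)
    (hsq' : EtMil.IsFibreSquare D' D C' C) : Algebra.IsPushout B' A' D' C' := by
  constructor
  have hb := (Groth.Agent.S2019.result B' B A' A hsq D C' (phi B A' A D C' C)).2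
  have h1 : IsBaseChange A' (EtMil.glueSnd B' (phi B A' A D C' C)) :=
    IsBaseChange.of_equiv (LinearEquiv.ofBijective _ hb) (fun x => by
      simp [LinearMap.liftBaseChange_tmul])
  have h2 := IsBaseChange.comp_equiv
    (LinearEquiv.ofBijective (toGlue B' B A' A D' D C' C) (toGlue_bijective hsq')) _ h1
  exact h2

end

end Groth.Agent.Helper2.Mil
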