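import Mathlib
import Groth.Prelude.Def_EtMil
import Groth.Agent.Lib.Helper2.Mil1

/-!
# Algebras over a Milnor square: finite type descends to the glued algebra
-/

set_option autoImplicit false
universe u

namespace Groth.Agent.Helper2.Mil

section
open TensorProduct

/-- if the image of `E` spans the base change, then `R₁ ⊗ (M/E) = 0` -/
theorem subsingleton_tensor_quotient_of_span {R R₁ M M₁ : Type u} [CommRing R] [CommRing R₁]
    [Algebra R R₁] [AddCommGroup M] [Module R M] [AddCommGroup M₁] [Module R M₁] [Module R₁ M₁]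
    [IsScalarTower R R₁ M₁] (f : M →ₗ[R] M₁) (hf : IsBaseChange R₁ f) (E : Submodule R M)
    (hE : Submodule.span R₁ (f '' (E : Set M)) = ⊤) : Subsingleton (R₁ ⊗[R] (M ⧸ E)) := by
  let g : M₁ →ₗ[R₁] R₁ ⊗[R] (M ⧸ E) := (E.mkQ.baseChange R₁) ∘ₗ hf.equiv.symm.toLinearMap
  have hg0 : g = 0 := by
    have : Submodule.span R₁ (f '' (E : Set M)) ≤ LinearMap.ker g := by
      rw [Submodule.span_le]
      rintro _ ⟨e, he, rfl⟩
      simp only [SetLike.mem_coe, LinearMap.mem_ker, g, LinearMap.comp_apply, LinearEquiv.coe_coe]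
      rw [hf.equiv_symm_apply, LinearMap.baseChange_tmul]
      simp [(Submodule.Quotient.mk_eq_zero E).mpr he]
    rw [hE, top_le_iff, LinearMap.ker_eq_top] at this
    exact this
  have hgs : Function.Surjective g := by
    intro z
    obtain ⟨w, hw⟩ := LinearMap.lTensor_surjective R₁ (Submodule.mkQ_surjective E) z
    refine ⟨hf.equiv w, ?_⟩
    change (E.mkQ.baseChange R₁) (hf.equiv.symm (hf.equiv w)) = _
    rw [LinearEquiv.symm_apply_apply, LinearMap.baseChange_eq_ltensor]
    exact hw
  refine ⟨fun x y => ?_⟩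
  obtain ⟨a, rfl⟩ := hgs x
  obtain ⟨b, rfl⟩ := hgs y
  simp [hg0]

/-- the span of the image of a subalgebra is everything once it contains algebra generators -/
theorem span_image_eq_top {R R₁ D' D₁ : Type u} [CommRing R] [CommRing R₁] [Algebra R R₁]
    [CommRing D'] [Algebra R D'] [CommRing D₁] [Algebra R D₁] [Algebra R₁ D₁]
    [IsScalarTower R R₁ D₁] (f : D' →ₐ[R] D₁) (E : Subalgebra R D') (t : Set D₁)
    (ht : Algebra.adjoin R₁ t = ⊤)
    (hsub : t ⊆ Submodule.span R₁ (f '' (E : Set D'))) :
    Submodule.span R₁ (f '' (E : Set D')) = ⊤ := by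
  set M := Submodule.span R₁ (f '' (E : Set D')) with hM
  have h1 : (1 : D₁) ∈ M := Submodule.subset_span ⟨1, E.one_mem, map_one f⟩
  have hmul : ∀ x y, x ∈ M → y ∈ M → x * y ∈ M := by
    intro x y hx hy
    have h2 : M * M ≤ M := by
      rw [hM, Submodule.span_mul_span]
      apply Submodule.span_mono
      rintro _ ⟨_, ⟨a, ha, rfl⟩, _, ⟨b, hb, rfl⟩, rfl⟩
      exact ⟨a * b, E.mul_mem ha hb, map_mul f a b⟩
    exact h2 (Submodule.mul_mem_mul hx hy)
  have key : ∀ x, x ∈ Algebra.adjoin R₁ t → x ∈ M := by
    intro x hx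
    induction hx using Algebra.adjoin_induction with
    | mem x hx => exact hsub hx
    | algebraMap r =>
      rw [Algebra.algebraMap_eq_smul_one]
      exact M.smul_mem r h1
    | add x y _ _ hx hy => exact M.add_mem hx hy
    | mul x y _ _ hx hy => exact hmul x y hx hy
  rw [eq_top_iff]
  intro x _
  exact key x (by rw [ht]; trivial)

/-- every element of a base change is in the span of the image of a finite set -/
theorem exists_finset_mem_span {R R₁ M M₁ : Type u} [CommRing R] [CommRing R₁]
    [Algebra R R₁] [AddCommGroup M] [Module R M] [AddCommGroup M₁] [Module R M₁] [Module R₁ M₁]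
    [IsScalarTower R R₁ M₁] (f : M →ₗ[R] M₁) (hf : IsBaseChange R₁ f) (y : M₁) :
    ∃ U : Finset M, y ∈ Submodule.span R₁ (f '' (U : Set M)) := by
  classical
  induction y using hf.inductionOn with
  | zero => exact ⟨∅, Submodule.zero_mem _⟩
  | tmul m => exact ⟨{m}, Submodule.subset_span ⟨m, by simp, rfl⟩⟩
  | smul s n ih =>
    obtain ⟨U, hU⟩ := ih
    exact ⟨U, Submodule.smul_mem _ s hU⟩
  | add n₁ n₂ ih₁ ih₂ =>
    obtain ⟨U₁, hU₁⟩ := ih₁
    obtain ⟨U₂, hU₂⟩ := ih₂
    refine ⟨U₁ ∪ U₂, Submodule.add_mem _ ?_ ?_⟩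
    · exact Submodule.span_mono (Set.image_mono (by simp)) hU₁
    · exact Submodule.span_mono (Set.image_mono (by simp)) hU₂

variable {B' B A' A : Type u} [CommRing B'] [CommRing B] [CommRing A'] [CommRing A]
    [Algebra B' B] [Algebra B' A'] [Algebra B A] [Algebra A' A] [Algebra B' A]
    [IsScalarTower B' B A] [IsScalarTower B' A' A]

/-- a surjection onto a flat module which is injective after both base changes is injective -/
theorem injective_of_lTensor_injective (hsq : EtMil.IsFibreSquare B' B A' A)
    {M P : Type u} [AddCommGroup M] [Module B' M] [AddCommGroup P] [Module B' P]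
    [Module.Flat B' P] (v : M →ₗ[B'] P) (hv : Function.Surjective v)
    (hB : Function.Injective (v.lTensor B)) (hA' : Function.Injective (v.lTensor A')) :
    Function.Injective v := by
  have key : ∀ (S : Type u) [CommRing S] [Algebra B' S], Function.Injective (v.lTensor S) →
      Subsingleton (S ⊗[B'] (LinearMap.ker v)) := by
    intro S _ _ hS
    have hinj := LinearMap.lTensor_injective_of_exact_of_flat v hv (LinearMap.ker v).subtype
      (LinearMap.ker v).subtype_injective (LinearMap.exact_subtype_ker_map v) S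
    have hz : ∀ x, (LinearMap.ker v).subtype.lTensor S x = 0 := by
      intro x
      apply hS
      rw [map_zero, ← LinearMap.comp_apply, ← LinearMap.lTensor_comp]
      have : v ∘ₗ (LinearMap.ker v).subtype = 0 := by
        ext ⟨x, hx⟩; exact hx
      rw [this, LinearMap.lTensor_zero, LinearMap.zero_apply]
    exact ⟨fun x y => hinj (by rw [hz x, hz y])⟩
  haveI := key B hB
  haveI := key A' hA'
  have hsub : Subsingleton (LinearMap.ker v) :=
    Groth.Agent.S14949.result B' B A' A hsq _
  rw [← LinearMap.ker_eq_bot]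
  exact Submodule.eq_bot_of_subsingleton

variable {D' D C' C : Type u} [CommRing D'] [CommRing D] [CommRing C'] [CommRing C]
    [Algebra D' D] [Algebra D' C'] [Algebra D C] [Algebra C' C] [Algebra D' C]
    [IsScalarTower D' D C] [IsScalarTower D' C' C]
    [Algebra B' D'] [Algebra B D] [Algebra A' C'] [Algebra A C]
    [Algebra B' D] [IsScalarTower B' B D] [IsScalarTower B' D' D]
    [Algebra B' C'] [IsScalarTower B' A' C'] [IsScalarTower B' D' C']
    [Algebra B C] [IsScalarTower B A C] [IsScalarTower B D C]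
    [Algebra A' C] [IsScalarTower A' A C] [IsScalarTower A' C' C]
    [Algebra.IsPushout B D A C] [Algebra.IsPushout A' C' A C]

theorem finiteType_glue (hsq : EtMil.IsFibreSquare B' B A' A)
    (hsq' : EtMil.IsFibreSquare D' D C' C) [Algebra.FiniteType B D] [Algebra.FiniteType A' C'] :
    Algebra.FiniteType B' D' := by
  classical
  have h1 : Algebra.IsPushout B' B D' D := isPushout_left hsq hsq'
  have h2 : Algebra.IsPushout B' A' D' C' := isPushout_right hsq hsq'
  obtain ⟨s, hs⟩ := (Algebra.FiniteType.out : (⊤ : Subalgebra B D).FG)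
  obtain ⟨t, ht⟩ := (Algebra.FiniteType.out : (⊤ : Subalgebra A' C').FG)
  choose uB huB using exists_finset_mem_span _ h1.out
  choose uC huC using exists_finset_mem_span _ h2.out
  let T' : Finset D' := s.biUnion uB ∪ t.biUnion uC
  let E : Subalgebra B' D' := Algebra.adjoin B' (T' : Set D')
  have hTE : (T' : Set D') ⊆ E := Algebra.subset_adjoin
  have hB : Submodule.span B ((IsScalarTower.toAlgHom B' D' D) '' (E : Set D')) = ⊤ := by
    refine span_image_eq_top (IsScalarTower.toAlgHom B' D' D) E s hs ?_
    intro y hy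
    refine Submodule.span_mono (Set.image_mono ?_) (huB y)
    refine subset_trans ?_ hTE
    intro z hz
    simp only [T', Finset.coe_union, Finset.coe_biUnion, Set.mem_union, Set.mem_iUnion]
    exact Or.inl ⟨y, hy, hz⟩
  have hC : Submodule.span A' ((IsScalarTower.toAlgHom B' D' C') '' (E : Set D')) = ⊤ := by
    refine span_image_eq_top (IsScalarTower.toAlgHom B' D' C') E t ht ?_
    intro y hy
    refine Submodule.span_mono (Set.image_mono ?_) (huC y)
    refine subset_trans ?_ hTE
    intro z hz
    simp only [T', Finset.coe_union, Finset.coe_biUnion, Set.mem_union, Set.mem_iUnion]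
    exact Or.inr ⟨y, hy, hz⟩
  haveI : Subsingleton (B ⊗[B'] (D' ⧸ Subalgebra.toSubmodule E)) :=
    subsingleton_tensor_quotient_of_span _ h1.out (Subalgebra.toSubmodule E) hB
  haveI : Subsingleton (A' ⊗[B'] (D' ⧸ Subalgebra.toSubmodule E)) :=
    subsingleton_tensor_quotient_of_span _ h2.out (Subalgebra.toSubmodule E) hC
  have hsub : Subsingleton (D' ⧸ Subalgebra.toSubmodule E) :=
    Groth.Agent.S14949.result B' B A' A hsq _
  have hE : Subalgebra.toSubmodule E = ⊤ := Submodule.Quotient.subsingleton_iff.mp hsub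
  refine ⟨⟨T', ?_⟩⟩
  apply Subalgebra.toSubmodule_injective
  rw [hE]; rfl

end

end Groth.Agent.Helper2.Mil
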