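import Mathlib
import Groth.Prelude.Def_EtMil
import Groth.Agent.Lib.Helper2.Mil2

/-!
# Algebras over a Milnor square: flatness and finite presentation of the glued algebra
-/

set_option autoImplicit false
universe u

namespace Groth.Agent.Helper2.Mil

section
open TensorProduct

/-- finitely many elements of the kernel of a surjection `π : P → Q` generate the kernel after the
base change to `S`, when both base changes are finitely presented -/
theorem exists_finset_ker {R S P Q : Type u} [CommRing R] [CommRing S] [Algebra R S]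
    [CommRing P] [Algebra R P] [CommRing Q] [Algebra R Q]
    (π : P →ₐ[R] Q) (hπ : Function.Surjective π)
    [Algebra.FinitePresentation S (S ⊗[R] P)] [Algebra.FinitePresentation S (S ⊗[R] Q)] :
    ∃ G : Finset P, (G : Set P) ⊆ (RingHom.ker π : Set P) ∧
      ∀ (E : Ideal P) (hE : E ≤ RingHom.ker π), (G : Set P) ⊆ (E : Set P) →
        Function.Injective
          ((Ideal.Quotient.liftₐ E π (fun a ha => hE ha)).toLinearMap.lTensor S) := by
  classical
  let πS : S ⊗[R] P →ₐ[S] S ⊗[R] Q := Algebra.TensorProduct.map (AlgHom.id S S) π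
  have hπS : ∀ y, πS y = (π.toLinearMap.lTensor S) y := by
    intro y
    induction y using TensorProduct.induction_on with
    | zero => simp
    | tmul a b => simp [πS]
    | add a b ha hb => rw [map_add, map_add, ha, hb]
  have hsurj : Function.Surjective πS := by
    intro z
    obtain ⟨y, hy⟩ := LinearMap.lTensor_surjective S (g := π.toLinearMap) hπ z
    exact ⟨y, by rw [hπS, hy]⟩
  have hfg : (RingHom.ker πS.toRingHom).FG :=
    Algebra.FinitePresentation.ker_fG_of_surjective πS hsurj
  have hker : RingHom.ker πS.toRingHom =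
      (RingHom.ker π).map (Algebra.TensorProduct.includeRight : P →ₐ[R] S ⊗[R] P) := by
    rw [← Algebra.TensorProduct.lTensor_ker π hπ]
    ext y
    simp only [RingHom.mem_ker]
    change πS y = 0 ↔ (Algebra.TensorProduct.map (AlgHom.id R S) π) y = 0
    have : (Algebra.TensorProduct.map (AlgHom.id R S) π) y = (π.toLinearMap.lTensor S) y := by
      induction y using TensorProduct.induction_on with
      | zero => simp
      | tmul a b => simp
      | add a b ha hb => rw [map_add, map_add, ha, hb]
    rw [this, hπS]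
  rw [hker, Ideal.map, Ideal.span] at hfg
  have hfg' : Submodule.FG (Submodule.span (S ⊗[R] P)
      ((Algebra.TensorProduct.includeRight : P →ₐ[R] S ⊗[R] P) '' (RingHom.ker π : Set P))) := hfg
  rw [Submodule.fg_span_iff_fg_span_finset_subset] at hfg'
  obtain ⟨F, hF1, hF2⟩ := hfg'
  obtain ⟨G, hG1, hG2⟩ := Finset.subset_set_image_iff.mp hF1
  refine ⟨G, hG1, ?_⟩
  intro E hE hGE
  rw [injective_iff_map_eq_zero]
  intro x hx
  obtain ⟨y, rfl⟩ := LinearMap.lTensor_surjective S
    (g := (Ideal.Quotient.mkₐ R E).toLinearMap) Ideal.Quotient.mk_surjective x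
  have hy : πS y = 0 := by
    rw [hπS, ← hx, ← LinearMap.comp_apply, ← LinearMap.lTensor_comp]
    congr 2
  have hy' : y ∈ RingHom.ker πS.toRingHom := hy
  rw [hker, Ideal.map, Ideal.span, hF2] at hy'
  let mkS : S ⊗[R] P →ₐ[R] S ⊗[R] (P ⧸ E) :=
    Algebra.TensorProduct.map (AlgHom.id R S) (Ideal.Quotient.mkₐ R E)
  have hmk : ∀ y, mkS y = ((Ideal.Quotient.mkₐ R E).toLinearMap.lTensor S) y := by
    intro y
    induction y using TensorProduct.induction_on with
    | zero => simp
    | tmul a b => simp [mkS]
    | add a b ha hb => rw [map_add, map_add, ha, hb]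
  have hle : Submodule.span (S ⊗[R] P) (F : Set (S ⊗[R] P)) ≤ RingHom.ker mkS.toRingHom := by
    rw [Submodule.span_le]
    intro z hz
    rw [← hG2] at hz
    simp only [Finset.coe_image, Set.mem_image] at hz
    obtain ⟨g, hg, rfl⟩ := hz
    have : (Ideal.Quotient.mk E) g = 0 := Ideal.Quotient.eq_zero_iff_mem.mpr (hGE hg)
    simp only [SetLike.mem_coe, RingHom.mem_ker]
    change mkS ((1 : S) ⊗ₜ[R] g) = 0
    simp [mkS, this]
  have := hle hy'
  rw [← hmk]
  exact this

variable {B' B A' A : Type u} [CommRing B'] [CommRing B] [CommRing A'] [CommRing A]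
    [Algebra B' B] [Algebra B' A'] [Algebra B A] [Algebra A' A] [Algebra B' A]
    [IsScalarTower B' B A] [IsScalarTower B' A' A]
    {D' D C' C : Type u} [CommRing D'] [CommRing D] [CommRing C'] [CommRing C]
    [Algebra D' D] [Algebra D' C'] [Algebra D C] [Algebra C' C] [Algebra D' C]
    [IsScalarTower D' D C] [IsScalarTower D' C' C]
    [Algebra B' D'] [Algebra B D] [Algebra A' C'] [Algebra A C]
    [Algebra B' D] [IsScalarTower B' B D] [IsScalarTower B' D' D]
    [Algebra B' C'] [IsScalarTower B' A' C'] [IsScalarTower B' D' C']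
    [Algebra B C] [IsScalarTower B A C] [IsScalarTower B D C]
    [Algebra A' C] [IsScalarTower A' A C] [IsScalarTower A' C' C]
    [Algebra.IsPushout B D A C] [Algebra.IsPushout A' C' A C]

theorem flat_glue (hsq : EtMil.IsFibreSquare B' B A' A)
    (hsq' : EtMil.IsFibreSquare D' D C' C) [Module.Flat B D] [Module.Flat A' C'] :
    Module.Flat B' D' := by
  have h1 : Algebra.IsPushout B' B D' D := isPushout_left hsq hsq'
  have h2 : Algebra.IsPushout B' A' D' C' := isPushout_right hsq hsq'
  haveI : Module.Flat B (B ⊗[B'] D') := Module.Flat.of_linearEquiv h1.out.equiv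
  haveI : Module.Flat A' (A' ⊗[B'] D') := Module.Flat.of_linearEquiv h2.out.equiv
  exact Groth.Agent.S14952.result B' B A' A hsq D'

theorem finitePresentation_glue (hsq : EtMil.IsFibreSquare B' B A' A)
    (hsq' : EtMil.IsFibreSquare D' D C' C) [Module.Flat B D] [Module.Flat A' C']
    [Algebra.FinitePresentation B D] [Algebra.FinitePresentation A' C'] :
    Algebra.FinitePresentation B' D' := by
  classical
  haveI : Module.Flat B' D' := flat_glue hsq hsq'
  haveI : Algebra.FiniteType B' D' := finiteType_glue hsq hsq'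
  haveI h1 : Algebra.IsPushout B' B D' D := isPushout_left hsq hsq'
  haveI h2 : Algebra.IsPushout B' A' D' C' := isPushout_right hsq hsq'
  obtain ⟨n, π, hπ⟩ := Algebra.FiniteType.iff_quotient_mvPolynomial''.mp
    (inferInstance : Algebra.FiniteType B' D')
  haveI : Algebra.FinitePresentation B (B ⊗[B'] D') :=
    Algebra.FinitePresentation.equiv (Algebra.IsPushout.equiv B' B D' D).symm
  haveI : Algebra.FinitePresentation A' (A' ⊗[B'] D') :=
    Algebra.FinitePresentation.equiv (Algebra.IsPushout.equiv B' A' D' C').symm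
  obtain ⟨G₁, hG₁, H₁⟩ := exists_finset_ker (S := B) π hπ
  obtain ⟨G₂, hG₂, H₂⟩ := exists_finset_ker (S := A') π hπ
  let E : Ideal (MvPolynomial (Fin n) B') := Ideal.span ((G₁ ∪ G₂ : Finset _) : Set _)
  have hE : E ≤ RingHom.ker π := by
    rw [Ideal.span_le]
    intro x hx
    simp only [Finset.coe_union, Set.mem_union] at hx
    rcases hx with hx | hx
    · exact hG₁ hx
    · exact hG₂ hx
  have hEfg : E.FG := ⟨G₁ ∪ G₂, rfl⟩
  have hsubE : ((G₁ ∪ G₂ : Finset _) : Set (MvPolynomial (Fin n) B')) ⊆ E := Ideal.subset_span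
  let v := Ideal.Quotient.liftₐ E π (fun a ha => hE ha)
  have hvs : Function.Surjective v := by
    intro d
    obtain ⟨p, rfl⟩ := hπ d
    exact ⟨Ideal.Quotient.mk E p, by simp [v]⟩
  have hvi : Function.Injective v :=
    injective_of_lTensor_injective hsq v.toLinearMap hvs
      (H₁ E hE (subset_trans (by simp) hsubE)) (H₂ E hE (subset_trans (by simp) hsubE))
  haveI : Algebra.FinitePresentation B' (MvPolynomial (Fin n) B' ⧸ E) :=
    Algebra.FinitePresentation.quotient hEfg
  exact Algebra.FinitePresentation.equiv (AlgEquiv.ofBijective v ⟨hvi, hvs⟩)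

end

end Groth.Agent.Helper2.Mil
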