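import Mathlib
import Groth.Prelude.Def_EtMil
import Groth.Agent.Lib.Helper2.Mil3
import Groth.Agent.S6917

/-!
# Algebras over a Milnor square: smooth and étale glued algebras
-/

set_option autoImplicit false
universe u

namespace Groth.Agent.Helper2.Mil

section
open TensorProduct

theorem formallySmooth_fiber_of_field {R S : Type u} [CommRing R] [CommRing S] [Algebra R S]
    (p : Ideal R) [p.IsPrime] (L : Type u) [Field L] [Algebra R L]
    (hker : RingHom.ker (algebraMap R L) = p) [Algebra.Smooth L (L ⊗[R] S)] :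
    Algebra.FormallySmooth p.ResidueField (p.Fiber S) := by
  let φ : p.ResidueField →+* L := Ideal.ResidueField.lift p (algebraMap R L) hker.ge (by
    intro x hx
    simp only [Submonoid.mem_comap, IsUnit.mem_submonoid_iff]
    rw [isUnit_iff_ne_zero]
    intro h
    exact hx (hker ▸ (RingHom.mem_ker.mpr h)))
  letI : Algebra p.ResidueField L := φ.toAlgebra
  haveI : IsScalarTower R p.ResidueField L := IsScalarTower.of_algebraMap_eq' (by
    ext r
    simp [RingHom.algebraMap_toAlgebra, φ])
  let e : L ⊗[p.ResidueField] (p.ResidueField ⊗[R] S) ≃ₐ[L] L ⊗[R] S :=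
    Algebra.TensorProduct.cancelBaseChange R p.ResidueField L L S
  haveI : Algebra.Smooth L (L ⊗[p.ResidueField] (p.Fiber S)) := Algebra.Smooth.of_equiv e.symm
  haveI : Algebra.Smooth p.ResidueField (p.Fiber S) :=
    Algebra.Smooth.of_smooth_tensorProduct_of_faithfullyFlat L
  exact Algebra.Smooth.formallySmooth

theorem smooth_tensor_field {R R₁ S : Type u} [CommRing R] [CommRing R₁] [Algebra R R₁]
    [CommRing S] [Algebra R S] (L : Type u) [Field L] [Algebra R L] [Algebra R₁ L]
    [IsScalarTower R R₁ L] [Algebra.Smooth R₁ (R₁ ⊗[R] S)] : Algebra.Smooth L (L ⊗[R] S) := by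
  let e : L ⊗[R₁] (R₁ ⊗[R] S) ≃ₐ[L] L ⊗[R] S :=
    Algebra.TensorProduct.cancelBaseChange R R₁ L L S
  exact Algebra.Smooth.of_equiv e

variable {B' B A' A : Type u} [CommRing B'] [CommRing B] [CommRing A'] [CommRing A]
    [Algebra B' B] [Algebra B' A'] [Algebra B A] [Algebra A' A] [Algebra B' A]
    [IsScalarTower B' B A] [IsScalarTower B' A' A]
    {D' D C' C : Type u} [CommRing D'] [CommRing D] [CommRing C'] [CommRing C]
    [Algebra D' D] [Algebra D' C'] [Algebra D C] [Algebra C' C] [Algebra D' C]
    [IsScalarTower D' D C] [IsScalarTower D' C' C]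
    [Algebra B' D'] [Algebra B D] [Algebra A' C'] [Algebra A C]
    [Algebra B' D] [IsScalarTower B' B D] [IsScalarTower B' D' D]
    [Algebra B' C'] [IsScalarTower B' A' C'] [IsScalarTower B' D' C']
    [Algebra B C] [IsScalarTower B A C] [IsScalarTower B D C]
    [Algebra A' C] [IsScalarTower A' A C] [IsScalarTower A' C' C]
    [Algebra.IsPushout B D A C] [Algebra.IsPushout A' C' A C]

theorem ker_algebraMap_residueField_comp {R R₁ : Type u} [CommRing R] [CommRing R₁] [Algebra R R₁]
    (P : Ideal R₁) [P.IsPrime] :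
    RingHom.ker (algebraMap R P.ResidueField) = P.comap (algebraMap R R₁) := by
  ext x
  rw [RingHom.mem_ker, Ideal.mem_comap, IsScalarTower.algebraMap_apply R R₁ P.ResidueField,
    Ideal.algebraMap_residueField_eq_zero]

theorem smooth_glue (hsq : EtMil.IsFibreSquare B' B A' A)
    (hsq' : EtMil.IsFibreSquare D' D C' C) [Algebra.Smooth B D] [Algebra.Smooth A' C'] :
    Algebra.Smooth B' D' := by
  haveI : Module.Flat B' D' := flat_glue hsq hsq'
  haveI : Algebra.FinitePresentation B' D' := finitePresentation_glue hsq hsq'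
  haveI h1 : Algebra.IsPushout B' B D' D := isPushout_left hsq hsq'
  haveI h2 : Algebra.IsPushout B' A' D' C' := isPushout_right hsq hsq'
  haveI : Algebra.Smooth B (B ⊗[B'] D') :=
    Algebra.Smooth.of_equiv (Algebra.IsPushout.equiv B' B D' D).symm
  haveI : Algebra.Smooth A' (A' ⊗[B'] D') :=
    Algebra.Smooth.of_equiv (Algebra.IsPushout.equiv B' A' D' C').symm
  refine Algebra.Smooth.of_formallySmooth_fiber (fun p hp => ?_)
  rcases Groth.Agent.S6917.joint_surj hsq ⟨p, hp⟩ with ⟨P, hP⟩ | ⟨P, hP⟩
  · have hP' : P.asIdeal.comap (algebraMap B' B) = p := congrArg PrimeSpectrum.asIdeal hP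
    haveI : Algebra.Smooth P.asIdeal.ResidueField (P.asIdeal.ResidueField ⊗[B'] D') :=
      smooth_tensor_field (R₁ := B) P.asIdeal.ResidueField
    exact formallySmooth_fiber_of_field p P.asIdeal.ResidueField
      ((ker_algebraMap_residueField_comp P.asIdeal).trans hP')
  · have hP' : P.asIdeal.comap (algebraMap B' A') = p := congrArg PrimeSpectrum.asIdeal hP
    haveI : Algebra.Smooth P.asIdeal.ResidueField (P.asIdeal.ResidueField ⊗[B'] D') :=
      smooth_tensor_field (R₁ := A') P.asIdeal.ResidueField
    exact formallySmooth_fiber_of_field p P.asIdeal.ResidueField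
      ((ker_algebraMap_residueField_comp P.asIdeal).trans hP')

theorem etale_glue (hsq : EtMil.IsFibreSquare B' B A' A)
    (hsq' : EtMil.IsFibreSquare D' D C' C) [Algebra.Etale B D] [Algebra.Etale A' C'] :
    Algebra.Etale B' D' := by
  haveI : Module.Flat B' D' := flat_glue hsq hsq'
  haveI : Algebra.FinitePresentation B' D' := finitePresentation_glue hsq hsq'
  haveI h1 : Algebra.IsPushout B' B D' D := isPushout_left hsq hsq'
  haveI h2 : Algebra.IsPushout B' A' D' C' := isPushout_right hsq hsq'
  haveI : Subsingleton (B ⊗[B'] Ω[D'⁄B']) :=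
    (KaehlerDifferential.tensorKaehlerEquivBase B' B D' D).toEquiv.subsingleton
  haveI : Subsingleton (A' ⊗[B'] Ω[D'⁄B']) :=
    (KaehlerDifferential.tensorKaehlerEquivBase B' A' D' C').toEquiv.subsingleton
  haveI : Subsingleton Ω[D'⁄B'] := Groth.Agent.S14949.result B' B A' A hsq _
  haveI : Algebra.FormallyUnramified B' D' := ⟨inferInstance⟩
  exact Algebra.Etale.of_formallyUnramified_of_flat

end

end Groth.Agent.Helper2.Mil
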