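import Mathlib

/-!
# Helper lemmas on (homogeneous) multivariate polynomials
* factors of a nonzero homogeneous polynomial over a domain are homogeneous
* evaluation of a homogeneous polynomial at a scaled point
* chain rule for `pderiv` and `aeval`
* evaluation of `aeval`
-/

namespace Groth.Agent.Lib.Helper2.MvPolyHom

open MvPolynomial

section factor

variable {σ : Type*} {R : Type*} [CommRing R] [IsDomain R]

lemma weight_one_eq_degree (d : σ →₀ ℕ) : Finsupp.weight 1 d = Finsupp.degree d := by
  rw [Finsupp.degree_eq_weight_one]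
  rfl

lemma sum_eq_degree (d : σ →₀ ℕ) : (d.sum fun _ e => e) = Finsupp.degree d := rfl

lemma order_coe_le_totalDegree {p : MvPolynomial σ R} (hp : p ≠ 0) :
    (p : MvPowerSeries σ R).order ≤ (p.totalDegree : ℕ∞) := by
  obtain ⟨d, hd⟩ := MvPolynomial.support_nonempty.mpr hp
  have h1 : MvPowerSeries.coeff d (p : MvPowerSeries σ R) ≠ 0 := by
    rw [MvPolynomial.coeff_coe]
    exact MvPolynomial.mem_support_iff.mp hd
  have h2 := MvPowerSeries.order_le h1
  have h3 : Finsupp.degree d ≤ p.totalDegree := by
    have := MvPolynomial.le_totalDegree hd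
    rwa [sum_eq_degree] at this
  exact h2.trans (by exact_mod_cast h3)

lemma isHomogeneous_of_order_eq_totalDegree {p : MvPolynomial σ R}
    (h : (p : MvPowerSeries σ R).order = (p.totalDegree : ℕ∞)) :
    p.IsHomogeneous p.totalDegree := by
  intro d hd
  have h1 : MvPowerSeries.coeff d (p : MvPowerSeries σ R) ≠ 0 := by
    rw [MvPolynomial.coeff_coe]
    exact hd
  have h2 := MvPowerSeries.order_le h1
  rw [h] at h2
  have h3 : Finsupp.degree d ≤ p.totalDegree := by
    have := MvPolynomial.le_totalDegree (MvPolynomial.mem_support_iff.mpr hd)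
    rwa [sum_eq_degree] at this
  have h4 : p.totalDegree ≤ Finsupp.degree d := by exact_mod_cast h2
  rw [weight_one_eq_degree]
  exact le_antisymm h3 h4

lemma order_coe_of_isHomogeneous {g : MvPolynomial σ R} {n : ℕ} (hg : g.IsHomogeneous n)
    (hg0 : g ≠ 0) : (g : MvPowerSeries σ R).order = (n : ℕ∞) := by
  rw [MvPowerSeries.order_eq_nat]
  constructor
  · obtain ⟨d, hd⟩ := MvPolynomial.support_nonempty.mpr hg0
    refine ⟨d, ?_, ?_⟩
    · rw [MvPolynomial.coeff_coe]
      exact MvPolynomial.mem_support_iff.mp hd
    · have := hg (MvPolynomial.mem_support_iff.mp hd)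
      rwa [weight_one_eq_degree] at this
  · intro d hd
    rw [MvPolynomial.coeff_coe]
    by_contra hne
    have := hg hne
    rw [weight_one_eq_degree] at this
    omega

/-- Over a domain, both factors of a nonzero homogeneous polynomial are homogeneous. -/
theorem isHomogeneous_of_mul {a b : MvPolynomial σ R} {n : ℕ} (h : (a * b).IsHomogeneous n)
    (h0 : a * b ≠ 0) : a.IsHomogeneous a.totalDegree ∧ b.IsHomogeneous b.totalDegree ∧
      a.totalDegree + b.totalDegree = n := by
  have ha : a ≠ 0 := left_ne_zero_of_mul h0
  have hb : b ≠ 0 := right_ne_zero_of_mul h0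
  have h1 : (a * b).totalDegree = a.totalDegree + b.totalDegree :=
    MvPolynomial.totalDegree_mul_of_isDomain ha hb
  have h2 : (a * b).totalDegree = n := h.totalDegree h0
  have h3 := order_coe_of_isHomogeneous h h0
  rw [MvPolynomial.coe_mul, MvPowerSeries.order_mul] at h3
  have h4 := order_coe_le_totalDegree ha
  have h5 := order_coe_le_totalDegree hb
  have h6 : ((a.totalDegree + b.totalDegree : ℕ) : ℕ∞) = n := by
    rw [← h1, h2]
  obtain ⟨x, hx⟩ : ∃ x : ℕ, (a : MvPowerSeries σ R).order = x := by
    refine ⟨((a : MvPowerSeries σ R).order).toNat, (ENat.natCast_toNat ?_).symm⟩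
    intro htop
    rw [htop] at h4
    exact absurd h4 (by simp)
  obtain ⟨y, hy⟩ : ∃ y : ℕ, (b : MvPowerSeries σ R).order = y := by
    refine ⟨((b : MvPowerSeries σ R).order).toNat, (ENat.natCast_toNat ?_).symm⟩
    intro htop
    rw [htop] at h5
    exact absurd h5 (by simp)
  rw [hx] at h4
  rw [hy] at h5
  rw [hx, hy] at h3
  have h4' : x ≤ a.totalDegree := by exact_mod_cast h4
  have h5' : y ≤ b.totalDegree := by exact_mod_cast h5
  have h3' : x + y = n := by exact_mod_cast h3
  have h6' : a.totalDegree + b.totalDegree = n := by exact_mod_cast h6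
  have hxa : x = a.totalDegree := by omega
  have hyb : y = b.totalDegree := by omega
  refine ⟨isHomogeneous_of_order_eq_totalDegree (by rw [hx, hxa]),
    isHomogeneous_of_order_eq_totalDegree (by rw [hy, hyb]), h6'⟩

end factor

section evalsmul

variable {σ : Type*} [Fintype σ] {R : Type*} [CommRing R]

/-- Evaluating a homogeneous polynomial of degree `n` at `r • z`. -/
theorem eval_smul_of_isHomogeneous {p : MvPolynomial σ R} {n : ℕ} (hp : p.IsHomogeneous n)
    (r : R) (z : σ → R) : eval (r • z) p = r ^ n * eval z p := by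
  rw [MvPolynomial.eval_eq', MvPolynomial.eval_eq', Finset.mul_sum]
  refine Finset.sum_congr rfl fun d hd => ?_
  have hdeg : ∑ i, d i = n := by
    have := hp (MvPolynomial.mem_support_iff.mp hd)
    rw [weight_one_eq_degree, Finsupp.degree_eq_sum] at this
    exact this
  have h1 : ∏ i, (r • z) i ^ d i = r ^ n * ∏ i, z i ^ d i := by
    simp only [Pi.smul_apply, smul_eq_mul, mul_pow]
    rw [Finset.prod_mul_distrib, Finset.prod_pow_eq_pow_sum, hdeg]
  rw [h1]
  ring

end evalsmul

section chain

variable {σ τ : Type*} [Fintype σ] {R : Type*} [CommRing R]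

/-- Evaluating `aeval s p` at a point. -/
theorem eval_aeval (s : σ → MvPolynomial τ R) (y : τ → R) (p : MvPolynomial σ R) :
    eval y (aeval s p) = eval (fun i => eval y (s i)) p := by
  induction p using MvPolynomial.induction_on with
  | C a => simp
  | add p q hp hq => rw [map_add, map_add, hp, hq, map_add]
  | mul_X p i hp => rw [map_mul, map_mul, hp, map_mul, aeval_X, eval_X]

/-- Chain rule for partial derivatives of a substitution. -/
theorem pderiv_aeval [DecidableEq σ] (s : σ → MvPolynomial τ R) (j : τ) (p : MvPolynomial σ R) :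
    pderiv j (aeval s p) = ∑ i, aeval s (pderiv i p) * pderiv j (s i) := by
  induction p using MvPolynomial.induction_on with
  | C a => simp
  | add p q hp hq =>
    simp only [map_add, hp, hq, add_mul, Finset.sum_add_distrib]
  | mul_X p n hp =>
    simp only [map_mul, aeval_X, Derivation.leibniz, smul_eq_mul, hp, pderiv_X, map_add]
    simp only [add_mul, Finset.sum_add_distrib]
    have h1 : ∑ i, aeval s p * aeval s (Pi.single (M := fun _ => MvPolynomial σ R) i 1 n) *
        pderiv j (s i) = aeval s p * pderiv j (s n) := by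
      rw [Finset.sum_eq_single n]
      · simp
      · intro i _ hi
        rw [Pi.single_eq_of_ne' hi]
        simp
      · intro h
        exact absurd (Finset.mem_univ n) h
    rw [h1, Finset.mul_sum]
    have h2 : ∀ i, s n * (aeval s (pderiv i p) * pderiv j (s i)) =
        s n * aeval s (pderiv i p) * pderiv j (s i) := fun i => by ring
    simp only [h2]

end chain

end Groth.Agent.Lib.Helper2.MvPolyHom
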