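import Groth.Agent.Lib.Helper6.NLFlatC
import Groth.Agent.Lib.Helper6.KRCotC

/-!
# Tor amplitude `[-1,0]` of the naive cotangent complex and flatness of the conormal module (helper2)
-/

set_option autoImplicit false
set_option linter.style.haveILetI false
set_option linter.unusedSectionVars false

open CategoryTheory CategoryTheory.Limits HomologicalComplex DerivedCategory
open Groth.Agent.Helper6.NLDbl

attribute [local instance] HasDerivedCategory.standard

universe u

namespace Groth.Agent.Helper2.NLAmp

open Groth.Agent.Helper11.TA Groth.Agent.Helper6.NLFlat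

variable {R S : Type u} [CommRing R] [CommRing S] [Algebra R S]

/-- the comparison iso in `D(S)` between the NL complex of an extension and `NL_{S/R}` -/
theorem nonempty_isoNL (P : Algebra.Extension.{u} R S)
    (f : P.Hom (Algebra.Generators.self R S).toExtension)
    (g : (Algebra.Generators.self R S).toExtension.Hom P) :
    Nonempty (DRing.toD (NLCx.cx P) ≅ LCI.NL R S) := by
  let he : HomotopyEquiv (NLCx.cx P) (LCI.NLcx R S) :=
    Groth.Agent.Helper6.NLFlat.homotopyEquiv f g
  have hq : IsIso (DerivedCategory.Q.map he.hom) :=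
    (DerivedCategory.isIso_Q_map_iff_quasiIso _ he.hom).mpr inferInstance
  exact ⟨@asIso _ _ _ _ _ hq⟩

theorem vanishesOutside_cx (P : Algebra.Extension.{u} R S) :
    DRing.VanishesOutside (NLCx.cx P) (-1) 0 := fun i hi =>
  isZero_double_X _ _ i (by omega) (by omega)

/-- tor amplitude `[-1,0]` of `NL` implies the conormal module of any presentation is flat -/
theorem flat_cotangent_of_torAmp (P : Algebra.Extension.{u} R S) [Module.Flat S P.CotangentSpace]
    (f : P.Hom (Algebra.Generators.self R S).toExtension)
    (g : (Algebra.Generators.self R S).toExtension.Hom P)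
    (hT : DRing.HasTorAmplitudeIn S (-1) 0 (LCI.NL R S)) : Module.Flat S P.Cotangent := by
  obtain ⟨e⟩ := nonempty_isoNL P f g
  have hK := vanishesOutside_cx P
  haveI h0 : Module.Flat S ((NLCx.cx P).X 0) :=
    Module.Flat.of_linearEquiv (doubleXIso₁ (ModuleCat.ofHom P.cotangentComplex) rel
      ne).toLinearEquiv
  have hT' : TorVan (-1) 0 (Q.obj (NLCx.cx P)) :=
    (torVan_of_hasTorAmplitudeIn hT).of_iso e.symm
  haveI h1 : Module.Flat S ((double (ModuleCat.ofHom P.cotangentComplex) rel).X (-1)) :=
    flat_X_neg_one (NLCx.cx P) hK hT'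
  exact Module.Flat.of_linearEquiv
    (doubleXIso₀ (ModuleCat.ofHom P.cotangentComplex) rel).toLinearEquiv.symm

/-- conversely -/
theorem torAmp_of_flat_cotangent (P : Algebra.Extension.{u} R S) [Module.Flat S P.CotangentSpace]
    [Module.Flat S P.Cotangent]
    (f : P.Hom (Algebra.Generators.self R S).toExtension)
    (g : (Algebra.Generators.self R S).toExtension.Hom P) :
    DRing.HasTorAmplitudeIn S (-1) 0 (LCI.NL R S) := by
  obtain ⟨e⟩ := nonempty_isoNL P f g
  refine ⟨NLCx.cx P, vanishesOutside_cx P, fun i => ?_, ⟨e⟩⟩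
  by_cases h1 : i = -1
  · subst h1
    exact Module.Flat.of_linearEquiv
      (doubleXIso₀ (ModuleCat.ofHom P.cotangentComplex) rel).toLinearEquiv
  · by_cases h2 : i = 0
    · subst h2
      exact Module.Flat.of_linearEquiv
        (doubleXIso₁ (ModuleCat.ofHom P.cotangentComplex) rel ne).toLinearEquiv
    · exact flat_of_isZero _ (isZero_double_X _ _ i h1 h2)

end Groth.Agent.Helper2.NLAmp
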