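import Groth.Agent.Lib.Helper2.NLAmp1
import Groth.Agent.Lib.Helper6.NLFlatA

/-!
# Tor amplitude `[-1,0]` of `NL` is stable under base change, for flat ring maps (helper2)
-/

set_option autoImplicit false
set_option linter.style.haveILetI false
set_option linter.unusedSectionVars false

open CategoryTheory CategoryTheory.Limits TensorProduct

attribute [local instance] HasDerivedCategory.standard

universe u

namespace Groth.Agent.Helper2.NLAmp

section BaseChange

variable {A B : Type u} [CommRing A] [CommRing B] [Algebra A B]

attribute [local instance] Algebra.TensorProduct.rightAlgebra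

theorem flat_cotangentSpace {R S : Type u} [CommRing R] [CommRing S] [Algebra R S] {ι : Type*}
    (G : Algebra.Generators R S ι) : Module.Flat S G.toExtension.CotangentSpace := by
  haveI : Module.Free S G.toExtension.CotangentSpace := Module.Free.of_basis G.cotangentSpaceBasis
  infer_instance

theorem torAmp_baseChange [Module.Flat A B] (T : Type u) [CommRing T] [Algebra A T]
    (hT : DRing.HasTorAmplitudeIn B (-1) 0 (LCI.NL A B)) :
    DRing.HasTorAmplitudeIn (T ⊗[A] B) (-1) 0 (LCI.NL T (T ⊗[A] B)) := by
  let G : Algebra.Generators A B B := Algebra.Generators.self A B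
  let G' : Algebra.Generators T (T ⊗[A] B) B := G.baseChange T
  have h : ∀ i, G'.val i = algebraMap B (T ⊗[A] B) (G.val i) := fun i => rfl
  haveI := flat_cotangentSpace G
  haveI := flat_cotangentSpace G'
  haveI hfl : Module.Flat B G.toExtension.Cotangent :=
    flat_cotangent_of_torAmp G.toExtension (Algebra.Extension.Hom.id _)
      (Algebra.Extension.Hom.id _) hT
  have hbij := Groth.Agent.Helper6.NLFlat.lift_cotangent_bijective_of_flat_top G G' h
  haveI : Module.Flat (T ⊗[A] B) G'.toExtension.Cotangent :=
    Module.Flat.of_linearEquiv (LinearEquiv.ofBijective _ hbij).symm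
  exact torAmp_of_flat_cotangent G'.toExtension
    (G'.defaultHom (Algebra.Generators.self T (T ⊗[A] B))).toExtensionHom
    ((Algebra.Generators.self T (T ⊗[A] B)).defaultHom G').toExtensionHom

end BaseChange

end Groth.Agent.Helper2.NLAmp
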