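import Groth.Agent.Lib.Helper2.NLAmp2
import Groth.Agent.Lib.Helper6.KerCotProj
import Groth.Agent.Lib.Helper6.KRField
import Groth.Agent.Lib.Helper2.SyntFib1
import Groth.Agent.S9287
import Groth.Agent.S7072

/-!
# `NL` of tor amplitude `[-1,0]` and local complete intersections (helper2)
-/

set_option autoImplicit false
set_option linter.style.haveILetI false
set_option linter.unusedSectionVars false

open CategoryTheory CategoryTheory.Limits TensorProduct

attribute [local instance] HasDerivedCategory.standard

universe u

namespace Groth.Agent.Helper2.NLAmp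

section Field

variable (k C : Type u) [Field k] [CommRing C] [Algebra k C]

theorem isLCI_of_torAmp_field [Algebra.FiniteType k C]
    (hT : DRing.HasTorAmplitudeIn C (-1) 0 (LCI.NL k C)) : LCI.IsLCI k C := by
  obtain ⟨n, φ, hφ⟩ := Algebra.FiniteType.iff_quotient_mvPolynomial''.mp
    (inferInstance : Algebra.FiniteType k C)
  obtain ⟨G, hG⟩ : ∃ G : Algebra.Generators k C (Fin n),
      G = Algebra.Generators.ofAlgHom φ hφ := ⟨_, rfl⟩
  haveI := flat_cotangentSpace G
  haveI : Module.Flat C G.toExtension.Cotangent :=
    flat_cotangent_of_torAmp G.toExtension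
      (G.defaultHom (Algebra.Generators.self k C)).toExtensionHom
      ((Algebra.Generators.self k C).defaultHom G).toExtensionHom hT
  haveI : IsNoetherianRing G.toExtension.Ring :=
    (inferInstance : IsNoetherianRing (MvPolynomial (Fin n) k))
  have hproj : Module.Projective (MvPolynomial (Fin n) k ⧸ G.toExtension.ker)
      G.toExtension.ker.Cotangent :=
    Groth.Agent.Helper6.KerCotProj.ker_cotangent_projective_of_flat G.toExtension
  have hker : G.toExtension.ker = RingHom.ker φ.toRingHom := by
    rw [hG]
    ext x
    have : algebraMap (Algebra.Generators.ofAlgHom φ hφ).toExtension.Ring C x = φ x := by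
      change MvPolynomial.aeval (φ ∘ MvPolynomial.X) x = φ x
      exact (DFunLike.congr_fun (MvPolynomial.aeval_unique φ) x).symm
    show algebraMap (Algebra.Generators.ofAlgHom φ hφ).toExtension.Ring C x = 0 ↔ φ x = 0
    rw [this]
  have hKR : LCI.IsKoszulRegularIdeal (G.toExtension.ker : Ideal (MvPolynomial (Fin n) k)) :=
    @Groth.Agent.Helper6.KRField.kr_of_projective_cotangent_field k _ n G.toExtension.ker hproj
  exact ⟨inferInstance, n, φ, hφ, hker ▸ hKR⟩

end Field

section Main

variable {A B : Type u} [CommRing A] [CommRing B] [Algebra A B]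

theorem isSyntomic_of_torAmp [Module.Flat A B] [Algebra.FinitePresentation A B]
    (hT : DRing.HasTorAmplitudeIn B (-1) 0 (LCI.NL A B)) : Synt.IsSyntomic A B := by
  refine ⟨inferInstance, inferInstance, fun p => ?_⟩
  haveI := p.isPrime
  have hTC := torAmp_baseChange (A := A) (B := B) p.asIdeal.ResidueField hT
  have hlci := isLCI_of_torAmp_field p.asIdeal.ResidueField (p.asIdeal.ResidueField ⊗[A] B) hTC
  have hs : Synt.IsSyntomic p.asIdeal.ResidueField (p.asIdeal.ResidueField ⊗[A] B) :=
    (Groth.Agent.S9287.result _ _).mpr ⟨inferInstance, hlci⟩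
  exact Groth.Agent.Helper2.SyntFib.isLCIOver_of_isSyntomic _ _ hs

theorem torAmp_iff_isLCI [Module.Flat A B] [Algebra.FinitePresentation A B] :
    DRing.HasTorAmplitudeIn B (-1) 0 (LCI.NL A B) ↔ LCI.IsLCI A B :=
  ⟨fun hT => ((Groth.Agent.S9287.result A B).mp (isSyntomic_of_torAmp hT)).2,
    fun h => (Groth.Agent.S7072.result h).2⟩

end Main

end Groth.Agent.Helper2.NLAmp
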