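import Mathlib

/-!
# Triangularization of nilpotent endomorphisms / matrices over a field (helper2)
-/

set_option autoImplicit false
universe u

namespace Groth.Agent.Lib.Helper2.NilTri

open Module

/-- a nilpotent endomorphism admits a basis in which it is strictly upper triangular -/
theorem exists_flag_basis (k : Type*) [Field k] : ∀ (n : ℕ) (V : Type u) [AddCommGroup V] [Module k V]
    [FiniteDimensional k V], Module.finrank k V = n → ∀ f : V →ₗ[k] V, IsNilpotent f →
    ∃ b : Basis (Fin n) k V, ∀ j, f (b j) ∈ Submodule.span k (b '' {i | i < j}) := by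
  intro n
  induction n with
  | zero =>
    intro V _ _ _ hV f hf
    exact ⟨Module.finBasisOfFinrankEq k V hV, fun j => j.elim0⟩
  | succ n ih =>
    intro V _ _ _ hV f hf
    have hne : LinearMap.range f ≠ ⊤ := by
      intro htop
      obtain ⟨m, hm⟩ := hf
      have hsurj : Function.Surjective (f ^ m) := by
        rw [Module.End.coe_pow]
        exact (LinearMap.range_eq_top.mp htop).iterate m
      have hz : ∀ v : V, v = 0 := fun v => by
        obtain ⟨w, hw⟩ := hsurj v
        rw [← hw, hm]
        rfl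
      have : Subsingleton V := ⟨fun a b => by rw [hz a, hz b]⟩
      have : Module.finrank k V = 0 := Module.finrank_zero_of_subsingleton
      omega
    obtain ⟨φ, hφ0, hφ⟩ := Submodule.exists_le_ker_of_lt_top _ (lt_top_iff_ne_top.mpr hne)
    obtain ⟨y, hy⟩ : ∃ y, φ y ≠ 0 := by
      by_contra h
      push Not at h
      exact hφ0 (LinearMap.ext h)
    have hrange : LinearMap.range φ = ⊤ := by
      rw [eq_top_iff]
      intro c _
      exact ⟨(c / φ y) • y, by rw [map_smul, smul_eq_mul, div_mul_cancel₀ _ hy]⟩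
    have hrankH : Module.finrank k (LinearMap.ker φ) = n := by
      have h1 := LinearMap.finrank_range_add_finrank_ker φ
      rw [hrange, finrank_top, Module.finrank_self] at h1
      omega
    have hfH : Set.MapsTo f (LinearMap.ker φ) (LinearMap.ker φ) :=
      fun x _ => hφ (LinearMap.mem_range_self f x)
    obtain ⟨bH, hbH⟩ := ih (LinearMap.ker φ) hrankH (f.restrict hfH)
      (Module.End.isNilpotent.restrict hfH hf)
    have hli : ∀ (c : k), ∀ x ∈ LinearMap.ker φ, c • y + x = 0 → c = 0 := by
      intro c x hx hc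
      have h1 := congrArg φ hc
      rw [map_add, map_smul, LinearMap.mem_ker.mp hx, add_zero, map_zero, smul_eq_mul] at h1
      exact (mul_eq_zero.mp h1).resolve_right hy
    have hsp : ∀ z : V, ∃ c : k, z + c • y ∈ LinearMap.ker φ := by
      intro z
      refine ⟨-(φ z / φ y), ?_⟩
      rw [LinearMap.mem_ker, map_add, map_smul, smul_eq_mul, neg_mul, div_mul_cancel₀ _ hy,
        add_neg_cancel]
    refine ⟨Basis.mkFinSnoc bH y hli hsp, ?_⟩
    have hcoe := Basis.coe_mkFinSnoc bH y hli hsp
    intro j
    refine Fin.lastCases ?_ (fun j' => ?_) j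
    · -- last vector
      rw [hcoe, Fin.snoc_last]
      have h1 : f y ∈ LinearMap.ker φ := hφ (LinearMap.mem_range_self f y)
      have h2 : (⟨f y, h1⟩ : LinearMap.ker φ) ∈ Submodule.span k (Set.range bH) := by
        rw [bH.span_eq]; trivial
      have h3 := Submodule.apply_mem_span_image_of_mem_span (LinearMap.ker φ).subtype h2
      refine Submodule.span_mono ?_ h3
      rintro _ ⟨_, ⟨i, rfl⟩, rfl⟩
      refine ⟨Fin.castSucc i, Fin.castSucc_lt_last i, ?_⟩
      rw [Fin.snoc_castSucc]
      rfl
    · rw [hcoe, Fin.snoc_castSucc]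
      have h1 := hbH j'
      have h3 := Submodule.apply_mem_span_image_of_mem_span (LinearMap.ker φ).subtype h1
      have h4 : (LinearMap.ker φ).subtype ((f.restrict hfH) (bH j')) = f (bH j' : V) := rfl
      rw [h4] at h3
      refine Submodule.span_mono ?_ h3
      rintro _ ⟨_, ⟨i, hi, rfl⟩, rfl⟩
      refine ⟨Fin.castSucc i, Fin.castSucc_lt_castSucc_iff.mpr hi, ?_⟩
      rw [Fin.snoc_castSucc]
      rfl

/-- a nilpotent matrix over a field is `g * u * adj g` with `u` strictly upper triangular -/
theorem exists_conj_strictUpper {k : Type*} [Field k] {n : ℕ} (N : Matrix (Fin n) (Fin n) k)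
    (hN : IsNilpotent N) :
    ∃ (g u : Matrix (Fin n) (Fin n) k), (∀ i j, ¬ i < j → u i j = 0) ∧
      N = g * u * g.adjugate := by
  classical
  have hf : IsNilpotent (Matrix.toLin' N) := (Matrix.isNilpotent_toLin'_iff N).mpr hN
  obtain ⟨b, hb⟩ := exists_flag_basis k n (Fin n → k) (Module.finrank_fin_fun k) _ hf
  set std := Pi.basisFun k (Fin n) with hstd
  set g₀ := std.toMatrix b with hg₀
  set g₁ := b.toMatrix std with hg₁
  set u₀ := LinearMap.toMatrix b b (Matrix.toLin' N) with hu₀
  have h1 : g₀ * u₀ * g₁ = N := by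
    rw [hg₀, hu₀, hg₁, basis_toMatrix_mul_linearMap_toMatrix_mul_basis_toMatrix, hstd,
      LinearMap.toMatrix_eq_toMatrix', LinearMap.toMatrix'_toLin']
  have h2 : g₀ * g₁ = 1 := Basis.toMatrix_mul_toMatrix_flip std b
  have h3 : g₁ = (g₀.det)⁻¹ • g₀.adjugate := by
    rw [← Matrix.inv_eq_right_inv h2, Matrix.inv_def, Ring.inverse_eq_inv']
  refine ⟨g₀, (g₀.det)⁻¹ • u₀, ?_, ?_⟩
  · intro i j hij
    rw [Matrix.smul_apply, hu₀, LinearMap.toMatrix_apply]
    have h4 := Basis.repr_support_subset_of_mem_span b _ (hb j)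
    have h5 : i ∉ ((b.repr ((Matrix.toLin' N) (b j))).support : Set (Fin n)) :=
      fun h => hij (h4 h)
    rw [Finset.mem_coe, Finsupp.notMem_support_iff] at h5
    rw [h5, smul_zero]
  · rw [← h1, h3, Matrix.mul_smul, Matrix.mul_smul, Matrix.smul_mul]

end Groth.Agent.Lib.Helper2.NilTri
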