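import Mathlib

/-!
# Matrices of the form `G * U * adj G` with `U` strictly upper triangular are nilpotent (helper2)
-/

set_option autoImplicit false
universe u

namespace Groth.Agent.Lib.Helper2.NilTri

open Polynomial

theorem strictUpper_pow_eq_zero {R : Type*} [CommRing R] {n : ℕ} (U : Matrix (Fin n) (Fin n) R)
    (hU : ∀ i j, ¬ i < j → U i j = 0) : U ^ n = 0 := by
  have hbt : U.BlockTriangular id := by
    intro i j hij
    exact hU i j (not_lt.mpr (le_of_lt hij))
  have h1 := Matrix.charpoly_of_isUpperTriangular U hbt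
  have h2 : U.charpoly = X ^ n := by
    rw [h1]
    have : ∀ i : Fin n, (X - C (U i i) : R[X]) = X := by
      intro i
      rw [hU i i (lt_irrefl i), C_0, sub_zero]
    simp only [this, Finset.prod_const, Finset.card_univ, Fintype.card_fin]
  have h3 := Matrix.aeval_self_charpoly U
  rw [h2, map_pow, aeval_X] at h3
  exact h3

theorem conj_pow {R : Type*} [CommRing R] {n : ℕ} (G U : Matrix (Fin n) (Fin n) R) (m : ℕ) :
    (G * U * G.adjugate) ^ (m + 1) = G.det ^ m • (G * U ^ (m + 1) * G.adjugate) := by
  induction m with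
  | zero => simp
  | succ m ih =>
    rw [pow_succ, ih, Matrix.smul_mul]
    have h1 : G * U ^ (m + 1) * G.adjugate * (G * U * G.adjugate) =
        G * U ^ (m + 1) * (G.adjugate * G) * U * G.adjugate := by
      simp only [Matrix.mul_assoc]
    rw [h1, Matrix.adjugate_mul, Matrix.mul_smul, Matrix.mul_one, Matrix.smul_mul, Matrix.smul_mul,
      smul_smul, ← pow_succ, Matrix.mul_assoc G (U ^ (m + 1)) U, ← pow_succ]

theorem isNilpotent_conj {R : Type*} [CommRing R] {n : ℕ} (G U : Matrix (Fin n) (Fin n) R)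
    (hU : ∀ i j, ¬ i < j → U i j = 0) : IsNilpotent (G * U * G.adjugate) := by
  refine ⟨n + 1, ?_⟩
  rw [conj_pow, pow_succ, strictUpper_pow_eq_zero U hU, zero_mul, Matrix.mul_zero,
    Matrix.zero_mul, smul_zero]

theorem charpoly_eq_X_pow_of_isNilpotent {R : Type*} [CommRing R] [IsDomain R] {n : ℕ}
    (M : Matrix (Fin n) (Fin n) R) (hM : IsNilpotent M) : M.charpoly = X ^ n := by
  have h1 := Matrix.isNilpotent_charpoly_sub_pow_of_isNilpotent hM
  have h2 := h1.eq_zero
  rw [Fintype.card_fin] at h2
  exact sub_eq_zero.mp h2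

theorem charpoly_coeff_eq_zero_of_isNilpotent {R : Type*} [CommRing R] [IsDomain R] {n : ℕ}
    (M : Matrix (Fin n) (Fin n) R) (hM : IsNilpotent M) (i : ℕ) (hi : i < n) :
    M.charpoly.coeff i = 0 := by
  rw [charpoly_eq_X_pow_of_isNilpotent M hM, coeff_X_pow, if_neg (by omega)]

/-- a matrix whose characteristic polynomial has vanishing lower coefficients is nilpotent -/
theorem isNilpotent_of_charpoly_coeff {R : Type*} [CommRing R] [Nontrivial R] {n : ℕ}
    (M : Matrix (Fin n) (Fin n) R) (h : ∀ i : Fin n, M.charpoly.coeff (i : ℕ) = 0) :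
    IsNilpotent M := by
  have h1 : M.charpoly = X ^ n := by
    ext j
    rw [coeff_X_pow]
    rcases lt_trichotomy j n with hj | hj | hj
    · rw [if_neg (by omega)]
      exact h ⟨j, hj⟩
    · rw [if_pos hj]
      have h2 := (Matrix.charpoly_monic M).leadingCoeff
      rw [leadingCoeff, Matrix.charpoly_natDegree_eq_dim, Fintype.card_fin] at h2
      rw [hj]; exact h2
    · rw [if_neg (by omega)]
      apply coeff_eq_zero_of_natDegree_lt
      rw [Matrix.charpoly_natDegree_eq_dim, Fintype.card_fin]
      exact hj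
  refine ⟨n, ?_⟩
  have h3 := Matrix.aeval_self_charpoly M
  rw [h1, map_pow, aeval_X] at h3
  exact h3

end Groth.Agent.Lib.Helper2.NilTri
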