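import Groth.Agent.S15323

set_option autoImplicit false
set_option linter.style.haveILetI false
set_option linter.unusedVariables false
set_option linter.unusedSectionVars false
universe u

namespace Groth.Agent.Helper2.NodeColon

open ArLef ArLef.NodeAlg
open Groth.Agent.Helper23.NodeFix Groth.Agent.Helper23.NodeAlgLib Groth.Agent.Helper23.NodeLen
open Groth.Agent.Helper23.NodeCol Groth.Agent.S15323

section General

variable {A : Type u} [CommRing A]

/-- the colon of `D • (x, y, z)` by a regular element `D` -/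
theorem colon_eq (D x y z : A) (hD : ∀ w, D * w = 0 → w = 0) (I : Ideal A)
    (hI : I = Ideal.span {D * x, D * y, D * z}) :
    I.colon ({D} : Set A) = Ideal.span {x, y, z} := by
  ext r
  rw [Submodule.mem_colon_singleton, smul_eq_mul, hI]
  constructor
  · intro h
    obtain ⟨u, v, w, huvw⟩ := mem_span3.1 h
    have h1 : D * (r - (u * x + v * y + w * z)) = 0 := by
      linear_combination (-1 : A) * huvw
    have h2 := sub_eq_zero.1 (hD _ h1)
    rw [h2]
    exact mem_span3.2 ⟨u, v, w, rfl⟩
  · intro h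
    obtain ⟨u, v, w, rfl⟩ := mem_span3.1 h
    exact mem_span3.2 ⟨u, v, w, by ring⟩

end General

section Node

variable {B : Type u} [CommRing B] [IsDomain B] [IsDiscreteValuationRing B] (π : B)

theorem e_regular (hπ : Irreducible π) (z : NodeAlg B π) (hz : NodeAlg.e π * z = 0) : z = 0 :=
  Groth.Agent.S15320.e_regular π hπ z hz

theorem te_regular (hπ : Irreducible π) (m n : ℕ) (z : NodeAlg B π)
    (hz : NodeAlg.t π ^ m * NodeAlg.e π ^ n * z = 0) : z = 0 := by
  induction m with
  | zero =>
    induction n with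
    | zero => simpa using hz
    | succ n ih =>
      apply ih
      apply e_regular π hπ
      rw [← hz]; ring
  | succ m ih =>
    apply ih
    apply t_regular π hπ
    rw [← hz]; ring

/-- the fixed-point ideal in terms of `α`, `β` -/
theorem fixIdeal_eq (hπ : Irreducible π) (j : ℕ) (γ : B) (hγ : IsUnit γ)
    (σ : NodeAlg B π ≃+* NodeAlg B π)
    (hσB : ∀ c : B, σ (algebraMap B (NodeAlg B π) c) - algebraMap B (NodeAlg B π) c ∈
      Ideal.span ({algebraMap B (NodeAlg B π) (π ^ j)} : Set (NodeAlg B π)))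
    (hσπ : σ (algebraMap B (NodeAlg B π) π) = algebraMap B (NodeAlg B π) (π + γ * π ^ j))
    (α β : (NodeAlg B π)ˣ) (ht : σ (NodeAlg.t π) = (α : NodeAlg B π) * NodeAlg.t π)
    (he : σ (NodeAlg.e π) = (β : NodeAlg B π) * NodeAlg.e π) :
    fixIdeal σ = Ideal.span {((α : NodeAlg B π) - 1) * NodeAlg.t π,
      ((β : NodeAlg B π) - 1) * NodeAlg.e π, (algebraMap B (NodeAlg B π) π) ^ j} := by
  haveI : IsNoetherianRing (NodeAlg B π) := inferInstance
  set t := NodeAlg.t π with ht_def
  set e := NodeAlg.e π with he_def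
  set P : NodeAlg B π := algebraMap B (NodeAlg B π) π with hP
  set G : NodeAlg B π := algebraMap B (NodeAlg B π) γ with hG
  have hGu : IsUnit G := hγ.map _
  obtain ⟨Gu, hGu'⟩ := hGu
  have hσt : σ t - t = ((α : NodeAlg B π) - 1) * t := by rw [ht]; ring
  have hσe : σ e - e = ((β : NodeAlg B π) - 1) * e := by rw [he]; ring
  have hIx : ∀ x : NodeAlg B π, σ x - x ∈ fixIdeal σ := fun x => Ideal.subset_span ⟨x, rfl⟩
  apply le_antisymm
  · refine fixIdeal_le (σ : NodeAlg B π →+* NodeAlg B π) t e
      (Set.range (algebraMap B (NodeAlg B π))) (span_te_le_jac π) (node_decomp π) _ ?_ ?_ ?_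
    · change σ t - t ∈ _
      rw [hσt]; exact Ideal.subset_span (by simp)
    · change σ e - e ∈ _
      rw [hσe]; exact Ideal.subset_span (by simp)
    · rintro _ ⟨c, rfl⟩
      change σ (algebraMap B (NodeAlg B π) c) - algebraMap B (NodeAlg B π) c ∈ _
      have h1 := hσB c
      obtain ⟨d, hd⟩ := Ideal.mem_span_singleton'.1 h1
      rw [← hd, map_pow]
      exact Ideal.mul_mem_left _ _ (Ideal.subset_span (Or.inr (Or.inr rfl)))
  · rw [Ideal.span_le]
    intro x hx
    simp only [Set.mem_insert_iff, Set.mem_singleton_iff] at hx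
    rcases hx with rfl | rfl | rfl
    · rw [← hσt]; exact hIx _
    · rw [← hσe]; exact hIx _
    · have h1 : σ P - P = G * P ^ j := by
        rw [hσπ, map_add, map_mul, map_pow]; ring
      have : P ^ j = (↑Gu⁻¹ : NodeAlg B π) * (σ P - P) := by
        rw [h1, ← hGu', ← mul_assoc, Units.inv_mul, one_mul]
      rw [this]
      exact Ideal.mul_mem_left _ _ (hIx _)

/-- `αβ = 1 + γ π^{j-1}` -/
theorem alpha_mul_beta (hπ : Irreducible π) (j' : ℕ) (γ : B)
    (σ : NodeAlg B π ≃+* NodeAlg B π)
    (hσπ : σ (algebraMap B (NodeAlg B π) π) = algebraMap B (NodeAlg B π) (π + γ * π ^ (j' + 1)))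
    (α β : (NodeAlg B π)ˣ) (ht : σ (NodeAlg.t π) = (α : NodeAlg B π) * NodeAlg.t π)
    (he : σ (NodeAlg.e π) = (β : NodeAlg B π) * NodeAlg.e π) :
    (α : NodeAlg B π) * β = 1 + algebraMap B (NodeAlg B π) γ * (algebraMap B (NodeAlg B π) π) ^ j' := by
  set t := NodeAlg.t π with ht_def
  set e := NodeAlg.e π with he_def
  set P : NodeAlg B π := algebraMap B (NodeAlg B π) π with hP
  set G : NodeAlg B π := algebraMap B (NodeAlg B π) γ with hG
  have hte : t * e = P := (mkN_C_eq π).symm
  have h1 : σ (t * e) = P + G * P ^ (j' + 1) := by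
    rw [hte, hσπ, map_add, map_mul, map_pow]
  rw [map_mul, ht, he] at h1
  have h2 : P * ((α : NodeAlg B π) * β - (1 + G * P ^ j')) = 0 := by
    rw [pow_succ] at h1
    rw [← hte] at h1 ⊢
    linear_combination h1
  exact sub_eq_zero.1 (Groth.Agent.S15319.pi_regular B π hπ.prime _ h2)

end Node

end Groth.Agent.Helper2.NodeColon
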