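import Mathlib

namespace Groth.Agent.Lib.Helper2.NormalAway

open Polynomial

/-- the induction step: if `z x^k = r` with `z` integral and `(x)` radical then `z ∈ R` -/
theorem exists_of_mul_pow {R : Type*} [CommRing R] [IsDomain R] (x : R) (hx : x ≠ 0)
    (hrad : (Ideal.span {x}).IsRadical) (F : Type*) [Field F] [Algebra R F] [IsFractionRing R F]
    (z : F) (hz : IsIntegral R z) :
    ∀ (k : ℕ) (r : R), z * (algebraMap R F x) ^ k = algebraMap R F r → ∃ y, algebraMap R F y = z := by
  have hinj : Function.Injective (algebraMap R F) := IsFractionRing.injective R F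
  intro k
  induction k with
  | zero =>
    intro r hr
    exact ⟨r, by rw [← hr, pow_zero, mul_one]⟩
  | succ k ih =>
    intro r hr
    obtain ⟨p, hmonic, hp⟩ := hz
    have h1 : eval₂ (algebraMap R F) (algebraMap R F r) (scaleRoots p (x ^ (k + 1))) = 0 := by
      have := scaleRoots_eval₂_mul (p := p) (algebraMap R F) z (x ^ (k + 1))
      rw [hp, mul_zero, map_pow, mul_comm, hr] at this
      exact this
    have h2 : (scaleRoots p (x ^ (k + 1))).IsRoot r := by
      rw [IsRoot.def]
      apply hinj
      rw [map_zero, ← h1, Polynomial.eval₂_at_apply]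
    have hxk : x ^ (k + 1) ∈ Ideal.span {x} := by
      rw [pow_succ]
      exact Ideal.mul_mem_left _ _ (Ideal.subset_span rfl)
    have h3 : (scaleRoots p (x ^ (k + 1))).IsWeaklyEisensteinAt (Ideal.span {x}) :=
      scaleRoots.isWeaklyEisensteinAt p hxk
    have h4 := h3.pow_natDegree_le_of_root_of_monic_mem h2 ((monic_scaleRoots_iff _).mpr hmonic) _
      (le_refl _)
    have h5 : r ∈ Ideal.span {x} := hrad ⟨_, h4⟩
    obtain ⟨r', hr'⟩ := Ideal.mem_span_singleton'.mp h5
    apply ih r'
    have hx' : algebraMap R F x ≠ 0 := fun h => hx (hinj (by rw [h, map_zero]))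
    apply mul_right_cancel₀ hx'
    rw [mul_assoc, ← pow_succ, hr, ← hr', map_mul]

/-- a domain `R` with `R/(x)` reduced and `R[1/x]` integrally closed is integrally closed -/
theorem isIntegrallyClosed_of_away {R : Type*} [CommRing R] [IsDomain R] (x : R) (hx : x ≠ 0)
    (hrad : (Ideal.span {x}).IsRadical) (hloc : IsIntegrallyClosed (Localization.Away x)) :
    IsIntegrallyClosed R := by
  rw [isIntegrallyClosed_iff (FractionRing R)]
  intro z hz
  have hle : Submonoid.powers x ≤ nonZeroDivisors R :=
    Submonoid.powers_le.mpr (mem_nonZeroDivisors_of_ne_zero hx)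
  have hunit : ∀ y : Submonoid.powers x, IsUnit (algebraMap R (FractionRing R) y) := by
    intro y
    apply IsUnit.mk0
    intro h
    have := (IsFractionRing.injective R (FractionRing R)) (by rw [h, map_zero] : algebraMap R (FractionRing R) y = algebraMap R (FractionRing R) 0)
    exact (nonZeroDivisors.ne_zero (hle y.2)) this
  letI : Algebra (Localization.Away x) (FractionRing R) := (IsLocalization.lift hunit).toAlgebra
  haveI : IsScalarTower R (Localization.Away x) (FractionRing R) :=
    IsScalarTower.of_algebraMap_eq (fun r => (IsLocalization.lift_eq hunit r).symm)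
  haveI : IsDomain (Localization.Away x) := IsLocalization.isDomain_localization hle
  haveI : IsFractionRing (Localization.Away x) (FractionRing R) :=
    IsFractionRing.isFractionRing_of_isDomain_of_isLocalization (Submonoid.powers x) _ _
  have hz' : IsIntegral (Localization.Away x) z := hz.tower_top
  obtain ⟨y', hy'⟩ := (IsIntegrallyClosed.isIntegral_iff (R := Localization.Away x)
    (K := FractionRing R)).mp hz'
  obtain ⟨r, ⟨_, k, rfl⟩, rfl⟩ := IsLocalization.exists_mk'_eq (Submonoid.powers x) y'
  apply exists_of_mul_pow x hx hrad (FractionRing R) z hz k r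
  have hspec := IsLocalization.mk'_spec (Localization.Away x) r (⟨x ^ k, k, rfl⟩ : Submonoid.powers x)
  have := congrArg (algebraMap (Localization.Away x) (FractionRing R)) hspec
  rw [map_mul, hy', ← IsScalarTower.algebraMap_apply, ← IsScalarTower.algebraMap_apply] at this
  rw [← this, map_pow]

end Groth.Agent.Lib.Helper2.NormalAway
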