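import Mathlib
import Groth.Agent.Lib.Helper2.OL3
import Groth.Agent.Lib.Helper2.Oli1
import Groth.Agent.Lib.Helper3.WEField

/-!
# A local weakly étale algebra over a normal domain is a normal domain
-/

namespace Groth.Agent.Helper2.OL

universe u

open TensorProduct

section Normal

variable (A : Type u) [CommRing A] [IsDomain A] [IsIntegrallyClosed A]
  (B : Type u) [CommRing B] [IsLocalRing B] [Algebra A B] [Algebra.WeaklyEtale A B]

/-- the generic fibre of a local weakly étale algebra over a normal domain is a field -/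
theorem isField_generic_fibre : IsField (B ⊗[A] FractionRing A) := by
  let K := FractionRing A
  have hic : IsIntegrallyClosedIn B (B ⊗[A] K) :=
    isIntegrallyClosedIn_of_weaklyEtale (A := A) (K := K) B
  have hinj : Function.Injective (algebraMap B (B ⊗[A] K)) := (isIntegrallyClosedIn_iff.mp hic).1
  haveI : Nontrivial (B ⊗[A] K) := hinj.nontrivial
  -- von Neumann regularity, transported from `K ⊗[A] B`
  let e : B ⊗[A] K ≃+* K ⊗[A] B := (Algebra.TensorProduct.comm A B K).toRingEquiv
  have hvn : ∀ a : B ⊗[A] K, ∃ x, a = a * a * x := by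
    intro a
    obtain ⟨x, hx⟩ := Groth.Agent.Helper3.WEField.exists_sq_mul (K := K) (A := K ⊗[A] B) (e a)
    refine ⟨e.symm x, ?_⟩
    apply e.injective
    rw [map_mul, map_mul, e.apply_symm_apply]
    exact hx
  -- idempotents are trivial
  have hid : ∀ t : B ⊗[A] K, IsIdempotentElem t → t = 0 ∨ t = 1 := by
    intro t ht
    have hint : IsIntegral B t := by
      refine ⟨Polynomial.X ^ 2 - Polynomial.X, Polynomial.monic_X_pow_sub (by simp), ?_⟩
      simp [pow_two, ht.eq]
    obtain ⟨b, rfl⟩ := (isIntegrallyClosedIn_iff.mp hic).2 hint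
    have hb : IsIdempotentElem b := by
      have := ht.eq
      rw [← map_mul] at this
      exact hinj this
    rcases Groth.Agent.Helper2.Oli.isIdempotentElem_trivial_of_isLocalRing b hb with h | h
    · left; rw [h, map_zero]
    · right; rw [h, map_one]
  refine ⟨exists_pair_ne _, mul_comm, ?_⟩
  intro a ha
  obtain ⟨x, hx⟩ := hvn a
  have hidem : IsIdempotentElem (a * x) := by
    unfold IsIdempotentElem
    calc a * x * (a * x) = (a * a * x) * x := by ring
      _ = a * x := by rw [← hx]
  rcases hid _ hidem with h | h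
  · exfalso
    apply ha
    calc a = a * a * x := hx
      _ = a * (a * x) := by ring
      _ = 0 := by rw [h, mul_zero]
  · exact ⟨x, h⟩

theorem isDomain_of_weaklyEtale_of_isLocalRing (A : Type u) [CommRing A] [IsDomain A]
    [IsIntegrallyClosed A] (B : Type u) [CommRing B] [IsLocalRing B] [Algebra A B]
    [Algebra.WeaklyEtale A B] : IsDomain B := by
  let K := FractionRing A
  have hic : IsIntegrallyClosedIn B (B ⊗[A] K) :=
    isIntegrallyClosedIn_of_weaklyEtale (A := A) (K := K) B
  have hinj : Function.Injective (algebraMap B (B ⊗[A] K)) := (isIntegrallyClosedIn_iff.mp hic).1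
  letI : Field (B ⊗[A] K) := (isField_generic_fibre A B).toField
  exact hinj.isDomain (algebraMap B (B ⊗[A] K))

theorem isIntegrallyClosed_of_weaklyEtale_of_isLocalRing (A : Type u) [CommRing A] [IsDomain A]
    [IsIntegrallyClosed A] (B : Type u) [CommRing B] [IsLocalRing B] [Algebra A B]
    [Algebra.WeaklyEtale A B] : IsIntegrallyClosed B := by
  let K := FractionRing A
  haveI hic : IsIntegrallyClosedIn B (B ⊗[A] K) :=
    isIntegrallyClosedIn_of_weaklyEtale (A := A) (K := K) B
  have hinj : Function.Injective (algebraMap B (B ⊗[A] K)) := (isIntegrallyClosedIn_iff.mp hic).1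
  letI : Field (B ⊗[A] K) := (isField_generic_fibre A B).toField
  haveI : IsDomain B := isDomain_of_weaklyEtale_of_isLocalRing A B
  haveI : FaithfulSMul B (B ⊗[A] K) := (faithfulSMul_iff_algebraMap_injective _ _).mpr hinj
  exact IsIntegrallyClosed.of_isIntegrallyClosed_of_isIntegrallyClosedIn (R := B) (S := B ⊗[A] K)

end Normal

end Groth.Agent.Helper2.OL
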