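import Mathlib.RingTheory.Ideal.KrullsHeightTheorem
import Mathlib.RingTheory.Ideal.MinimalPrime.Noetherian
import Mathlib.RingTheory.Ideal.MinimalPrime.Localization
import Mathlib.RingTheory.Ideal.Height
import Mathlib.AlgebraicGeometry.AffineScheme
import Mathlib.AlgebraicGeometry.Noetherian

set_option autoImplicit false
universe u

open CategoryTheory AlgebraicGeometry TopologicalSpace

namespace Groth.Agent.Helper2.OpenGeneric

/-- Domain version: in a Noetherian domain in which every nonzero prime contains a fixed nonzero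
element `f`, every nonzero prime is a minimal prime over `(f)`. -/
theorem mem_minimalPrimes_of_domain {B : Type u} [CommRing B] [IsDomain B] [IsNoetherianRing B]
    (f : B) (hf0 : f ≠ 0) (hf : ∀ q : Ideal B, q.IsPrime → q ≠ ⊥ → f ∈ q)
    (q : Ideal B) [hq : q.IsPrime] (hq0 : q ≠ ⊥) : q ∈ (Ideal.span {f}).minimalPrimes := by
  classical
  -- every height ≤ 1 nonzero prime is minimal over (f)
  have key : ∀ p' : Ideal B, p'.IsPrime → p' ≠ ⊥ → p'.height ≤ 1 →
      p' ∈ (Ideal.span {f}).minimalPrimes := by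
    intro p' hp' hp'0 hht
    refine ⟨⟨hp', (Ideal.span_singleton_le_iff_mem _).mpr (hf p' hp' hp'0)⟩, ?_⟩
    rintro p'' ⟨hp'', hfp''⟩ hle
    by_contra hnle
    have hlt : p'' < p' := lt_of_le_of_ne hle (fun h => hnle (h ▸ le_refl _))
    have h1 : p''.height < p'.height := Ideal.height_strict_mono_of_isPrime_of_isPrime hlt
    have h2 : p''.height = 0 := by
      have : p''.height < 1 := lt_of_lt_of_le h1 hht
      exact Order.lt_one_iff.mp this
    rw [Ideal.height_eq_zero_iff, IsDomain.minimalPrimes_eq_singleton_bot] at h2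
    have h3 : p'' = ⊥ := h2
    have : f ∈ p'' := (Ideal.span_singleton_le_iff_mem _).mp hfp''
    rw [h3] at this
    exact hf0 this
  have hfin : (Ideal.span {f} : Ideal B).minimalPrimes.Finite :=
    Ideal.finite_minimalPrimes_of_isNoetherianRing B _
  -- q is contained in the union of the minimal primes over (f) contained in q
  have hsub : (q : Set B) ⊆ ⋃ p' ∈ (↑(hfin.toFinset.filter (fun p' => p' ≤ q)) : Set (Ideal B)),
      (p' : Set B) := by
    intro x hx
    -- pick a nonzero element y of q (x itself if nonzero)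
    obtain ⟨y, hyq, hy0, hxy⟩ : ∃ y ∈ q, y ≠ 0 ∧ (x ≠ 0 → y = x) := by
      by_cases hx0 : x = 0
      · obtain ⟨y, hy, hy0⟩ := Submodule.exists_mem_ne_zero_of_ne_bot hq0
        exact ⟨y, hy, hy0, fun h => (h hx0).elim⟩
      · exact ⟨x, hx, hx0, fun _ => rfl⟩
    obtain ⟨p', hp'min, hp'q⟩ := Ideal.exists_minimalPrimes_le
      (show Ideal.span {y} ≤ q from (Ideal.span_singleton_le_iff_mem _).mpr hyq)
    have hp' : p'.IsPrime := hp'min.isPrime
    have hyp' : y ∈ p' := (Ideal.span_singleton_le_iff_mem _).mp hp'min.1.2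
    have hp'0 : p' ≠ ⊥ := fun h => hy0 (by rw [h] at hyp'; exact hyp')
    have hht : p'.height ≤ 1 :=
      Ideal.height_le_one_of_isPrincipal_of_mem_minimalPrimes (Ideal.span {y}) p' hp'min
    have hmem := key p' hp' hp'0 hht
    simp only [Finset.coe_filter, Set.Finite.mem_toFinset, Set.mem_ofPred_eq, Set.mem_iUnion,
      SetLike.mem_coe, exists_prop]
    refine ⟨p', ⟨hmem, hp'q⟩, ?_⟩
    by_cases hx0 : x = 0
    · rw [hx0]; exact zero_mem _
    · rw [← hxy hx0]; exact hyp'
  obtain ⟨p₁, hp₁⟩ : ∃ p₁, p₁ ∈ hfin.toFinset.filter (fun p' => p' ≤ q) := by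
    obtain ⟨y, hy, hy0⟩ := Submodule.exists_mem_ne_zero_of_ne_bot hq0
    have := hsub hy
    simp only [Set.mem_iUnion] at this
    obtain ⟨p', hp', -⟩ := this
    exact ⟨p', hp'⟩
  rw [Ideal.subset_union_prime p₁ p₁ (fun p' hp' _ _ => by
    have := (Finset.mem_filter.mp hp').1
    exact (hfin.mem_toFinset.mp this).isPrime)] at hsub
  obtain ⟨p', hp', hqp'⟩ := hsub
  have h1 := Finset.mem_filter.mp hp'
  have h2 : p' = q := le_antisymm h1.2 hqp'
  rw [← h2]
  exact hfin.mem_toFinset.mp h1.1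

/-- Relative version: `A` Noetherian, `p₀` prime, `f ∉ p₀` lying in every prime strictly
containing `p₀`. Then every prime strictly containing `p₀` is minimal over `(f) + p₀`. -/
theorem mem_minimalPrimes_of_lt {A : Type u} [CommRing A] [IsNoetherianRing A]
    (p₀ : Ideal A) [hp₀ : p₀.IsPrime] (f : A) (hf0 : f ∉ p₀)
    (hf : ∀ q : Ideal A, q.IsPrime → p₀ < q → f ∈ q)
    (q : Ideal A) [hq : q.IsPrime] (hlt : p₀ < q) :
    q ∈ (Ideal.span {f} ⊔ p₀).minimalPrimes := by
  let π := Ideal.Quotient.mk p₀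
  have hπ : Function.Surjective π := Ideal.Quotient.mk_surjective
  have hker : RingHom.ker π = p₀ := Ideal.mk_ker
  have hcomap_bot : Ideal.comap π ⊥ = p₀ := by rw [← RingHom.ker_eq_comap_bot, hker]
  have hf0' : π f ≠ 0 := by
    intro h
    exact hf0 (Ideal.Quotient.eq_zero_iff_mem.mp h)
  have hf' : ∀ Q : Ideal (A ⧸ p₀), Q.IsPrime → Q ≠ ⊥ → π f ∈ Q := by
    intro Q hQ hQ0
    have hle : p₀ ≤ Q.comap π := hcomap_bot.symm.le.trans (Ideal.comap_mono bot_le)
    have hne : p₀ ≠ Q.comap π := by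
      intro h
      apply hQ0
      have h1 : (Q.comap π).map π = Q := Ideal.map_comap_of_surjective π hπ Q
      have h2 : (Q.comap π).map π = ⊥ :=
        (Ideal.map_eq_bot_iff_le_ker π).mpr (h.symm.le.trans hker.symm.le)
      rw [← h1, h2]
    exact hf (Q.comap π) inferInstance (lt_of_le_of_ne hle hne)
  have hkerq : RingHom.ker π ≤ q := by rw [hker]; exact hlt.le
  haveI hQ : (q.map π).IsPrime := Ideal.map_isPrime_of_surjective hπ hkerq
  have hcm : (q.map π).comap π = q := by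
    rw [Ideal.comap_map_of_surjective π hπ, hcomap_bot]
    exact sup_eq_left.mpr hlt.le
  have hQ0 : q.map π ≠ ⊥ := by
    intro h
    have : q ≤ p₀ := by
      rw [← hcm, h, hcomap_bot]
    exact (not_le_of_gt hlt) this
  have hmem := mem_minimalPrimes_of_domain (π f) hf0' hf' (q.map π) hQ0
  have h2 := Ideal.minimalPrimes_comap_of_surjective hπ hmem
  rw [hcm] at h2
  have h3 : Ideal.comap π (Ideal.span {π f}) = Ideal.span {f} ⊔ p₀ := by
    rw [← Set.image_singleton, ← Ideal.map_span, Ideal.comap_map_of_surjective π hπ, hcomap_bot]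
  rw [h3] at h2
  exact h2

/-- Scheme version. Let `U` be an affine open with Noetherian coordinate ring, `z ∈ U`, and `O`
an open containing `z` such that `z` is the only specialization of `z` inside `O`.
Then there is a finite set `M` of primes of `Γ(X, U)` such that every `y ∈ U` with `z ⤳ y`,
`y ≠ z` has its prime in `M`, and (chain condition) `z ⤳ y' ⤳ y` in `U` implies
`y' = z ∨ y' = y`. -/
theorem finite_specializations {X : Scheme.{u}} {U : X.Opens} (hU : IsAffineOpen U)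
    [IsNoetherianRing Γ(X, U)] (z : X) (hzU : z ∈ U) (O : Set X) (hO : IsOpen O) (hzO : z ∈ O)
    (hOz : ∀ y ∈ O, z ⤳ y → y = z) :
    {y : X | y ∈ U ∧ z ⤳ y}.Finite ∧
      ∀ y' y : X, y ∈ U → z ⤳ y' → y' ⤳ y → y' = z ∨ y' = y := by
  classical
  let p₀ := hU.primeIdealOf ⟨z, hzU⟩
  have hp₀ : hU.fromSpec p₀ = z := hU.fromSpec_primeIdealOf ⟨z, hzU⟩
  have hinj : Function.Injective hU.fromSpec := hU.fromSpec.isOpenEmbedding.injective
  -- a basic open around p₀ inside the preimage of O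
  obtain ⟨_, ⟨f, rfl⟩, hfp₀, hfO⟩ := PrimeSpectrum.isTopologicalBasis_basic_opens.exists_subset_of_mem_open
    (show p₀ ∈ hU.fromSpec ⁻¹' O by change hU.fromSpec p₀ ∈ O; rw [hp₀]; exact hzO)
    (hO.preimage hU.fromSpec.continuous)
  have hf0 : f ∉ p₀.asIdeal := hfp₀
  have hspec : ∀ q : PrimeSpectrum Γ(X, U), p₀.asIdeal ≤ q.asIdeal → z ⤳ hU.fromSpec q := by
    intro q hle
    rw [← hp₀]
    exact ((PrimeSpectrum.le_iff_specializes p₀ q).mp hle).map hU.fromSpec.continuous
  have hle_of : ∀ a b : PrimeSpectrum Γ(X, U), hU.fromSpec a ⤳ hU.fromSpec b →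
      a.asIdeal ≤ b.asIdeal := fun a b h =>
    (PrimeSpectrum.le_iff_specializes a b).mpr
      (hU.fromSpec.isOpenEmbedding.isInducing.specializes_iff.mp h)
  have hf : ∀ q : Ideal Γ(X, U), q.IsPrime → p₀.asIdeal < q → f ∈ q := by
    intro q hq hlt
    by_contra hfq
    let q' : PrimeSpectrum Γ(X, U) := ⟨q, hq⟩
    have h1 : hU.fromSpec q' ∈ O := hfO (show q' ∈ PrimeSpectrum.basicOpen f from hfq)
    have h2 := hOz _ h1 (hspec q' hlt.le)
    rw [← hp₀] at h2
    have h3 : q' = p₀ := hinj h2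
    have : q = p₀.asIdeal := congrArg PrimeSpectrum.asIdeal h3
    exact (ne_of_gt hlt) this
  haveI : p₀.asIdeal.IsPrime := p₀.isPrime
  set M := (Ideal.span {f} ⊔ p₀.asIdeal).minimalPrimes with hM
  have hMfin : M.Finite := Ideal.finite_minimalPrimes_of_isNoetherianRing _ _
  have hmem : ∀ q : PrimeSpectrum Γ(X, U), p₀.asIdeal < q.asIdeal → q.asIdeal ∈ M := by
    intro q hlt
    haveI := q.isPrime
    exact mem_minimalPrimes_of_lt p₀.asIdeal f hf0 hf q.asIdeal hlt
  -- primes of points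
  have hprime : ∀ y : X, ∀ hy : y ∈ U, z ⤳ y →
      p₀.asIdeal ≤ (hU.primeIdealOf ⟨y, hy⟩).asIdeal := by
    intro y hy hzy
    apply hle_of
    have e1 : hU.fromSpec (hU.primeIdealOf ⟨y, hy⟩) = y := hU.fromSpec_primeIdealOf ⟨y, hy⟩
    rw [hp₀, e1]
    exact hzy
  constructor
  · have hsub : {y : X | y ∈ U ∧ z ⤳ y} ⊆
        hU.fromSpec '' (insert p₀ (PrimeSpectrum.asIdeal ⁻¹' M)) := by
      rintro y ⟨hy, hzy⟩
      refine ⟨hU.primeIdealOf ⟨y, hy⟩, ?_, hU.fromSpec_primeIdealOf ⟨y, hy⟩⟩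
      have hle := hprime y hy hzy
      rcases eq_or_lt_of_le hle with h | h
      · left
        exact (PrimeSpectrum.ext h).symm
      · right
        exact hmem _ h
    refine Set.Finite.subset (Set.Finite.image _ (Set.Finite.insert _ ?_)) hsub
    exact hMfin.preimage (fun a _ b _ h => PrimeSpectrum.ext h)
  · intro y' y hy hzy' hy'y
    have hy' : y' ∈ U := hy'y.mem_open U.isOpen hy
    by_contra hcon
    push Not at hcon
    obtain ⟨hne1, hne2⟩ := hcon
    have hle1 := hprime y' hy' hzy'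
    have hlt1 : p₀.asIdeal < (hU.primeIdealOf ⟨y', hy'⟩).asIdeal := by
      refine lt_of_le_of_ne hle1 ?_
      intro h
      apply hne1
      have : p₀ = hU.primeIdealOf ⟨y', hy'⟩ := PrimeSpectrum.ext h
      have e1 : hU.fromSpec (hU.primeIdealOf ⟨y', hy'⟩) = y' :=
        hU.fromSpec_primeIdealOf ⟨y', hy'⟩
      exact e1.symm.trans ((congrArg hU.fromSpec this.symm).trans hp₀)
    have hle2 : (hU.primeIdealOf ⟨y', hy'⟩).asIdeal ≤ (hU.primeIdealOf ⟨y, hy⟩).asIdeal := by
      apply hle_of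
      have e1 : hU.fromSpec (hU.primeIdealOf ⟨y', hy'⟩) = y' :=
        hU.fromSpec_primeIdealOf ⟨y', hy'⟩
      have e2 : hU.fromSpec (hU.primeIdealOf ⟨y, hy⟩) = y := hU.fromSpec_primeIdealOf ⟨y, hy⟩
      rw [e1, e2]
      exact hy'y
    have hm1 := hmem _ hlt1
    have hm2 := hmem _ (lt_of_lt_of_le hlt1 hle2)
    have hle3 : (hU.primeIdealOf ⟨y, hy⟩).asIdeal ≤ (hU.primeIdealOf ⟨y', hy'⟩).asIdeal :=
      hm2.2 hm1.1 hle2
    have heq : hU.primeIdealOf ⟨y', hy'⟩ = hU.primeIdealOf ⟨y, hy⟩ :=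
      PrimeSpectrum.ext (le_antisymm hle2 hle3)
    apply hne2
    have e1 : hU.fromSpec (hU.primeIdealOf ⟨y', hy'⟩) = y' :=
      hU.fromSpec_primeIdealOf ⟨y', hy'⟩
    have e2 : hU.fromSpec (hU.primeIdealOf ⟨y, hy⟩) = y := hU.fromSpec_primeIdealOf ⟨y, hy⟩
    exact e1.symm.trans ((congrArg hU.fromSpec heq).trans e2)

end Groth.Agent.Helper2.OpenGeneric
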