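import Mathlib.AlgebraicGeometry.AffineScheme
import Mathlib.RingTheory.Ideal.Operations
import Mathlib.RingTheory.Spectrum.Prime.Topology

set_option autoImplicit false
universe u
open CategoryTheory AlgebraicGeometry TopologicalSpace

namespace Groth.Agent.Helper2.PrimeAvoid

/-- Prime avoidance in `Spec R`: finitely many points of an open subset lie in a basic open
contained in it. -/
theorem exists_basicOpen_of_finite_spec {R : Type u} [CommRing R] (W : Opens (PrimeSpectrum R))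
    (T : Finset (PrimeSpectrum R)) (hT : ∀ p ∈ T, p ∈ W) :
    ∃ a : R, (∀ p ∈ T, p ∈ PrimeSpectrum.basicOpen a) ∧ PrimeSpectrum.basicOpen a ≤ W := by
  classical
  rcases T.eq_empty_or_nonempty with rfl | ⟨p₀, hp₀⟩
  · refine ⟨0, by simp, ?_⟩
    rw [PrimeSpectrum.basicOpen_zero]
    exact bot_le
  let I : Ideal R := PrimeSpectrum.vanishingIdeal ((W : Set (PrimeSpectrum R))ᶜ)
  have hI : PrimeSpectrum.zeroLocus (I : Set R) = (W : Set (PrimeSpectrum R))ᶜ := by
    rw [PrimeSpectrum.zeroLocus_vanishingIdeal_eq_closure]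
    exact (W.isOpen.isClosed_compl).closure_eq
  have hnot : ∀ p ∈ T, ¬ I ≤ p.asIdeal := by
    intro p hp hle
    have : p ∈ PrimeSpectrum.zeroLocus (I : Set R) := hle
    rw [hI] at this
    exact this (hT p hp)
  have h2 : ¬ ((I : Set R) ⊆ ⋃ p ∈ (↑T : Set (PrimeSpectrum R)), (p.asIdeal : Set R)) := by
    rw [Ideal.subset_union_prime (f := fun p : PrimeSpectrum R => p.asIdeal) p₀ p₀
      (fun p _ _ _ => p.isPrime)]
    rintro ⟨p, hp, hle⟩
    exact hnot p hp hle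
  rw [Set.not_subset] at h2
  obtain ⟨c, hcI, hc⟩ := h2
  refine ⟨c, ?_, ?_⟩
  · intro p hp hcp
    apply hc
    simp only [Set.mem_iUnion]
    exact ⟨p, hp, hcp⟩
  · intro q hq
    by_contra hqW
    have : q ∈ PrimeSpectrum.zeroLocus (I : Set R) := by
      rw [hI]
      exact hqW
    exact hq (this hcI)

/-- Prime avoidance on an affine open: finitely many points of `U ∩ W` (with `U` affine open)
lie in a basic open `D(a) ⊆ W`, `a ∈ Γ(X, U)`. -/
theorem exists_basicOpen_of_finite {X : Scheme.{u}} {U : X.Opens} (hU : IsAffineOpen U)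
    (W : X.Opens) (T : Finset X) (hT : ∀ x ∈ T, x ∈ U ∧ x ∈ W) :
    ∃ a : Γ(X, U), (∀ x ∈ T, x ∈ X.basicOpen a) ∧ X.basicOpen a ≤ W := by
  classical
  let W' : Opens (PrimeSpectrum Γ(X, U)) := hU.fromSpec ⁻¹ᵁ W
  let T' : Finset (PrimeSpectrum Γ(X, U)) :=
    T.attach.image (fun x => hU.primeIdealOf ⟨x.1, (hT x.1 x.2).1⟩)
  have hT' : ∀ p ∈ T', p ∈ W' := by
    intro p hp
    obtain ⟨x, -, rfl⟩ := Finset.mem_image.mp hp
    change hU.fromSpec (hU.primeIdealOf ⟨x.1, (hT x.1 x.2).1⟩) ∈ W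
    rw [hU.fromSpec_primeIdealOf]
    exact (hT x.1 x.2).2
  obtain ⟨a, ha1, ha2⟩ := exists_basicOpen_of_finite_spec W' T' hT'
  refine ⟨a, ?_, ?_⟩
  · intro x hx
    have h1 : hU.primeIdealOf ⟨x, (hT x hx).1⟩ ∈ T' :=
      Finset.mem_image.mpr ⟨⟨x, hx⟩, Finset.mem_attach _ _, rfl⟩
    have h2 := ha1 _ h1
    have h3 : hU.primeIdealOf ⟨x, (hT x hx).1⟩ ∈ hU.fromSpec ⁻¹ᵁ X.basicOpen a := by
      rw [hU.fromSpec_preimage_basicOpen]
      exact h2
    have h4 : hU.fromSpec (hU.primeIdealOf ⟨x, (hT x hx).1⟩) = x :=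
      hU.fromSpec_primeIdealOf ⟨x, (hT x hx).1⟩
    rw [← h4]
    exact h3
  · rw [← hU.fromSpec_image_basicOpen]
    rintro _ ⟨q, hq, rfl⟩
    exact ha2 hq

end Groth.Agent.Helper2.PrimeAvoid
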