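import Mathlib
import Groth.Prelude.Def_ProEtS
import Groth.Prelude.Def_PBC

/-!
# Points of the small pro-étale site attached to a point of a w-contractible affine object
-/

namespace Groth.Agent.Helper2.ProEtPt

universe u

open CategoryTheory CategoryTheory.Limits AlgebraicGeometry Opposite

variable {S : Scheme.{u}}

/-- Clopen neighbourhoods of a point `w` of the underlying scheme of `W`. -/
def Nbhd (W : S.ProEt) (w : ↥W.left) : Type u :=
  {V : W.left.Opens // IsClopen (V : Set ↥W.left) ∧ w ∈ V}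

instance (W : S.ProEt) (w : ↥W.left) : Preorder (Nbhd W w) :=
  inferInstanceAs (Preorder {V : W.left.Opens // IsClopen (V : Set ↥W.left) ∧ w ∈ V})

/-- The whole space as a clopen neighbourhood. -/
def Nbhd.top (W : S.ProEt) (w : ↥W.left) : Nbhd W w :=
  ⟨⊤, by simpa using isClopen_univ, trivial⟩

instance (W : S.ProEt) (w : ↥W.left) : Nonempty (Nbhd W w) := ⟨Nbhd.top W w⟩

instance (W : S.ProEt) (w : ↥W.left) : IsDirected (Nbhd W w) (· ≥ ·) where
  directed a b := by
    refine ⟨⟨a.1 ⊓ b.1, ?_, ⟨a.2.2, b.2.2⟩⟩, ?_, ?_⟩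
    · exact a.2.1.inter b.2.1
    · exact (inf_le_left : a.1 ⊓ b.1 ≤ a.1)
    · exact (inf_le_right : a.1 ⊓ b.1 ≤ b.1)

instance (W : S.ProEt) (w : ↥W.left) : IsCofiltered (Nbhd W w) := inferInstance

set_option backward.isDefEq.respectTransparency.types false in
/-- The functor sending a clopen neighbourhood to the corresponding object of the small
pro-étale site. -/
noncomputable def nbhdFunctor (W : S.ProEt) (w : ↥W.left) : Nbhd W w ⥤ S.ProEt where
  obj V := Scheme.ProEt.mk (V.1.ι ≫ W.hom)
  map {V U} h := MorphismProperty.Over.homMk (W.left.homOfLE (leOfHom h)) (by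
    change W.left.homOfLE _ ≫ (U.1.ι ≫ W.hom) = V.1.ι ≫ W.hom
    rw [Scheme.homOfLE_ι_assoc])
  map_id V := by
    apply MorphismProperty.Over.Hom.ext
    exact Scheme.homOfLE_rfl _ _
  map_comp {V U T} f g := by
    apply MorphismProperty.Over.Hom.ext
    exact (Scheme.homOfLE_homOfLE W.left (leOfHom f) (leOfHom g)).symm

end Groth.Agent.Helper2.ProEtPt
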