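import Mathlib
import Groth.Prelude.Def_ProEtS
import Groth.Prelude.Def_PBC
import Groth.Agent.S0725
import Groth.Agent.Lib.Helper2.ProEtPt1

/-!
# Points of the small pro-étale site: the lifting condition
-/

namespace Groth.Agent.Helper2.ProEtPt

universe u

open CategoryTheory CategoryTheory.Limits AlgebraicGeometry Opposite

variable {S : Scheme.{u}}

set_option backward.isDefEq.respectTransparency.types false in
theorem nbhd_lift (W : S.ProEt) [IsAffine W.left]
    (hT : EtPBC.IsWContractible ↥(Γ(W.left, ⊤))) (w : ↥W.left)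
    ⦃X : S.ProEt⦄ (R : Sieve X) (hR : R ∈ Scheme.ProEt.topology S X) ⦃U : Nbhd W w⦄
    (f : (nbhdFunctor W w).obj U ⟶ X) :
    ∃ (Y : S.ProEt) (g : Y ⟶ X) (_ : R g) (V : Nbhd W w) (q : V ⟶ U)
      (a : (nbhdFunctor W w).obj V ⟶ Y), a ≫ g = (nbhdFunctor W w).map q ≫ f := by
  let J := Scheme.ProEt.topology S
  let Uc : W.left.Opens := ⟨(U.1 : Set ↥W.left)ᶜ, U.2.1.compl.isOpen⟩
  let cov : Bool → W.left.Opens := fun b => match b with
    | true => U.1
    | false => Uc
  let c : ∀ b, Scheme.ProEt.mk ((cov b).ι ≫ W.hom) ⟶ W := fun b =>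
    MorphismProperty.Over.homMk (cov b).ι
  have hcov : (⋃ b, (cov b : Set ↥W.left)) = Set.univ := by
    rw [Set.eq_univ_iff_forall]
    intro x
    by_cases hx : x ∈ U.1
    · exact Set.mem_iUnion.mpr ⟨true, hx⟩
    · exact Set.mem_iUnion.mpr ⟨false, hx⟩
  let T : Sieve W :=
    { arrows := fun Z h => (∃ h' : Z ⟶ Scheme.ProEt.mk ((cov true).ι ≫ W.hom),
          h' ≫ c true = h ∧ R (h' ≫ f)) ∨
        (∃ h' : Z ⟶ Scheme.ProEt.mk ((cov false).ι ≫ W.hom), h' ≫ c false = h)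
      downward_closed := by
        rintro Z Z' h (⟨h', rfl, hh'⟩ | ⟨h', rfl⟩) k
        · refine Or.inl ⟨k ≫ h', by rw [Category.assoc], ?_⟩
          rw [Category.assoc]
          exact R.downward_closed hh' k
        · exact Or.inr ⟨k ≫ h', by rw [Category.assoc]⟩ }
  have hTmem : T ∈ J W := by
    refine J.transitive (Groth.Agent.S0725.cover_mem' W cov hcov) T ?_
    rintro Y g ⟨_, a, _, ⟨b⟩, rfl⟩
    rw [Sieve.pullback_comp]
    apply J.pullback_stable
    cases b
    · refine J.superset_covering (S := ⊤) ?_ (J.top_mem _)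
      intro Z h _
      exact Or.inr ⟨h, rfl⟩
    · refine J.superset_covering ?_ (J.pullback_stable f hR)
      intro Z h hh
      exact Or.inl ⟨h, rfl, hh⟩
  obtain ⟨n, W', hclopen, -, hcover, hmem⟩ := Groth.Agent.S0757.fwd W hT T hTmem
  have hw : w ∈ ⋃ k, (W' k : Set ↥W.left) := by rw [hcover]; trivial
  obtain ⟨k, hk⟩ := Set.mem_iUnion.mp hw
  rcases hmem k with ⟨h', hh', hR'⟩ | ⟨h', hh'⟩
  · have e : h'.left ≫ U.1.ι = (W' k).ι := congrArg (fun z => z.left) hh'
    have hle : W' k ≤ U.1 := by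
      intro x hx
      have : (h'.left ≫ U.1.ι) ⟨x, hx⟩ = x := by rw [e]; rfl
      rw [← this, Scheme.Hom.comp_apply]
      exact (h'.left ⟨x, hx⟩).2
    let V : Nbhd W w := ⟨W' k, hclopen k, hk⟩
    let q : V ⟶ U := homOfLE hle
    refine ⟨(nbhdFunctor W w).obj V, h' ≫ f, hR', V, q, 𝟙 _, ?_⟩
    rw [Category.id_comp]
    congr 1
    apply MorphismProperty.Over.Hom.ext
    have e2 : ((nbhdFunctor W w).map q).left ≫ U.1.ι = (W' k).ι :=
      Scheme.homOfLE_ι W.left hle
    exact (cancel_mono U.1.ι).mp (e.trans e2.symm)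
  · exfalso
    have e : h'.left ≫ Uc.ι = (W' k).ι := congrArg (fun z => z.left) hh'
    have : (h'.left ≫ Uc.ι) ⟨w, hk⟩ = w := by rw [e]; rfl
    have hmemc : w ∈ Uc := by
      rw [← this, Scheme.Hom.comp_apply]
      exact (h'.left ⟨w, hk⟩).2
    exact hmemc U.2.2

end Groth.Agent.Helper2.ProEtPt
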