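import Groth.Agent.Lib.Helper2.ProperOver
import Mathlib.AlgebraicGeometry.Morphisms.FlatDescent
import Mathlib.AlgebraicGeometry.Morphisms.LocalFlatDescent

namespace Groth.Agent.Helper2

open AlgebraicGeometry CategoryTheory Limits MorphismProperty

universe u

theorem quasiCompact_of_isPullback_surj {A X Y Z : Scheme.{u}} {fst : A ⟶ X} {snd : A ⟶ Y}
    {f : X ⟶ Z} {g : Y ⟶ Z} (h : IsPullback fst snd f g) [Surjective f] [QuasiCompact f]
    [QuasiCompact fst] : QuasiCompact g := by
  constructor
  intro U hU hUc
  have e : g ⁻¹' U = snd '' (fst ⁻¹' (f ⁻¹' U)) := by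
    ext y
    constructor
    · intro hy
      obtain ⟨x, hx⟩ := f.surjective (g y)
      obtain ⟨z, hz1, hz2⟩ := Scheme.Pullback.exists_preimage_pullback (f := f) (g := g) x y hx
      refine ⟨h.isoPullback.inv z, ?_, ?_⟩
      · have e1 : fst (h.isoPullback.inv z) = x := by
          rw [← Scheme.Hom.comp_apply, h.isoPullback_inv_fst, hz1]
        change f (fst (h.isoPullback.inv z)) ∈ U
        rw [e1, hx]
        exact hy
      · rw [← Scheme.Hom.comp_apply, h.isoPullback_inv_snd, hz2]
    · rintro ⟨a, ha, rfl⟩
      have e1 : g (snd a) = f (fst a) := by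
        rw [← Scheme.Hom.comp_apply, ← h.w, Scheme.Hom.comp_apply]
      change g (snd a) ∈ U
      rw [e1]
      exact ha
  rw [e]
  have h1 : IsCompact (f ⁻¹' U) := QuasiCompact.isCompact_preimage (f := f) U hU hUc
  have h2 : IsCompact (fst ⁻¹' (f ⁻¹' U)) :=
    QuasiCompact.isCompact_preimage (f := fst) _ (hU.preimage f.continuous) h1
  exact h2.image snd.continuous

set_option backward.isDefEq.respectTransparency.types false in
theorem isSeparated_of_isPullback_fpqc {A X Y Z : Scheme.{u}} {fst : A ⟶ X} {snd : A ⟶ Y}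
    {f : X ⟶ Z} {g : Y ⟶ Z} (h : IsPullback fst snd f g) [Surjective f] [Flat f] [QuasiCompact f]
    [IsSeparated fst] : IsSeparated g := by
  have h1 : (diagonal @UniversallyClosed) fst := by
    change UniversallyClosed (pullback.diagonal fst)
    infer_instance
  have h2 : (diagonal @UniversallyClosed) g :=
    of_isPullback_of_descendsAlong (P := diagonal @UniversallyClosed)
      (Q := @Surjective ⊓ @Flat ⊓ @QuasiCompact) h ⟨⟨inferInstance, inferInstance⟩, inferInstance⟩ h1
  have h3 : UniversallyClosed (pullback.diagonal g) := h2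
  constructor
  exact IsClosedImmersion.of_isPreimmersion _ (pullback.diagonal g).isClosedMap.isClosed_range

set_option backward.isDefEq.respectTransparency.types false in
theorem isProper_of_isPullback_fpqc {A X Y Z : Scheme.{u}} {fst : A ⟶ X} {snd : A ⟶ Y}
    {f : X ⟶ Z} {g : Y ⟶ Z} (h : IsPullback fst snd f g) [Surjective f] [Flat f] [QuasiCompact f]
    [IsProper fst] : IsProper g := by
  have hQ : (@Surjective ⊓ @Flat ⊓ @QuasiCompact : MorphismProperty Scheme.{u}) f :=
    ⟨⟨inferInstance, inferInstance⟩, inferInstance⟩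
  have : IsSeparated g := isSeparated_of_isPullback_fpqc h
  have : UniversallyClosed g :=
    of_isPullback_of_descendsAlong (P := @UniversallyClosed)
      (Q := @Surjective ⊓ @Flat ⊓ @QuasiCompact) h hQ inferInstance
  have : LocallyOfFiniteType g :=
    of_isPullback_of_descendsAlong (P := @LocallyOfFiniteType)
      (Q := @Surjective ⊓ @Flat ⊓ @QuasiCompact) h hQ inferInstance
  have : QuasiCompact g := quasiCompact_of_isPullback_surj h
  exact { }

open Scheme.IdealSheafData in
theorem isProperOver_of_baseChange {X Y Y' : Scheme.{u}} (f : X ⟶ Y) [LocallyOfFiniteType f]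
    (Z : Set X) (hZ : IsClosed Z)
    (g : Y' ⟶ Y) [QuasiCompact g] [Flat g] [Surjective g]
    (h : ClSub.IsProperOver (pullback.snd f g) ((pullback.fst f g).base ⁻¹' Z)) :
    ClSub.IsProperOver f Z := by
  refine ⟨hZ, ?_⟩
  set i := (vanishingIdeal ⟨Z, hZ⟩).subschemeι with hi
  have hrange : Set.range (pullback.snd i (pullback.fst f g)) = (pullback.fst f g).base ⁻¹' Z := by
    rw [Scheme.Pullback.range_snd, hi, range_red]
  have hp : IsProper (pullback.snd i (pullback.fst f g) ≫ pullback.snd f g) :=
    (isProperOver_iff_of_closedImmersion (pullback.snd f g) (pullback.snd i (pullback.fst f g))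
      _ hrange).1 h
  have sq : IsPullback (pullback.snd i (pullback.fst f g) ≫ pullback.snd f g)
      (pullback.fst i (pullback.fst f g)) g (i ≫ f) :=
    (IsPullback.of_hasPullback i (pullback.fst f g)).flip.paste_horiz
      (IsPullback.of_hasPullback f g).flip
  exact isProper_of_isPullback_fpqc sq

end Groth.Agent.Helper2
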