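import Mathlib

/-!
# Modules finitely presented relative to a base ring

Helper lemmas: finite presentation of a module through a surjection with finitely generated
kernel, and independence of the polynomial presentation.
-/

set_option linter.style.haveILetI false

universe u v w

namespace Groth.Agent.Helper2.RelFP

open TensorProduct

section Basic

variable {B : Type*} {B' : Type*} [CommRing B] [CommRing B']

/-- restriction of scalars along a surjection with f.g. kernel preserves f.p. -/
theorem fp_comp_of_fp (π : B →+* B') (hπ : Function.Surjective π) (hker : (RingHom.ker π).FG)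
    (M : Type*) [AddCommGroup M] [Module B' M] [Module.FinitePresentation B' M] :
    @Module.FinitePresentation B M _ _ (Module.compHom M π) := by
  letI : Module B M := Module.compHom M π
  letI : Algebra B B' := π.toAlgebra
  haveI : IsScalarTower B B' M := ⟨fun b b' m => by
    show (π b * b') • m = π b • (b' • m)
    rw [mul_smul]⟩
  haveI : Module.FinitePresentation B B' := by
    refine Module.finitePresentation_of_surjective (Algebra.linearMap B B') hπ ?_
    have : LinearMap.ker (Algebra.linearMap B B') = (RingHom.ker π).restrictScalars B := by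
      ext x
      simp [RingHom.mem_ker, RingHom.algebraMap_toAlgebra]
    rw [this]
    exact hker
  exact Module.FinitePresentation.trans B M B'

/-- f.p. through a surjection implies f.p. over the target. -/
theorem fp_of_fp_comp (π : B →+* B') (hπ : Function.Surjective π)
    (M : Type*) [AddCommGroup M] [Module B' M]
    (h : @Module.FinitePresentation B M _ _ (Module.compHom M π)) :
    Module.FinitePresentation B' M := by
  letI : Module B M := Module.compHom M π
  letI : Algebra B B' := π.toAlgebra
  haveI : IsScalarTower B B' M := ⟨fun b b' m => by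
    show (π b * b') • m = π b • (b' • m)
    rw [mul_smul]⟩
  haveI : Module.FinitePresentation B M := h
  -- B' ⊗[B] M ≃ M
  let g : B' ⊗[B] M →ₗ[B'] M := LinearMap.liftBaseChange B' (LinearMap.id : M →ₗ[B] M)
  have hsurj : Function.Surjective g := fun m => ⟨1 ⊗ₜ m, by simp [g]⟩
  have hform : ∀ x : B' ⊗[B] M, ∃ m : M, x = 1 ⊗ₜ m := by
    intro x
    induction x using TensorProduct.induction_on with
    | zero => exact ⟨0, by simp⟩
    | tmul b' m =>
      obtain ⟨b, rfl⟩ := hπ b'
      refine ⟨b • m, ?_⟩
      have : (π b : B') = b • (1 : B') := by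
        rw [Algebra.smul_def, mul_one]; rfl
      rw [this, TensorProduct.smul_tmul]
    | add x y hx hy =>
      obtain ⟨m, rfl⟩ := hx
      obtain ⟨m', rfl⟩ := hy
      exact ⟨m + m', by rw [TensorProduct.tmul_add]⟩
  have hinj : Function.Injective g := by
    rw [injective_iff_map_eq_zero]
    intro x hx
    obtain ⟨m, rfl⟩ := hform x
    have : g (1 ⊗ₜ m) = m := by simp [g]
    rw [this] at hx
    rw [hx, TensorProduct.tmul_zero]
  exact Module.FinitePresentation.of_equiv (LinearEquiv.ofBijective g ⟨hinj, hsurj⟩)

theorem fp_comp_iff (π : B →+* B') (hπ : Function.Surjective π) (hker : (RingHom.ker π).FG)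
    (M : Type*) [AddCommGroup M] [Module B' M] :
    @Module.FinitePresentation B M _ _ (Module.compHom M π) ↔ Module.FinitePresentation B' M :=
  ⟨fp_of_fp_comp π hπ M, fun _ => fp_comp_of_fp π hπ hker M⟩

end Basic

section Indep

variable {R : Type u} {A : Type v} [CommRing R] [CommRing A] [Algebra R A]

/-- Factoring a presentation through a surjection with f.g. kernel. -/
theorem factor_iff {B : Type*} {C : Type*} [CommRing B] [CommRing C] [Algebra R B] [Algebra R C]
    (π : B →ₐ[R] C) (hπ : Function.Surjective π) (hker : (RingHom.ker π.toRingHom).FG)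
    (γ : C →ₐ[R] A) (M : Type*) [AddCommGroup M] [Module A M] :
    @Module.FinitePresentation B M _ _ (Module.compHom M (γ.comp π).toRingHom) ↔
    @Module.FinitePresentation C M _ _ (Module.compHom M γ.toRingHom) :=
  @fp_comp_iff B C _ _ π.toRingHom hπ hker M _ (Module.compHom M γ.toRingHom)

/-- one half of independence of polynomial presentations -/
theorem mvPoly_sum_iff {σ τ : Type*} [Finite σ] [Finite τ]
    (α : MvPolynomial σ R →ₐ[R] A) (hα : Function.Surjective α)
    (γ : MvPolynomial τ R →ₐ[R] A)
    (M : Type*) [AddCommGroup M] [Module A M] :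
    @Module.FinitePresentation (MvPolynomial (σ ⊕ τ) R) M _ _
      (Module.compHom M (MvPolynomial.aeval (Sum.elim (fun i => α (MvPolynomial.X i))
        (fun j => γ (MvPolynomial.X j))) : MvPolynomial (σ ⊕ τ) R →ₐ[R] A).toRingHom) ↔
    @Module.FinitePresentation (MvPolynomial σ R) M _ _ (Module.compHom M α.toRingHom) := by
  choose y hy using fun j : τ => hα (γ (MvPolynomial.X j))
  let π : MvPolynomial (σ ⊕ τ) R →ₐ[R] MvPolynomial σ R :=
    MvPolynomial.aeval (Sum.elim MvPolynomial.X y)
  have hπ : Function.Surjective π := by
    intro q
    refine ⟨MvPolynomial.rename Sum.inl q, ?_⟩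
    show MvPolynomial.aeval (Sum.elim MvPolynomial.X y) (MvPolynomial.rename Sum.inl q) = q
    rw [MvPolynomial.aeval_rename]
    simp
  have hcomp : (MvPolynomial.aeval (Sum.elim (fun i => α (MvPolynomial.X i))
        (fun j => γ (MvPolynomial.X j))) : MvPolynomial (σ ⊕ τ) R →ₐ[R] A) = α.comp π := by
    apply MvPolynomial.algHom_ext
    rintro (i | j)
    · simp [π]
    · simp [π, hy]
  have hker : (RingHom.ker π.toRingHom).FG :=
    Algebra.FinitePresentation.ker_fG_of_surjective π hπ
  rw [hcomp]
  exact factor_iff π hπ hker α M

/-- independence of the polynomial presentation -/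
theorem indep_mvPoly {σ τ : Type*} [Finite σ] [Finite τ]
    (α : MvPolynomial σ R →ₐ[R] A) (hα : Function.Surjective α)
    (γ : MvPolynomial τ R →ₐ[R] A) (hγ : Function.Surjective γ)
    (M : Type*) [AddCommGroup M] [Module A M] :
    @Module.FinitePresentation (MvPolynomial σ R) M _ _ (Module.compHom M α.toRingHom) ↔
    @Module.FinitePresentation (MvPolynomial τ R) M _ _ (Module.compHom M γ.toRingHom) := by
  rw [← mvPoly_sum_iff α hα γ M, ← mvPoly_sum_iff γ hγ α M]
  -- swap the sum
  let e : MvPolynomial (σ ⊕ τ) R ≃ₐ[R] MvPolynomial (τ ⊕ σ) R :=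
    MvPolynomial.renameEquiv R (Equiv.sumComm σ τ)
  have hker : (RingHom.ker (e : MvPolynomial (σ ⊕ τ) R →ₐ[R] MvPolynomial (τ ⊕ σ) R).toRingHom).FG :=
    Algebra.FinitePresentation.ker_fG_of_surjective _ e.surjective
  have hcomp : (MvPolynomial.aeval (Sum.elim (fun i => α (MvPolynomial.X i))
        (fun j => γ (MvPolynomial.X j))) : MvPolynomial (σ ⊕ τ) R →ₐ[R] A) =
      (MvPolynomial.aeval (Sum.elim (fun j => γ (MvPolynomial.X j))
        (fun i => α (MvPolynomial.X i))) : MvPolynomial (τ ⊕ σ) R →ₐ[R] A).comp
        (e : MvPolynomial (σ ⊕ τ) R →ₐ[R] MvPolynomial (τ ⊕ σ) R) := by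
    apply MvPolynomial.algHom_ext
    rintro (i | j) <;> simp [e]
  rw [hcomp]
  exact factor_iff _ e.surjective hker _ M

/-- General principle: any two surjections from finitely presented `R`-algebras give the same
notion of relative finite presentation. -/
theorem indep {B : Type*} {C : Type*} [CommRing B] [CommRing C] [Algebra R B] [Algebra R C]
    [Algebra.FinitePresentation R B] [Algebra.FinitePresentation R C]
    (β : B →ₐ[R] A) (hβ : Function.Surjective β) (γ : C →ₐ[R] A) (hγ : Function.Surjective γ)
    (M : Type*) [AddCommGroup M] [Module A M] :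
    @Module.FinitePresentation B M _ _ (Module.compHom M β.toRingHom) ↔
    @Module.FinitePresentation C M _ _ (Module.compHom M γ.toRingHom) := by
  obtain ⟨n, ρB, hρB⟩ := (Algebra.FiniteType.iff_quotient_mvPolynomial'' (R := R) (S := B)).mp
    inferInstance
  obtain ⟨k, ρC, hρC⟩ := (Algebra.FiniteType.iff_quotient_mvPolynomial'' (R := R) (S := C)).mp
    inferInstance
  rw [← factor_iff ρB hρB (Algebra.FinitePresentation.ker_fG_of_surjective ρB hρB) β M,
    ← factor_iff ρC hρC (Algebra.FinitePresentation.ker_fG_of_surjective ρC hρC) γ M]
  exact indep_mvPoly _ (hβ.comp hρB) _ (hγ.comp hρC) M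

end Indep

section Loc

variable {R : Type*} {A : Type*} {B : Type*} [CommRing R] [CommRing A] [CommRing B]
  [Algebra R A] [Algebra R B]

lemma awayMapₐ_algebraMap (α : B →ₐ[R] A) (G : B) (b : B) :
    Localization.awayMapₐ α G (algebraMap B (Localization.Away G) b) =
      algebraMap A (Localization.Away (α G)) (α b) := by
  rw [Localization.awayMapₐ, IsLocalization.Away.mapₐ_apply, IsLocalization.Away.map,
    IsLocalization.map_eq]
  rfl

/-- Localizing a relatively finitely presented module. -/
theorem fp_localizedModule_of_fp (α : B →ₐ[R] A) (G : B) (M : Type*) [AddCommGroup M] [Module A M]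
    (h : @Module.FinitePresentation B M _ _ (Module.compHom M α.toRingHom)) :
    @Module.FinitePresentation (Localization.Away G)
      (LocalizedModule (Submonoid.powers (α G)) M) _ _
      (Module.compHom _ (Localization.awayMapₐ α G).toRingHom) := by
  letI : Algebra B A := α.toRingHom.toAlgebra
  letI : Module B M := Module.compHom M α.toRingHom
  haveI : IsScalarTower B A M := ⟨fun b a m => by
    show (α b * a) • m = α b • (a • m)
    rw [mul_smul]⟩
  haveI : Module.FinitePresentation B M := h
  letI : Module (Localization.Away G) (LocalizedModule (Submonoid.powers (α G)) M) :=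
    Module.compHom _ (Localization.awayMapₐ α G).toRingHom
  haveI : IsScalarTower B (Localization.Away G) (LocalizedModule (Submonoid.powers (α G)) M) :=
    ⟨fun b c n => by
      show (Localization.awayMapₐ α G (b • c)) • n = b • ((Localization.awayMapₐ α G c) • n)
      rw [Algebra.smul_def, map_mul, awayMapₐ_algebraMap, mul_smul, algebraMap_smul,
        ← algebraMap_smul A b]
      rfl⟩
  let f : M →ₗ[A] LocalizedModule (Submonoid.powers (α G)) M :=
    LocalizedModule.mkLinearMap (Submonoid.powers (α G)) M
  haveI : IsLocalizedModule (Submonoid.powers (algebraMap B A G)) f :=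
    (inferInstance : IsLocalizedModule (Submonoid.powers (α G)) f)
  haveI : IsLocalizedModule (Submonoid.powers G) (f.restrictScalars B) :=
    IsLocalizedModule.restrictScalars_powers G f
  exact FinitePresentation.of_isBaseChange (f.restrictScalars B)
    (IsLocalizedModule.isBaseChange (Submonoid.powers G) (Localization.Away G)
      (f.restrictScalars B))

/-- Conversely, compare with the localization of `M` as a `B`-module. -/
theorem fp_localizedModule_comp (α : B →ₐ[R] A) (G : B) (M : Type*) [AddCommGroup M] [Module A M]
    (h : @Module.FinitePresentation (Localization.Away G)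
      (LocalizedModule (Submonoid.powers (α G)) M) _ _
      (Module.compHom _ (Localization.awayMapₐ α G).toRingHom)) :
    letI : Module B M := Module.compHom M α.toRingHom
    Module.FinitePresentation (Localization.Away G) (LocalizedModule (Submonoid.powers G) M) := by
  letI : Algebra B A := α.toRingHom.toAlgebra
  letI : Module B M := Module.compHom M α.toRingHom
  haveI : IsScalarTower B A M := ⟨fun b a m => by
    show (α b * a) • m = α b • (a • m)
    rw [mul_smul]⟩
  letI : Module (Localization.Away G) (LocalizedModule (Submonoid.powers (α G)) M) :=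
    Module.compHom _ (Localization.awayMapₐ α G).toRingHom
  haveI : IsScalarTower B (Localization.Away G) (LocalizedModule (Submonoid.powers (α G)) M) :=
    ⟨fun b c n => by
      show (Localization.awayMapₐ α G (b • c)) • n = b • ((Localization.awayMapₐ α G c) • n)
      rw [Algebra.smul_def, map_mul, awayMapₐ_algebraMap, mul_smul, algebraMap_smul,
        ← algebraMap_smul A b]
      rfl⟩
  haveI : Module.FinitePresentation (Localization.Away G)
      (LocalizedModule (Submonoid.powers (α G)) M) := h
  let f : M →ₗ[A] LocalizedModule (Submonoid.powers (α G)) M :=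
    LocalizedModule.mkLinearMap (Submonoid.powers (α G)) M
  haveI : IsLocalizedModule (Submonoid.powers (algebraMap B A G)) f :=
    (inferInstance : IsLocalizedModule (Submonoid.powers (α G)) f)
  haveI : IsLocalizedModule (Submonoid.powers G) (f.restrictScalars B) :=
    IsLocalizedModule.restrictScalars_powers G f
  let e : LocalizedModule (Submonoid.powers (α G)) M ≃ₗ[B] LocalizedModule (Submonoid.powers G) M :=
    IsLocalizedModule.linearEquiv (Submonoid.powers G) (f.restrictScalars B)
      (LocalizedModule.mkLinearMap (Submonoid.powers G) M)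
  exact Module.FinitePresentation.of_equiv
    (LinearEquiv.extendScalarsOfIsLocalization (Submonoid.powers G) (Localization.Away G) e)

end Loc

end Groth.Agent.Helper2.RelFP
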