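import Mathlib
import Groth.Agent.Lib.Helper2.RelFP

/-!
# Relative finite presentation: base change lemmas
-/

set_option linter.style.haveILetI false

universe u v w

namespace Groth.Agent.Helper2.RelFP

open TensorProduct

section Congr

/-- Transport relative finite presentation along a linear equivalence. -/
theorem fp_congr {C : Type*} {A' : Type*} [CommRing C] [CommRing A'] (γ : C →+* A')
    {N : Type*} {N' : Type*} [AddCommGroup N] [AddCommGroup N'] [Module A' N] [Module A' N']
    (e : N ≃ₗ[A'] N')
    (h : @Module.FinitePresentation C N _ _ (Module.compHom N γ)) :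
    @Module.FinitePresentation C N' _ _ (Module.compHom N' γ) := by
  letI : Module C N := Module.compHom N γ
  letI : Module C N' := Module.compHom N' γ
  haveI : Module.FinitePresentation C N := h
  let e' : N ≃ₗ[C] N' :=
    { e.toAddEquiv with
      map_smul' := fun c n => by
        show e (γ c • n) = γ c • e n
        rw [e.map_smul] }
  exact Module.FinitePresentation.of_equiv e'

/-- Two module structures with the same scalar action. -/
theorem fp_of_smul_eq {C : Type*} [CommRing C] {N : Type*} [AddCommGroup N]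
    (m₁ m₂ : Module C N)
    (h : ∀ (c : C) (n : N), (letI := m₁; c • n) = (letI := m₂; c • n))
    (h1 : @Module.FinitePresentation C N _ _ m₁) : @Module.FinitePresentation C N _ _ m₂ := by
  obtain rfl : m₁ = m₂ := Module.ext' m₁ m₂ h
  exact h1

end Congr

section Pushout

variable {P : Type*} {B₁ : Type*} {A : Type*} {A₁ : Type*}
  [CommRing P] [CommRing B₁] [CommRing A] [CommRing A₁]

/-- Transfer along a pushout square, typeclass form. -/
theorem fp_tensor_of_isPushout [Algebra P A] [Algebra P B₁] [Algebra A A₁] [Algebra B₁ A₁]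
    [Algebra P A₁] [IsScalarTower P A A₁] [IsScalarTower P B₁ A₁] [Algebra.IsPushout P B₁ A A₁]
    (M : Type*) [AddCommGroup M] [Module P M] [Module A M] [IsScalarTower P A M]
    [Module.FinitePresentation P M] :
    Module.FinitePresentation B₁ (A₁ ⊗[A] M) :=
  Module.FinitePresentation.of_equiv (Algebra.IsPushout.cancelBaseChange P B₁ A A₁ M).symm

/-- Transfer along a pushout square, `compHom` form. -/
theorem fp_tensor_of_isPushout' [Algebra P A] [Algebra P B₁] [Algebra A A₁] [Algebra B₁ A₁]
    [Algebra P A₁] [IsScalarTower P A A₁] [IsScalarTower P B₁ A₁] [Algebra.IsPushout P B₁ A A₁]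
    (M : Type*) [AddCommGroup M] [Module A M]
    (h : @Module.FinitePresentation P M _ _ (Module.compHom M (algebraMap P A))) :
    @Module.FinitePresentation B₁ (A₁ ⊗[A] M) _ _
      (Module.compHom (A₁ ⊗[A] M) (algebraMap B₁ A₁)) := by
  letI : Module P M := Module.compHom M (algebraMap P A)
  haveI : IsScalarTower P A M := ⟨fun p a m => by
    rw [Algebra.smul_def, mul_smul]
    rfl⟩
  haveI : Module.FinitePresentation P M := h
  have h1 : Module.FinitePresentation B₁ (A₁ ⊗[A] M) := fp_tensor_of_isPushout (P := P) M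
  refine fp_of_smul_eq _ _ ?_ h1
  intro c n
  show c • n = algebraMap B₁ A₁ c • n
  induction n using TensorProduct.induction_on with
  | zero => simp
  | tmul a m => rw [TensorProduct.smul_tmul', TensorProduct.smul_tmul', Algebra.smul_def, smul_eq_mul]
  | add x y hx hy => rw [smul_add, smul_add, hx, hy]

end Pushout

section Quot

variable {B₁ : Type*} {A₁ : Type*} {A' : Type*} [CommRing B₁] [CommRing A₁] [CommRing A']

/-- Quotient step. -/
theorem fp_tensor_of_surjective (β : B₁ →+* A₁) (hβ : Function.Surjective β) [Algebra A₁ A']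
    (hφ : Function.Surjective (algebraMap A₁ A')) (hker : (RingHom.ker (algebraMap A₁ A')).FG)
    (N : Type*) [AddCommGroup N] [Module A₁ N]
    (h : @Module.FinitePresentation B₁ N _ _ (Module.compHom N β)) :
    @Module.FinitePresentation B₁ (A' ⊗[A₁] N) _ _
      (Module.compHom (A' ⊗[A₁] N) ((algebraMap A₁ A').comp β)) := by
  letI : Algebra B₁ A₁ := β.toAlgebra
  letI : Module B₁ N := Module.compHom N β
  haveI : IsScalarTower B₁ A₁ N := ⟨fun b a m => by
    show (β b * a) • m = β b • (a • m)
    rw [mul_smul]⟩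
  haveI : Module.FinitePresentation B₁ N := h
  letI : Module B₁ (A' ⊗[A₁] N) := Module.compHom (A' ⊗[A₁] N) ((algebraMap A₁ A').comp β)
  let ψ : N →ₗ[A₁] A' ⊗[A₁] N := TensorProduct.mk A₁ A' N 1
  let ψ' : N →ₗ[B₁] A' ⊗[A₁] N :=
    { toFun := ψ
      map_add' := ψ.map_add
      map_smul' := fun b n => by
        show ψ (β b • n) = (algebraMap A₁ A' (β b)) • ψ n
        rw [ψ.map_smul, algebraMap_smul] }
  have hsurj : Function.Surjective ψ' := TensorProduct.mk_surjective A₁ N A' hφ
  -- kernel of ψ
  have hkerψ : LinearMap.ker ψ = (RingHom.ker (algebraMap A₁ A')) • (⊤ : Submodule A₁ N) := by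
    let e : (A₁ ⧸ RingHom.ker (algebraMap A₁ A')) ≃ₐ[A₁] A' :=
      Ideal.quotientKerAlgEquivOfSurjective (f := Algebra.ofId A₁ A') hφ
    have hcomp : ψ = (LinearEquiv.rTensor N e.toLinearEquiv).toLinearMap ∘ₗ
        (TensorProduct.mk A₁ (A₁ ⧸ RingHom.ker (algebraMap A₁ A')) N 1) := by
      ext n
      simp [ψ]
    rw [hcomp, LinearEquiv.ker_comp, LinearMap.ker_tensorProductMk]
  haveI : Module.Finite A₁ N := Module.Finite.of_restrictScalars_finite B₁ A₁ N
  have hfg : (LinearMap.ker ψ).FG := by
    rw [hkerψ]
    exact Submodule.FG.smul hker (Module.Finite.fg_top)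
  obtain ⟨s, hs⟩ := hfg
  have hker' : LinearMap.ker ψ' = (LinearMap.ker ψ).restrictScalars B₁ := by
    ext x
    simp [ψ']
  refine Module.finitePresentation_of_surjective ψ' hsurj ?_
  rw [hker', ← hs, Submodule.restrictScalars_span B₁ A₁ hβ]
  exact Submodule.fg_span s.finite_toSet

end Quot

end Groth.Agent.Helper2.RelFP
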