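import Mathlib
import Groth.Prelude.Def_RegImm
import Groth.Prelude.Def_Flat
import Groth.Agent.Lib.Helper2.RelGCI8
import Groth.Agent.Lib.Helper14.FibreDimBC

/-!
# Base change of presentations `R[x]/(F)` and local fibre dimensions
-/

set_option autoImplicit false
universe u

namespace Groth.Agent.Helper2.RelGCIBC

open MvPolynomial TensorProduct

section

variable (R' R'' : Type u) [CommRing R'] [CommRing R''] [Algebra R' R''] (n c : ℕ)
  (F' : Fin c → MvPolynomial (Fin n) R')

/-- base-changed equations -/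
noncomputable abbrev Fbc : Fin c → MvPolynomial (Fin n) R'' :=
  fun i => map (algebraMap R' R'') (F' i)

/-- the comparison map `R'[x]/(F') → R''[x]/(F'')` -/
noncomputable def theta : Synt.RelGCIRing R' n c F' →ₐ[R'] Synt.RelGCIRing R'' n c (Fbc R' R'' n c F') :=
  Ideal.Quotient.liftₐ (Ideal.span (Set.range F'))
    ((Ideal.Quotient.mkₐ R' (Ideal.span (Set.range (Fbc R' R'' n c F')))).comp
      (MvPolynomial.mapAlgHom (Algebra.ofId R' R'')))
    (fun a ha => by
      have hle : Ideal.span (Set.range F') ≤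
          (Ideal.span (Set.range (Fbc R' R'' n c F'))).comap
            (MvPolynomial.map (algebraMap R' R'')) := by
        rw [Ideal.span_le]
        rintro _ ⟨i, rfl⟩
        exact Ideal.subset_span ⟨i, rfl⟩
      rw [AlgHom.comp_apply, Ideal.Quotient.mkₐ_eq_mk]
      exact Ideal.Quotient.eq_zero_iff_mem.mpr (hle ha))

theorem theta_mk (p : MvPolynomial (Fin n) R') :
    theta R' R'' n c F' (Ideal.Quotient.mk _ p) =
      Ideal.Quotient.mk _ (map (algebraMap R' R'') p) := rfl

/-- `R'' ⊗ R'[x]/(F') → R''[x]/(F'')` -/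
noncomputable def fwd : R'' ⊗[R'] Synt.RelGCIRing R' n c F' →ₐ[R'']
    Synt.RelGCIRing R'' n c (Fbc R' R'' n c F') :=
  Algebra.TensorProduct.lift (Algebra.ofId R'' _) (theta R' R'' n c F') (fun _ _ => mul_comm _ _)

theorem fwd_tmul (a : R'') (s : Synt.RelGCIRing R' n c F') :
    fwd R' R'' n c F' (a ⊗ₜ s) = algebraMap R'' _ a * theta R' R'' n c F' s := by
  rw [fwd, Algebra.TensorProduct.lift_tmul]
  rfl

/-- `R''[x] → R'' ⊗ R'[x]/(F')` -/
noncomputable def bwd0 : MvPolynomial (Fin n) R'' →ₐ[R''] R'' ⊗[R'] Synt.RelGCIRing R' n c F' :=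
  aeval fun i => (1 : R'') ⊗ₜ[R'] (Ideal.Quotient.mk (Ideal.span (Set.range F')) (X i))

theorem bwd0_map (p : MvPolynomial (Fin n) R') :
    bwd0 R' R'' n c F' (map (algebraMap R' R'') p) =
      (1 : R'') ⊗ₜ[R'] (Ideal.Quotient.mk (Ideal.span (Set.range F')) p) := by
  have h1 : ((bwd0 R' R'' n c F').restrictScalars R').comp
      (MvPolynomial.mapAlgHom (Algebra.ofId R' R'')) =
      (Algebra.TensorProduct.includeRight (R := R') (A := R'')).comp
        (Ideal.Quotient.mkₐ R' (Ideal.span (Set.range F'))) := by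
    apply MvPolynomial.algHom_ext
    intro i
    simp only [AlgHom.comp_apply, AlgHom.restrictScalars_apply, MvPolynomial.mapAlgHom_apply,
      MvPolynomial.map_X, bwd0, aeval_X, Ideal.Quotient.mkₐ_eq_mk,
      Algebra.TensorProduct.includeRight_apply]
  exact congrArg (fun ψ : MvPolynomial (Fin n) R' →ₐ[R'] _ => ψ p) h1

noncomputable def bwd : Synt.RelGCIRing R'' n c (Fbc R' R'' n c F') →ₐ[R'']
    R'' ⊗[R'] Synt.RelGCIRing R' n c F' :=
  Ideal.Quotient.liftₐ (Ideal.span (Set.range (Fbc R' R'' n c F'))) (bwd0 R' R'' n c F')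
    (fun a ha => by
      have hle : Ideal.span (Set.range (Fbc R' R'' n c F')) ≤
          RingHom.ker (bwd0 R' R'' n c F').toRingHom := by
        rw [Ideal.span_le]
        rintro _ ⟨i, rfl⟩
        rw [SetLike.mem_coe, RingHom.mem_ker]
        show bwd0 R' R'' n c F' (map (algebraMap R' R'') (F' i)) = 0
        rw [bwd0_map]
        have : Ideal.Quotient.mk (Ideal.span (Set.range F')) (F' i) = 0 :=
          Ideal.Quotient.eq_zero_iff_mem.mpr (Ideal.subset_span ⟨i, rfl⟩)
        rw [this, TensorProduct.tmul_zero]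
      exact hle ha)

theorem bwd_mk (p : MvPolynomial (Fin n) R'') :
    bwd R' R'' n c F' (Ideal.Quotient.mk _ p) = bwd0 R' R'' n c F' p := rfl

theorem bwd_fwd : (bwd R' R'' n c F').comp (fwd R' R'' n c F') = AlgHom.id R'' _ := by
  apply Algebra.TensorProduct.ext'
  intro a s
  obtain ⟨p, rfl⟩ := Ideal.Quotient.mk_surjective s
  simp only [AlgHom.comp_apply, AlgHom.id_apply]
  rw [fwd_tmul, map_mul, AlgHom.commutes, theta_mk, bwd_mk, bwd0_map,
    Algebra.TensorProduct.algebraMap_apply, Algebra.TensorProduct.tmul_mul_tmul, mul_one, one_mul]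
  rfl

theorem fwd_bwd : (fwd R' R'' n c F').comp (bwd R' R'' n c F') = AlgHom.id R'' _ := by
  apply Ideal.Quotient.algHom_ext
  apply MvPolynomial.algHom_ext
  intro i
  simp only [AlgHom.comp_apply, AlgHom.id_apply, Ideal.Quotient.mkₐ_eq_mk]
  rw [bwd_mk, bwd0, aeval_X, fwd_tmul, map_one, one_mul, theta_mk, MvPolynomial.map_X]

/-- `R'' ⊗_{R'} R'[x]/(F') ≃ R''[x]/(F'')` -/
noncomputable def bcEquiv : R'' ⊗[R'] Synt.RelGCIRing R' n c F' ≃ₐ[R'']
    Synt.RelGCIRing R'' n c (Fbc R' R'' n c F') :=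
  AlgEquiv.ofAlgHom (fwd R' R'' n c F') (bwd R' R'' n c F') (fwd_bwd R' R'' n c F')
    (bwd_fwd R' R'' n c F')

section Pushout

open AlgebraicGeometry CategoryTheory Groth.Agent.Helper16.RingFibDim

attribute [local instance] Algebra.TensorProduct.rightAlgebra

theorem isPullback_spec :
    IsPullback (Spec.map (CommRingCat.ofHom (theta R' R'' n c F').toRingHom))
      (specMap R'' (Synt.RelGCIRing R'' n c (Fbc R' R'' n c F')))
      (specMap R' (Synt.RelGCIRing R' n c F'))
      (Spec.map (CommRingCat.ofHom (algebraMap R' R''))) := by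
  letI alg : Algebra (Synt.RelGCIRing R' n c F') (Synt.RelGCIRing R'' n c (Fbc R' R'' n c F')) :=
    (theta R' R'' n c F').toRingHom.toAlgebra
  haveI : IsScalarTower R' (Synt.RelGCIRing R' n c F')
      (Synt.RelGCIRing R'' n c (Fbc R' R'' n c F')) :=
    IsScalarTower.of_algebraMap_eq (fun r => ((theta R' R'' n c F').commutes r).symm)
  haveI hpo : Algebra.IsPushout R' R'' (Synt.RelGCIRing R' n c F')
      (Synt.RelGCIRing R'' n c (Fbc R' R'' n c F')) := by
    refine Algebra.IsPushout.of_equiv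
      (h := TensorProduct.isPushout (R := R') (S := R'') (T := Synt.RelGCIRing R' n c F'))
      (bcEquiv R' R'' n c F') ?_
    refine RingHom.ext fun s => ?_
    show fwd R' R'' n c F' ((1 : R'') ⊗ₜ[R'] s) = theta R' R'' n c F' s
    rw [fwd_tmul, map_one, one_mul]
  have h1 := CommRingCat.isPushout_of_isPushout R' R'' (Synt.RelGCIRing R' n c F')
    (Synt.RelGCIRing R'' n c (Fbc R' R'' n c F'))
  exact (isPullback_SpecMap_of_isPushout _ _ _ _ h1).flip

/-- local fibre dimensions of `Spec R[x]/(F)` are invariant under base change -/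
theorem fibreDimAt_bc (q : ↑(Spec (CommRingCat.of (Synt.RelGCIRing R'' n c (Fbc R' R'' n c F'))))) :
    FlatMor.fibreDimAt (specMap R'' (Synt.RelGCIRing R'' n c (Fbc R' R'' n c F'))) q =
      FlatMor.fibreDimAt (specMap R' (Synt.RelGCIRing R' n c F'))
        ((Spec.map (CommRingCat.ofHom (theta R' R'' n c F').toRingHom)) q) :=
  Groth.Agent.Helper14.FibreDimBC.fibreDimAt_eq (isPullback_spec R' R'' n c F') q

end Pushout

end

end Groth.Agent.Helper2.RelGCIBC
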