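import Mathlib
import Groth.Prelude.Def_RegImm
import Groth.Prelude.Def_Flat
import Groth.Agent.Lib.Helper2.RelGCIBC1

/-!
# Relative global complete intersections from pointwise bounds on fibre dimensions
-/

set_option autoImplicit false
universe u

namespace Groth.Agent.Helper2.RelGCIBC

open MvPolynomial Groth.Agent.Helper2.FCR Groth.Agent.Helper2.SyntLCI TensorProduct
  Groth.Agent.Helper2.GCILoc IsLocalRing Groth.Agent.Helper2.RelGCI

section

open AlgebraicGeometry CategoryTheory Groth.Agent.Helper16.RingFibDim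

variable (R : Type u) [CommRing R] (n c : ℕ) (F : Fin c → MvPolynomial (Fin n) R)

theorem isRelGCI_of_fibreDimAt_le (hcn : c ≤ n)
    (hW : ∀ q : PrimeSpectrum (Synt.RelGCIRing R n c F),
      FlatMor.fibreDimAt (specMap R (Synt.RelGCIRing R n c F)) q ≤ ((n - c : ℕ) : WithBot ℕ∞)) :
    Synt.IsRelGCI R n c F := by
  intro p hnt
  refine ⟨hcn, ?_⟩
  let φ : MvPolynomial (Fin n) R →ₐ[R] Synt.RelGCIRing R n c F :=
    Ideal.Quotient.mkₐ R (Ideal.span (Set.range F))
  have hφ : Function.Surjective φ := Ideal.Quotient.mk_surjective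
  have hker : RingHom.ker φ.toRingHom = Ideal.span (Set.range F) := Ideal.mk_ker
  let e := Ideal.quotientKerAlgEquivOfSurjective (phik_surjective n φ hφ p.asIdeal)
  have hk : RingHom.ker (phik n φ p.asIdeal) =
      Ideal.span (Set.range (fun i => mu n p.asIdeal (F i))) := by
    have h1 : RingHom.ker (phik n φ p.asIdeal) =
        (RingHom.ker φ.toRingHom).map (mu n p.asIdeal) := ker_phik n φ hφ p.asIdeal
    rw [h1, hker, Ideal.map_span, ← Set.range_comp]
    rfl
  rw [← ringKrullDim_eq_of_ringEquiv e.toRingEquiv,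
    ← PrimeSpectrum.topologicalKrullDim_eq_ringKrullDim,
    Groth.Agent.Helper9.TopDim.dim_eq_iSup_localDim]
  haveI := hnt
  haveI : Nontrivial (MvPolynomial (Fin n) p.asIdeal.ResidueField ⧸
      RingHom.ker (phik n φ p.asIdeal)) := e.symm.toRingEquiv.injective.nontrivial
  have hconst : ∀ x : PrimeSpectrum (MvPolynomial (Fin n) p.asIdeal.ResidueField ⧸
      RingHom.ker (phik n φ p.asIdeal)),
      FlatMor.localDim _ x = ((n - c : ℕ) : WithBot ℕ∞) := by
    intro x
    apply le_antisymm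
    · let j := PrimeSpectrum.homeomorphOfRingEquiv
        (R := MvPolynomial (Fin n) p.asIdeal.ResidueField ⧸ RingHom.ker (phik n φ p.asIdeal))
        (S := p.asIdeal.Fiber (Synt.RelGCIRing R n c F)) e.toRingEquiv
      have h2 := Groth.Agent.Helper14.FibreChart.localDim_openEmbedding j j.isOpenEmbedding x
      rw [← h2, localDim_fibre_eq R _ p.asIdeal (j x)]
      exact hW _
    · haveI := x.isPrime
      exact le_localDim p.asIdeal.ResidueField n c _ _ hk x.asIdeal
  simp_rw [hconst]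
  exact ciSup_const

end

section Descent

variable {R : Type u} [CommRing R] (n c : ℕ)

/-- polynomials with coefficients in a subalgebra lift -/
theorem exists_map_eq (R₁ : Subalgebra ℤ R) (P : MvPolynomial (Fin n) R)
    (h : (P.coeffs : Set R) ⊆ R₁) :
    ∃ P' : MvPolynomial (Fin n) R₁, map (algebraMap R₁ R) P' = P :=
  (mem_range_map_iff_coeffs_subset (f := algebraMap R₁ R) (x := P)).mpr
    (fun a ha => ⟨⟨a, h ha⟩, rfl⟩)

theorem map_map_inclusion {R₀ R₁ : Subalgebra ℤ R} (hle : R₀ ≤ R₁) (P : MvPolynomial (Fin n) R₀) :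
    map (algebraMap R₁ R) (map (Subalgebra.inclusion hle).toRingHom P) = map (algebraMap R₀ R) P := by
  rw [MvPolynomial.map_map]
  rfl

theorem exists_subalgebra_map_eq_top (R₀ : Subalgebra ℤ R) (hfg : R₀.FG)
    (F₀ : Fin c → MvPolynomial (Fin n) R₀) (J₀ : Ideal (Synt.RelGCIRing R₀ n c F₀))
    (hJ : J₀.map (theta R₀ R n c F₀).toRingHom = ⊤) :
    ∃ (R₁ : Subalgebra ℤ R) (hle : R₀ ≤ R₁), R₁.FG ∧
      letI := (Subalgebra.inclusion hle).toRingHom.toAlgebra
      J₀.map (theta R₀ R₁ n c F₀).toRingHom = ⊤ := by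
  classical
  set I₀ : Ideal (MvPolynomial (Fin n) R₀) :=
    J₀.comap (Ideal.Quotient.mk (Ideal.span (Set.range F₀))) with hI₀
  set K : Ideal (MvPolynomial (Fin n) R) :=
    Ideal.span ((fun i => map (algebraMap R₀ R) i) '' (I₀ : Set (MvPolynomial (Fin n) R₀))) with hK
  -- step 1
  have hFK : Ideal.span (Set.range (Fbc R₀ R n c F₀)) ≤ K := by
    rw [Ideal.span_le]
    rintro _ ⟨i, rfl⟩
    apply Ideal.subset_span
    refine ⟨F₀ i, ?_, rfl⟩
    show Ideal.Quotient.mk (Ideal.span (Set.range F₀)) (F₀ i) ∈ J₀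
    have h0 : Ideal.Quotient.mk (Ideal.span (Set.range F₀)) (F₀ i) = 0 :=
      Ideal.Quotient.eq_zero_iff_mem.mpr (Ideal.subset_span ⟨i, rfl⟩)
    rw [h0]
    exact J₀.zero_mem
  have hJK : J₀.map (theta R₀ R n c F₀).toRingHom ≤
      K.map (Ideal.Quotient.mk (Ideal.span (Set.range (Fbc R₀ R n c F₀)))) := by
    rw [Ideal.map_le_iff_le_comap]
    intro j hj
    obtain ⟨i, rfl⟩ := Ideal.Quotient.mk_surjective j
    rw [Ideal.mem_comap]
    show theta R₀ R n c F₀ (Ideal.Quotient.mk _ i) ∈ _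
    rw [theta_mk]
    exact Ideal.mem_map_of_mem _ (Ideal.subset_span ⟨i, hj, rfl⟩)
  have h1K : (1 : MvPolynomial (Fin n) R) ∈ K := by
    have h1 : (1 : Synt.RelGCIRing R n c (Fbc R₀ R n c F₀)) ∈
        K.map (Ideal.Quotient.mk (Ideal.span (Set.range (Fbc R₀ R n c F₀)))) :=
      hJK (hJ ▸ Submodule.mem_top)
    have h2 : (1 : MvPolynomial (Fin n) R) ∈
        (K.map (Ideal.Quotient.mk (Ideal.span (Set.range (Fbc R₀ R n c F₀))))).comap
          (Ideal.Quotient.mk (Ideal.span (Set.range (Fbc R₀ R n c F₀)))) := by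
      rw [Ideal.mem_comap, map_one]
      exact h1
    rw [Ideal.comap_map_of_surjective _ Ideal.Quotient.mk_surjective,
      ← RingHom.ker_eq_comap_bot, Ideal.mk_ker, sup_eq_left.mpr hFK] at h2
    exact h2
  -- step 2
  obtain ⟨l, hl, hsum⟩ := (Finsupp.mem_span_image_iff_linearCombination
    (R := MvPolynomial (Fin n) R)).mp h1K
  set R₁ : Subalgebra ℤ R :=
    R₀ ⊔ Algebra.adjoin ℤ ((l.support.biUnion fun i => (l i).coeffs : Finset R) : Set R) with hR₁
  have hle : R₀ ≤ R₁ := le_sup_left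
  have hfg₁ : R₁.FG := hfg.sup (Subalgebra.fg_adjoin_finset _)
  refine ⟨R₁, hle, hfg₁, ?_⟩
  letI := (Subalgebra.inclusion hle).toRingHom.toAlgebra
  have hcoef : ∀ i ∈ l.support, ∃ P' : MvPolynomial (Fin n) R₁, map (algebraMap R₁ R) P' = l i := by
    intro i hi
    apply exists_map_eq
    intro a ha
    apply (le_sup_right : Algebra.adjoin ℤ _ ≤ R₁)
    apply Algebra.subset_adjoin
    rw [Finset.mem_coe, Finset.mem_biUnion]
    exact ⟨i, hi, ha⟩
  let l' : MvPolynomial (Fin n) R₀ → MvPolynomial (Fin n) R₁ := fun i =>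
    if h : ∃ P' : MvPolynomial (Fin n) R₁, map (algebraMap R₁ R) P' = l i then h.choose else 0
  have hl' : ∀ i ∈ l.support, map (algebraMap R₁ R) (l' i) = l i := by
    intro i hi
    have h := hcoef i hi
    simp only [l', dif_pos h]
    exact h.choose_spec
  set y : MvPolynomial (Fin n) R₁ :=
    ∑ i ∈ l.support, l' i * map (Subalgebra.inclusion hle).toRingHom i with hy
  have hy1 : y = 1 := by
    apply MvPolynomial.map_injective (algebraMap R₁ R) Subtype.val_injective
    rw [map_one, hy, map_sum, ← hsum, Finsupp.linearCombination_apply, Finsupp.sum]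
    refine Finset.sum_congr rfl fun i hi => ?_
    rw [map_mul, hl' i hi, map_map_inclusion, smul_eq_mul]
  -- step 3
  rw [Ideal.eq_top_iff_one]
  have h3 : (1 : Synt.RelGCIRing R₁ n c (Fbc R₀ R₁ n c F₀)) =
      ∑ i ∈ l.support, Ideal.Quotient.mk _ (l' i) *
        theta R₀ R₁ n c F₀ (Ideal.Quotient.mk _ i) := by
    rw [← map_one (Ideal.Quotient.mk (Ideal.span (Set.range (Fbc R₀ R₁ n c F₀)))), ← hy1, hy,
      map_sum]
    refine Finset.sum_congr rfl fun i _ => ?_
    rw [map_mul, theta_mk]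
    rfl
  rw [h3]
  refine Ideal.sum_mem _ fun i hi => Ideal.mul_mem_left _ _ (Ideal.mem_map_of_mem _ ?_)
  exact hl hi

end Descent

end Groth.Agent.Helper2.RelGCIBC
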