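import Mathlib.Algebra.Homology.QuasiIso
import Mathlib.Algebra.Homology.Refinements
import Mathlib.Algebra.Homology.Embedding.CochainComplex
import Mathlib.Algebra.Homology.HomotopyCategory.ShiftSequence
import Mathlib.CategoryTheory.Abelian.Refinements
import Mathlib.CategoryTheory.Abelian.Exact
import Mathlib.CategoryTheory.Preadditive.Injective.Basic

/-!
# Right resolutions of bounded below complexes in an abelian category

Given an abelian category `A` and an assignment `X ↦ (ι X : X ⟶ H X)` of a monomorphism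
out of each object, every cochain complex `K` which is strictly `≥ a` admits a
quasi-isomorphism `K ⟶ I`, which is a monomorphism in each degree, where `I` is strictly `≥ a`
and each `I.X n` is either of the form `H Y` or the chosen zero object.
-/

universe v u

open CategoryTheory CategoryTheory.Limits ZeroObject

namespace Groth.Agent.Helper2.ResCx

set_option linter.unusedSectionVars false
set_option linter.style.haveILetI false

variable {A : Type u} [Category.{v} A] [Abelian A]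
variable (H : A → A) (ι : ∀ X : A, X ⟶ H X) [hι : ∀ X : A, Mono (ι X)]

variable (K : CochainComplex A ℤ)

/-- The data at one stage of the inductive construction of the resolution. -/
structure StageAt (n : ℤ) where
  /-- the previous term of the resolution -/
  Q : A
  /-- the pushout object -/
  P : A
  /-- the map from the previous term -/
  ε : Q ⟶ P
  /-- the map from `K n` -/
  k : K.X n ⟶ P
  /-- the map to `K (n+1)` -/
  δ : P ⟶ K.X (n + 1)
  hk : k ≫ δ = K.d n (n + 1)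
  hε : ε ≫ δ = 0
  hδ : δ ≫ K.d (n + 1) (n + 1 + 1) = 0

namespace StageAt

variable {K} {n : ℤ} (s : StageAt K n)

/-- The map whose cokernel is the next pushout object. -/
noncomputable def jmap : s.P ⟶ H s.P ⊞ K.X (n + 1) := biprod.lift (ι s.P) (-s.δ)

/-- The next pushout object. -/
noncomputable def P' : A := cokernel (s.jmap H ι)

/-- The projection onto the next pushout object. -/
noncomputable def π' : H s.P ⊞ K.X (n + 1) ⟶ s.P' H ι := cokernel.π (s.jmap H ι)

instance : Epi (s.π' H ι) := inferInstanceAs (Epi (cokernel.π (s.jmap H ι)))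

lemma jmap_π' : s.jmap H ι ≫ s.π' H ι = 0 := cokernel.condition _

lemma exact_jmap_π' : (ShortComplex.mk (s.jmap H ι) (s.π' H ι) (s.jmap_π' H ι)).Exact :=
  ShortComplex.exact_cokernel _

/-- The map from the term of the resolution to the next pushout object. -/
noncomputable def e : H s.P ⟶ s.P' H ι := biprod.inl ≫ s.π' H ι

/-- The map from `K (n+1)` to the next pushout object. -/
noncomputable def k' : K.X (n + 1) ⟶ s.P' H ι := biprod.inr ≫ s.π' H ι

lemma hullι_e : ι s.P ≫ s.e H ι = s.δ ≫ s.k' H ι := by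
  have h := s.jmap_π' H ι
  have e1 : s.jmap H ι = ι s.P ≫ biprod.inl + (-s.δ) ≫ biprod.inr := by
    rw [jmap]
    apply biprod.hom_ext <;> simp
  rw [e1, Preadditive.add_comp, Category.assoc, Category.assoc, Preadditive.neg_comp,
    add_neg_eq_zero] at h
  exact h

lemma jmap_desc : s.jmap H ι ≫
    biprod.desc (0 : H s.P ⟶ K.X (n + 1 + 1)) (K.d (n + 1) (n + 1 + 1)) = 0 := by
  rw [jmap, biprod.lift_desc, comp_zero, zero_add, Preadditive.neg_comp, s.hδ, neg_zero]

/-- The next map to `K (n+2)`. -/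
noncomputable def δ' : s.P' H ι ⟶ K.X (n + 1 + 1) :=
  cokernel.desc (s.jmap H ι) (biprod.desc 0 (K.d (n + 1) (n + 1 + 1))) (s.jmap_desc H ι)

lemma π'_δ' : s.π' H ι ≫ s.δ' H ι = biprod.desc 0 (K.d (n + 1) (n + 1 + 1)) :=
  cokernel.π_desc _ _ _

lemma k'_δ' : s.k' H ι ≫ s.δ' H ι = K.d (n + 1) (n + 1 + 1) := by
  rw [k', Category.assoc, π'_δ', biprod.inr_desc]

lemma e_δ' : s.e H ι ≫ s.δ' H ι = 0 := by
  rw [e, Category.assoc, π'_δ', biprod.inl_desc]

lemma δ'_d : s.δ' H ι ≫ K.d (n + 1 + 1) (n + 1 + 1 + 1) = 0 := by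
  rw [← cancel_epi (s.π' H ι), ← Category.assoc, π'_δ', comp_zero]
  apply biprod.hom_ext' <;> simp

/-- The next stage. -/
noncomputable def next : StageAt K (n + 1) where
  Q := H s.P
  P := s.P' H ι
  ε := s.e H ι
  k := s.k' H ι
  δ := s.δ' H ι
  hk := s.k'_δ' H ι
  hε := s.e_δ' H ι
  hδ := s.δ'_d H ι

/-- The component of the resolution map. -/
noncomputable def φs : K.X n ⟶ H s.P := s.k ≫ ι s.P

/-- The next component of the resolution map. -/
noncomputable def φs' : K.X (n + 1) ⟶ H (s.P' H ι) := s.k' H ι ≫ ι (s.P' H ι)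

/-- The differential of the resolution. -/
noncomputable def dd : H s.P ⟶ H (s.P' H ι) := s.e H ι ≫ ι (s.P' H ι)

/-- The incoming differential of the resolution. -/
noncomputable def dIn : s.Q ⟶ H s.P := s.ε ≫ ι s.P

lemma dIn_next : (s.next H ι).dIn H ι = s.dd H ι := rfl

lemma φs_next : (s.next H ι).φs H ι = s.φs' H ι := rfl

lemma dIn_dd : s.dIn H ι ≫ s.dd H ι = 0 := by
  have h := s.hullι_e H ι
  rw [dIn, dd, Category.assoc, ← Category.assoc (ι s.P), h, Category.assoc,
    ← Category.assoc s.ε, s.hε, zero_comp]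

lemma dd_dd : s.dd H ι ≫ (s.next H ι).dd H ι = 0 := (s.next H ι).dIn_dd H ι

lemma φs_dd : s.φs H ι ≫ s.dd H ι = K.d n (n + 1) ≫ s.φs' H ι := by
  have h := s.hullι_e H ι
  rw [φs, dd, φs', Category.assoc, ← Category.assoc (ι s.P), h, Category.assoc,
    ← Category.assoc s.k, s.hk]

/-- Decomposition of a map to a biproduct. -/
lemma biprod_total' {X Y W : A} (w : W ⟶ X ⊞ Y) :
    w = (w ≫ biprod.fst) ≫ biprod.inl + (w ≫ biprod.snd) ≫ biprod.inr := by
  rw [Category.assoc, Category.assoc, ← Preadditive.comp_add, biprod.total, Category.comp_id]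

/-- Elements of `H P ⊞ K (n+1)` killed by `π'` come from `P`. -/
lemma ker_π' ⦃W : A⦄ (w : W ⟶ H s.P ⊞ K.X (n + 1)) (hw : w ≫ s.π' H ι = 0) :
    ∃ (W' : A) (π : W' ⟶ W) (_ : Epi π) (z : W' ⟶ s.P),
      π ≫ w ≫ biprod.fst = z ≫ ι s.P ∧ π ≫ w ≫ biprod.snd = -(z ≫ s.δ) := by
  obtain ⟨W', π, hπ, z, hz⟩ : ∃ (W' : A) (π : W' ⟶ W) (_ : Epi π)
      (z : W' ⟶ s.P), π ≫ w = z ≫ s.jmap H ι :=
    (s.exact_jmap_π' H ι).exact_up_to_refinements w hw
  refine ⟨W', π, hπ, z, ?_, ?_⟩
  · rw [← Category.assoc, hz, Category.assoc, jmap, biprod.lift_fst]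
  · rw [← Category.assoc, hz, Category.assoc, jmap, biprod.lift_snd, Preadditive.comp_neg]

include hι in
lemma mono_k' : Mono (s.k' H ι) := by
  apply Preadditive.mono_of_cancel_zero
  intro W w hw
  rw [k', ← Category.assoc] at hw
  obtain ⟨W', π, hπ, z, hz1, hz2⟩ := s.ker_π' H ι _ hw
  have hz0 : z = 0 := by
    rw [← cancel_mono (ι s.P), zero_comp, ← hz1, Category.assoc, biprod.inr_fst, comp_zero,
      comp_zero]
  rw [hz0, zero_comp, neg_zero, Category.assoc, biprod.inr_snd, Category.comp_id] at hz2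
  rwa [← cancel_epi π, comp_zero]

/-- Decomposition of elements of `P'`. -/
lemma decomp_next ⦃W : A⦄ (z : W ⟶ s.P' H ι) :
    ∃ (W' : A) (π : W' ⟶ W) (_ : Epi π) (i : W' ⟶ H s.P) (x : W' ⟶ K.X (n + 1)),
      π ≫ z = i ≫ s.e H ι + x ≫ s.k' H ι := by
  obtain ⟨W', π, hπ, w, hw⟩ := surjective_up_to_refinements_of_epi (s.π' H ι) z
  refine ⟨W', π, hπ, w ≫ biprod.fst, w ≫ biprod.snd, ?_⟩
  rw [hw, e, k']
  conv_lhs => rw [biprod_total' w]
  rw [Preadditive.add_comp]
  simp only [Category.assoc]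

/-- Elements of `H P` killed by `e`. -/
lemma ker_e ⦃W : A⦄ (y : W ⟶ H s.P) (hy : y ≫ s.e H ι = 0) :
    ∃ (W' : A) (π : W' ⟶ W) (_ : Epi π) (z : W' ⟶ s.P),
      π ≫ y = z ≫ ι s.P ∧ z ≫ s.δ = 0 := by
  rw [e, ← Category.assoc] at hy
  obtain ⟨W', π, hπ, z, hz1, hz2⟩ := s.ker_π' H ι _ hy
  refine ⟨W', π, hπ, z, ?_, ?_⟩
  · rw [← hz1, Category.assoc, biprod.inl_fst, Category.comp_id]
  · rw [Category.assoc, biprod.inl_snd, comp_zero, comp_zero] at hz2
    exact neg_eq_zero.1 hz2.symm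

/-- Pairs of elements identified in `P'`. -/
lemma eq_k'_e ⦃W : A⦄ (x₂ : W ⟶ K.X (n + 1)) (y₁ : W ⟶ H s.P)
    (h : x₂ ≫ s.k' H ι = y₁ ≫ s.e H ι) :
    ∃ (W' : A) (π : W' ⟶ W) (_ : Epi π) (z : W' ⟶ s.P), π ≫ x₂ = z ≫ s.δ := by
  have h0 : (y₁ ≫ (biprod.inl : H s.P ⟶ H s.P ⊞ K.X (n + 1)) -
      x₂ ≫ (biprod.inr : K.X (n + 1) ⟶ H s.P ⊞ K.X (n + 1))) ≫ s.π' H ι = 0 := by
    rw [Preadditive.sub_comp, Category.assoc, Category.assoc, sub_eq_zero]
    exact h.symm
  obtain ⟨W', π, hπ, z, -, hz2⟩ := s.ker_π' H ι _ h0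
  refine ⟨W', π, hπ, z, ?_⟩
  rw [Preadditive.sub_comp, Category.assoc, Category.assoc, biprod.inl_snd, biprod.inr_snd,
    comp_zero, zero_sub, Category.comp_id, Preadditive.comp_neg, neg_inj] at hz2
  exact hz2

/-- The decomposition property of a stage. -/
def Good : Prop := ∀ ⦃W : A⦄ (z : W ⟶ s.P),
  ∃ (W' : A) (π : W' ⟶ W) (_ : Epi π) (i : W' ⟶ s.Q) (x : W' ⟶ K.X n),
    π ≫ z = i ≫ s.ε + x ≫ s.k

lemma good_next : (s.next H ι).Good := fun _ z => s.decomp_next H ι z

include hι in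
lemma epiCond (hs : s.Good) ⦃W : A⦄ (y₂ : W ⟶ H s.P) (hy₂ : y₂ ≫ s.dd H ι = 0) :
    ∃ (W' : A) (π : W' ⟶ W) (_ : Epi π) (x₂ : W' ⟶ K.X n)
      (_ : x₂ ≫ K.d n (n + 1) = 0) (y₁ : W' ⟶ s.Q),
      π ≫ y₂ = x₂ ≫ s.φs H ι + y₁ ≫ s.dIn H ι := by
  have h0 : y₂ ≫ s.e H ι = 0 := by
    rw [dd, ← Category.assoc] at hy₂
    exact zero_of_comp_mono _ hy₂
  obtain ⟨W₁, π₁, _, z, hz1, hz2⟩ := s.ker_e H ι y₂ h0
  obtain ⟨W₂, π₂, _, i, x, hix⟩ := hs z
  have hx : x ≫ K.d n (n + 1) = 0 := by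
    have h3 := congrArg (fun t => t ≫ s.δ) hix
    simp only [Category.assoc, Preadditive.add_comp, hz2, comp_zero, s.hε, s.hk, zero_add] at h3
    exact h3.symm
  refine ⟨W₂, π₂ ≫ π₁, inferInstance, x, hx, i, ?_⟩
  rw [Category.assoc, hz1, ← Category.assoc, hix, Preadditive.add_comp, Category.assoc,
    Category.assoc, add_comm]
  rfl

include hι in
lemma monoCond (hs : s.Good) ⦃W : A⦄ (x₂ : W ⟶ K.X (n + 1)) (y₁ : W ⟶ H s.P)
    (h : x₂ ≫ s.φs' H ι = y₁ ≫ s.dd H ι) :
    ∃ (W' : A) (π : W' ⟶ W) (_ : Epi π) (x₁ : W' ⟶ K.X n),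
      π ≫ x₂ = x₁ ≫ K.d n (n + 1) := by
  have h0 : x₂ ≫ s.k' H ι = y₁ ≫ s.e H ι := by
    rw [φs', dd, ← Category.assoc, ← Category.assoc] at h
    exact (cancel_mono _).1 h
  obtain ⟨W₁, π₁, _, z, hz⟩ := s.eq_k'_e H ι x₂ y₁ h0
  obtain ⟨W₂, π₂, _, i, x, hix⟩ := hs z
  refine ⟨W₂, π₂ ≫ π₁, inferInstance, x, ?_⟩
  rw [Category.assoc, hz, ← Category.assoc, hix, Preadditive.add_comp, Category.assoc,
    Category.assoc, s.hε, s.hk, comp_zero, zero_add]

end StageAt

section assemble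

variable [K.IsStrictlyGE 0]

/-- The initial stage. -/
noncomputable def stage0 : StageAt K (Int.ofNat 0) where
  Q := 0
  P := K.X 0
  ε := 0
  k := 𝟙 _
  δ := K.d 0 1
  hk := Category.id_comp _
  hε := zero_comp
  hδ := K.d_comp_d _ _ _

/-- The sequence of stages. -/
noncomputable def St : (m : ℕ) → StageAt K (Int.ofNat m)
  | 0 => stage0 K
  | m + 1 => (St m).next H ι

lemma stage0_good : (stage0 K).Good := by
  intro W z
  refine ⟨W, 𝟙 _, inferInstance, 0, z, ?_⟩
  have : (stage0 K).k = 𝟙 _ := rfl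
  rw [this, zero_comp, zero_add, Category.id_comp]
  exact (Category.comp_id z).symm

lemma St_good : ∀ m, (St H ι K m).Good
  | 0 => stage0_good K
  | m + 1 => (St H ι K m).good_next H ι

include hι in
lemma St_mono_k : ∀ m, Mono (St H ι K m).k
  | 0 => by
      change Mono (𝟙 (K.X 0))
      infer_instance
  | m + 1 => (St H ι K m).mono_k' H ι

include hι in
lemma St_mono_φs (m : ℕ) : Mono ((St H ι K m).φs H ι) := by
  rw [StageAt.φs]
  have := St_mono_k H ι K m
  exact mono_comp _ _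

/-- The terms of the resolution. -/
noncomputable def XR : ℤ → A
  | Int.ofNat m => H (St H ι K m).P
  | Int.negSucc _ => 0

/-- The differentials of the resolution. -/
noncomputable def dR : ∀ n : ℤ, XR H ι K n ⟶ XR H ι K (n + 1)
  | Int.ofNat m => (St H ι K m).dd H ι
  | Int.negSucc _ => 0

lemma dR_comp : ∀ n : ℤ, dR H ι K n ≫ dR H ι K (n + 1) = 0
  | Int.ofNat m => (St H ι K m).dd_dd H ι
  | Int.negSucc _ => zero_comp

/-- The resolution complex. -/
noncomputable def resolutionCx : CochainComplex A ℤ :=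
  CochainComplex.of (XR H ι K) (dR H ι K) (dR_comp H ι K)

lemma resolutionCx_d (n : ℤ) : (resolutionCx H ι K).d n (n + 1) = dR H ι K n :=
  CochainComplex.of_d _ _ _

/-- The components of the resolution map. -/
noncomputable def φR : ∀ n : ℤ, K.X n ⟶ XR H ι K n
  | Int.ofNat m => (St H ι K m).φs H ι
  | Int.negSucc _ => 0

/-- The resolution map. -/
noncomputable def resolutionMap : K ⟶ resolutionCx H ι K where
  f n := φR H ι K n
  comm' i j hij := by
    obtain rfl : i + 1 = j := hij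
    rw [resolutionCx_d]
    match i with
    | Int.ofNat m => exact (St H ι K m).φs_dd H ι
    | Int.negSucc k => exact (K.isZero_of_isStrictlyGE 0 _ (by simp)).eq_of_src _ _

lemma XR_isZero_neg (k : ℕ) : IsZero (XR H ι K (Int.negSucc k)) := isZero_zero _

instance : (resolutionCx H ι K).IsStrictlyGE 0 := by
  rw [CochainComplex.isStrictlyGE_iff]
  intro i hi
  match i, hi with
  | Int.ofNat n, hi => exact absurd hi (by simp)
  | Int.negSucc k, _ => exact XR_isZero_neg H ι K k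

/-- Every term of the resolution is a hull or the zero object. -/
lemma resolutionCx_X (n : ℤ) :
    (∃ Y : A, (resolutionCx H ι K).X n = H Y) ∨ (resolutionCx H ι K).X n = 0 := by
  match n with
  | Int.ofNat n => exact Or.inl ⟨_, rfl⟩
  | Int.negSucc k => exact Or.inr rfl

include hι in
lemma resolutionMap_mono (n : ℤ) : Mono ((resolutionMap H ι K).f n) := by
  match n with
  | Int.ofNat m => exact St_mono_φs H ι K m
  | Int.negSucc k =>
    have hz : IsZero (K.X (Int.negSucc k)) := K.isZero_of_isStrictlyGE 0 _ (by simp)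
    exact ⟨fun g g' _ => hz.eq_of_tgt _ _⟩

/-- `dd` with clean source and target. -/
noncomputable def ddS (m : ℕ) : H (St H ι K m).P ⟶ H (St H ι K (m + 1)).P := (St H ι K m).dd H ι

lemma resolutionCx_d_ofNat (m : ℕ) :
    (resolutionCx H ι K).d (Int.ofNat m) (Int.ofNat (m + 1)) = (St H ι K m).dd H ι :=
  resolutionCx_d H ι K (Int.ofNat m)

lemma resolutionCx_d_ofNat' (m : ℕ) :
    (resolutionCx H ι K).d (Int.ofNat m) (Int.ofNat (m + 1)) = ddS H ι K m :=
  resolutionCx_d H ι K (Int.ofNat m)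

include hι in
lemma quasiIso_resolutionMap : QuasiIso (resolutionMap H ι K) := by
  refine ⟨fun n => ?_⟩
  match n with
  | Int.negSucc k =>
    rw [quasiIsoAt_iff_exactAt _ _ (HomologicalComplex.ExactAt.of_isZero
      (K.isZero_of_isStrictlyGE 0 _ (by simp)))]
    exact HomologicalComplex.ExactAt.of_isZero (XR_isZero_neg H ι K k)
  | Int.ofNat 0 =>
    rw [quasiIsoAt_iff_isIso_homologyMap]
    have hz : IsZero ((resolutionCx H ι K).X (Int.negSucc 0)) := XR_isZero_neg H ι K 0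
    have hmono : Mono (HomologicalComplex.homologyMap (resolutionMap H ι K)
        (Int.ofNat 0)) := by
      rw [HomologicalComplex.mono_homologyMap_iff_up_to_refinements _ (Int.negSucc 0) (Int.ofNat 0)
        (Int.ofNat 0 + 1) (by simp) (by simp)]
      intro W x₂ _ y₁ hy₁
      have hy0 : y₁ = 0 := hz.eq_of_tgt _ _
      have hx0 : x₂ = 0 := by
        have hm := St_mono_φs H ι K 0
        rw [hy0, zero_comp] at hy₁
        have hy₁' : x₂ ≫ (St H ι K 0).φs H ι = 0 := hy₁
        exact hm.right_cancellation x₂ 0 (hy₁'.trans zero_comp.symm)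
      exact ⟨W, 𝟙 _, inferInstance, 0, by rw [hx0, comp_zero, zero_comp]⟩
    have hepi : Epi (HomologicalComplex.homologyMap (resolutionMap H ι K)
        (Int.ofNat 0)) := by
      rw [HomologicalComplex.epi_homologyMap_iff_up_to_refinements _ (Int.negSucc 0) (Int.ofNat 0)
        (Int.ofNat 0 + 1) (by simp) (by simp)]
      intro W y₂ hy₂
      have hy₂' : y₂ ≫ (St H ι K 0).dd H ι = 0 := by
        rw [← resolutionCx_d_ofNat]
        exact hy₂
      obtain ⟨W', π, hπ, x₂, hx₂, y₁, h⟩ := (St H ι K 0).epiCond H ι (St_good H ι K 0) y₂ hy₂'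
      have hy1 : y₁ = 0 := hz.eq_of_tgt _ _
      rw [hy1, zero_comp, add_zero] at h
      exact ⟨W', π, hπ, x₂, hx₂, 0, by rw [zero_comp, add_zero]; exact h⟩
    exact isIso_of_mono_of_epi _
  | Int.ofNat (m + 1) =>
    rw [quasiIsoAt_iff_isIso_homologyMap]
    have hprev : (ComplexShape.up ℤ).prev (Int.ofNat (m + 1)) = Int.ofNat m := by
      rw [CochainComplex.prev]
      simp only [Int.ofNat_eq_natCast]
      omega
    have hmono : Mono (HomologicalComplex.homologyMap (resolutionMap H ι K)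
        (Int.ofNat (m + 1))) := by
      rw [HomologicalComplex.mono_homologyMap_iff_up_to_refinements _ (Int.ofNat m)
        (Int.ofNat (m + 1)) (Int.ofNat (m + 1) + 1) hprev (by simp)]
      intro W x₂ _ y₁ hy₁
      have h' : x₂ ≫ (St H ι K m).φs' H ι = y₁ ≫ (St H ι K m).dd H ι := by
        rw [← resolutionCx_d_ofNat]
        exact hy₁
      exact (St H ι K m).monoCond H ι (St_good H ι K m) x₂ y₁ h'
    have hepi : Epi (HomologicalComplex.homologyMap (resolutionMap H ι K)
        (Int.ofNat (m + 1))) := by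
      rw [HomologicalComplex.epi_homologyMap_iff_up_to_refinements _ (Int.ofNat m)
        (Int.ofNat (m + 1)) (Int.ofNat (m + 1) + 1) hprev (by simp)]
      intro W y₂ hy₂
      have hy₂' : y₂ ≫ (St H ι K (m + 1)).dd H ι = 0 := by
        rw [← resolutionCx_d_ofNat]
        exact hy₂
      obtain ⟨W', π, hπ, x₂, hx₂, y₁, h⟩ :=
        (St H ι K (m + 1)).epiCond H ι (St_good H ι K (m + 1)) y₂ hy₂'
      have key : π ≫ y₂ = x₂ ≫ (St H ι K (m + 1)).φs H ι + y₁ ≫ ddS H ι K m := h
      rw [← resolutionCx_d_ofNat'] at key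
      exact ⟨W', π, hπ, x₂, hx₂, y₁, key⟩
    exact isIso_of_mono_of_epi _

end assemble

section general

include hι in
theorem exists_resolution (P : A → Prop) (hPH : ∀ Y, P (H Y)) (hP0 : P 0)
    (K : CochainComplex A ℤ) (a : ℤ) [K.IsStrictlyGE a] :
    ∃ (I : CochainComplex A ℤ) (φ : K ⟶ I), I.IsStrictlyGE a ∧ (∀ n, P (I.X n)) ∧
      QuasiIso φ ∧ ∀ n, Mono (φ.f n) := by
  haveI : (K⟦a⟧).IsStrictlyGE 0 := K.isStrictlyGE_shift a a 0 (by omega)
  let e : K ≅ (K⟦a⟧)⟦-a⟧ :=
    ((shiftFunctorCompIsoId (CochainComplex A ℤ) a (-a) (by omega)).app K).symm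
  haveI : ((resolutionCx H ι (K⟦a⟧))⟦-a⟧).IsStrictlyGE a :=
    (resolutionCx H ι (K⟦a⟧)).isStrictlyGE_shift 0 (-a) a (by omega)
  refine ⟨(resolutionCx H ι (K⟦a⟧))⟦-a⟧, e.hom ≫ (resolutionMap H ι (K⟦a⟧))⟦-a⟧', inferInstance,
    ?_, ?_, ?_⟩
  · intro n
    have h := resolutionCx_X H ι (K⟦a⟧) (n + -a)
    have heq : ((resolutionCx H ι (K⟦a⟧))⟦-a⟧).X n = (resolutionCx H ι (K⟦a⟧)).X (n + -a) := rfl
    rw [heq]
    rcases h with ⟨Y, hY⟩ | h0
    · rw [hY]; exact hPH Y
    · rw [h0]; exact hP0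
  · haveI := quasiIso_resolutionMap H ι (K⟦a⟧)
    haveI : QuasiIso ((resolutionMap H ι (K⟦a⟧))⟦-a⟧') := by
      rw [CochainComplex.quasiIso_shift_iff]
      infer_instance
    infer_instance
  · intro n
    have hm := resolutionMap_mono H ι (K⟦a⟧) (n + -a)
    have hiso : IsIso (e.hom.f n) := inferInstance
    have heq : (e.hom ≫ (resolutionMap H ι (K⟦a⟧))⟦-a⟧').f n =
        e.hom.f n ≫ (resolutionMap H ι (K⟦a⟧)).f (n + -a) := rfl
    rw [heq]
    exact @mono_comp _ _ _ _ _ _ inferInstance _ hm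

end general

section injective

variable [EnoughInjectives A]

/-- Every cochain complex which is strictly `≥ a` admits a degreewise monomorphic
quasi-isomorphism to a complex of injective objects which is strictly `≥ a`. -/
theorem exists_injective_resolution (K : CochainComplex A ℤ) (a : ℤ) [K.IsStrictlyGE a] :
    ∃ (I : CochainComplex A ℤ) (φ : K ⟶ I), I.IsStrictlyGE a ∧ (∀ n, Injective (I.X n)) ∧
      QuasiIso φ ∧ ∀ n, Mono (φ.f n) :=
  exists_resolution (fun X => Injective.under X) (fun X => Injective.ι X)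
    (fun X => Injective X) (fun Y => inferInstance) inferInstance K a

end injective

end Groth.Agent.Helper2.ResCx
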