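import Mathlib
import Groth.Prelude.Def_RegImm
import Groth.Agent.Lib.Helper2.KindDesc
import Groth.Agent.Lib.Helper6.QRegGen

/-!
# Retraction pairs and sequences of kind `H_1` / quasi

A *retraction pair* is `ι : A → T`, `ρ : T → A` with `ρ ∘ ι = id` and `ker ρ = (ξ)`.  If an
ideal `K ∋ ξ` of `T` is generated by a sequence of kind `k` in which `ξ` has a unit coefficient,
then `ρ(K)` is generated by a sequence of kind `k`.
-/

set_option autoImplicit false
universe u

namespace Groth.Agent.Helper2.RetPair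

open Groth.Agent.Helper2.KindDesc Groth.Agent.Helper2.H1Desc

section Core

variable {A T : Type u} [CommRing A] [CommRing T] (ι : A →+* T) (ρ : T →+* A) (ξ : T)
  (hρι : ∀ a, ρ (ι a) = a) (hker : RingHom.ker ρ = Ideal.span {ξ})

include hker in
theorem rho_xi : ρ ξ = 0 := by
  have h : ξ ∈ RingHom.ker ρ := by
    rw [hker]
    exact Ideal.subset_span rfl
  exact h

include hρι hker in
theorem exists_sub (t : T) : ∃ s : T, t = ι (ρ t) + s * ξ := by
  have h : t - ι (ρ t) ∈ RingHom.ker ρ := by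
    rw [RingHom.mem_ker, map_sub, hρι, sub_self]
  rw [hker, Ideal.mem_span_singleton'] at h
  obtain ⟨s, hs⟩ := h
  exact ⟨s, by rw [hs]; ring⟩

include hρι hker in
/-- some coefficient of `ξ` in terms of generators of `K` is a unit near the prime -/
theorem exists_unit_coeff (hnzd : ξ ∈ nonZeroDivisors T) {r : ℕ} (l c : Fin r → T)
    (hξ : ξ = ∑ i, c i * l i) (𝔭 : Ideal A) [h𝔭 : 𝔭.IsPrime]
    (hl : ∀ i, ρ (l i) ∈ 𝔭) : ∃ i₀, ρ (c i₀) ∉ 𝔭 := by
  by_contra hcon
  push Not at hcon
  choose s hs using fun i => exists_sub ι ρ ξ hρι hker (l i)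
  choose t ht using fun i => exists_sub ι ρ ξ hρι hker (c i)
  have h0 : ∑ i, ρ (c i) * ρ (l i) = 0 := by
    rw [← rho_xi ρ ξ hker]
    conv_rhs => rw [hξ]
    rw [map_sum]
    exact Finset.sum_congr rfl fun i _ => (map_mul ρ _ _).symm
  have hkey : ξ * 1 = ξ * (∑ i, t i * ι (ρ (l i)) + ∑ i, c i * s i) := by
    have h1 : ξ = ι (∑ i, ρ (c i) * ρ (l i)) +
        ξ * (∑ i, t i * ι (ρ (l i)) + ∑ i, c i * s i) := by
      conv_lhs => rw [hξ]
      rw [map_sum, mul_add, Finset.mul_sum, Finset.mul_sum, ← Finset.sum_add_distrib,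
        ← Finset.sum_add_distrib]
      refine Finset.sum_congr rfl fun i _ => ?_
      have e1 := hs i
      have e2 := ht i
      rw [map_mul]
      calc c i * l i = c i * (ι (ρ (l i)) + s i * ξ) := by rw [← e1]
        _ = (ι (ρ (c i)) + t i * ξ) * ι (ρ (l i)) + c i * (s i * ξ) := by rw [mul_add, ← e2]
        _ = _ := by ring
    rw [h0, map_zero, zero_add] at h1
    rw [mul_one]
    exact h1
  have h1 : (1 : T) = ∑ i, t i * ι (ρ (l i)) + ∑ i, c i * s i :=
    (mul_cancel_left_mem_nonZeroDivisors hnzd).mp hkey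
  have h2 : (1 : A) ∈ 𝔭 := by
    have h3 := congrArg ρ h1
    rw [map_one, map_add, map_sum, map_sum] at h3
    rw [h3]
    refine 𝔭.add_mem (𝔭.sum_mem fun i _ => ?_) (𝔭.sum_mem fun i _ => ?_)
    · rw [map_mul, hρι]
      exact 𝔭.mul_mem_left _ (hl i)
    · rw [map_mul]
      exact 𝔭.mul_mem_right _ (hcon i)
  exact h𝔭.ne_top ((Ideal.eq_top_iff_one _).mpr h2)

include hρι in
/-- the retraction lemma for `H_1`-regular sequences -/
theorem retract_h1 {n : ℕ} (g : Fin (n + 1) → T) (i₀ : Fin (n + 1)) (f : Fin n → A)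
    (hg₀ : ρ (g i₀) = 0) (hg : ∀ j, g (i₀.succAbove j) = ι (f j))
    (h : CAlgX.IsH1Regular g) : CAlgX.IsH1Regular f := by
  classical
  intro a ha
  set a' : Fin (n + 1) → T := Fin.insertNth (α := fun _ => T) i₀ (0 : T) (fun j => ι (a j))
    with ha'
  have hsum : ∑ i, a' i * g i = 0 := by
    rw [Fin.sum_univ_succAbove _ i₀]
    simp only [ha', Fin.insertNth_apply_same, Fin.insertNth_apply_succAbove, zero_mul, zero_add,
      hg]
    simp_rw [← map_mul]
    rw [← map_sum, ha, map_zero]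
  have hmem := h a' hsum
  -- the semilinear map
  let Φ : (Fin (n + 1) → T) → (Fin n → A) := fun v m => ρ (v (i₀.succAbove m))
  have hΦsub : ∀ v w, Φ (v - w) = Φ v - Φ w := fun v w => by
    funext m
    show ρ ((v - w) (i₀.succAbove m)) = _
    rw [Pi.sub_apply, map_sub]
    rfl
  have hΦ0 : ∀ x : T, Φ (Pi.single i₀ x) = 0 := fun x => by
    funext m
    show ρ ((Pi.single i₀ x : Fin (n + 1) → T) (i₀.succAbove m)) = 0
    rw [Pi.single_eq_of_ne (Fin.succAbove_ne i₀ m), map_zero]
  have hΦ1 : ∀ (j : Fin n) (x : T), Φ (Pi.single (i₀.succAbove j) x) = Pi.single j (ρ x) :=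
    fun j x => by
      funext m
      show ρ ((Pi.single (i₀.succAbove j) x : Fin (n + 1) → T) (i₀.succAbove m)) = _
      by_cases hmj : m = j
      · subst hmj
        rw [Pi.single_eq_same, Pi.single_eq_same]
      · rw [Pi.single_eq_of_ne hmj, Pi.single_eq_of_ne, map_zero]
        exact fun h => hmj (Fin.succAbove_right_injective h)
  have hgen : ∀ v ∈ Submodule.span T {v : Fin (n + 1) → T | ∃ i j : Fin (n + 1),
      v = Pi.single i (g j) - Pi.single j (g i)},
      Φ v ∈ Submodule.span A {v : Fin n → A | ∃ i j : Fin n,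
        v = Pi.single i (f j) - Pi.single j (f i)} := by
    intro v hv
    induction hv using Submodule.span_induction with
    | mem v hv =>
      obtain ⟨i, j, rfl⟩ := hv
      rw [hΦsub]
      obtain rfl | ⟨i', rfl⟩ := Fin.eq_self_or_eq_succAbove i₀ i
      · obtain rfl | ⟨j', rfl⟩ := Fin.eq_self_or_eq_succAbove i j
        · rw [sub_self]
          exact Submodule.zero_mem _
        · rw [hΦ0, hΦ1, hg₀, Pi.single_zero, sub_zero]
          exact Submodule.zero_mem _
      · obtain rfl | ⟨j', rfl⟩ := Fin.eq_self_or_eq_succAbove i₀ j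
        · rw [hΦ0, hΦ1, hg₀, Pi.single_zero, sub_zero]
          exact Submodule.zero_mem _
        · rw [hΦ1, hΦ1, hg, hg, hρι, hρι]
          exact Submodule.subset_span ⟨i', j', rfl⟩
    | zero =>
      have : Φ 0 = 0 := by
        funext m
        show ρ ((0 : Fin (n + 1) → T) (i₀.succAbove m)) = 0
        rw [Pi.zero_apply, map_zero]
      rw [this]
      exact Submodule.zero_mem _
    | add v w _ _ hv hw =>
      have : Φ (v + w) = Φ v + Φ w := by
        funext m
        show ρ ((v + w) (i₀.succAbove m)) = _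
        rw [Pi.add_apply, map_add]
        rfl
      rw [this]
      exact Submodule.add_mem _ hv hw
    | smul t v _ hv =>
      have : Φ (t • v) = ρ t • Φ v := by
        funext m
        show ρ ((t • v) (i₀.succAbove m)) = _
        rw [Pi.smul_apply, smul_eq_mul, map_mul]
        rfl
      rw [this]
      exact Submodule.smul_mem _ _ hv
  have hΦa : Φ a' = a := by
    funext m
    show ρ (a' (i₀.succAbove m)) = a m
    rw [ha', Fin.insertNth_apply_succAbove, hρι]
  rw [← hΦa]
  exact hgen a' hmem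

include hρι in
/-- the retraction lemma for quasi-regular sequences -/
theorem retract_quasi {n : ℕ} (g : Fin (n + 1) → T) (i₀ : Fin (n + 1)) (f : Fin n → A)
    (hg₀ : ρ (g i₀) = 0) (hg : ∀ j, g (i₀.succAbove j) = ι (f j))
    (h : CAlgX.IsQuasiRegular g) : CAlgX.IsQuasiRegular f := by
  classical
  intro m P hP hev d
  have hJK : (Ideal.span (Set.range f)).map ι ≤ Ideal.span (Set.range g) := by
    rw [Ideal.map_span, Ideal.span_le]
    rintro _ ⟨_, ⟨j, rfl⟩, rfl⟩
    rw [← hg j]
    exact Ideal.subset_span ⟨_, rfl⟩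
  have hKJ : (Ideal.span (Set.range g)).map ρ ≤ Ideal.span (Set.range f) := by
    rw [Ideal.map_span, Ideal.span_le]
    rintro _ ⟨_, ⟨i, rfl⟩, rfl⟩
    obtain rfl | ⟨j, rfl⟩ := Fin.eq_self_or_eq_succAbove i₀ i
    · rw [hg₀]
      exact Ideal.zero_mem _
    · rw [hg j, hρι]
      exact Ideal.subset_span ⟨j, rfl⟩
  have hP' : (MvPolynomial.map ι (MvPolynomial.rename i₀.succAbove P)).IsHomogeneous m :=
    (hP.rename_isHomogeneous).map ι
  have hev' : MvPolynomial.eval g (MvPolynomial.map ι (MvPolynomial.rename i₀.succAbove P)) =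
      ι (MvPolynomial.eval f P) := by
    rw [MvPolynomial.eval_map, MvPolynomial.eval₂_rename]
    have h1 : (g ∘ i₀.succAbove) = ι ∘ f := funext hg
    rw [h1, ← MvPolynomial.eval₂_id, MvPolynomial.eval₂_comp_left ι (RingHom.id A) f P,
      RingHom.comp_id]
  have hmem : MvPolynomial.eval g (MvPolynomial.map ι (MvPolynomial.rename i₀.succAbove P)) ∈
      Ideal.span (Set.range g) ^ (m + 1) := by
    rw [hev']
    have h2 : ι (MvPolynomial.eval f P) ∈ (Ideal.span (Set.range f) ^ (m + 1)).map ι :=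
      Ideal.mem_map_of_mem ι hev
    rw [Ideal.map_pow] at h2
    exact Ideal.pow_right_mono hJK (m + 1) h2
  have hc := h m _ hP' hmem (Finsupp.mapDomain i₀.succAbove d)
  rw [MvPolynomial.coeff_map,
    MvPolynomial.coeff_rename_mapDomain _ Fin.succAbove_right_injective P d] at hc
  have h3 := Ideal.mem_map_of_mem ρ hc
  rw [hρι] at h3
  exact hKJ h3

include hρι hker in
/-- replacing the generator with unit coefficient by `ξ`, and the others by their retractions -/
theorem swap_span {n : ℕ} (l c : Fin (n + 1) → T) (hξ : ξ = ∑ i, c i * l i) (i₀ : Fin (n + 1))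
    (hu : IsUnit (c i₀)) :
    Ideal.span (Set.range (Fin.insertNth (α := fun _ => T) i₀ ξ
      (fun j => ι (ρ (l (i₀.succAbove j)))))) = Ideal.span (Set.range l) := by
  set g : Fin (n + 1) → T := Fin.insertNth (α := fun _ => T) i₀ ξ
      (fun j => ι (ρ (l (i₀.succAbove j)))) with hg
  have hξl : ξ ∈ Ideal.span (Set.range l) := by
    rw [hξ]
    exact Ideal.sum_mem _ fun i _ => Ideal.mul_mem_left _ _ (Ideal.subset_span ⟨i, rfl⟩)
  have hdiff : ∀ t : T, t - ι (ρ t) ∈ Ideal.span ({ξ} : Set T) := fun t => by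
    rw [← hker, RingHom.mem_ker, map_sub, hρι, sub_self]
  have hξg : ξ ∈ Ideal.span (Set.range g) := by
    have : g i₀ = ξ := by rw [hg, Fin.insertNth_apply_same]
    rw [← this]
    exact Ideal.subset_span ⟨i₀, rfl⟩
  have hle1 : Ideal.span ({ξ} : Set T) ≤ Ideal.span (Set.range l) := by
    rw [Ideal.span_le, Set.singleton_subset_iff]
    exact hξl
  have hle2 : Ideal.span ({ξ} : Set T) ≤ Ideal.span (Set.range g) := by
    rw [Ideal.span_le, Set.singleton_subset_iff]
    exact hξg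
  have hsA : ∀ j, l (i₀.succAbove j) ∈ Ideal.span (Set.range g) := fun j => by
    have h1 : l (i₀.succAbove j) = g (i₀.succAbove j) +
        (l (i₀.succAbove j) - ι (ρ (l (i₀.succAbove j)))) := by
      rw [hg, Fin.insertNth_apply_succAbove]
      ring
    rw [h1]
    exact Ideal.add_mem _ (Ideal.subset_span ⟨_, rfl⟩) (hle2 (hdiff _))
  apply le_antisymm
  · rw [Ideal.span_le]
    rintro _ ⟨i, rfl⟩
    obtain rfl | ⟨j, rfl⟩ := Fin.eq_self_or_eq_succAbove i₀ i
    · rw [hg, Fin.insertNth_apply_same]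
      exact hξl
    · have h1 : g (i₀.succAbove j) = l (i₀.succAbove j) -
          (l (i₀.succAbove j) - ι (ρ (l (i₀.succAbove j)))) := by
        rw [hg, Fin.insertNth_apply_succAbove]
        ring
      rw [h1]
      exact Ideal.sub_mem _ (Ideal.subset_span ⟨_, rfl⟩) (hle1 (hdiff _))
  · rw [Ideal.span_le]
    rintro _ ⟨i, rfl⟩
    obtain rfl | ⟨j, rfl⟩ := Fin.eq_self_or_eq_succAbove i₀ i
    · have h1 : c i * l i = ξ - ∑ j, c (i.succAbove j) * l (i.succAbove j) := by
        rw [hξ, Fin.sum_univ_succAbove _ i]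
        ring
      have h2 : c i * l i ∈ Ideal.span (Set.range g) := by
        rw [h1]
        exact Ideal.sub_mem _ hξg
          (Ideal.sum_mem _ fun j _ => Ideal.mul_mem_left _ _ (hsA j))
      exact (Ideal.unit_mul_mem_iff_mem _ hu).mp h2
    · exact hsA j

include hρι hker in
theorem retract_span {n : ℕ} (l : Fin (n + 1) → T) (i₀ : Fin (n + 1)) :
    Ideal.span (Set.range (fun j => ρ (l (i₀.succAbove j)))) =
      (Ideal.span (Set.range (Fin.insertNth (α := fun _ => T) i₀ ξ
        (fun j => ι (ρ (l (i₀.succAbove j))))))).map ρ := by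
  apply le_antisymm
  · rw [Ideal.span_le]
    rintro _ ⟨j, rfl⟩
    have h1 : ρ (l (i₀.succAbove j)) = ρ ((Fin.insertNth (α := fun _ => T) i₀ ξ
        (fun j => ι (ρ (l (i₀.succAbove j))))) (i₀.succAbove j)) := by
      rw [Fin.insertNth_apply_succAbove, hρι]
    show ρ (l (i₀.succAbove j)) ∈ _
    rw [h1]
    exact Ideal.mem_map_of_mem ρ (Ideal.subset_span ⟨_, rfl⟩)
  · rw [Ideal.map_span, Ideal.span_le]
    rintro _ ⟨_, ⟨i, rfl⟩, rfl⟩
    obtain rfl | ⟨j, rfl⟩ := Fin.eq_self_or_eq_succAbove i₀ i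
    · rw [Fin.insertNth_apply_same, rho_xi ρ ξ hker]
      exact Ideal.zero_mem _
    · rw [Fin.insertNth_apply_succAbove, hρι]
      exact Ideal.subset_span ⟨j, rfl⟩

include hρι hker in
/-- the global form, `H_1` -/
theorem V1F_h1 : ∀ (r : ℕ) (l c : Fin r → T), CAlgX.IsH1Regular l → ξ = ∑ i, c i * l i →
    ∀ i₀ : Fin r, IsUnit (c i₀) → ∃ (r' : ℕ) (f : Fin r' → A), CAlgX.IsH1Regular f ∧
      Ideal.span (Set.range f) = (Ideal.span (Set.range l)).map ρ
  | 0, _, _, _, _, i₀, _ => i₀.elim0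
  | n + 1, l, c, hl, hξ, i₀, hu => by
    have hsp := swap_span ι ρ ξ hρι hker l c hξ i₀ hu
    refine ⟨n, fun j => ρ (l (i₀.succAbove j)), ?_, ?_⟩
    · refine retract_h1 ι ρ hρι _ i₀ _ ?_ (fun j => ?_) (h1_span_eq l _ hl hsp.symm)
      · rw [Fin.insertNth_apply_same, rho_xi ρ ξ hker]
      · rw [Fin.insertNth_apply_succAbove]
    · rw [retract_span ι ρ ξ hρι hker l i₀, hsp]

include hρι hker in
/-- the global form, quasi-regular -/
theorem V1F_quasi : ∀ (r : ℕ) (l c : Fin r → T), CAlgX.IsQuasiRegular l → ξ = ∑ i, c i * l i →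
    ∀ i₀ : Fin r, IsUnit (c i₀) → ∃ (r' : ℕ) (f : Fin r' → A), CAlgX.IsQuasiRegular f ∧
      Ideal.span (Set.range f) = (Ideal.span (Set.range l)).map ρ
  | 0, _, _, _, _, i₀, _ => i₀.elim0
  | n + 1, l, c, hl, hξ, i₀, hu => by
    have hsp := swap_span ι ρ ξ hρι hker l c hξ i₀ hu
    refine ⟨n, fun j => ρ (l (i₀.succAbove j)), ?_, ?_⟩
    · refine retract_quasi ι ρ hρι _ i₀ _ ?_ (fun j => ?_)
        (Groth.Agent.Helper6.QRegGen.isQuasiRegular_of_span_eq l _ hl hsp)
      · rw [Fin.insertNth_apply_same, rho_xi ρ ξ hker]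
      · rw [Fin.insertNth_apply_succAbove]
    · rw [retract_span ι ρ ξ hρι hker l i₀, hsp]

include hρι hker in
/-- the global form for lists of kind `k` -/
theorem V1 (k : RegImm.Kind) (hk : k = RegImm.Kind.h1 ∨ k = RegImm.Kind.quasi) (l : List T)
    (hl : k.Seq T l) (c : Fin l.length → T) (hξ : ξ = ∑ i, c i * l.get i) (i₀ : Fin l.length)
    (hu : IsUnit (c i₀)) :
    ∃ m : List A, k.Seq A m ∧ (Ideal.ofList l).map ρ = Ideal.ofList m := by
  have hof : Ideal.ofList l = Ideal.span (Set.range l.get) := by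
    rw [Set.range_list_get]
  rcases hk with rfl | rfl
  · obtain ⟨r', f, hf, hsp⟩ := V1F_h1 ι ρ ξ hρι hker l.length l.get c hl hξ i₀ hu
    rw [hof, ← hsp]
    exact (exists_list_iff (fun c f => CAlgX.IsH1Regular f) _).mpr ⟨r', f, hf, rfl⟩
  · obtain ⟨r', f, hf, hsp⟩ := V1F_quasi ι ρ ξ hρι hker l.length l.get c hl hξ i₀ hu
    rw [hof, ← hsp]
    exact (exists_list_iff (fun c f => CAlgX.IsQuasiRegular f) _).mpr ⟨r', f, hf, rfl⟩

end Core

end Groth.Agent.Helper2.RetPair
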