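import Mathlib
import Groth.Prelude.Def_RegImm
import Groth.Agent.Lib.Helper2.RetPair1

/-!
# Ideals locally generated by sequences with a good predicate; retraction pairs, local form
-/

set_option autoImplicit false
universe u

namespace Groth.Agent.Helper2.RetPair

open Groth.Agent.Helper2.KosIdeal TensorProduct

/-- a predicate on finite sequences in all rings of the universe -/
abbrev SeqPred : Type (u + 1) := ∀ (R : Type u) [CommRing R] (c : ℕ), (Fin c → R) → Prop

/-- the ideal `J` is locally (on basic opens around primes containing it) generated by a sequence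
satisfying `Pf` -/
def LocF (Pf : SeqPred.{u}) (R : Type u) [CommRing R] (J : Ideal R) : Prop :=
  ∀ (P : Ideal R) [P.IsPrime], J ≤ P → ∃ g : R, g ∉ P ∧ ∃ (r : ℕ) (f : Fin r → Localization.Away g),
    Pf (Localization.Away g) r f ∧
      Ideal.span (Set.range f) = J.map (algebraMap R (Localization.Away g))

/-- good sequence predicates: flat base change, the retraction lemma, faithfully flat descent -/
structure GoodSeq (Pf : SeqPred.{u}) : Prop where
  flat : ∀ {R R' : Type u} [CommRing R] [CommRing R'] [Algebra R R'] [Module.Flat R R'] {c : ℕ}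
    (f : Fin c → R), Pf R c f → Pf R' c (fun i => algebraMap R R' (f i))
  retract : ∀ {A T : Type u} [CommRing A] [CommRing T] (ι : A →+* T) (ρ : T →+* A) (ξ : T),
    (∀ a, ρ (ι a) = a) → RingHom.ker ρ = Ideal.span {ξ} → ∀ (r : ℕ) (l c : Fin r → T),
      Pf T r l → ξ = ∑ i, c i * l i → ∀ i₀ : Fin r, IsUnit (c i₀) →
        ∃ (r' : ℕ) (f : Fin r' → A), Pf A r' f ∧
          Ideal.span (Set.range f) = (Ideal.span (Set.range l)).map ρ
  desc : ∀ {A B : Type u} [CommRing A] [CommRing B] [Algebra A B] [Module.FaithfullyFlat A B]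
    (I : Ideal A), LocF Pf B (I.map (algebraMap A B)) → LocF Pf A I

variable {Pf : SeqPred.{u}}

theorem span_range_map {R R' : Type u} [CommRing R] [CommRing R'] (φ : R →+* R') {c : ℕ}
    (f : Fin c → R) :
    Ideal.span (Set.range (fun i => φ (f i))) = (Ideal.span (Set.range f)).map φ := by
  rw [Ideal.map_span, ← Set.range_comp]
  rfl

/-- any model of the localization may be used -/
theorem locF_model (hP : GoodSeq Pf) {R : Type u} [CommRing R] (I : Ideal R) (t : R)
    (S' : Type u) [CommRing S'] [Algebra R S'] [IsLocalization.Away t S'] {r : ℕ}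
    (f' : Fin r → S') (hf' : Pf S' r f')
    (hI : Ideal.span (Set.range f') = I.map (algebraMap R S')) :
    ∃ (r : ℕ) (f : Fin r → Localization.Away t), Pf (Localization.Away t) r f ∧
      Ideal.span (Set.range f) = I.map (algebraMap R (Localization.Away t)) := by
  let e : S' ≃ₐ[R] Localization.Away t :=
    IsLocalization.algEquiv (Submonoid.powers t) S' (Localization.Away t)
  letI : Algebra S' (Localization.Away t) := (e : S' →+* Localization.Away t).toAlgebra
  haveI : Module.Flat S' (Localization.Away t) :=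
    RingHom.Flat.of_bijective (f := (e : S' →+* Localization.Away t)) e.bijective
  refine ⟨r, fun i => algebraMap S' (Localization.Away t) (f' i), hP.flat f' hf', ?_⟩
  have h1 : (algebraMap R (Localization.Away t)) =
      (algebraMap S' (Localization.Away t)).comp (algebraMap R S') := by
    ext x
    exact (e.commutes x).symm
  rw [span_range_map, hI, Ideal.map_map, ← h1]

/-- data on a basic open of a basic open -/
theorem locF_at_of_away (hP : GoodSeq Pf) {C : Type u} [CommRing C] (I : Ideal C) (G : C)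
    (h : LocF Pf (Localization.Away G) (I.map (algebraMap C (Localization.Away G))))
    (𝔭 : Ideal C) [h𝔭 : 𝔭.IsPrime] (hI : I ≤ 𝔭) (hG : G ∉ 𝔭) :
    ∃ g : C, g ∉ 𝔭 ∧ ∃ (r : ℕ) (f : Fin r → Localization.Away g),
      Pf (Localization.Away g) r f ∧
      Ideal.span (Set.range f) = I.map (algebraMap C (Localization.Away g)) := by
  have hdisj : Disjoint (Submonoid.powers G : Set C) (𝔭 : Set C) := by
    rw [Set.disjoint_left]
    rintro x ⟨n, rfl⟩ hx
    exact hG (h𝔭.mem_of_pow_mem n hx)
  haveI hprime : (𝔭.map (algebraMap C (Localization.Away G))).IsPrime :=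
    IsLocalization.isPrime_of_isPrime_disjoint (Submonoid.powers G) _ _ h𝔭 hdisj
  obtain ⟨t, ht, r, fc, hq, hIl⟩ := h (𝔭.map (algebraMap C (Localization.Away G)))
    (Ideal.map_mono hI)
  obtain ⟨k, t', ht'⟩ := IsLocalization.Away.surj G t
  have hu : IsUnit (algebraMap C (Localization.Away G) G ^ k) :=
    IsLocalization.Away.algebraMap_pow_isUnit G k
  have ht'p : t' ∉ 𝔭 := by
    intro hmem
    apply ht
    have h1 : t = algebraMap C (Localization.Away G) t' * ↑hu.unit⁻¹ := by
      rw [← ht', mul_assoc, IsUnit.mul_val_inv, mul_one]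
    rw [h1]
    exact Ideal.mul_mem_right _ _ (Ideal.mem_map_of_mem _ hmem)
  have hassoc : Associated t (algebraMap C (Localization.Away G) t') :=
    ⟨hu.unit, by rw [← ht']; rfl⟩
  haveI : IsLocalization.Away (algebraMap C (Localization.Away G) t') (Localization.Away t) :=
    IsLocalization.Away.of_associated hassoc
  haveI : IsLocalization.Away (G * t') (Localization.Away t) :=
    IsLocalization.Away.mul' (Localization.Away G) (Localization.Away t) G t'
  refine ⟨G * t', ?_, ?_⟩
  · intro hmem
    rcases h𝔭.mem_or_mem hmem with h | h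
    · exact hG h
    · exact ht'p h
  · refine locF_model hP I (G * t') (Localization.Away t) fc hq ?_
    rw [hIl, Ideal.map_map, ← IsScalarTower.algebraMap_eq]

section Flat

attribute [local instance] Algebra.TensorProduct.rightAlgebra

/-- flat base change -/
theorem locF_flat (hP : GoodSeq Pf) {A B : Type u} [CommRing A] [CommRing B] [Algebra A B]
    [Module.Flat A B] (I : Ideal A) (h : LocF Pf A I) : LocF Pf B (I.map (algebraMap A B)) := by
  intro 𝔮 h𝔮 hle
  have hle' : I ≤ 𝔮.comap (algebraMap A B) := Ideal.map_le_iff_le_comap.mp hle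
  obtain ⟨g, hg, r, f, hf, hsp⟩ := h (𝔮.comap (algebraMap A B)) hle'
  refine ⟨algebraMap A B g, hg, ?_⟩
  haveI hloc : IsLocalization.Away (algebraMap A B g) (Localization.Away g ⊗[A] B) := by
    have h1 := IsLocalization.tensorRight (S := B) (A := Localization.Away g)
      (Submonoid.powers g)
    rw [Algebra.algebraMapSubmonoid_powers] at h1
    exact h1
  have hf' := hP.flat (R' := Localization.Away g ⊗[A] B) f hf
  refine locF_model hP (I.map (algebraMap A B)) (algebraMap A B g)
    (Localization.Away g ⊗[A] B) _ hf' ?_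
  rw [span_range_map, hsp, Ideal.map_map, Ideal.map_map]
  congr 1
  ext a
  simp only [RingHom.comp_apply, Algebra.TensorProduct.algebraMap_apply,
    Algebra.algebraMap_self, RingHom.id_apply]
  rw [RingHom.algebraMap_toAlgebra]
  simp only [Algebra.TensorProduct.includeRight_apply, AlgHom.toRingHom_eq_coe, RingHom.coe_coe]
  rw [Algebra.algebraMap_eq_smul_one, Algebra.algebraMap_eq_smul_one (A := B),
    TensorProduct.smul_tmul]

end Flat

section Pair

variable {A T : Type u} [CommRing A] [CommRing T] (ι : A →+* T) (ρ : T →+* A) (ξ : T)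
  (hρι : ∀ a, ρ (ι a) = a) (hker : RingHom.ker ρ = Ideal.span {ξ})
  (hnzd : ξ ∈ nonZeroDivisors T)

include hρι hker hnzd in
/-- localization of a retraction pair at an element of `T` -/
theorem pair_loc (G : T) (T' : Type u) [CommRing T'] [Algebra T T']
    [IsLocalization.Away (G * ι (ρ G)) T'] :
    ∃ (ι' : Localization.Away (ρ G) →+* T') (ρ' : T' →+* Localization.Away (ρ G)),
      (∀ a, ρ' (ι' a) = a) ∧ RingHom.ker ρ' = Ideal.span {algebraMap T T' ξ} ∧
      algebraMap T T' ξ ∈ nonZeroDivisors T' ∧
      ρ'.comp (algebraMap T T') = (algebraMap A (Localization.Away (ρ G))).comp ρ := by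
  have hρG₂ : ρ (G * ι (ρ G)) = ρ G * ρ G := by rw [map_mul, hρι]
  haveI hself : IsLocalization.Away (algebraMap A (Localization.Away (ρ G)) (ρ G))
      (Localization.Away (ρ G)) :=
    IsLocalization.away_of_isUnit_of_bijective (Localization.Away (ρ G))
      (IsLocalization.Away.algebraMap_isUnit (ρ G)) Function.bijective_id
  haveI hB1 : IsLocalization.Away (ρ (G * ι (ρ G))) (Localization.Away (ρ G)) := by
    rw [hρG₂]
    exact IsLocalization.Away.mul' (Localization.Away (ρ G)) (Localization.Away (ρ G)) (ρ G) (ρ G)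
  have hu : IsUnit (((algebraMap T T').comp ι) (ρ G)) := by
    have h1 : IsUnit (algebraMap T T' (G * ι (ρ G))) :=
      IsLocalization.Away.algebraMap_isUnit (G * ι (ρ G))
    rw [map_mul] at h1
    exact isUnit_of_mul_isUnit_right h1
  let ι' : Localization.Away (ρ G) →+* T' := IsLocalization.Away.lift (ρ G) hu
  let ρ' : T' →+* Localization.Away (ρ G) :=
    IsLocalization.Away.map T' (Localization.Away (ρ G)) ρ (G * ι (ρ G))
  have hcomp : ρ'.comp (algebraMap T T') = (algebraMap A (Localization.Away (ρ G))).comp ρ :=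
    awayMap_comp ρ (G * ι (ρ G)) T' (Localization.Away (ρ G))
  have hι' : ι'.comp (algebraMap A (Localization.Away (ρ G))) = (algebraMap T T').comp ι :=
    IsLocalization.Away.lift_comp (ρ G) hu
  refine ⟨ι', ρ', ?_, ?_, ?_, hcomp⟩
  · have h1 : ρ'.comp ι' = RingHom.id _ := by
      apply IsLocalization.ringHom_ext (Submonoid.powers (ρ G))
      rw [RingHom.comp_assoc, hι', ← RingHom.comp_assoc, hcomp, RingHom.comp_assoc]
      ext a
      simp only [RingHom.comp_apply, hρι, RingHom.id_apply]
    exact fun a => RingHom.congr_fun h1 a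
  · exact awayMap_ker ρ ξ hker (G * ι (ρ G)) T' (Localization.Away (ρ G))
  · exact IsLocalization.map_nonZeroDivisors_le (Submonoid.powers (G * ι (ρ G))) T'
      (Submonoid.mem_map_of_mem _ hnzd)

include hρι hker hnzd in
/-- the case of a globally generated ideal -/
theorem V2a (hP : GoodSeq Pf) {r : ℕ} (l : Fin r → T) (hl : Pf T r l)
    (hξl : ξ ∈ Ideal.span (Set.range l)) : LocF Pf A ((Ideal.span (Set.range l)).map ρ) := by
  intro 𝔭 h𝔭 hJ
  obtain ⟨c, hc⟩ := Ideal.mem_span_range_iff_exists_fun.mp hξl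
  have hl𝔭 : ∀ i, ρ (l i) ∈ 𝔭 := fun i =>
    hJ (Ideal.mem_map_of_mem ρ (Ideal.subset_span ⟨i, rfl⟩))
  obtain ⟨i₀, hi₀⟩ := exists_unit_coeff ι ρ ξ hρι hker hnzd l c hc.symm 𝔭 hl𝔭
  obtain ⟨ι', ρ', hρι', hker', -, hcomp'⟩ := pair_loc ι ρ ξ hρι hker hnzd (c i₀)
    (Localization.Away (c i₀ * ι (ρ (c i₀))))
  haveI : Module.Flat T (Localization.Away (c i₀ * ι (ρ (c i₀)))) :=
    IsLocalization.flat _ (Submonoid.powers (c i₀ * ι (ρ (c i₀))))
  have hl' := hP.flat (R' := Localization.Away (c i₀ * ι (ρ (c i₀)))) l hl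
  have hξ' : algebraMap T (Localization.Away (c i₀ * ι (ρ (c i₀)))) ξ =
      ∑ i, algebraMap T (Localization.Away (c i₀ * ι (ρ (c i₀)))) (c i) *
        algebraMap T (Localization.Away (c i₀ * ι (ρ (c i₀)))) (l i) := by
    rw [← hc, map_sum]
    exact Finset.sum_congr rfl fun i _ => map_mul _ _ _
  have hu : IsUnit (algebraMap T (Localization.Away (c i₀ * ι (ρ (c i₀)))) (c i₀)) := by
    have h1 : IsUnit (algebraMap T (Localization.Away (c i₀ * ι (ρ (c i₀))))
        (c i₀ * ι (ρ (c i₀)))) := IsLocalization.Away.algebraMap_isUnit _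
    rw [map_mul] at h1
    exact isUnit_of_mul_isUnit_left h1
  obtain ⟨r', f, hf, hsp⟩ := hP.retract ι' ρ' _ hρι' hker' r _
    (fun i => algebraMap T (Localization.Away (c i₀ * ι (ρ (c i₀)))) (c i)) hl' hξ' i₀ hu
  refine ⟨ρ (c i₀), hi₀, r', f, hf, ?_⟩
  rw [hsp, span_range_map, Ideal.map_map, hcomp', ← Ideal.map_map]

include hρι hker hnzd in
/-- **retraction of locally generated ideals** -/
theorem locF_retract (hP : GoodSeq Pf) (K : Ideal T) (hξK : ξ ∈ K) (h : LocF Pf T K) :
    LocF Pf A (K.map ρ) := by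
  intro 𝔭 h𝔭 hJ
  haveI h𝔮 : (𝔭.comap ρ).IsPrime := Ideal.comap_isPrime ρ 𝔭
  have hK𝔮 : K ≤ 𝔭.comap ρ := Ideal.map_le_iff_le_comap.mp hJ
  obtain ⟨G, hG, r, l, hl, hsp⟩ := h (𝔭.comap ρ) hK𝔮
  have ha : ρ G ∉ 𝔭 := hG
  obtain ⟨ι', ρ', hρι', hker', hnzd', hcomp'⟩ := pair_loc ι ρ ξ hρι hker hnzd G
    (Localization.Away (algebraMap T (Localization.Away G) (ι (ρ G))))
  haveI : Module.Flat (Localization.Away G)
      (Localization.Away (algebraMap T (Localization.Away G) (ι (ρ G)))) :=
    IsLocalization.flat _ (Submonoid.powers (algebraMap T (Localization.Away G) (ι (ρ G))))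
  have hl₁ := hP.flat
    (R' := Localization.Away (algebraMap T (Localization.Away G) (ι (ρ G)))) l hl
  have hsp₁ : Ideal.span (Set.range (fun i => algebraMap (Localization.Away G)
      (Localization.Away (algebraMap T (Localization.Away G) (ι (ρ G)))) (l i))) =
      K.map (algebraMap T (Localization.Away (algebraMap T (Localization.Away G) (ι (ρ G))))) := by
    rw [span_range_map, hsp, Ideal.map_map, ← IsScalarTower.algebraMap_eq]
  have hξ₁ : algebraMap T (Localization.Away (algebraMap T (Localization.Away G) (ι (ρ G)))) ξ ∈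
      Ideal.span (Set.range (fun i => algebraMap (Localization.Away G)
        (Localization.Away (algebraMap T (Localization.Away G) (ι (ρ G)))) (l i))) := by
    rw [hsp₁]
    exact Ideal.mem_map_of_mem _ hξK
  have hV := V2a ι' ρ' _ hρι' hker' hnzd' hP _ hl₁ hξ₁
  rw [hsp₁, Ideal.map_map, hcomp', ← Ideal.map_map] at hV
  exact locF_at_of_away hP (K.map ρ) (ρ G) hV 𝔭 hJ ha

end Pair

section Poly

open Polynomial

/-- the one-variable case: evaluation at a point of the zero locus -/
theorem locF_poly (hP : GoodSeq Pf) {C : Type u} [CommRing C] (d : C) (K : Ideal C[X])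
    (hK : X - Polynomial.C d ∈ K) (h : LocF Pf C[X] K) :
    LocF Pf C (K.map (Polynomial.evalRingHom d)) :=
  locF_retract Polynomial.C (Polynomial.evalRingHom d) (X - Polynomial.C d)
    (fun a => by simp) (Polynomial.ker_evalRingHom d)
    ((Polynomial.monic_X_sub_C d).mem_nonZeroDivisors) hP K hK h

end Poly

end Groth.Agent.Helper2.RetPair
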