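import Mathlib
import Groth.Prelude.Def_RegImm
import Groth.Agent.Lib.Helper2.RetPair2
import Groth.Agent.Lib.Helper2.SmKR2

/-!
# Properties of ideals descending along smooth ring maps

An abstract version of the smooth comparison: a property `P` of ideals which is stable under flat
base change, descends along faithfully flat maps, is local on basic opens and passes from
`K ∋ X - d` in `C[X]` to its image under evaluation at `d`, passes from the kernel of
`C' → B` to the kernel of `R → B` when `C'` is a smooth `R`-algebra and `R → B` is surjective.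
-/

set_option autoImplicit false
universe u

namespace Groth.Agent.Helper2.RetPair

open Groth.Agent.Helper2.KosIdeal Groth.Agent.Helper2.SmKR TensorProduct

/-- a property of ideals in all rings of the universe -/
abbrev IdPred : Type (u + 1) := ∀ (R : Type u) [CommRing R], Ideal R → Prop

/-- the axioms -/
structure IdealProp (P : IdPred.{u}) : Prop where
  flat : ∀ {A B : Type u} [CommRing A] [CommRing B] [Algebra A B] [Module.Flat A B] (I : Ideal A),
    P A I → P B (I.map (algebraMap A B))
  desc : ∀ {A B : Type u} [CommRing A] [CommRing B] [Algebra A B] [Module.FaithfullyFlat A B]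
    (I : Ideal A), P B (I.map (algebraMap A B)) → P A I
  loc : ∀ {C : Type u} [CommRing C] (I : Ideal C),
    (∀ (𝔭 : Ideal C) [𝔭.IsPrime], I ≤ 𝔭 → ∃ G : C, G ∉ 𝔭 ∧
      P (Localization.Away G) (I.map (algebraMap C (Localization.Away G)))) → P C I
  poly : ∀ {C : Type u} [CommRing C] (d : C) (K : Ideal (Polynomial C)),
    Polynomial.X - Polynomial.C d ∈ K → P (Polynomial C) K →
      P C (K.map (Polynomial.evalRingHom d))

variable {P : IdPred.{u}}

theorem IdealProp.equiv (hP : IdealProp P) {D D' : Type u} [CommRing D] [CommRing D']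
    (e : D ≃+* D') (I : Ideal D) (h : P D I) : P D' (I.map (e : D →+* D')) := by
  letI : Algebra D D' := (e : D →+* D').toAlgebra
  haveI : Module.Flat D D' := RingHom.Flat.of_bijective (f := (e : D →+* D')) e.bijective
  exact hP.flat I h

section Ext

theorem map_eq_ker_of_comp {D D' B : Type u} [CommRing D] [CommRing D'] [CommRing B]
    (δ : D →+* B) (δ' : D' →+* B) (f : D →+* D') (hf : Function.Surjective f)
    (h : δ = δ'.comp f) : (RingHom.ker δ).map f = RingHom.ker δ' := by
  rw [h, ← RingHom.comap_ker, Ideal.map_comap_of_surjective f hf]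

/-- removing finitely many polynomial variables -/
theorem ext_down (hP : IdealProp P) (C B : Type u) [CommRing C] [CommRing B] (γ : C →+* B)
    (hγ : Function.Surjective γ) : ∀ (m : ℕ) (δ : MvPolynomial (Fin m) C →+* B),
    δ.comp MvPolynomial.C = γ → P (MvPolynomial (Fin m) C) (RingHom.ker δ) → P C (RingHom.ker γ)
  | 0, δ, hδ => by
    intro h
    let e₀ : MvPolynomial (Fin 0) C ≃ₐ[C] C := MvPolynomial.isEmptyAlgEquiv C (Fin 0)
    have h1 : δ = γ.comp (e₀.toRingEquiv : MvPolynomial (Fin 0) C →+* C) := by
      apply MvPolynomial.ringHom_ext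
      · intro c
        have h2 : e₀ (MvPolynomial.C c) = c := by
          have := e₀.commutes c
          exact this
        show δ (MvPolynomial.C c) = γ (e₀ (MvPolynomial.C c))
        rw [h2, ← hδ]
        rfl
      · intro i
        exact i.elim0
    have h3 := map_eq_ker_of_comp δ γ _ e₀.toRingEquiv.surjective h1
    rw [← h3]
    exact hP.equiv e₀.toRingEquiv _ h
  | m + 1, δ, hδ => by
    intro h
    let e : MvPolynomial (Fin (m + 1)) C ≃ₐ[C] Polynomial (MvPolynomial (Fin m) C) :=
      MvPolynomial.finSuccEquiv C m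
    let δ' : Polynomial (MvPolynomial (Fin m) C) →+* B :=
      δ.comp (e.symm.toRingEquiv : Polynomial (MvPolynomial (Fin m) C) →+* _)
    let δm : MvPolynomial (Fin m) C →+* B := δ'.comp Polynomial.C
    have hδm : δm.comp MvPolynomial.C = γ := by
      ext c
      show δ (e.symm (Polynomial.C (MvPolynomial.C c))) = γ c
      have h2 : e.symm (Polynomial.C (MvPolynomial.C c)) = MvPolynomial.C c := by
        have := e.symm.commutes c
        exact this
      rw [h2, ← hδ]
      rfl
    have hδm_surj : Function.Surjective δm := by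
      intro b
      obtain ⟨c, rfl⟩ := hγ b
      exact ⟨MvPolynomial.C c, by rw [← hδm]; rfl⟩
    refine ext_down hP C B γ hγ m δm hδm ?_
    obtain ⟨d, hd⟩ := hδm_surj (δ' Polynomial.X)
    have hfac : δ' = δm.comp (Polynomial.evalRingHom d) := by
      apply Polynomial.ringHom_ext
      · intro a
        show δ' (Polynomial.C a) = δm (Polynomial.eval d (Polynomial.C a))
        rw [Polynomial.eval_C]
        rfl
      · show δ' Polynomial.X = δm (Polynomial.eval d Polynomial.X)
        rw [Polynomial.eval_X, hd]
    have hsurj : Function.Surjective (Polynomial.evalRingHom d) := by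
      intro r
      exact ⟨Polynomial.C r, by simp⟩
    have h4 := map_eq_ker_of_comp δ' δm _ hsurj hfac
    have hmem : Polynomial.X - Polynomial.C d ∈ RingHom.ker δ' := by
      rw [RingHom.mem_ker, map_sub, ← hd]
      exact sub_self _
    have h6 : δ = δ'.comp (e.toRingEquiv : MvPolynomial (Fin (m + 1)) C →+* _) := by
      ext x
      · show δ (MvPolynomial.C x) = δ (e.symm (e (MvPolynomial.C x)))
        rw [e.symm_apply_apply]
      · show δ (MvPolynomial.X _) = δ (e.symm (e (MvPolynomial.X _)))
        rw [e.symm_apply_apply]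
    have h7 := map_eq_ker_of_comp δ δ' _ e.toRingEquiv.surjective h6
    have h8 : P _ (RingHom.ker δ') := by
      rw [← h7]
      exact hP.equiv e.toRingEquiv _ h
    rw [← h4]
    exact hP.poly d (RingHom.ker δ') hmem h8

end Ext

section Etale

attribute [local instance] Algebra.TensorProduct.rightAlgebra

variable {C C' B : Type u} [CommRing C] [CommRing C'] [CommRing B] [Algebra C C']
  [Algebra.Etale C C']
  (γ : C →+* B) (hγ : Function.Surjective γ) (γ' : C' →+* B)
  (hcomp : γ'.comp (algebraMap C C') = γ)

include hγ hcomp in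
/-- going down along an étale map -/
theorem etale_down (hP : IdealProp P) (h : P C' (RingHom.ker γ')) : P C (RingHom.ker γ) := by
  obtain ⟨g, hg, heq⟩ := exists_away_eq γ hγ γ' hcomp
  have hγ'alg : ∀ c : C, γ' (algebraMap C C' c) = γ c := fun c => RingHom.congr_fun hcomp c
  have hKRg : P (Localization.Away g)
      ((RingHom.ker γ).map (algebraMap C (Localization.Away g))) := by
    have h2 := hP.flat (B := Localization.Away g) _ h
    rw [heq, Ideal.map_map, ← IsScalarTower.algebraMap_eq] at h2
    exact h2
  haveI : Module.Flat C (Localization.Away g) := Module.Flat.trans C C' (Localization.Away g)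
  haveI : Algebra.FinitePresentation C' (Localization.Away g) :=
    IsLocalization.Away.finitePresentation g
  haveI : Algebra.FinitePresentation C (Localization.Away g) :=
    Algebra.FinitePresentation.trans C C' (Localization.Away g)
  have hopen : IsOpenMap (PrimeSpectrum.comap (algebraMap C (Localization.Away g))) :=
    PrimeSpectrum.isOpenMap_comap_of_hasGoingDown_of_finitePresentation
  apply hP.loc
  intro 𝔭 h𝔭prime h𝔭
  haveI hprimeB : (𝔭.map γ).IsPrime := Ideal.map_isPrime_of_surjective hγ h𝔭
  have hcomapB : (𝔭.map γ).comap γ = 𝔭 := by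
    rw [Ideal.comap_map_of_surjective γ hγ, sup_eq_left, ← RingHom.ker_eq_comap_bot]
    exact h𝔭
  let 𝔮 : Ideal C' := (𝔭.map γ).comap γ'
  haveI h𝔮 : 𝔮.IsPrime := Ideal.comap_isPrime γ' _
  have hN𝔮 : RingHom.ker γ' ≤ 𝔮 := by
    intro x hx
    show γ' x ∈ 𝔭.map γ
    rw [(RingHom.mem_ker).mp hx]
    exact Ideal.zero_mem _
  have h𝔮comap : 𝔮.comap (algebraMap C C') = 𝔭 := by
    rw [Ideal.comap_comap, hcomp, hcomapB]
  have hg𝔮 : g ∉ 𝔮 := hg 𝔮 h𝔮 hN𝔮
  have hdisj : Disjoint (Submonoid.powers g : Set C') (𝔮 : Set C') := by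
    rw [Set.disjoint_left]
    rintro x ⟨k, rfl⟩ hx
    exact hg𝔮 (h𝔮.mem_of_pow_mem k hx)
  haveI hprime' : (𝔮.map (algebraMap C' (Localization.Away g))).IsPrime :=
    IsLocalization.isPrime_of_isPrime_disjoint (Submonoid.powers g) _ _ h𝔮 hdisj
  have hcomap' : (𝔮.map (algebraMap C' (Localization.Away g))).comap
      (algebraMap C' (Localization.Away g)) = 𝔮 :=
    IsLocalization.under_map_of_isPrime_disjoint (Submonoid.powers g) _ h𝔮 hdisj
  have h𝔭range : (⟨𝔭, h𝔭prime⟩ : PrimeSpectrum C) ∈
      Set.range (PrimeSpectrum.comap (algebraMap C (Localization.Away g))) := by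
    refine ⟨⟨_, hprime'⟩, ?_⟩
    ext1
    show (𝔮.map (algebraMap C' (Localization.Away g))).comap
      (algebraMap C (Localization.Away g)) = 𝔭
    rw [IsScalarTower.algebraMap_eq C C' (Localization.Away g), ← Ideal.comap_comap, hcomap',
      h𝔮comap]
  obtain ⟨_, ⟨_, ⟨a, rfl⟩, rfl⟩, h𝔭a, haU⟩ :=
    PrimeSpectrum.isBasis_basic_opens.exists_subset_of_mem_open h𝔭range hopen.isOpen_range
  have ha𝔭 : a ∉ 𝔭 := h𝔭a
  haveI hloc : IsLocalization.Away (algebraMap C (Localization.Away g) a) (Ta a g) := by
    have h1 := IsLocalization.tensorRight (S := Localization.Away g) (A := Aa a)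
      (Submonoid.powers a)
    rw [Algebra.algebraMapSubmonoid_powers] at h1
    exact h1
  haveI : Module.FaithfullyFlat (Aa a) (Ta a g) := by
    apply Module.FaithfullyFlat.of_comap_surjective
    intro 𝔭₁
    have ha₁ : a ∉ 𝔭₁.asIdeal.comap (algebraMap C (Aa a)) := by
      intro hmem
      exact 𝔭₁.2.ne_top (Ideal.eq_top_of_isUnit_mem _ hmem
        (IsLocalization.Away.algebraMap_isUnit a))
    have hp₀ : (𝔭₁.asIdeal.comap (algebraMap C (Aa a))).IsPrime := Ideal.comap_isPrime _ _
    obtain ⟨𝔮₁, h𝔮₁⟩ := haU (show (⟨𝔭₁.asIdeal.comap (algebraMap C (Aa a)), hp₀⟩ :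
      PrimeSpectrum C) ∈ (PrimeSpectrum.basicOpen a : Set (PrimeSpectrum C)) from ha₁)
    have h𝔮₁' : 𝔮₁.asIdeal.comap (algebraMap C (Localization.Away g)) =
        𝔭₁.asIdeal.comap (algebraMap C (Aa a)) := congrArg PrimeSpectrum.asIdeal h𝔮₁
    have ha𝔮₁ : algebraMap C (Localization.Away g) a ∉ 𝔮₁.asIdeal := by
      intro hmem
      apply ha₁
      rw [← h𝔮₁']
      exact hmem
    have hdisj₁ : Disjoint (Submonoid.powers (algebraMap C (Localization.Away g) a) :
        Set (Localization.Away g)) (𝔮₁.asIdeal : Set (Localization.Away g)) := by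
      rw [Set.disjoint_left]
      rintro x ⟨k, rfl⟩ hx
      exact ha𝔮₁ (𝔮₁.2.mem_of_pow_mem k hx)
    haveI hprime₂ : (𝔮₁.asIdeal.map (algebraMap (Localization.Away g) (Ta a g))).IsPrime :=
      IsLocalization.isPrime_of_isPrime_disjoint
        (Submonoid.powers (algebraMap C (Localization.Away g) a)) _ _ 𝔮₁.2 hdisj₁
    have hcomap₂ : (𝔮₁.asIdeal.map (algebraMap (Localization.Away g) (Ta a g))).comap
        (algebraMap (Localization.Away g) (Ta a g)) = 𝔮₁.asIdeal :=
      IsLocalization.under_map_of_isPrime_disjoint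
        (Submonoid.powers (algebraMap C (Localization.Away g) a)) _ 𝔮₁.2 hdisj₁
    refine ⟨⟨_, hprime₂⟩, ?_⟩
    apply PrimeSpectrum.localization_comap_injective (Aa a) (Submonoid.powers a)
    ext1
    show ((𝔮₁.asIdeal.map (algebraMap (Localization.Away g) (Ta a g))).comap (algebraMap (Aa a) (Ta a g))).comap
      (algebraMap C (Aa a)) = 𝔭₁.asIdeal.comap (algebraMap C (Aa a))
    rw [Ideal.comap_comap, ← IsScalarTower.algebraMap_eq,
      IsScalarTower.algebraMap_eq C (Localization.Away g) (Ta a g), ← Ideal.comap_comap, hcomap₂, h𝔮₁']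
  haveI : Module.Flat (Localization.Away g) (Ta a g) :=
    IsLocalization.flat (Ta a g) (Submonoid.powers (algebraMap C (Localization.Away g) a))
  have hKRT : P (Ta a g)
      (((RingHom.ker γ).map (algebraMap C (Aa a))).map (algebraMap (Aa a) (Ta a g))) := by
    have h3 := hP.flat (B := Ta a g) _ hKRg
    rw [Ideal.map_map, ← IsScalarTower.algebraMap_eq] at h3
    rw [Ideal.map_map, ← IsScalarTower.algebraMap_eq]
    exact h3
  exact ⟨a, ha𝔭, hP.desc (A := Aa a) (B := Ta a g) _ hKRT⟩

end Etale

section Std

variable {R' T B' : Type u} [CommRing R'] [CommRing T] [CommRing B'] [Algebra R' T]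
  [Algebra.IsStandardSmooth R' T] (ρ₀ : R' →+* B') (hρ₀ : Function.Surjective ρ₀) (γT : T →+* B')
  (hcomp : γT.comp (algebraMap R' T) = ρ₀)

include hρ₀ hcomp in
/-- going down along a standard smooth map -/
theorem std_down (hP : IdealProp P) (h : P T (RingHom.ker γT)) : P R' (RingHom.ker ρ₀) := by
  have hf : (algebraMap R' T).IsStandardSmooth :=
    RingHom.isStandardSmooth_algebraMap.mpr inferInstance
  obtain ⟨n, φ, hφC, hφ⟩ := RingHom.IsStandardSmooth.exists_etale_mvPolynomial hf
  let δ : MvPolynomial (Fin n) R' →+* B' := γT.comp φ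
  have hδ : δ.comp MvPolynomial.C = ρ₀ := by
    rw [RingHom.comp_assoc, hφC, hcomp]
  have hδsurj : Function.Surjective δ := by
    intro b
    obtain ⟨r, rfl⟩ := hρ₀ b
    exact ⟨MvPolynomial.C r, by rw [← hδ]; rfl⟩
  refine ext_down hP R' B' ρ₀ hρ₀ n δ hδ ?_
  algebraize [φ]
  haveI : Algebra.Etale (MvPolynomial (Fin n) R') T := hφ
  have hc : γT.comp (algebraMap (MvPolynomial (Fin n) R') T) = δ := rfl
  exact etale_down δ hδsurj γT hc hP h

end Std

section Model

/-- the property of the extension to a localisation does not depend on the model -/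
theorem model_iff (hP : IdealProp P) {D : Type u} [CommRing D] (I : Ideal D) (G : D) (T : Type u)
    [CommRing T] [Algebra D T] [IsLocalization.Away G T] :
    P T (I.map (algebraMap D T)) ↔
      P (Localization.Away G) (I.map (algebraMap D (Localization.Away G))) := by
  let e : T ≃ₐ[D] Localization.Away G :=
    IsLocalization.algEquiv (Submonoid.powers G) T (Localization.Away G)
  have h1 : (algebraMap D (Localization.Away G)) =
      (e.toRingEquiv : T →+* Localization.Away G).comp (algebraMap D T) := by
    ext r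
    exact (e.commutes r).symm
  have h2 : (algebraMap D T) =
      (e.symm.toRingEquiv : Localization.Away G →+* T).comp
        (algebraMap D (Localization.Away G)) := by
    ext r
    exact (e.symm.commutes r).symm
  constructor
  · intro h
    rw [h1, ← Ideal.map_map]
    exact hP.equiv e.toRingEquiv _ h
  · intro h
    rw [h2, ← Ideal.map_map]
    exact hP.equiv e.symm.toRingEquiv _ h

end Model

section Smooth

attribute [local instance] Algebra.TensorProduct.rightAlgebra

variable {R C' B : Type u} [CommRing R] [CommRing C'] [CommRing B] [Algebra R C']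
  (γ : R →+* B) (hγ : Function.Surjective γ) (γ' : C' →+* B)
  (hcomp : γ'.comp (algebraMap R C') = γ)

include hγ hcomp in
/-- the local comparison on a standard smooth chart -/
theorem away_down (hP : IdealProp P) (g : C') [Algebra.IsStandardSmooth R (Localization.Away g)]
    (a : R) (hga : γ a = γ' g)
    (h : P (Localization.Away (g * algebraMap R C' a)) ((RingHom.ker γ').map
        (algebraMap C' (Localization.Away (g * algebraMap R C' a))))) :
    P (Localization.Away a) ((RingHom.ker γ).map (algebraMap R (Localization.Away a))) := by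
  have hγ'alg : ∀ c : R, γ' (algebraMap R C' c) = γ c := fun c => RingHom.congr_fun hcomp c
  haveI hloc : IsLocalization.Away (algebraMap R (Localization.Away g) a) (Ta a g) := by
    have h1 := IsLocalization.tensorRight (S := Localization.Away g) (A := Aa a)
      (Submonoid.powers a)
    rw [Algebra.algebraMapSubmonoid_powers] at h1
    exact h1
  letI algC'T : Algebra C' (Ta a g) :=
    ((algebraMap (Localization.Away g) (Ta a g)).comp (algebraMap C' (Localization.Away g))).toAlgebra
  haveI : IsScalarTower C' (Localization.Away g) (Ta a g) := IsScalarTower.of_algebraMap_eq' rfl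
  haveI : IsScalarTower R C' (Ta a g) := by
    apply IsScalarTower.of_algebraMap_eq'
    rw [IsScalarTower.algebraMap_eq R (Localization.Away g) (Ta a g),
      IsScalarTower.algebraMap_eq R C' (Localization.Away g)]
    rfl
  haveI hloc' : IsLocalization.Away (algebraMap C' (Localization.Away g) (algebraMap R C' a))
      (Ta a g) := by
    rw [← IsScalarTower.algebraMap_apply R C' (Localization.Away g) a]
    exact hloc
  haveI hlocT : IsLocalization.Away (g * algebraMap R C' a) (Ta a g) :=
    IsLocalization.Away.mul' (Localization.Away g) (Ta a g) g (algebraMap R C' a)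
  haveI hself : IsLocalization.Away (algebraMap B (Localization.Away (γ a)) (γ a))
      (Localization.Away (γ a)) :=
    IsLocalization.away_of_isUnit_of_bijective (Localization.Away (γ a))
      (IsLocalization.Away.algebraMap_isUnit (γ a)) Function.bijective_id
  haveI hB1 : IsLocalization.Away (γ' (g * algebraMap R C' a)) (Localization.Away (γ a)) := by
    have h1 : γ' (g * algebraMap R C' a) = γ a * γ a := by
      rw [map_mul, hγ'alg, hga]
    rw [h1]
    exact IsLocalization.Away.mul' (Localization.Away (γ a)) (Localization.Away (γ a)) (γ a) (γ a)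
  let ρ₀ : Aa a →+* Localization.Away (γ a) :=
    IsLocalization.Away.map (Aa a) (Localization.Away (γ a)) γ a
  let γT : Ta a g →+* Localization.Away (γ a) :=
    IsLocalization.Away.map (Ta a g) (Localization.Away (γ a)) γ' (g * algebraMap R C' a)
  have hρ₀ : Function.Surjective ρ₀ :=
    awayMap_surjective γ hγ a (Aa a) (Localization.Away (γ a))
  have hρ₀c : ρ₀.comp (algebraMap R (Aa a)) = (algebraMap B (Localization.Away (γ a))).comp γ :=
    awayMap_comp γ a (Aa a) (Localization.Away (γ a))
  have hγTc : γT.comp (algebraMap C' (Ta a g)) = (algebraMap B (Localization.Away (γ a))).comp γ' :=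
    awayMap_comp γ' (g * algebraMap R C' a) (Ta a g) (Localization.Away (γ a))
  have hcompT : γT.comp (algebraMap (Aa a) (Ta a g)) = ρ₀ := by
    apply IsLocalization.ringHom_ext (Submonoid.powers a)
    rw [RingHom.comp_assoc, ← IsScalarTower.algebraMap_eq, hρ₀c,
      IsScalarTower.algebraMap_eq R C' (Ta a g), ← RingHom.comp_assoc, hγTc, RingHom.comp_assoc,
      hcomp]
  have hkerρ : RingHom.ker ρ₀ = (RingHom.ker γ).map (algebraMap R (Aa a)) :=
    IsLocalization.ker_map (S := Aa a) (Localization.Away (γ a)) γ (Submonoid.map_powers γ a)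
  have hkerT : RingHom.ker γT = (RingHom.ker γ').map (algebraMap C' (Ta a g)) :=
    IsLocalization.ker_map (S := Ta a g) (Localization.Away (γ a)) γ'
      (Submonoid.map_powers γ' (g * algebraMap R C' a))
  have h' := (model_iff hP (RingHom.ker γ') (g * algebraMap R C' a) (Ta a g)).mpr h
  rw [← hkerT] at h'
  have key := std_down ρ₀ hρ₀ γT hcompT hP h'
  rw [hkerρ] at key
  exact key

include hγ hcomp in
/-- **Smooth descent.**  For a smooth `R`-algebra `C'` and compatible surjections of `R` and
`C'` onto `B`, the property passes from the kernel of `C' → B` to the kernel of `R → B`. -/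
theorem smooth_down (hP : IdealProp P) [Algebra.Smooth R C'] (h : P C' (RingHom.ker γ')) :
    P R (RingHom.ker γ) := by
  obtain ⟨s, hs, hstd⟩ := Algebra.Smooth.exists_span_eq_top_isStandardSmooth R C'
  have hγ'alg : ∀ c : R, γ' (algebraMap R C' c) = γ c := fun c => RingHom.congr_fun hcomp c
  have hex : ∀ 𝔮 : Ideal C', 𝔮.IsPrime → ∃ g ∈ s, g ∉ 𝔮 := by
    intro 𝔮 h𝔮
    by_contra hcon
    push Not at hcon
    apply h𝔮.ne_top
    rw [eq_top_iff, ← hs, Ideal.span_le]
    exact fun g hg => hcon g hg
  apply hP.loc
  intro 𝔭 h𝔭prime h𝔭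
  haveI hprimeB : (𝔭.map γ).IsPrime := Ideal.map_isPrime_of_surjective hγ h𝔭
  have hcomapB : (𝔭.map γ).comap γ = 𝔭 := by
    rw [Ideal.comap_map_of_surjective γ hγ, sup_eq_left, ← RingHom.ker_eq_comap_bot]
    exact h𝔭
  haveI h𝔮 : ((𝔭.map γ).comap γ').IsPrime := Ideal.comap_isPrime γ' _
  obtain ⟨g, hgs, hg𝔮⟩ := hex _ h𝔮
  haveI := hstd g hgs
  obtain ⟨a, ha⟩ := hγ (γ' g)
  have h1 : P (Localization.Away (g * algebraMap R C' a)) ((RingHom.ker γ').map
      (algebraMap C' (Localization.Away (g * algebraMap R C' a)))) :=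
    hP.flat _ h
  have h2 := away_down γ hγ γ' hcomp hP g a ha h1
  have ha𝔭 : a ∉ 𝔭 := by
    intro hmem
    apply hg𝔮
    show γ' g ∈ 𝔭.map γ
    rw [← ha]
    exact Ideal.mem_map_of_mem γ hmem
  exact ⟨a, ha𝔭, h2⟩

end Smooth

section Inst

variable {Pf : SeqPred.{u}}

/-- ideals locally generated by good sequences form a good property of ideals -/
theorem idealProp_locF (hPf : GoodSeq Pf) : IdealProp (fun R _ I => LocF Pf R I) where
  flat := fun I h => locF_flat hPf I h
  desc := fun I h => hPf.desc I h
  loc := fun I h => by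
    intro 𝔭 h𝔭 hI
    obtain ⟨G, hG, hloc⟩ := h 𝔭 hI
    exact locF_at_of_away hPf I G hloc 𝔭 hI hG
  poly := fun d K hK h => locF_poly hPf d K hK h

end Inst

end Groth.Agent.Helper2.RetPair
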