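import Mathlib
import Groth.Prelude.Def_RegImm
import Groth.Agent.Lib.Helper2.RetPair3
import Groth.Agent.Lib.Helper2.KRSch1
import Groth.Agent.Lib.Helper2.KindDescOpen

/-!
# Ideals locally generated by sequences of kind `k`: descent along smooth ring maps, and the
local comparison for a pair of immersions
-/

set_option autoImplicit false
universe u

namespace Groth.Agent.Helper2.RetPair

open Groth.Agent.Helper2.KindDesc Groth.Agent.Helper2.H1Desc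

/-- `H_1`-regular sequences form a good predicate -/
theorem goodSeq_h1 : GoodSeq.{u} (fun _ _ _ f => CAlgX.IsH1Regular f) where
  flat := fun f hf => Groth.Agent.Helper28.RegBC.h1_of_flat f hf
  retract := fun ι ρ ξ hρι hker r l c hl hξ i₀ hu => V1F_h1 ι ρ ξ hρι hker r l c hl hξ i₀ hu
  desc := fun {A B} _ _ _ _ I h => lh1_desc A B I h

/-- quasi-regular sequences form a good predicate -/
theorem goodSeq_quasi : GoodSeq.{u} (fun _ _ _ f => CAlgX.IsQuasiRegular f) where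
  flat := fun f hf => Groth.Agent.Helper28.RegBC.qr_of_flat f hf
  retract := fun ι ρ ξ hρι hker r l c hl hξ i₀ hu => V1F_quasi ι ρ ξ hρι hker r l c hl hξ i₀ hu
  desc := fun {A B} _ _ _ _ I h => Groth.Agent.S9252.main A B I h

section Ring

variable {R C' B : Type u} [CommRing R] [CommRing C'] [CommRing B] [Algebra R C']
  [Algebra.Smooth R C']
  (γ : R →+* B) (hγ : Function.Surjective γ) (γ' : C' →+* B)
  (hcomp : γ'.comp (algebraMap R C') = γ)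

include hγ hcomp in
/-- **Smooth descent for ideals locally generated by sequences of kind `k`.** -/
theorem lock_smooth_down (k : RegImm.Kind) (hk : k ≠ RegImm.Kind.regular)
    (h : LocK k (RingHom.ker γ')) : LocK k (RingHom.ker γ) := by
  cases k with
  | regular => exact absurd rfl hk
  | koszul =>
    rw [lock_koszul_iff] at h ⊢
    exact (Groth.Agent.Helper2.SmKR.kr_iff_of_smooth γ hγ γ' hcomp).mpr h
  | h1 =>
    rw [lock_h1_iff] at h ⊢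
    exact smooth_down γ hγ γ' hcomp (idealProp_locF goodSeq_h1) h
  | quasi =>
    rw [lock_quasi_iff] at h ⊢
    exact smooth_down γ hγ γ' hcomp (idealProp_locF goodSeq_quasi) h

end Ring

section Sch

open CategoryTheory CategoryTheory.Limits AlgebraicGeometry TopologicalSpace
open Groth.Agent.Helper28 Groth.Agent.Helper28.RegBC Groth.Agent.S8653
  Groth.Agent.Helper2.KRSch

/-- the local comparison for a pair of immersions `j : X → V'` and `j ≫ p : X → V` with `p`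
smooth, for ideals locally generated by sequences of kind `k` -/
theorem pair_at_down (k : RegImm.Kind) (hk : k ≠ RegImm.Kind.regular)
    {X V V' : Scheme.{u}} (j : X ⟶ V') [IsImmersion j] (p : V' ⟶ V) [Smooth p]
    [IsImmersion (j ≫ p)] (x : X) :
    ∃ (V₂ : V.Opens) (V'₂ : V'.Opens), IsAffineOpen V₂ ∧ IsAffineOpen V'₂ ∧
      (j ≫ p) x ∈ V₂ ∧ j x ∈ V'₂ ∧
      IsClosedImmersion ((j ≫ p) ∣_ V₂) ∧ IsClosedImmersion (j ∣_ V'₂) ∧
      (LocK k (RingHom.ker (j.app V'₂).hom) → LocK k (RingHom.ker ((j ≫ p).app V₂).hom)) := by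
  -- an affine open of `V` over which `j ≫ p` is closed
  have hxi : (j ≫ p) x ∈ (j ≫ p).coborderRange := subset_coborder (Set.mem_range_self x)
  obtain ⟨_, ⟨V₁, hV₁, rfl⟩, hxV₁, hV₁le⟩ :=
    (V.isBasis_affineOpens).exists_subset_of_mem_open hxi (j ≫ p).coborderRange.isOpen
  haveI hcl₁ : IsClosedImmersion ((j ≫ p) ∣_ V₁) :=
    Groth.Agent.Helper18.SymAlg.isClosedImmersion_restrict_of_le_coborderRange (j ≫ p) V₁ hV₁le
  -- an affine open of `V'` over which `j` is closed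
  have hxj : j x ∈ (j.coborderRange ⊓ p ⁻¹ᵁ V₁ : V'.Opens) := by
    refine ⟨subset_coborder (Set.mem_range_self x), ?_⟩
    show p (j x) ∈ V₁
    rw [← Scheme.Hom.comp_apply]
    exact hxV₁
  obtain ⟨_, ⟨V'₁, hV'₁, rfl⟩, hxV'₁, hV'₁le⟩ :=
    (V'.isBasis_affineOpens).exists_subset_of_mem_open hxj
      (j.coborderRange ⊓ p ⁻¹ᵁ V₁ : V'.Opens).isOpen
  haveI hcl'₁ : IsClosedImmersion (j ∣_ V'₁) :=
    Groth.Agent.Helper18.SymAlg.isClosedImmersion_restrict_of_le_coborderRange j V'₁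
      (fun z hz => (hV'₁le hz).1)
  have hV'₁V₁ : V'₁ ≤ p ⁻¹ᵁ V₁ := fun z hz => (hV'₁le hz).2
  have hX₁ : IsAffineOpen ((j ≫ p) ⁻¹ᵁ V₁) := RegImmStalk.isAffineOpen_preimage (j ≫ p) V₁ hV₁
  obtain ⟨fbar, hfle, hxf⟩ := hX₁.exists_basicOpen_le (V := j ⁻¹ᵁ V'₁) ⟨x, hxV'₁⟩ hxV₁
  obtain ⟨a, ha⟩ := RegImmStalk.app_surjective (j ≫ p) V₁ hV₁ fbar
  have hV₂ : IsAffineOpen (V.basicOpen a) := hV₁.basicOpen a
  have hpre : (j ≫ p) ⁻¹ᵁ V.basicOpen a = X.basicOpen fbar := by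
    rw [Scheme.preimage_basicOpen, ha]
  have hV'₂ : IsAffineOpen (V'.basicOpen ((p.appLE V₁ V'₁ hV'₁V₁).hom a)) :=
    hV'₁.basicOpen _
  have hV'₂eq : V'.basicOpen ((p.appLE V₁ V'₁ hV'₁V₁).hom a) = V'₁ ⊓ p ⁻¹ᵁ V.basicOpen a :=
    Scheme.basicOpen_appLE p V'₁ V₁ hV'₁V₁ a
  have hpre' : j ⁻¹ᵁ V'.basicOpen ((p.appLE V₁ V'₁ hV'₁V₁).hom a) =
      (j ≫ p) ⁻¹ᵁ V.basicOpen a := by
    rw [hV'₂eq]
    show j ⁻¹ᵁ V'₁ ⊓ (j ≫ p) ⁻¹ᵁ V.basicOpen a = _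
    rw [inf_eq_right, hpre]
    exact hfle
  have hle₂ : V.basicOpen a ≤ (𝟙 V) ⁻¹ᵁ V₁ := V.basicOpen_le a
  obtain ⟨hcl₂, -⟩ := ker_of_isPullback (j ≫ p) (𝟙 V) (j ≫ p) (𝟙 X)
    (IsPullback.id_horiz (j ≫ p)) V₁ hV₁ (V.basicOpen a) hV₂ hle₂
  have hle'₂ : V'.basicOpen ((p.appLE V₁ V'₁ hV'₁V₁).hom a) ≤ (𝟙 V') ⁻¹ᵁ V'₁ :=
    V'.basicOpen_le _
  obtain ⟨hcl'₂, -⟩ := ker_of_isPullback j (𝟙 V') j (𝟙 X)
    (IsPullback.id_horiz j) V'₁ hV'₁ _ hV'₂ hle'₂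
  haveI := hcl₂
  haveI := hcl'₂
  have hle₃ : V'.basicOpen ((p.appLE V₁ V'₁ hV'₁V₁).hom a) ≤ p ⁻¹ᵁ V.basicOpen a := by
    rw [hV'₂eq]
    exact inf_le_right
  have hxV₂ : (j ≫ p) x ∈ V.basicOpen a := by
    show x ∈ (j ≫ p) ⁻¹ᵁ V.basicOpen a
    rw [hpre]
    exact hxf
  have hxV'₂ : j x ∈ V'.basicOpen ((p.appLE V₁ V'₁ hV'₁V₁).hom a) := by
    show x ∈ j ⁻¹ᵁ V'.basicOpen ((p.appLE V₁ V'₁ hV'₁V₁).hom a)
    rw [hpre', hpre]
    exact hxf
  refine ⟨V.basicOpen a, V'.basicOpen ((p.appLE V₁ V'₁ hV'₁V₁).hom a), hV₂, hV'₂, hxV₂, hxV'₂,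
    hcl₂, hcl'₂, ?_⟩
  letI := (p.appLE (V.basicOpen a) (V'.basicOpen ((p.appLE V₁ V'₁ hV'₁V₁).hom a)) hle₃).hom.toAlgebra
  haveI : Algebra.Smooth Γ(V, V.basicOpen a)
      Γ(V', V'.basicOpen ((p.appLE V₁ V'₁ hV'₁V₁).hom a)) :=
    p.smooth_appLE hV₂ hV'₂ hle₃
  have hγ := RegImmStalk.app_surjective (j ≫ p) (V.basicOpen a) hV₂
  have hcomp : (j.appLE (V'.basicOpen ((p.appLE V₁ V'₁ hV'₁V₁).hom a))
      ((j ≫ p) ⁻¹ᵁ V.basicOpen a) hpre'.ge).hom.comp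
      (algebraMap Γ(V, V.basicOpen a) Γ(V', V'.basicOpen ((p.appLE V₁ V'₁ hV'₁V₁).hom a))) =
      ((j ≫ p).app (V.basicOpen a)).hom := by
    show (j.appLE _ _ hpre'.ge).hom.comp (p.appLE _ _ hle₃).hom = _
    rw [← CommRingCat.hom_comp, Scheme.Hom.appLE_comp_appLE, ← Scheme.Hom.app_eq_appLE]
  intro h
  have key := lock_smooth_down ((j ≫ p).app (V.basicOpen a)).hom hγ _ hcomp k hk
  rw [ker_appLE_eq j _ ((j ≫ p) ⁻¹ᵁ V.basicOpen a) hpre'.symm] at key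
  exact key h

end Sch

end Groth.Agent.Helper2.RetPair
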