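import Mathlib
import Groth.Prelude.Def_W4c1hurwitzcptBd
universe u
namespace Groth.Agent.Lib.Helper2.RootDiskBasis
section
open W4c1hurwitzcpt PowerSeries

variable {k : Type u} [Field k] {p : ℕ} [NeZero p]

lemma val_algebraMap (a : PowerSeries k) :
    RootDisk.val (algebraMap (PowerSeries k) (RootDisk p k) a) = expand p (NeZero.ne p) a := rfl

lemma val_smul (a : PowerSeries k) (f : RootDisk p k) :
    RootDisk.val (a • f) = expand p (NeZero.ne p) a * RootDisk.val f := by
  rw [Algebra.smul_def, map_mul]; rfl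

lemma mod_char (r' : Fin p) (m : ℕ) : ((r' : ℕ) ≤ m ∧ p ∣ m - r') ↔ (r' : ℕ) = m % p := by
  have hp : 0 < p := Nat.pos_of_ne_zero (NeZero.ne p)
  constructor
  · rintro ⟨h1, q, hq⟩
    have hm : m = r' + p * q := by omega
    rw [hm, Nat.add_mul_mod_self_left, Nat.mod_eq_of_lt r'.2]
  · intro h
    have h1 := Nat.mod_le m p
    have h2 := Nat.div_add_mod m p
    refine ⟨by omega, m / p, ?_⟩
    omega

lemma coeff_comb (a : Fin p → PowerSeries k) (m : ℕ) :
    coeff m (∑ r : Fin p, expand p (NeZero.ne p) (a r) * X ^ (r : ℕ)) =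
      coeff (m / p) (a ⟨m % p, Nat.mod_lt _ (Nat.pos_of_ne_zero (NeZero.ne p))⟩) := by
  have hp : 0 < p := Nat.pos_of_ne_zero (NeZero.ne p)
  rw [map_sum]
  rw [Finset.sum_eq_single (⟨m % p, Nat.mod_lt _ hp⟩ : Fin p)]
  · rw [coeff_mul_X_pow', if_pos (Nat.mod_le m p), coeff_expand]
    have h2 := Nat.div_add_mod m p
    have h3 : m - m % p = p * (m / p) := by
      omega
    simp only
    rw [h3, if_pos (dvd_mul_right _ _), Nat.mul_div_cancel_left _ hp]
  · intro r' _ hr'
    rw [coeff_mul_X_pow']
    split_ifs with h1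
    · rw [coeff_expand]
      split_ifs with h2
      · exfalso
        apply hr'
        apply Fin.ext
        exact (mod_char r' m).mp ⟨h1, h2⟩
      · rfl
    · rfl
  · intro h
    exact absurd (Finset.mem_univ _) h


/-- the element `x^r` of `k⟦x⟧` -/
noncomputable def xr (r : Fin p) : RootDisk p k := RootDisk.val.symm (X ^ (r : ℕ))

lemma val_comb (a : Fin p → PowerSeries k) :
    RootDisk.val (∑ r : Fin p, a r • (xr r : RootDisk p k)) =
      ∑ r : Fin p, expand p (NeZero.ne p) (a r) * X ^ (r : ℕ) := by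
  rw [map_sum]
  refine Finset.sum_congr rfl (fun r _ => ?_)
  rw [val_smul, xr, RingEquiv.apply_symm_apply]

lemma xr_linearIndependent : LinearIndependent (PowerSeries k) (xr : Fin p → RootDisk p k) := by
  have hp : 0 < p := Nat.pos_of_ne_zero (NeZero.ne p)
  rw [Fintype.linearIndependent_iff]
  intro a ha r
  have h1 := congrArg RootDisk.val ha
  rw [val_comb, map_zero] at h1
  ext n
  have h2 := congrArg (coeff (p * n + r)) h1
  rw [coeff_comb, map_zero] at h2
  have h3 : (p * n + r) / p = n := by
    rw [Nat.mul_add_div hp, Nat.div_eq_of_lt r.2, add_zero]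
  have h4 : (p * n + r) % p = r := by
    rw [Nat.mul_add_mod, Nat.mod_eq_of_lt r.2]
  have h5 : (⟨(p * n + r) % p, Nat.mod_lt _ hp⟩ : Fin p) = r := Fin.ext h4
  rw [h3, h5] at h2
  rw [h2, map_zero]

lemma xr_span : ⊤ ≤ Submodule.span (PowerSeries k) (Set.range (xr : Fin p → RootDisk p k)) := by
  have hp : 0 < p := Nat.pos_of_ne_zero (NeZero.ne p)
  intro f _
  have hf : f = ∑ r : Fin p,
      (PowerSeries.mk (fun n => coeff (p * n + r) (RootDisk.val f))) • (xr r : RootDisk p k) := by
    apply RootDisk.val.injective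
    rw [val_comb]
    ext m
    rw [coeff_comb, coeff_mk]
    simp only
    rw [Nat.div_add_mod]
  rw [hf]
  exact Submodule.sum_mem _ (fun r _ => Submodule.smul_mem _ _ (Submodule.subset_span ⟨r, rfl⟩))

/-- the basis `1, x, …, x^{p-1}` of `k⟦x⟧` over `k⟦x^p⟧` -/
noncomputable def BS : Module.Basis (Fin p) (PowerSeries k) (RootDisk p k) :=
  Module.Basis.mk xr_linearIndependent xr_span

lemma BS_apply (r : Fin p) : (BS (k := k) (p := p)) r = xr r := by
  rw [BS, Module.Basis.mk_apply]


/-- the `x`-adic order as a natural number -/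
noncomputable def o (f : RootDisk p k) : ℕ := (RootDisk.val f).order.toNat

lemma val_ne_zero {f : RootDisk p k} (hf : f ≠ 0) : RootDisk.val f ≠ 0 := by
  intro h
  apply hf
  apply RootDisk.val.injective
  rw [h, map_zero]

lemma order_val {f : RootDisk p k} (hf : f ≠ 0) : (RootDisk.val f).order = (o f : ℕ∞) := by
  rw [o, coe_toNat_order (val_ne_zero hf)]

lemma order_val_smul (a : PowerSeries k) (f : RootDisk p k) :
    (RootDisk.val (a • f)).order = p • a.order + (RootDisk.val f).order := by
  rw [val_smul, order_mul, order_expand]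

lemma smul_ne_zero' {a : PowerSeries k} {f : RootDisk p k} (ha : a ≠ 0) (hf : f ≠ 0) :
    a • f ≠ 0 := by
  intro h
  have h1 := congrArg (fun g => (RootDisk.val g).order) h
  simp only [map_zero, order_zero] at h1
  rw [order_val_smul, order_val hf] at h1
  have h2 : a.order ≠ ⊤ := fun h => ha (order_eq_top.mp h)
  obtain ⟨n, hn⟩ := ENat.ne_top_iff_exists.mp h2
  rw [← hn] at h1
  have : (p • (n : ℕ∞) + (o f : ℕ∞)) = ((p * n + o f : ℕ) : ℕ∞) := by
    push_cast
    rw [nsmul_eq_mul]
  rw [this] at h1
  exact ENat.natCast_ne_top _ h1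

lemma o_smul {a : PowerSeries k} {f : RootDisk p k} (ha : a ≠ 0) (hf : f ≠ 0) :
    o (a • f) = p * a.order.toNat + o f := by
  have h1 := order_val_smul a f
  rw [order_val hf, order_val (smul_ne_zero' ha hf), ← coe_toNat_order ha] at h1
  have : (p • (a.order.toNat : ℕ∞) + (o f : ℕ∞)) = ((p * a.order.toNat + o f : ℕ) : ℕ∞) := by
    push_cast
    rw [nsmul_eq_mul]
  rw [this] at h1
  exact_mod_cast h1

lemma xr_ne_zero (r : Fin p) : (xr r : RootDisk p k) ≠ 0 := by
  intro h
  have h1 := congrArg RootDisk.val h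
  rw [xr, RingEquiv.apply_symm_apply, map_zero] at h1
  exact pow_ne_zero _ X_ne_zero h1

lemma o_xr (r : Fin p) : o (xr r : RootDisk p k) = r := by
  rw [o, xr, RingEquiv.apply_symm_apply, order_X_pow]
  rfl

/-- a free submodule of full rank contains nonzero elements of every order class -/
theorem exists_mem_class (M : Submodule (PowerSeries k) (RootDisk p k))
    (bM : Module.Basis (Fin p) (PowerSeries k) M) (r : Fin p) :
    ∃ m ∈ M, m ≠ 0 ∧ o m % p = r := by
  classical
  set P : Matrix (Fin p) (Fin p) (PowerSeries k) :=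
    (BS (k := k) (p := p)).toMatrix (fun i => ((bM i : M) : RootDisk p k)) with hP
  have hdet : P.det ≠ 0 := by
    intro h0
    obtain ⟨v, hv0, hv⟩ := Matrix.exists_mulVec_eq_zero_iff.mpr h0
    apply hv0
    have h1 : ∑ i, v i • ((bM i : M) : RootDisk p k) = 0 := by
      apply (BS (k := k) (p := p)).repr.injective
      rw [map_zero]
      apply Finsupp.ext
      intro r'
      rw [map_sum, Finsupp.coe_finsetSum, Finset.sum_apply, Finsupp.coe_zero, Pi.zero_apply]
      have h2 : ∑ i, P r' i * v i = 0 := by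
        have := congrFun hv r'
        simpa [Matrix.mulVec, dotProduct] using this
      rw [← h2]
      refine Finset.sum_congr rfl (fun i _ => ?_)
      rw [map_smul, Finsupp.smul_apply, smul_eq_mul, hP, Module.Basis.toMatrix_apply, mul_comm]
    have h2 : ∑ i, v i • bM i = 0 := by
      apply Subtype.ext
      push_cast
      exact h1
    funext i
    exact Fintype.linearIndependent_iff.mp bM.linearIndependent v h2 i
  have hmem : P.det • (BS (k := k) (p := p)) r ∈ M := by
    have h1 : P.det • (BS (k := k) (p := p)) r =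
        ∑ i, (P.adjugate i r) • ((bM i : M) : RootDisk p k) := by
      apply (BS (k := k) (p := p)).repr.injective
      apply Finsupp.ext
      intro r'
      rw [map_sum, Finsupp.coe_finsetSum, Finset.sum_apply, map_smul, Finsupp.smul_apply,
        Module.Basis.repr_self, smul_eq_mul]
      have h2 := congrFun (congrFun (Matrix.mul_adjugate P) r') r
      rw [Matrix.mul_apply, Matrix.smul_apply, Matrix.one_apply, smul_eq_mul] at h2
      rw [Finsupp.single_apply]
      have h3 : (if r = r' then (1 : PowerSeries k) else 0) = if r' = r then 1 else 0 := by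
        split_ifs with h h' h' <;> first | rfl | (exfalso; exact h' h.symm) | (exfalso; exact h h'.symm)
      rw [h3, ← h2]
      refine Finset.sum_congr rfl (fun i _ => ?_)
      rw [map_smul, Finsupp.smul_apply, smul_eq_mul, hP, Module.Basis.toMatrix_apply, mul_comm]
    rw [h1]
    exact Submodule.sum_mem _ (fun i _ => Submodule.smul_mem _ _ (bM i).2)
  refine ⟨P.det • (BS (k := k) (p := p)) r, hmem, ?_, ?_⟩
  · rw [BS_apply]
    exact smul_ne_zero' hdet (xr_ne_zero r)
  · rw [BS_apply, o_smul hdet (xr_ne_zero r), o_xr, Nat.mul_add_mod, Nat.mod_eq_of_lt r.2]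


theorem exists_min_class (M : Submodule (PowerSeries k) (RootDisk p k))
    (bM : Module.Basis (Fin p) (PowerSeries k) M) (r : Fin p) :
    ∃ g ∈ M, g ≠ 0 ∧ o g % p = r ∧ ∀ m ∈ M, m ≠ 0 → o m % p = r → o g ≤ o m := by
  classical
  have hex : ∃ n, ∃ m ∈ M, m ≠ 0 ∧ o m % p = r ∧ o m = n := by
    obtain ⟨m, hm, hm0, hmr⟩ := exists_mem_class M bM r
    exact ⟨o m, m, hm, hm0, hmr, rfl⟩
  obtain ⟨g, hg, hg0, hgr, hgn⟩ := Nat.find_spec hex
  refine ⟨g, hg, hg0, hgr, fun m hm hm0 hmr => ?_⟩
  rw [hgn]
  exact Nat.find_min' hex ⟨m, hm, hm0, hmr, rfl⟩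

lemma val_comb_C (g : Fin p → RootDisk p k) (c : Fin p → k) :
    RootDisk.val (∑ r, (C (c r) : PowerSeries k) • g r) = ∑ r, C (c r) * RootDisk.val (g r) := by
  rw [map_sum]
  refine Finset.sum_congr rfl (fun r _ => ?_)
  rw [val_smul, expand_C]

lemma o_comb (g : Fin p → RootDisk p k) (hg0 : ∀ r, g r ≠ 0) (hgr : ∀ r, o (g r) % p = r)
    (c : Fin p → k) (hc : c ≠ 0) :
    ∃ r0, c r0 ≠ 0 ∧ (∑ r, (C (c r) : PowerSeries k) • g r) ≠ 0 ∧
      o (∑ r, (C (c r) : PowerSeries k) • g r) = o (g r0) := by
  classical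
  have hs : (Finset.univ.filter (fun r => c r ≠ 0)).Nonempty := by
    by_contra h
    rw [Finset.not_nonempty_iff_eq_empty] at h
    apply hc
    funext r
    rw [Pi.zero_apply]
    by_contra hr
    have : r ∈ Finset.univ.filter (fun r => c r ≠ 0) := by simp [hr]
    rw [h] at this
    exact absurd this (Finset.notMem_empty _)
  obtain ⟨r0, hr0, hmin⟩ := Finset.exists_min_image _ (fun r => o (g r)) hs
  have hcr0 : c r0 ≠ 0 := (Finset.mem_filter.mp hr0).2
  have hlt : ∀ r, c r ≠ 0 → r ≠ r0 → o (g r0) < o (g r) := by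
    intro r hcr hne
    have h1 : o (g r0) ≤ o (g r) := hmin r (by simp [hcr])
    have h2 : o (g r0) ≠ o (g r) := by
      intro h
      apply hne
      apply Fin.ext
      rw [← hgr r, ← hgr r0, h]
    omega
  have hcoeff : ∀ n, coeff n (RootDisk.val (∑ r, (C (c r) : PowerSeries k) • g r)) =
      ∑ r, c r * coeff n (RootDisk.val (g r)) := by
    intro n
    rw [val_comb_C, map_sum]
    refine Finset.sum_congr rfl (fun r _ => ?_)
    rw [coeff_C_mul]
  have hord : (RootDisk.val (∑ r, (C (c r) : PowerSeries k) • g r)).order = (o (g r0) : ℕ∞) := by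
    rw [order_eq_nat]
    constructor
    · rw [hcoeff, Finset.sum_eq_single r0]
      · exact mul_ne_zero hcr0 (coeff_order (val_ne_zero (hg0 r0)))
      · intro r _ hne
        by_cases hcr : c r = 0
        · rw [hcr, zero_mul]
        · rw [coeff_of_lt_order_toNat _ (hlt r hcr hne), mul_zero]
      · intro h; exact absurd (Finset.mem_univ _) h
    · intro n hn
      rw [hcoeff]
      apply Finset.sum_eq_zero
      intro r _
      by_cases hcr : c r = 0
      · rw [hcr, zero_mul]
      · have h1 : o (g r0) ≤ o (g r) := hmin r (by simp [hcr])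
        rw [coeff_of_lt_order_toNat _ (lt_of_lt_of_le hn h1), mul_zero]
  refine ⟨r0, hcr0, ?_, ?_⟩
  · intro h
    rw [h, map_zero, order_zero] at hord
    exact ENat.natCast_ne_top _ hord.symm
  · rw [o, hord]
    rfl


/-- a free submodule of full rank of `k⟦x⟧` over `k⟦x^p⟧` has a basis whose orders run through
all classes mod `p` -/
theorem exists_basis_distinct (M : Submodule (PowerSeries k) (RootDisk p k))
    (bM : Module.Basis (Fin p) (PowerSeries k) M) :
    ∃ g : Module.Basis (Fin p) (PowerSeries k) M, ∀ r : Fin p,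
      ((g r : M) : RootDisk p k) ≠ 0 ∧ o ((g r : M) : RootDisk p k) % p = r := by
  classical
  have hp : 0 < p := Nat.pos_of_ne_zero (NeZero.ne p)
  choose g hgM hg0 hgr hgmin using exists_min_class M bM
  set gM : Fin p → M := fun r => ⟨g r, hgM r⟩ with hgMdef
  set A : Matrix (Fin p) (Fin p) (PowerSeries k) := fun r i => bM.repr (gM r) i with hAdef
  have hA : IsUnit A.det := by
    by_contra hnu
    have h0 : constantCoeff A.det = 0 := by
      by_contra h
      exact hnu (isUnit_iff_constantCoeff.mpr (isUnit_iff_ne_zero.mpr h))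
    have h1 : (A.map (constantCoeff (R := k))).det = 0 := by
      rw [← RingHom.mapMatrix_apply, ← RingHom.map_det, h0]
    obtain ⟨c, hc0, hc⟩ := Matrix.exists_vecMul_eq_zero_iff.mpr h1
    have hq : ∀ i, constantCoeff (∑ r, (C (c r) : PowerSeries k) * A r i) = 0 := by
      intro i
      rw [map_sum]
      simp only [map_mul, constantCoeff_C]
      have := congrFun hc i
      simpa [Matrix.vecMul, dotProduct] using this
    have hdvd : ∀ i, ∃ q', ∑ r, (C (c r) : PowerSeries k) * A r i = X * q' :=
      fun i => X_dvd_iff.mpr (hq i)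
    choose q' hq' using hdvd
    set m' : M := ∑ i, q' i • bM i with hm'
    have hrepr : ∀ i, bM.repr m' i = q' i := by
      intro i
      rw [hm', map_sum, Finsupp.coe_finsetSum, Finset.sum_apply]
      simp only [map_smul, Module.Basis.repr_self, Finsupp.smul_apply, smul_eq_mul,
        Finsupp.single_apply, mul_ite, mul_one, mul_zero]
      rw [Finset.sum_ite_eq' Finset.univ i]
      simp
    have hrel : ∑ r, (C (c r) : PowerSeries k) • gM r = (X : PowerSeries k) • m' := by
      apply bM.repr.injective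
      apply Finsupp.ext
      intro i
      rw [map_sum, Finsupp.coe_finsetSum, Finset.sum_apply, map_smul, Finsupp.smul_apply, hrepr,
        smul_eq_mul, ← hq' i]
      refine Finset.sum_congr rfl (fun r _ => ?_)
      rw [map_smul, Finsupp.smul_apply, smul_eq_mul]
    obtain ⟨r0, hcr0, hne, ho⟩ := o_comb g hg0 hgr c hc0
    have hrel' : ∑ r, (C (c r) : PowerSeries k) • g r =
        (X : PowerSeries k) • (m' : RootDisk p k) := by
      have := congrArg Subtype.val hrel
      push_cast at this
      exact this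
    have hm'0 : (m' : RootDisk p k) ≠ 0 := by
      intro h
      rw [h, smul_zero] at hrel'
      exact hne hrel'
    have h2 : o ((X : PowerSeries k) • (m' : RootDisk p k)) = p * 1 + o (m' : RootDisk p k) := by
      rw [o_smul X_ne_zero hm'0, order_X]
      rfl
    rw [hrel', h2] at ho
    have h3 : o (m' : RootDisk p k) % p = r0 := by
      rw [← hgr r0, ← ho, Nat.mul_add_mod]
    have h4 := hgmin r0 (m' : RootDisk p k) m'.2 hm'0 h3
    omega
  let f : M →ₗ[PowerSeries k] M := bM.constr (PowerSeries k) gM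
  have hf : ∀ r, f (bM r) = gM r := fun r => bM.constr_basis (PowerSeries k) gM r
  have hmat : LinearMap.toMatrix bM bM f = A.transpose := by
    ext i r
    rw [LinearMap.toMatrix_apply, hf]
    rfl
  have hdet : IsUnit (LinearMap.toMatrix bM bM f).det := by
    rw [hmat, Matrix.det_transpose]
    exact hA
  refine ⟨bM.map (LinearEquiv.ofIsUnitDet hdet), fun r => ?_⟩
  have h1 : (bM.map (LinearEquiv.ofIsUnitDet hdet)) r = gM r := by
    rw [Module.Basis.map_apply]
    exact hf r
  rw [h1]
  exact ⟨hg0 r, hgr r⟩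

end
end Groth.Agent.Lib.Helper2.RootDiskBasis
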