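import Groth.Agent.Lib.Helper2.ResCx
import Mathlib.Algebra.Homology.HomologySequenceLemmas
import Mathlib.Algebra.Homology.HomologicalComplexLimits
import Mathlib.Algebra.Homology.HomologicalComplexAbelian
import Mathlib.CategoryTheory.Limits.Shapes.Pullback.IsPullback.Kernels
import Mathlib.Algebra.Homology.ShortComplex.ShortExact

/-!
# Injective resolutions of short exact sequences of bounded below complexes
-/

universe v u

open CategoryTheory CategoryTheory.Limits ZeroObject

namespace Groth.Agent.Helper2.SESRes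

set_option linter.unusedSectionVars false
set_option linter.style.haveILetI false

variable {A : Type u} [Category.{v} A] [Abelian A]

open HomologicalComplex in
/-- In a short exact sequence of complexes with acyclic cokernel, the first map is a
quasi-isomorphism. -/
lemma quasiIso_f_of_acyclic_X₃ {S : ShortComplex (CochainComplex A ℤ)} (hS : S.ShortExact)
    (h : S.X₃.Acyclic) : QuasiIso S.f := by
  refine ⟨fun i => ?_⟩
  rw [quasiIsoAt_iff_isIso_homologyMap]
  have hz : ∀ j, IsZero (S.X₃.homology j) := fun j => (exactAt_iff_isZero_homology _ _).1 (h j)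
  have hmono : Mono (homologyMap S.f i) :=
    (hS.homology_exact₁ (i - 1) i (by simp)).mono_g ((hz _).eq_of_src _ _)
  have hepi : Epi (homologyMap S.f i) :=
    (hS.homology_exact₂ i).epi_f ((hz _).eq_of_tgt _ _)
  exact isIso_of_mono_of_epi _

lemma acyclic_of_iso {K L : CochainComplex A ℤ} (e : K ≅ L) (h : K.Acyclic) : L.Acyclic := by
  intro i
  rw [HomologicalComplex.exactAt_iff_isZero_homology]
  exact IsZero.of_iso ((HomologicalComplex.exactAt_iff_isZero_homology _ _).1 (h i))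
    ((HomologicalComplex.homologyFunctor A _ i).mapIso e.symm)

/-- The pushout of a monomorphic quasi-isomorphism is a quasi-isomorphism. -/
lemma quasiIso_pushout_inr {X₁ I₁ X₂ : CochainComplex A ℤ} (i : X₁ ⟶ I₁) (f : X₁ ⟶ X₂)
    [Mono i] [QuasiIso i] : QuasiIso (pushout.inr i f) := by
  have sq : IsPushout i f (pushout.inl i f) (pushout.inr i f) := IsPushout.of_hasPushout i f
  have hiso := isIso_cokernel_map_of_isPushout sq
  have hS₁ : (ShortComplex.mk i (cokernel.π i) (cokernel.condition i)).ShortExact :=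
    { exact := ShortComplex.exact_cokernel i }
  have hac₁ : (cokernel i).Acyclic := hS₁.acyclic_X₃ (inferInstanceAs (QuasiIso i))
  have hac₂ : (cokernel (pushout.inr i f)).Acyclic :=
    acyclic_of_iso (asIso (cokernel.map i (pushout.inr i f) f (pushout.inl i f) sq.w)) hac₁
  have hS₂ : (ShortComplex.mk (pushout.inr i f) (cokernel.π (pushout.inr i f))
      (cokernel.condition _)).ShortExact :=
    { exact := ShortComplex.exact_cokernel _ }
  exact quasiIso_f_of_acyclic_X₃ hS₂ hac₂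

lemma isStrictlyGE_pushout {X₁ I₁ X₂ : CochainComplex A ℤ} (i : X₁ ⟶ I₁) (f : X₁ ⟶ X₂) (n : ℤ)
    [I₁.IsStrictlyGE n] [X₂.IsStrictlyGE n] : (pushout i f).IsStrictlyGE n := by
  rw [CochainComplex.isStrictlyGE_iff]
  intro k hk
  have sq : IsPushout i f (pushout.inl i f) (pushout.inr i f) := IsPushout.of_hasPushout i f
  have sq' := (HomologicalComplex.eval A (ComplexShape.up ℤ) k).map_isPushout sq
  rw [IsZero.iff_id_eq_zero]
  apply sq'.hom_ext
  · exact (I₁.isZero_of_isStrictlyGE n k hk).eq_of_src _ _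
  · exact (X₂.isZero_of_isStrictlyGE n k hk).eq_of_src _ _

lemma injective_X₃_of_shortExact {S : ShortComplex A} (hS : S.ShortExact) [Injective S.X₁]
    [Injective S.X₂] : Injective S.X₃ := by
  let sp := hS.splittingOfInjective
  exact Retract.injective (Y := S.X₂) ⟨sp.s, S.g, sp.s_g⟩

variable [EnoughInjectives A]

theorem shortExact_injective_resolutions
    (S : ShortComplex (CochainComplex A ℤ)) (hS : S.ShortExact) (n : ℤ)
    [S.X₁.IsStrictlyGE n] [S.X₂.IsStrictlyGE n] [S.X₃.IsStrictlyGE n] :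
    ∃ (T : ShortComplex (CochainComplex A ℤ)) (φ : S ⟶ T), T.ShortExact ∧
      T.X₁.IsStrictlyGE n ∧ T.X₂.IsStrictlyGE n ∧ T.X₃.IsStrictlyGE n ∧
      (∀ k : ℤ, Injective (T.X₁.X k) ∧ Injective (T.X₂.X k) ∧ Injective (T.X₃.X k)) ∧
      QuasiIso φ.τ₁ ∧ QuasiIso φ.τ₂ ∧ QuasiIso φ.τ₃ := by
  have := hS.mono_f
  have := hS.epi_g
  obtain ⟨I₁, i₁, hI₁, hinj₁, hq₁, hm₁⟩ := ResCx.exists_injective_resolution S.X₁ n
  haveI : Mono i₁ := HomologicalComplex.mono_of_mono_f _ hm₁
  let P := pushout i₁ S.f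
  haveI : P.IsStrictlyGE n := isStrictlyGE_pushout i₁ S.f n
  haveI : QuasiIso (pushout.inr i₁ S.f) := quasiIso_pushout_inr i₁ S.f
  obtain ⟨I₂, j, hI₂, hinj₂, hq₂, hm₂⟩ := ResCx.exists_injective_resolution P n
  haveI : Mono j := HomologicalComplex.mono_of_mono_f _ hm₂
  let u : I₁ ⟶ I₂ := pushout.inl i₁ S.f ≫ j
  haveI : Mono u := mono_comp _ _
  let T : ShortComplex (CochainComplex A ℤ) := ShortComplex.mk u (cokernel.π u) (cokernel.condition u)
  have hT : T.ShortExact := { exact := ShortComplex.exact_cokernel u }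
  let τ₂ : S.X₂ ⟶ I₂ := pushout.inr i₁ S.f ≫ j
  have h12 : S.f ≫ τ₂ = i₁ ≫ u := by
    simp only [τ₂, u, ← Category.assoc, pushout.condition]
  have hk : S.f ≫ (τ₂ ≫ cokernel.π u) = 0 := by
    rw [← Category.assoc, h12, Category.assoc, cokernel.condition, comp_zero]
  let τ₃ : S.X₃ ⟶ cokernel u := hS.exact.desc (τ₂ ≫ cokernel.π u) hk
  have h23 : S.g ≫ τ₃ = τ₂ ≫ cokernel.π u := hS.exact.g_desc _ hk
  let φ : S ⟶ T := { τ₁ := i₁, τ₂ := τ₂, τ₃ := τ₃, comm₁₂ := h12.symm, comm₂₃ := h23.symm }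
  have hq₁' : QuasiIso φ.τ₁ := hq₁
  have hq₂' : QuasiIso φ.τ₂ := by
    change QuasiIso (pushout.inr i₁ S.f ≫ j)
    infer_instance
  have hq₃' : QuasiIso φ.τ₃ := HomologicalComplex.HomologySequence.quasiIso_τ₃ φ hS hT hq₁' hq₂'
  have hT₃ : (cokernel u).IsStrictlyGE n := by
    rw [CochainComplex.isStrictlyGE_iff]
    intro k hk
    have hz := I₂.isZero_of_isStrictlyGE n k hk
    rw [IsZero.iff_id_eq_zero, ← cancel_epi ((cokernel.π u).f k)]
    exact hz.eq_of_src _ _
  refine ⟨T, φ, hT, hI₁, hI₂, hT₃, fun k => ⟨hinj₁ k, hinj₂ k, ?_⟩, hq₁', hq₂', hq₃'⟩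
  have hTk := hT.map_of_exact (HomologicalComplex.eval A (ComplexShape.up ℤ) k)
  haveI : Injective (T.map (HomologicalComplex.eval A (ComplexShape.up ℤ) k)).X₁ := hinj₁ k
  haveI : Injective (T.map (HomologicalComplex.eval A (ComplexShape.up ℤ) k)).X₂ := hinj₂ k
  exact injective_X₃_of_shortExact hTk

end Groth.Agent.Helper2.SESRes
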