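import Mathlib
import Groth.Prelude.Def_W4bk4grassmannianPl
import Groth.Agent.Lib.Helper2.SMT

universe u

namespace Groth.Agent.Lib.Helper2.SMT2

open W4bk4grassmannian MvPolynomial Groth.Agent.Lib.Helper2.SMT

variable {K : Type u} [Field K] {d n : ℕ}

variable (K) in
/-- the generic matrix with two-sided zero pattern (Richardson-type) -/
noncomputable def G2 (v τ : Idx d n) : Matrix (Fin n) (Fin d) (MatRing K d n) :=
  Matrix.of fun i t => if v.1 t ≤ i ∧ i ≤ τ.1 t then (X (i, t) : MatRing K d n) else 0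

variable (K) in
/-- evaluation of Plücker polynomials at the two-sided generic matrix -/
noncomputable def ψ2 (v τ : Idx d n) : PlRing K d n →ₐ[K] MatRing K d n :=
  MvPolynomial.aeval fun θ : Idx d n => ((G2 K v τ).submatrix θ.1 id).det

theorem ψ2_X (v τ θ : Idx d n) : ψ2 K v τ (X θ) = ((G2 K v τ).submatrix θ.1 id).det := by
  unfold ψ2
  rw [MvPolynomial.aeval_X]

theorem ψ2_X_eq_zero (v τ φ : Idx d n) (h : ¬ φ ≤ τ) : ψ2 K v τ (X φ) = 0 := by
  rw [ψ2_X]
  have h1 : ∃ t₀, τ.1 t₀ < φ.1 t₀ := by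
    by_contra hcon
    push Not at hcon
    exact h (fun t => hcon t)
  obtain ⟨t₀, ht₀⟩ := h1
  apply det_zero_of_block _ t₀
  intro s t hs ht
  unfold G2
  simp only [Matrix.submatrix_apply, id, Matrix.of_apply]
  rw [if_neg]
  rintro ⟨_, h2⟩
  have : τ.1 t < φ.1 s := calc τ.1 t ≤ τ.1 t₀ := τ.2.monotone ht
    _ < φ.1 t₀ := ht₀
    _ ≤ φ.1 s := φ.2.monotone hs
  exact absurd h2 (not_le.mpr this)

theorem ψ2_X_eq_zero' (v τ φ : Idx d n) (h : ¬ v ≤ φ) : ψ2 K v τ (X φ) = 0 := by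
  rw [ψ2_X]
  have h1 : ∃ t₀, φ.1 t₀ < v.1 t₀ := by
    by_contra hcon
    push Not at hcon
    exact h (fun t => hcon t)
  obtain ⟨t₀, ht₀⟩ := h1
  rw [← Matrix.det_transpose]
  apply det_zero_of_block _ t₀
  intro s t hs ht
  unfold G2
  simp only [Matrix.transpose_apply, Matrix.submatrix_apply, id, Matrix.of_apply]
  rw [if_neg]
  rintro ⟨h2, _⟩
  have : φ.1 t < v.1 s := calc φ.1 t ≤ φ.1 t₀ := φ.2.monotone ht
    _ < v.1 t₀ := ht₀
    _ ≤ v.1 s := v.2.monotone hs
  exact absurd h2 (not_le.mpr this)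

theorem ψ2_X_self_ne_zero (v θ : Idx d n) (hv : v ≤ θ) : ψ2 K v θ (X θ) ≠ 0 := by
  rw [ψ2_X]
  have htri : ((G2 K v θ).submatrix θ.1 id).BlockTriangular id := by
    intro s t hts
    unfold G2
    simp only [Matrix.submatrix_apply, id, Matrix.of_apply]
    rw [if_neg]
    rintro ⟨_, h2⟩
    exact absurd h2 (not_le.mpr (θ.2 hts))
  rw [Matrix.det_of_isUpperTriangular htri]
  rw [Finset.prod_ne_zero_iff]
  intro t _
  unfold G2
  simp only [Matrix.submatrix_apply, id, Matrix.of_apply]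
  rw [if_pos ⟨hv t, le_rfl⟩]
  exact MvPolynomial.X_ne_zero _

theorem spec_G2 (v τ θ : Idx d n) (h : θ ≤ τ) : (G2 K v τ).map (spec K θ) = G2 K v θ := by
  refine Matrix.ext fun i t => ?_
  have hL : ((G2 K v τ).map (spec K θ)) i t =
      spec K θ (if v.1 t ≤ i ∧ i ≤ τ.1 t then (X (i, t) : MatRing K d n) else 0) := rfl
  have hR : G2 K v θ i t = if v.1 t ≤ i ∧ i ≤ θ.1 t then (X (i, t) : MatRing K d n) else 0 := rfl
  rw [hL, hR]
  have hspec : spec K θ (X (i, t)) = if i ≤ θ.1 t then (X (i, t) : MatRing K d n) else 0 := by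
    unfold spec
    rw [MvPolynomial.aeval_X]
  by_cases h0 : v.1 t ≤ i
  · by_cases h1 : i ≤ θ.1 t
    · have h2 : i ≤ τ.1 t := le_trans h1 (h t)
      rw [if_pos ⟨h0, h2⟩, if_pos ⟨h0, h1⟩, hspec, if_pos h1]
    · rw [if_neg (fun hc : v.1 t ≤ i ∧ i ≤ θ.1 t => h1 hc.2)]
      by_cases h2 : i ≤ τ.1 t
      · rw [if_pos ⟨h0, h2⟩, hspec, if_neg h1]
      · rw [if_neg (fun hc : v.1 t ≤ i ∧ i ≤ τ.1 t => h2 hc.2), map_zero]
  · rw [if_neg (fun hc : v.1 t ≤ i ∧ i ≤ τ.1 t => h0 hc.1),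
      if_neg (fun hc : v.1 t ≤ i ∧ i ≤ θ.1 t => h0 hc.1), map_zero]

theorem spec_ψ2 (v τ θ : Idx d n) (h : θ ≤ τ) (x : PlRing K d n) :
    spec K θ (ψ2 K v τ x) = ψ2 K v θ x := by
  have : (spec K θ).comp (ψ2 K v τ) = ψ2 K v θ := by
    apply MvPolynomial.algHom_ext
    intro φ
    rw [AlgHom.comp_apply, ψ2_X, ψ2_X, AlgHom.map_det]
    congr 1
    rw [← spec_G2 v τ θ h]
    ext s t
    simp
  rw [← this, AlgHom.comp_apply]

theorem ev0_ψ2_X (hd : 0 < d) (v τ φ : Idx d n) : ev0 K d n (ψ2 K v τ (X φ)) = 0 := by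
  rw [ψ2_X, AlgHom.map_det]
  have : (ev0 K d n).mapMatrix ((G2 K v τ).submatrix φ.1 id) = 0 := by
    ext s t
    unfold G2 ev0
    simp only [AlgHom.mapMatrix_apply, Matrix.map_apply, Matrix.submatrix_apply, id, Matrix.of_apply,
      Matrix.zero_apply]
    split_ifs
    · rw [MvPolynomial.aeval_X]
    · rw [map_zero]
  rw [this]
  haveI : Nonempty (Fin d) := ⟨⟨0, hd⟩⟩
  exact Matrix.det_zero

/-- standard lists between `v` and `τ` -/
def IsStd2 (v τ : Idx d n) (L : List (Idx d n)) : Prop :=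
  L.Pairwise (fun x y => y ≤ x) ∧ ∀ x ∈ L, v ≤ x ∧ x ≤ τ

open Groth.Agent.S11251 in
theorem c_nil2 (hd : 0 < d) (v τ : Idx d n) (s : Finset (List (Idx d n))) (c : List (Idx d n) → K)
    (hrel : ∑ L ∈ s, c L • ψ2 K v τ (listMon K L) = 0) (h : [] ∈ s) : c [] = 0 := by
  have h1 := congrArg (ev0 K d n) hrel
  rw [map_sum, map_zero] at h1
  rw [Finset.sum_eq_single_of_mem [] h] at h1
  · rw [map_smul, listMon_nil, map_one, map_one, smul_eq_mul, mul_one] at h1
    exact h1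
  · intro L _ hne
    rw [map_smul]
    cases L with
    | nil => exact absurd rfl hne
    | cons x t =>
      rw [listMon_cons, map_mul, map_mul, ev0_ψ2_X hd, zero_mul, smul_zero]

open Groth.Agent.S11251 in
theorem indep_aux2 (hd : 0 < d) (v : Idx d n) (m : ℕ) :
    ∀ (τ : Idx d n) (s : Finset (List (Idx d n))) (c : List (Idx d n) → K),
      (∀ L ∈ s, IsStd2 v τ L ∧ L.length ≤ m) → ∑ L ∈ s, c L • ψ2 K v τ (listMon K L) = 0 →
        ∀ L ∈ s, c L = 0 := by
  classical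
  induction m with
  | zero =>
    intro τ s c hs hrel L hL
    have : L = [] := List.length_eq_zero_iff.mp (Nat.le_zero.mp (hs L hL).2)
    subst this
    exact c_nil2 hd v τ s c hrel hL
  | succ m ih =>
    intro τ s c hs hrel
    by_contra hcon
    push Not at hcon
    obtain ⟨L₀, hL₀, hc₀⟩ := hcon
    have hnil : ∀ L ∈ s, c L ≠ 0 → L ≠ [] := by
      intro L hL hc hnil
      subst hnil
      exact hc (c_nil2 hd v τ s c hrel hL)
    let P : Idx d n → Prop := fun θ => ∃ L ∈ s, c L ≠ 0 ∧ ∃ t, L = θ :: t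
    have hP : ∃ θ, P θ := by
      cases L₀ with
      | nil => exact absurd rfl (hnil _ hL₀ hc₀)
      | cons x t => exact ⟨x, _, hL₀, hc₀, t, rfl⟩
    obtain ⟨θ, hθP, hθmin⟩ := exists_minimal_of_wellFoundedLT P hP
    obtain ⟨L₁, hL₁, hc₁, t₁, hL₁eq⟩ := hθP
    have hθmem : v ≤ θ ∧ θ ≤ τ := by
      apply (hs L₁ hL₁).1.2
      rw [hL₁eq]
      exact List.mem_cons_self
    have hθτ := hθmem.2
    have h1 := congrArg (spec K θ) hrel
    rw [map_sum, map_zero] at h1
    simp_rw [map_smul, spec_ψ2 v τ θ hθτ] at h1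
    obtain ⟨s₂, hs₂⟩ : ∃ s₂ : Finset (List (Idx d n)),
        ∀ L, L ∈ s₂ ↔ L ∈ s ∧ (c L ≠ 0 ∧ ∃ t, L = θ :: t) :=
      ⟨s.filter (fun L => c L ≠ 0 ∧ ∃ t, L = θ :: t), fun L => Finset.mem_filter⟩
    have hsum : ∑ L ∈ s, c L • ψ2 K v θ (listMon K L) = ∑ L ∈ s₂, c L • ψ2 K v θ (listMon K L) := by
      symm
      apply Finset.sum_subset (fun L hL => ((hs₂ L).mp hL).1)
      intro L hL hnot
      by_cases hc : c L = 0
      · rw [hc, zero_smul]
      · cases L with
        | nil => exact absurd rfl (hnil _ hL hc)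
        | cons x t =>
          have hxθ : ¬ x ≤ θ := by
            intro hle
            have hPx : P x := ⟨_, hL, hc, t, rfl⟩
            have := hθmin hPx hle
            have hx : x = θ := le_antisymm hle this
            apply hnot
            rw [hs₂]
            exact ⟨hL, hc, t, by rw [hx]⟩
          rw [listMon_cons, map_mul, ψ2_X_eq_zero v θ x hxθ, zero_mul, smul_zero]
    rw [hsum] at h1
    have hform : ∀ L ∈ s₂, L = θ :: L.tail := by
      intro L hL
      rw [hs₂] at hL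
      obtain ⟨_, _, t, rfl⟩ := hL
      rfl
    have h2 : ∑ L ∈ s₂, c L • ψ2 K v θ (listMon K L) =
        ψ2 K v θ (X θ) * ∑ L ∈ s₂, c L • ψ2 K v θ (listMon K L.tail) := by
      rw [Finset.mul_sum]
      refine Finset.sum_congr rfl fun L hL => ?_
      have e : ψ2 K v θ (listMon K L) = ψ2 K v θ (X θ) * ψ2 K v θ (listMon K L.tail) := by
        conv_lhs => rw [hform L hL]
        rw [listMon_cons, map_mul]
      rw [e, mul_smul_comm]
    rw [h2] at h1
    have h3 := (mul_eq_zero.mp h1).resolve_left (ψ2_X_self_ne_zero v θ hθmem.1)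
    have hinj : Set.InjOn List.tail (s₂ : Set (List (Idx d n))) := by
      intro L hL L' hL' hLL'
      rw [hform L hL, hform L' hL', hLL']
    have h4 : ∑ L ∈ s₂, c L • ψ2 K v θ (listMon K L.tail) =
        ∑ L' ∈ s₂.image List.tail, c (θ :: L') • ψ2 K v θ (listMon K L') := by
      rw [Finset.sum_image hinj]
      refine Finset.sum_congr rfl fun L hL => ?_
      rw [← hform L hL]
    rw [h4] at h3
    have h5 := ih θ (s₂.image List.tail) (fun L' => c (θ :: L')) (by
      intro L' hL'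
      obtain ⟨L, hL, rfl⟩ := Finset.mem_image.mp hL'
      have hLs : L ∈ s := ((hs₂ L).mp hL).1
      obtain ⟨⟨hpw, hle⟩, hlen⟩ := hs L hLs
      have hle' : ∀ x ∈ L.tail, v ≤ x := fun x hx => (hle x (List.mem_of_mem_tail hx)).1
      rw [hform L hL] at hpw hlen
      rw [List.pairwise_cons] at hpw
      refine ⟨⟨hpw.2, fun x hx => ⟨hle' x hx, hpw.1 x hx⟩⟩, ?_⟩
      simp only [List.length_cons] at hlen
      omega) h3
    have hL₁s₂ : L₁ ∈ s₂ := by
      rw [hs₂]
      exact ⟨hL₁, hc₁, t₁, hL₁eq⟩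
    have h6 := h5 L₁.tail (Finset.mem_image_of_mem _ hL₁s₂)
    rw [← hform L₁ hL₁s₂] at h6
    exact hc₁ h6

open Groth.Agent.S11251 in
/-- linear independence of standard monomials between `v` and `τ` -/
theorem indep2 (hd : 0 < d) (v τ : Idx d n) (s : Finset (List (Idx d n))) (c : List (Idx d n) → K)
    (hs : ∀ L ∈ s, IsStd2 v τ L) (hrel : ∑ L ∈ s, c L • ψ2 K v τ (listMon K L) = 0) :
    ∀ L ∈ s, c L = 0 := by
  classical
  apply indep_aux2 hd v (s.sup List.length) τ s c _ hrel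
  intro L hL
  exact ⟨hs L hL, Finset.le_sup (f := List.length) hL⟩

theorem eval_ψ2 (v τ : Idx d n) (a : Fin n × Fin d → K) (p : PlRing K d n) :
    MvPolynomial.eval a (ψ2 K v τ p) =
      evalMinors K d n ((G2 K v τ).map (MvPolynomial.eval a)) p := by
  have : ((MvPolynomial.aeval a : MatRing K d n →ₐ[K] K).comp (ψ2 K v τ)) =
      evalMinors K d n ((G2 K v τ).map (MvPolynomial.eval a)) := by
    apply MvPolynomial.algHom_ext
    intro θ
    rw [AlgHom.comp_apply, ψ2_X]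
    unfold evalMinors
    rw [MvPolynomial.aeval_X, AlgHom.map_det]
    congr 1
  have h2 := congrArg (fun f => f p) this
  simp only [AlgHom.comp_apply] at h2
  rw [← h2, MvPolynomial.aeval_eq_eval]

theorem schubertVanishing_le_ker2 [Infinite K] (v τ : Idx d n) (p : PlRing K d n)
    (hp : p ∈ schubertVanishing K d n τ) : ψ2 K v τ p = 0 := by
  apply MvPolynomial.funext
  intro a
  rw [map_zero, eval_ψ2]
  unfold schubertVanishing at hp
  rw [Ideal.mem_iInf] at hp
  have h1 := hp ((G2 K v τ).map (MvPolynomial.eval a))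
  rw [Ideal.mem_iInf] at h1
  have h2 := h1 (by
    intro φ hφ
    have h3 := ψ2_X_eq_zero (K := K) v τ φ hφ
    rw [ψ2_X] at h3
    have h4 := congrArg (MvPolynomial.eval a) h3
    rw [RingHom.map_det, map_zero] at h4
    rw [← h4]
    congr 1)
  exact h2

end Groth.Agent.Lib.Helper2.SMT2
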