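import Mathlib
import Groth.Prelude.Def_StabCat
import Groth.Agent.Lib.Lead.StabPoly

set_option autoImplicit false

open Polynomial

namespace Groth.Agent.Helper2.SSAbel

open StabCat Groth.Agent.Lead.StabPoly

theorem alpha_add (d : ℕ) (p q : ℚ[X]) : alpha d (p + q) = alpha d p + alpha d q := by
  unfold alpha
  rw [coeff_add]
  ring

theorem redEq_symm (d : ℕ) (p q : ℚ[X]) (h : RedEq d p q) : RedEq d q p := by
  unfold RedEq at h ⊢
  exact h.symm

/-- transitivity of `RedEq` through a polynomial of nonzero multiplicity -/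
theorem redEq_trans (d : ℕ) (p q r : ℚ[X]) (hq : alpha d q ≠ 0) (h1 : RedEq d p q)
    (h2 : RedEq d q r) : RedEq d p r := by
  unfold RedEq at h1 h2 ⊢
  have h3 : alpha d q • (alpha d r • p) = alpha d q • (alpha d p • r) := by
    calc alpha d q • (alpha d r • p) = alpha d r • (alpha d q • p) := smul_comm _ _ _
      _ = alpha d r • (alpha d p • q) := by rw [h1]
      _ = alpha d p • (alpha d r • q) := smul_comm _ _ _
      _ = alpha d p • (alpha d q • r) := by rw [h2]
      _ = alpha d q • (alpha d p • r) := smul_comm _ _ _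
  exact smul_right_injective _ hq h3

/-- the squeeze: kernel below, image below the target, equal reduced polynomials -/
theorem redEq_image (d : ℕ) (pE pF pK pI : ℚ[X]) (hI : pI = pE - pK)
    (aE : 0 < alpha d pE) (aF : 0 < alpha d pF)
    (hK : RedLE d pK pE) (hIF : RedLE d pI pF) (heq : RedEq d pE pF) : RedEq d pI pE := by
  obtain ⟨N1, h1⟩ := quot_le d pE pK pI hI hK
  obtain ⟨N2, h2⟩ := hIF
  unfold RedEq at heq ⊢
  have key : alpha d pE • pI - alpha d pI • pE = 0 := by
    apply eq_zero_of_eventually_zero _ (max N1 N2)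
    intro m hm
    have e1 := h1 m (le_trans (le_max_left _ _) hm)
    have e2 := h2 m (le_trans (le_max_right _ _) hm)
    have e3 := congrArg (fun P : ℚ[X] => P.eval (m : ℚ)) heq
    simp only [eval_smul, smul_eq_mul] at e2 e3
    simp only [eval_sub, eval_smul, smul_eq_mul]
    -- e1 : αI * pE(m) ≤ αE * pI(m); e2 : αF * pI(m) ≤ αI * pF(m); e3 : αF * pE(m) = αE * pF(m)
    have e4 : alpha d pF * (alpha d pE * eval (m : ℚ) pI) ≤
        alpha d pF * (alpha d pI * eval (m : ℚ) pE) := by
      calc alpha d pF * (alpha d pE * eval (m : ℚ) pI)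
          = alpha d pE * (alpha d pF * eval (m : ℚ) pI) := by ring
        _ ≤ alpha d pE * (alpha d pI * eval (m : ℚ) pF) :=
            mul_le_mul_of_nonneg_left e2 aE.le
        _ = alpha d pI * (alpha d pE * eval (m : ℚ) pF) := by ring
        _ = alpha d pI * (alpha d pF * eval (m : ℚ) pE) := by rw [e3]
        _ = alpha d pF * (alpha d pI * eval (m : ℚ) pE) := by ring
    have e5 := le_of_mul_le_mul_left e4 aF
    linarith
  exact sub_eq_zero.mp key

/-- complement of a part with the same reduced polynomial -/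
theorem redEq_compl (d : ℕ) (pE pK pI : ℚ[X]) (hI : pI = pE - pK) (h : RedEq d pI pE) :
    RedEq d pK pE := by
  unfold RedEq at h ⊢
  have hK : pK = pE - pI := by rw [hI]; ring
  have haK : alpha d pK = alpha d pE - alpha d pI := by rw [hK, alpha_sub]
  rw [haK, hK, smul_sub, sub_smul, h]

/-- inequality for subobjects of a part with the same reduced polynomial -/
theorem redLE_of_redEq (d : ℕ) (pG pK pE : ℚ[X]) (aE : 0 < alpha d pE) (aK : 0 ≤ alpha d pK)
    (h1 : RedLE d pG pE) (h2 : RedEq d pK pE) : RedLE d pG pK := by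
  obtain ⟨N, hN⟩ := h1
  refine ⟨N, fun m hm => ?_⟩
  have e1 := hN m hm
  have e3 := congrArg (fun P : ℚ[X] => P.eval (m : ℚ)) h2
  simp only [eval_smul, smul_eq_mul] at e1 e3 ⊢
  -- e1 : αE * pG ≤ αG * pE ; e3 : αE * pK = αK * pE ; goal αK * pG ≤ αG * pK
  have e4 : alpha d pE * (alpha d pK * eval (m : ℚ) pG) ≤
      alpha d pE * (alpha d pG * eval (m : ℚ) pK) := by
    calc alpha d pE * (alpha d pK * eval (m : ℚ) pG)
        = alpha d pK * (alpha d pE * eval (m : ℚ) pG) := by ring
      _ ≤ alpha d pK * (alpha d pG * eval (m : ℚ) pE) := mul_le_mul_of_nonneg_left e1 aK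
      _ = alpha d pG * (alpha d pK * eval (m : ℚ) pE) := by ring
      _ = alpha d pG * (alpha d pE * eval (m : ℚ) pK) := by rw [e3]
      _ = alpha d pE * (alpha d pG * eval (m : ℚ) pK) := by ring
  exact le_of_mul_le_mul_left e4 aE

/-- inequality for a preimage -/
theorem redLE_of_preimage (d : ℕ) (pT' pI pT pF : ℚ[X]) (hT' : pT' = pI + pT)
    (h1 : RedLE d pT' pF) (h2 : RedEq d pI pF) : RedLE d pT pF := by
  obtain ⟨N, hN⟩ := h1
  refine ⟨N, fun m hm => ?_⟩
  have e1 := hN m hm
  have e3 := congrArg (fun P : ℚ[X] => P.eval (m : ℚ)) h2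
  rw [hT', alpha_add] at e1
  simp only [eval_smul, smul_eq_mul, eval_add] at e1 e3 ⊢
  nlinarith [e1, e3]

end Groth.Agent.Helper2.SSAbel
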