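import Mathlib
import Groth.Prelude.Def_ShStab
import Groth.Agent.Lib.Lead.ShStabPure
import Groth.Agent.Lib.Helper13.FinType
import Groth.Agent.Lib.Helper13.QCohLocal
import Groth.Agent.Lib.Helper2.SSAbel1

set_option autoImplicit false
universe u
open CategoryTheory CategoryTheory.Limits AlgebraicGeometry Polynomial

namespace Groth.Agent.Helper2.SSAbel

open StabCat Groth.Agent.Lead.StabPoly Groth.Agent.Lead.ShStabHom Groth.Agent.Lead.ShStabPure
  Groth.Agent.Helper25.ShStabFormal

variable (k : Type u) [Field k] (X : Scheme.{u}) [X.Over (Spec (CommRingCat.of k))]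
  [IsProper (X ↘ Spec (CommRingCat.of k))]

theorem isCoh_of_iso' {M N : X.Modules} (e : M ≅ N) (hM : Coh.IsCoh M) : Coh.IsCoh N := by
  haveI := hM.1
  haveI := hM.2
  exact ⟨Groth.Agent.Helper13.QCohLocal.isQuasicoherent_of_iso e,
    Groth.Agent.Helper13.FinType.isFiniteType_of_epi e.hom⟩

/-- semistability is invariant under isomorphism -/
theorem isSemistable_of_iso (L : X.Modules) (d : ℕ) {A B : X.Modules} (e : A ≅ B)
    (hA : ShStab.IsSemistable k X L A d) : ShStab.IsSemistable k X L B d := by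
  obtain ⟨hc, h0, hp, hs⟩ := hA
  refine ⟨isCoh_of_iso' X e hc, fun hz => h0 (hz.of_iso e), ?_, ?_⟩
  · intro G ι hι hG hG0
    haveI := hι
    exact hp G (ι ≫ e.inv) (mono_comp _ _) hG hG0
  · intro G ι hι hG hG0 hni pG pB hpG hpB
    haveI := hι
    have hni' : ¬ IsIso (ι ≫ e.inv) := by
      intro h
      apply hni
      have : ι = (ι ≫ e.inv) ≫ e.hom := by rw [Category.assoc, Iso.inv_hom_id, Category.comp_id]
      rw [this]
      infer_instance
    exact hs G (ι ≫ e.inv) (mono_comp _ _) hG hG0 hni' pG pB hpG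
      (isHilbPoly_of_iso k X L e.symm pB hpB)

theorem dim_of_semistable (L : X.Modules) (d : ℕ) {E : X.Modules}
    (hE : ShStab.IsSemistable k X L E d) :
    topologicalKrullDim (CohB1.support E) = (d : WithBot ℕ∞) :=
  hE.2.2.1 E (𝟙 E) inferInstance hE.1 hE.2.1

/-- the common data for a nonzero map between semistables with the same reduced polynomial -/
theorem core (L : X.Modules) (hL : CohB1.IsAmple L) (hSP : SPHyp k X L) (d : ℕ)
    (E F : X.Modules) (hE : ShStab.IsSemistable k X L E d) (hF : ShStab.IsSemistable k X L F d)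
    (pE pF : ℚ[X]) (hpE : ShStab.IsHilbPoly k X L E pE) (hpF : ShStab.IsHilbPoly k X L F pF)
    (hred : RedEq d pE pF) (f : E ⟶ F) (hf : f ≠ 0) :
    ∃ pK pI : ℚ[X], pI = pE - pK ∧ ShStab.IsHilbPoly k X L (kernel f) pK ∧
      ShStab.IsHilbPoly k X L (Abelian.coimage f) pI ∧
      Coh.IsCoh (kernel f) ∧ Coh.IsCoh (Abelian.coimage f) ∧
      0 ≤ alpha d pK ∧ 0 < alpha d pE ∧ 0 < alpha d pF ∧
      RedEq d pI pE ∧ RedEq d pK pE := by
  obtain ⟨pK, pI, hI, hpK, hpI, hKc, hIc, aK, aI, aF0, -, -, -⟩ :=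
    skeleton k X L hL d E F hE.1 hF.1 hE.2.2.1 hF.2.2.1 pE pF hpE hpF f
  have aE : 0 < alpha d pE := hSP E d hE.1 (dim_of_semistable k X L d hE) pE hpE
  have aF : 0 < alpha d pF := hSP F d hF.1 (dim_of_semistable k X L d hF) pF hpF
  have hKE : RedLE d pK pE := redLE_kernel k X L d E F hE.2.2.2 f hf hKc pK pE hpK hpE
  have hIF : RedLE d pI pF := redLE_coimage k X L d E F hF.2.2.2 f hf hIc pI pF hpI hpF
  have hIE : RedEq d pI pE := redEq_image d pE pF pK pI hI aE aF hKE hIF hred
  exact ⟨pK, pI, hI, hpK, hpI, hKc, hIc, aK, aE, aF, hIE, redEq_compl d pE pK pI hI hIE⟩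

theorem kernel_part (L : X.Modules) (hL : CohB1.IsAmple L) (hSP : SPHyp k X L) (d : ℕ)
    (E F : X.Modules) (hE : ShStab.IsSemistable k X L E d) (hF : ShStab.IsSemistable k X L F d)
    (pE pF : ℚ[X]) (hpE : ShStab.IsHilbPoly k X L E pE) (hpF : ShStab.IsHilbPoly k X L F pF)
    (hred : RedEq d pE pF) (f : E ⟶ F) :
    IsZero (kernel f) ∨ (ShStab.IsSemistable k X L (kernel f) d ∧
      ∀ pK : ℚ[X], ShStab.IsHilbPoly k X L (kernel f) pK → RedEq d pK pE) := by
  by_cases hf : f = 0
  · subst hf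
    right
    have e : kernel (0 : E ⟶ F) ≅ E := asIso (kernel.ι (0 : E ⟶ F))
    refine ⟨isSemistable_of_iso k X L d e.symm hE, fun pK hpK => ?_⟩
    have := hilbPoly_unique k X L E pK pE (isHilbPoly_of_iso k X L e pK hpK) hpE
    rw [this]
    exact Groth.Agent.Lead.StabPoly.redEq_refl d pE
  by_cases hK0 : IsZero (kernel f)
  · exact Or.inl hK0
  right
  obtain ⟨pK, pI, hI, hpK, hpI, hKc, hIc, aK, aE, aF, hIE, hKE⟩ :=
    core k X L hL hSP d E F hE hF pE pF hpE hpF hred f hf
  refine ⟨⟨hKc, hK0, ?_, ?_⟩, fun pK' hpK' => ?_⟩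
  · intro G ι hι hG hG0
    haveI := hι
    exact hE.2.2.1 G (ι ≫ kernel.ι f) (mono_comp _ _) hG hG0
  · intro G ι hι hG hG0 hni pG pK' hpG hpK'
    haveI := hι
    have e1 : pK' = pK := hilbPoly_unique k X L _ _ _ hpK' hpK
    rw [e1]
    have hni' : ¬ IsIso (ι ≫ kernel.ι f) := by
      intro h
      haveI : Epi (kernel.ι f) := epi_of_epi ι (kernel.ι f)
      exact not_isIso_kernel_ι f hf (isIso_of_mono_of_epi (kernel.ι f))
    have h1 : RedLE d pG pE :=
      hE.2.2.2 G (ι ≫ kernel.ι f) (mono_comp _ _) hG hG0 hni' pG pE hpG hpE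
    exact redLE_of_redEq d pG pK pE aE aK h1 hKE
  · have e1 : pK' = pK := hilbPoly_unique k X L _ _ _ hpK' hpK
    rw [e1]
    exact hKE

theorem cokernel_part (L : X.Modules) (hL : CohB1.IsAmple L) (hZ : ZHyp k X L)
    (hSP : SPHyp k X L) (d : ℕ)
    (E F : X.Modules) (hE : ShStab.IsSemistable k X L E d) (hF : ShStab.IsSemistable k X L F d)
    (pE pF : ℚ[X]) (hpE : ShStab.IsHilbPoly k X L E pE) (hpF : ShStab.IsHilbPoly k X L F pF)
    (hred : RedEq d pE pF) (f : E ⟶ F) :
    IsZero (cokernel f) ∨ (ShStab.IsSemistable k X L (cokernel f) d ∧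
      ∀ pQ : ℚ[X], ShStab.IsHilbPoly k X L (cokernel f) pQ → RedEq d pQ pE) := by
  haveI : IsLocallyNoetherian X :=
    LocallyOfFiniteType.isLocallyNoetherian (X ↘ Spec (CommRingCat.of k))
  by_cases hf : f = 0
  · subst hf
    right
    have e : F ≅ cokernel (0 : E ⟶ F) := asIso (cokernel.π (0 : E ⟶ F))
    refine ⟨isSemistable_of_iso k X L d e hF, fun pQ hpQ => ?_⟩
    have := hilbPoly_unique k X L F pQ pF (isHilbPoly_of_iso k X L e.symm pQ hpQ) hpF
    rw [this]
    exact redEq_symm d pE pF hred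
  by_cases hQ0 : IsZero (cokernel f)
  · exact Or.inl hQ0
  right
  obtain ⟨pK, pI, hI, hpK, hpI, hKc, hIc, aK, aE, aF, hIE, hKE⟩ :=
    core k X L hL hSP d E F hE hF pE pF hpE hpF hred f hf
  -- the Hilbert polynomial of the cokernel
  have hm := Groth.Agent.Helper6.HilbDeg.isHilbPoly_cokernel k X L hL.1 hIc hF.1
    (Abelian.factorThruCoimage f) pI pF hpI hpF
  have eQ : cokernel (Abelian.factorThruCoimage f) ≅ cokernel f :=
    (cokernelEpiComp (Abelian.coimage.π f) (Abelian.factorThruCoimage f)).symm ≪≫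
      cokernelIsoOfEq (Abelian.coimage.fac f)
  have hQc : Coh.IsCoh (cokernel f) := isCoh_of_iso' X eQ hm.1
  have hpQ : ShStab.IsHilbPoly k X L (cokernel f) (pF - pI) :=
    isHilbPoly_of_iso k X L eQ _ hm.2
  have hIF : RedEq d pI pF := redEq_trans d pI pE pF aE.ne' hIE hred
  have hQF : RedEq d (pF - pI) pF :=
    redEq_compl d pF (pF - pI) pI (by ring) hIF
  have hQE : RedEq d (pF - pI) pE :=
    redEq_trans d (pF - pI) pF pE aF.ne' hQF (redEq_symm d pE pF hred)
  -- dimension of the support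
  have hdF := dim_of_semistable k X L d hF
  have hle : topologicalKrullDim (CohB1.support (cokernel f)) ≤ (d : WithBot ℕ∞) :=
    (Groth.Agent.Helper13.DimLemma.dim_subset_le
      (Groth.Agent.Helper26.DevE.support_subset_of_epi (cokernel.π f))).trans_eq hdF
  have hdQ : topologicalKrullDim (CohB1.support (cokernel f)) = (d : WithBot ℕ∞) := by
    by_contra hne
    have hlt := lt_of_le_of_ne hle hne
    have haQ : alpha d (pF - pI) = 0 := by
      unfold StabCat.alpha
      rw [Groth.Agent.Helper6.HilbDeg.coeff_eq_zero_of_dim_lt k X L hL.1 (cokernel f) hQc d hlt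
        (pF - pI) hpQ d le_rfl, mul_zero]
    have h0 : pF - pI = 0 := by
      have h1 : alpha d pF • (pF - pI) = 0 := by
        have := hQF
        unfold RedEq at this
        rw [this, haQ, zero_smul]
      exact (smul_eq_zero.mp h1).resolve_left aF.ne'
    apply hQ0
    apply hZ (cokernel f) hQc
    rw [← h0]
    exact hpQ
  have aQ : 0 < alpha d (pF - pI) := hSP (cokernel f) d hQc hdQ _ hpQ
  -- the semistability inequality
  have hss : ∀ (T : X.Modules) (ι : T ⟶ cokernel f), Mono ι → Coh.IsCoh T → ¬ IsZero T →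
      ¬ IsIso ι → ∀ (pT pQ : ℚ[X]), ShStab.IsHilbPoly k X L T pT →
        ShStab.IsHilbPoly k X L (cokernel f) pQ → RedLE d pT pQ := by
    intro T ι hι hT hT0 hni pT pQ hpT hpQ'
    haveI := hι
    have e1 : pQ = pF - pI := hilbPoly_unique k X L _ _ _ hpQ' hpQ
    rw [e1]
    have hQT := Groth.Agent.Helper6.HilbDeg.isHilbPoly_cokernel k X L hL.1 hT hQc ι pT (pF - pI)
      hpT hpQ
    -- the preimage of `T` in `F`
    let g : F ⟶ cokernel ι := cokernel.π f ≫ cokernel.π ι
    haveI : Epi g := epi_comp _ _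
    have hT'c : Coh.IsCoh (kernel g) := Groth.Agent.Lead.KerFree.isCoh_kernel hF.1 hQT.1 g
    obtain ⟨pT', dT'⟩ := pdata_of_sub k X L hL F d hF.2.2.1 (kernel g) (kernel.ι g) hT'c
    have hco := Groth.Agent.Helper6.HilbDeg.isHilbPoly_cokernel k X L hL.1 hT'c hF.1
      (kernel.ι g) pT' pF dT'.hp hpF
    haveI : Epi (Abelian.factorThruCoimage g) := by
      have hfac : Abelian.coimage.π g ≫ Abelian.factorThruCoimage g = g := Abelian.coimage.fac g
      haveI : Epi (Abelian.coimage.π g ≫ Abelian.factorThruCoimage g) := by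
        rw [hfac]; infer_instance
      exact epi_of_epi (Abelian.coimage.π g) (Abelian.factorThruCoimage g)
    haveI : IsIso (Abelian.factorThruCoimage g) := isIso_of_mono_of_epi _
    have eT : cokernel (kernel.ι g) ≅ cokernel ι := asIso (Abelian.factorThruCoimage g)
    have e2 : pF - pT' = pF - pI - pT :=
      hilbPoly_unique k X L _ _ _ (isHilbPoly_of_iso k X L eT _ hco.2) hQT.2
    have hT' : pT' = pI + pT := by
      have : pT' = pF - (pF - pT') := by ring
      rw [this, e2]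
      ring
    -- `kernel g` is a nonzero proper submodule of `F`
    have hT'0 : ¬ IsZero (kernel g) := by
      intro hz
      apply hf
      have hfg : f ≫ g = 0 := by
        change f ≫ cokernel.π f ≫ cokernel.π ι = 0
        rw [← Category.assoc, cokernel.condition, Limits.zero_comp]
      rw [← kernel.lift_ι g f hfg, hz.eq_of_tgt (kernel.lift g f hfg) 0, Limits.zero_comp]
    have hg0 : g ≠ 0 := by
      intro hg
      apply hni
      haveI : Epi ι := by
        apply Preadditive.epi_of_cokernel_zero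
        have h1 : g ≫ 𝟙 _ = g ≫ 0 := by rw [Category.comp_id, Limits.comp_zero, hg]
        have h2 : (𝟙 (cokernel ι)) = 0 := (cancel_epi g).mp h1
        have h3 : cokernel.π ι = cokernel.π ι ≫ 𝟙 _ := (Category.comp_id _).symm
        rw [h3, h2, Limits.comp_zero]
      exact isIso_of_mono_of_epi ι
    have hT'ni : ¬ IsIso (kernel.ι g) := not_isIso_kernel_ι g hg0
    have h1 : RedLE d pT' pF :=
      hF.2.2.2 (kernel g) (kernel.ι g) inferInstance hT'c hT'0 hT'ni pT' pF dT'.hp hpF
    have h2 : RedLE d pT pF := redLE_of_preimage d pT' pI pT pF hT' h1 hIF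
    exact redLE_of_redEq d pT (pF - pI) pF aF aQ.le h2 hQF
  have hpure : ShStab.IsPure X (cokernel f) d :=
    isPure_of_redLE k X L hL hZ hSP d (cokernel f) hQc hdQ hss
  refine ⟨⟨hQc, hQ0, hpure, hss⟩, fun pQ hpQ' => ?_⟩
  have e1 : pQ = pF - pI := hilbPoly_unique k X L _ _ _ hpQ' hpQ
  rw [e1]
  exact hQE

end Groth.Agent.Helper2.SSAbel
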