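import Mathlib
import Groth.Prelude.Def_W4bk4grassmannianPl
import Groth.Agent.Lib.Helper2.StdFam

universe u

namespace Groth.Agent.Lib.Helper2.SchubertCell

open W4bk4grassmannian MvPolynomial Groth.Agent.S11251 Groth.Agent.Lib.Helper2.SMT
  Groth.Agent.Lib.Helper2.StdFam

variable {K : Type u} [Field K] {d n : ℕ}

theorem coord_not_inj (a : Fin d → Fin n) (h : ¬ Function.Injective a) : coord K d n a = 0 := by
  unfold coord
  rw [dif_neg]
  intro hc
  apply h
  have : (Finset.univ.image a).card = (Finset.univ : Finset (Fin d)).card := by simpa using hc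
  rw [Finset.card_image_iff] at this
  intro x y hxy
  exact this (Finset.mem_coe.mpr (Finset.mem_univ x)) (Finset.mem_coe.mpr (Finset.mem_univ y)) hxy

/-- evaluation of a signed Plücker coordinate at the minors of a matrix over a `K`-algebra -/
theorem aeval_coord {R : Type*} [CommRing R] [Algebra K R] (M : Matrix (Fin n) (Fin d) R)
    (a : Fin d → Fin n) :
    MvPolynomial.aeval (fun θ : Idx d n => (M.submatrix θ.1 id).det) (coord K d n a) =
      (M.submatrix a id).det := by
  by_cases h : Function.Injective a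
  · obtain ⟨s, π, rfl⟩ := Groth.Agent.S11256.exists_perm a h
    rw [Groth.Agent.S11251.coord_perm, map_mul, map_intCast, MvPolynomial.aeval_X]
    have : M.submatrix (s.1 ∘ π) id = (M.submatrix s.1 id).submatrix π id := by
      ext i j; simp
    rw [this, Matrix.det_permute]
  · rw [coord_not_inj a h, map_zero]
    have : ∃ i j, i ≠ j ∧ a i = a j := by
      unfold Function.Injective at h
      push Not at h
      obtain ⟨i, j, h1, h2⟩ := h
      exact ⟨i, j, h2, h1⟩
    obtain ⟨i, j, hij, haij⟩ := this
    symm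
    apply Matrix.det_zero_of_row_eq hij
    ext t
    simp [haij]

theorem ψ_coord (w : Idx d n) (a : Fin d → Fin n) :
    ψ K w (coord K d n a) = ((G K w).submatrix a id).det := by
  unfold ψ
  exact aeval_coord _ a

theorem mul_adjugate_apply {R : Type*} [CommRing R] (Gm : Matrix (Fin n) (Fin d) R) (v : Fin d → Fin n)
    (i : Fin n) (t : Fin d) :
    (Gm * (Gm.submatrix v id).adjugate) i t = (Gm.submatrix (Function.update v t i) id).det := by
  have h1 : Gm.submatrix (Function.update v t i) id = (Gm.submatrix v id).updateRow t (Gm i) := by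
    ext k t'
    by_cases hk : k = t
    · subst hk
      simp
    · simp [Matrix.updateRow_ne hk, Function.update_of_ne hk]
  rw [h1, ← Matrix.cramer_transpose_apply, Matrix.cramer_eq_adjugate_mulVec, ← Matrix.adjugate_transpose,
    Matrix.mul_apply, Matrix.mulVec, dotProduct]
  apply Finset.sum_congr rfl
  intro k _
  rw [Matrix.transpose_apply, mul_comm]

theorem cramer_identity (w θ : Idx d n) :
    ψ K w (X θ) * (ψ K w (X w)) ^ (d - 1) =
      Matrix.det (Matrix.of fun k t => ψ K w (coord K d n (Function.update w.1 t (θ.1 k)))) := by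
  have h1 : (Matrix.of fun k t => ψ K w (coord K d n (Function.update w.1 t (θ.1 k)))) =
      ((G K w).submatrix θ.1 id) * ((G K w).submatrix w.1 id).adjugate := by
    ext k t
    rw [Matrix.of_apply, ψ_coord, ← mul_adjugate_apply]
    simp [Matrix.mul_apply]
  rw [h1, Matrix.det_mul, Matrix.det_adjugate, ψ_X, ψ_X, Fintype.card_fin]

theorem ψbar_injective [Infinite K] (hd : 0 < d) (w : Idx d n) : Function.Injective (ψbar K w) := by
  rw [injective_iff_map_eq_zero]
  intro x hx
  obtain ⟨p, rfl⟩ := Ideal.Quotient.mk_surjective x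
  rw [ψbar_mk] at hx
  obtain ⟨q, hq, i, hi, rfl⟩ := Submodule.mem_sup.mp (span_std w p)
  have hi' : i ∈ schubertVanishing K d n w := plIdeal_le w hi
  have hiz : ψ K w i = 0 := schubertVanishing_le_ker w i hi'
  rw [map_add, hiz, add_zero] at hx
  have hq0 := Sstd_inter hd w q hq hx
  rw [hq0, zero_add, Ideal.Quotient.eq_zero_iff_mem]
  exact hi'

variable (K) in
/-- the class of `X_w` -/
noncomputable def aw (w : Idx d n) : PlRing K d n ⧸ schubertVanishing K d n w :=
  Ideal.Quotient.mk _ (X w)

variable (K) in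
/-- the class of the coordinate obtained from `w` by replacing the entry at `t` by `i` -/
noncomputable def cw (w : Idx d n) (i : Fin n) (t : Fin d) : PlRing K d n ⧸ schubertVanishing K d n w :=
  Ideal.Quotient.mk _ (coord K d n (Function.update w.1 t i))

theorem cramer_A [Infinite K] (hd : 0 < d) (w θ : Idx d n) :
    Ideal.Quotient.mk (schubertVanishing K d n w) (X θ) * (aw K w) ^ (d - 1) =
      Matrix.det (Matrix.of fun k t => cw K w (θ.1 k) t) := by
  apply ψbar_injective hd w
  rw [map_mul, map_pow, AlgHom.map_det]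
  unfold aw cw
  rw [ψbar_mk, ψbar_mk, cramer_identity]
  congr 1

theorem aw_ne_zero [Infinite K] (w : Idx d n) : aw K w ≠ 0 := by
  intro h
  have := congrArg (ψbar K w) h
  unfold aw at this
  rw [ψbar_mk, map_zero] at this
  exact ψ_X_self_ne_zero w this

theorem cw_self (w : Idx d n) (t : Fin d) : cw K w (w.1 t) t = aw K w := by
  unfold cw aw
  rw [Function.update_eq_self, Groth.Agent.S11251.coord_idx]

theorem cw_range (w : Idx d n) (t t' : Fin d) (h : t' ≠ t) : cw K w (w.1 t') t = 0 := by
  unfold cw
  rw [coord_not_inj, map_zero]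
  intro hinj
  apply h
  apply hinj
  rw [Function.update_self, Function.update_of_ne h]

theorem wt_update (w : Idx d n) (t : Fin d) (i : Fin n) :
    wt (Function.update w.1 t i) + (w.1 t).val = wt w.1 + i.val := by
  classical
  unfold wt
  have h1 : ∑ x, ((Function.update w.1 t i) x).val =
      ∑ x, Function.update (fun x => (w.1 x).val) t i.val x := by
    apply Finset.sum_congr rfl
    intro x _
    by_cases hx : x = t
    · subst hx; simp
    · simp [Function.update_of_ne hx]
  rw [h1, Finset.sum_update_of_mem (Finset.mem_univ t)]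
  have h2 : ∑ x, (w.1 x).val = (w.1 t).val + ∑ x ∈ Finset.univ \ {t}, (w.1 x).val := by
    rw [← Finset.sum_sdiff (Finset.subset_univ {t}), Finset.sum_singleton, add_comm]
  rw [h2]
  ring

theorem cw_gt (w : Idx d n) (t : Fin d) (i : Fin n) (h : w.1 t < i) : cw K w i t = 0 := by
  unfold cw
  rw [Ideal.Quotient.eq_zero_iff_mem]
  unfold coord
  split_ifs with hc
  · apply Ideal.mul_mem_left
    apply X_mem_schubertVanishing
    intro hle
    have h1 : wt (sortIdx d n (Function.update w.1 t i) hc).1 ≤ wt w.1 := by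
      unfold wt
      apply Finset.sum_le_sum
      intro x _
      exact Fin.le_def.mp (hle x)
    rw [wt_sortIdx] at h1
    have h2 := wt_update w t i
    have h3 : (w.1 t).val < i.val := h
    omega
  · exact Ideal.zero_mem _

/-- the free positions of the Schubert cell -/
abbrev Free (w : Idx d n) : Type := {p : Fin n × Fin d // p.1 < w.1 p.2 ∧ p.1 ∉ Set.range w.1}

variable (K) in
/-- the coordinate ring of the cone over the Schubert cell (before inverting `X none`) -/
abbrev CRing (w : Idx d n) : Type u := MvPolynomial (Option (Free w)) K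

open Classical in
variable (K) in
/-- the echelon matrix -/
noncomputable def E (w : Idx d n) : Matrix (Fin n) (Fin d) (CRing K w) :=
  Matrix.of fun i t => if i = w.1 t then 1
    else if h : i < w.1 t ∧ i ∉ Set.range w.1 then X (some ⟨(i, t), h⟩) else 0

variable (K) in
/-- the column scaling -/
noncomputable def sc (w : Idx d n) : Fin d → CRing K w := fun t => if t.val = 0 then X none else 1

variable (K) in
/-- the scaled echelon matrix -/
noncomputable def E' (w : Idx d n) : Matrix (Fin n) (Fin d) (CRing K w) :=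
  E K w * Matrix.diagonal (sc K w)

theorem E'_apply (w : Idx d n) (i : Fin n) (t : Fin d) : E' K w i t = E K w i t * sc K w t := by
  unfold E'
  rw [Matrix.mul_diagonal]

theorem E_gt (w : Idx d n) (i : Fin n) (t : Fin d) (h : w.1 t < i) : E K w i t = 0 := by
  unfold E
  rw [Matrix.of_apply, if_neg (ne_of_gt h), dif_neg]
  intro hc
  exact absurd hc.1 (not_lt.mpr h.le)

theorem E_w (w : Idx d n) : (E K w).submatrix w.1 id = 1 := by
  ext k t
  rw [Matrix.submatrix_apply, id]
  unfold E
  rw [Matrix.of_apply, Matrix.one_apply]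
  by_cases hkt : k = t
  · subst hkt
    rw [if_pos rfl, if_pos rfl]
  · rw [if_neg hkt, if_neg (fun h => hkt (w.2.injective h)), dif_neg]
    intro hc
    exact hc.2 ⟨k, rfl⟩

theorem det_updateRow_one' {R : Type*} [CommRing R] {m : ℕ} (t₀ : Fin m) (v : Fin m → R) :
    ((1 : Matrix (Fin m) (Fin m) R).updateRow t₀ v).det = v t₀ := by
  rw [← Matrix.cramer_transpose_apply, Matrix.transpose_one, Matrix.cramer_one]
  rfl

theorem E_update (w : Idx d n) (t₀ : Fin d) (i₀ : Fin n) :
    ((E K w).submatrix (Function.update w.1 t₀ i₀) id).det = E K w i₀ t₀ := by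
  have h1 : (E K w).submatrix (Function.update w.1 t₀ i₀) id =
      (1 : Matrix (Fin d) (Fin d) (CRing K w)).updateRow t₀ (E K w i₀) := by
    ext k t
    by_cases hk : k = t₀
    · subst hk
      simp
    · rw [Matrix.updateRow_ne hk, Matrix.submatrix_apply, Function.update_of_ne hk, id, ← E_w w]
      rfl
  rw [h1, det_updateRow_one']

theorem E_free (w : Idx d n) (f : Free w) : E K w f.1.1 f.1.2 = X (some f) := by
  unfold E
  rw [Matrix.of_apply, if_neg (ne_of_lt f.2.1), dif_pos f.2]

theorem prod_sc (hd : 0 < d) (w : Idx d n) : ∏ t, sc K w t = X none := by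
  rw [Finset.prod_eq_single_of_mem (⟨0, hd⟩ : Fin d) (Finset.mem_univ _)]
  · unfold sc
    rw [if_pos rfl]
  · intro t _ ht
    unfold sc
    rw [if_neg]
    intro h
    apply ht
    exact Fin.ext h

theorem det_E' (hd : 0 < d) (w : Idx d n) (a : Fin d → Fin n) :
    ((E' K w).submatrix a id).det = ((E K w).submatrix a id).det * X none := by
  have : (E' K w).submatrix a id = (E K w).submatrix a id * Matrix.diagonal (sc K w) := by
    ext k t
    rw [Matrix.submatrix_apply, E'_apply, Matrix.mul_diagonal]
    rfl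
  rw [this, Matrix.det_mul, Matrix.det_diagonal, prod_sc hd]

variable (K) in
/-- specialization of the generic Schubert matrix to the scaled echelon matrix -/
noncomputable def ε (w : Idx d n) : MatRing K d n →ₐ[K] CRing K w :=
  MvPolynomial.aeval fun p => E' K w p.1 p.2

theorem ε_G (w : Idx d n) : (G K w).map (ε K w) = E' K w := by
  ext i t
  rw [Matrix.map_apply]
  unfold G
  rw [Matrix.of_apply]
  split_ifs with h
  · unfold ε
    rw [MvPolynomial.aeval_X]
  · rw [map_zero, E'_apply, E_gt w i t (not_le.mp h), zero_mul]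

variable (K) in
/-- the restriction of functions on the cone over `X(w)` to the cone over the cell -/
noncomputable def ρ₀ [Infinite K] (w : Idx d n) :
    (PlRing K d n ⧸ schubertVanishing K d n w) →ₐ[K] CRing K w :=
  (ε K w).comp (ψbar K w)

theorem ρ₀_mk [Infinite K] (w : Idx d n) (p : PlRing K d n) :
    ρ₀ K w (Ideal.Quotient.mk _ p) =
      MvPolynomial.aeval (fun θ : Idx d n => ((E' K w).submatrix θ.1 id).det) p := by
  unfold ρ₀
  rw [AlgHom.comp_apply, ψbar_mk]
  have : (ε K w).comp (ψ K w) =
      MvPolynomial.aeval (fun θ : Idx d n => ((E' K w).submatrix θ.1 id).det) := by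
    apply MvPolynomial.algHom_ext
    intro θ
    rw [AlgHom.comp_apply, ψ_X, MvPolynomial.aeval_X, AlgHom.map_det, ← ε_G]
    rfl
  rw [← this]
  rfl

theorem ρ₀_coord [Infinite K] (w : Idx d n) (a : Fin d → Fin n) :
    ρ₀ K w (Ideal.Quotient.mk _ (coord K d n a)) = ((E' K w).submatrix a id).det := by
  rw [ρ₀_mk, aeval_coord]

theorem ρ₀_aw [Infinite K] (hd : 0 < d) (w : Idx d n) : ρ₀ K w (aw K w) = X none := by
  unfold aw
  rw [← Groth.Agent.S11251.coord_idx, ρ₀_coord, det_E' hd, E_w, Matrix.det_one, one_mul]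

theorem ρ₀_cw [Infinite K] (hd : 0 < d) (w : Idx d n) (f : Free w) :
    ρ₀ K w (cw K w f.1.1 f.1.2) = X (some f) * X none := by
  unfold cw
  rw [ρ₀_coord, det_E' hd, E_update, E_free]

variable (K) in
/-- the parametrization of the localized cone by the cell -/
noncomputable def π₀ (w : Idx d n) : CRing K w →ₐ[K] Localization.Away (aw K w) :=
  MvPolynomial.aeval fun o : Option (Free w) => match o with
    | none => algebraMap _ _ (aw K w)
    | some f => algebraMap _ _ (cw K w f.1.1 f.1.2) * IsLocalization.Away.invSelf (aw K w)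

theorem π₀_none (w : Idx d n) : π₀ K w (X none) = algebraMap _ _ (aw K w) := by
  unfold π₀
  rw [MvPolynomial.aeval_X]

theorem π₀_some (w : Idx d n) (f : Free w) :
    π₀ K w (X (some f)) = algebraMap _ _ (cw K w f.1.1 f.1.2) * IsLocalization.Away.invSelf (aw K w) := by
  unfold π₀
  rw [MvPolynomial.aeval_X]

theorem X_none_ne_zero (w : Idx d n) :
    algebraMap (CRing K w) (FractionRing (CRing K w)) (X none) ≠ 0 := by
  intro h
  have := (IsFractionRing.injective (CRing K w) (FractionRing (CRing K w)))
    (by rw [h, map_zero] : algebraMap (CRing K w) (FractionRing (CRing K w)) (X none) =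
      algebraMap (CRing K w) (FractionRing (CRing K w)) 0)
  exact MvPolynomial.X_ne_zero none this

variable (K) in
/-- the restriction map on the localization -/
noncomputable def ρ [Infinite K] (hd : 0 < d) (w : Idx d n) :
    Localization.Away (aw K w) →+* FractionRing (CRing K w) :=
  IsLocalization.Away.lift (aw K w)
    (g := (algebraMap (CRing K w) (FractionRing (CRing K w))).comp (ρ₀ K w).toRingHom) (by
      show IsUnit (algebraMap (CRing K w) (FractionRing (CRing K w)) (ρ₀ K w (aw K w)))
      rw [ρ₀_aw hd]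
      exact IsUnit.mk0 _ (X_none_ne_zero w))

theorem ρ_algebraMap [Infinite K] (hd : 0 < d) (w : Idx d n)
    (a : PlRing K d n ⧸ schubertVanishing K d n w) :
    ρ K hd w (algebraMap _ _ a) = algebraMap (CRing K w) (FractionRing (CRing K w)) (ρ₀ K w a) := by
  unfold ρ
  rw [IsLocalization.Away.lift_eq]
  rfl

theorem ρ_invSelf [Infinite K] (hd : 0 < d) (w : Idx d n) :
    algebraMap (CRing K w) (FractionRing (CRing K w)) (X none) *
      ρ K hd w (IsLocalization.Away.invSelf (aw K w)) = 1 := by
  rw [← ρ₀_aw hd w, ← ρ_algebraMap hd, ← map_mul, IsLocalization.Away.mul_invSelf, map_one]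

theorem ρ_π₀ [Infinite K] (hd : 0 < d) (w : Idx d n) (p : CRing K w) :
    ρ K hd w (π₀ K w p) = algebraMap (CRing K w) (FractionRing (CRing K w)) p := by
  induction p using MvPolynomial.induction_on with
  | C c =>
    have h1 : π₀ K w (C c) = algebraMap _ _ (algebraMap K (PlRing K d n ⧸ schubertVanishing K d n w) c) := by
      rw [← MvPolynomial.algebraMap_eq, AlgHom.commutes, ← IsScalarTower.algebraMap_apply]
    rw [h1, ρ_algebraMap, AlgHom.commutes, MvPolynomial.algebraMap_eq]
  | add p q hp hq => rw [map_add, map_add, hp, hq, map_add]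
  | mul_X p o hp =>
    rw [map_mul, map_mul, hp, map_mul]
    congr 1
    cases o with
    | none => rw [π₀_none, ρ_algebraMap, ρ₀_aw hd]
    | some f =>
      rw [π₀_some, map_mul, ρ_algebraMap, ρ₀_cw hd, map_mul, mul_assoc, ρ_invSelf, mul_one]

theorem π₀_injective [Infinite K] (hd : 0 < d) (w : Idx d n) : Function.Injective (π₀ K w) := by
  intro p q hpq
  apply IsFractionRing.injective (CRing K w) (FractionRing (CRing K w))
  rw [← ρ_π₀ hd, ← ρ_π₀ hd, hpq]

/-- membership in the image of `π₀` up to powers of `X_w` -/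
def InB (w : Idx d n) (z : Localization.Away (aw K w)) : Prop :=
  ∃ (k : ℕ) (p : CRing K w), z * (algebraMap _ (Localization.Away (aw K w)) (aw K w)) ^ k = π₀ K w p

theorem InB_add (w : Idx d n) {z₁ z₂ : Localization.Away (aw K w)} (h₁ : InB w z₁) (h₂ : InB w z₂) :
    InB w (z₁ + z₂) := by
  obtain ⟨k₁, p₁, e₁⟩ := h₁
  obtain ⟨k₂, p₂, e₂⟩ := h₂
  refine ⟨k₁ + k₂, p₁ * X none ^ k₂ + p₂ * X none ^ k₁, ?_⟩
  rw [map_add, map_mul, map_mul, map_pow, map_pow, π₀_none, ← e₁, ← e₂, pow_add]
  ring

theorem InB_mul (w : Idx d n) {z₁ z₂ : Localization.Away (aw K w)} (h₁ : InB w z₁) (h₂ : InB w z₂) :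
    InB w (z₁ * z₂) := by
  obtain ⟨k₁, p₁, e₁⟩ := h₁
  obtain ⟨k₂, p₂, e₂⟩ := h₂
  refine ⟨k₁ + k₂, p₁ * p₂, ?_⟩
  rw [map_mul, ← e₁, ← e₂, pow_add]
  ring

theorem entry_mem (w : Idx d n) (i : Fin n) (t : Fin d) :
    ∃ q : CRing K w, algebraMap _ (Localization.Away (aw K w)) (cw K w i t) = π₀ K w q := by
  by_cases h1 : i ∈ Set.range w.1
  · obtain ⟨t', rfl⟩ := h1
    by_cases h2 : t' = t
    · subst h2
      exact ⟨X none, by rw [cw_self, π₀_none]⟩
    · exact ⟨0, by rw [cw_range w t t' h2, map_zero, map_zero]⟩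
  · rcases lt_trichotomy i (w.1 t) with h2 | h2 | h2
    · refine ⟨X (some ⟨(i, t), h2, h1⟩) * X none, ?_⟩
      rw [map_mul, π₀_some, π₀_none, mul_assoc, mul_comm (IsLocalization.Away.invSelf (aw K w)),
        IsLocalization.Away.mul_invSelf, mul_one]
    · exact absurd ⟨t, h2.symm⟩ h1
    · exact ⟨0, by rw [cw_gt w t i h2, map_zero, map_zero]⟩

theorem InB_X [Infinite K] (hd : 0 < d) (w θ : Idx d n) :
    InB w (algebraMap _ (Localization.Away (aw K w))
      (Ideal.Quotient.mk (schubertVanishing K d n w) (X θ : PlRing K d n))) := by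
  choose q hq using entry_mem (K := K) w
  refine ⟨d - 1, Matrix.det (Matrix.of fun k t => q (θ.1 k) t), ?_⟩
  rw [← map_pow, ← map_mul, cramer_A hd,
    RingHom.map_det (algebraMap (PlRing K d n ⧸ schubertVanishing K d n w) (Localization.Away (aw K w))),
    AlgHom.map_det (π₀ K w)]
  congr 1
  ext k t
  simp only [RingHom.mapMatrix_apply, Matrix.map_apply, Matrix.of_apply, AlgHom.mapMatrix_apply]
  exact hq _ _

theorem InB_algebraMap [Infinite K] (hd : 0 < d) (w : Idx d n)
    (a : PlRing K d n ⧸ schubertVanishing K d n w) :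
    InB w (algebraMap _ (Localization.Away (aw K w)) a) := by
  obtain ⟨p, rfl⟩ := Ideal.Quotient.mk_surjective a
  induction p using MvPolynomial.induction_on with
  | C c =>
    refine ⟨0, C c, ?_⟩
    rw [pow_zero, mul_one]
    show algebraMap (PlRing K d n ⧸ schubertVanishing K d n w) (Localization.Away (aw K w))
      (algebraMap K (PlRing K d n ⧸ schubertVanishing K d n w) c) = π₀ K w (algebraMap K _ c)
    rw [AlgHom.commutes, ← IsScalarTower.algebraMap_apply]
  | add p q hp hq =>
    rw [map_add, map_add]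
    exact InB_add w hp hq
  | mul_X p θ hp =>
    rw [map_mul, map_mul]
    exact InB_mul w hp (InB_X hd w θ)

theorem InB_all [Infinite K] (hd : 0 < d) (w : Idx d n) (z : Localization.Away (aw K w)) :
    InB w z := by
  have hspec := IsLocalization.Away.sec_spec (aw K w) z
  obtain ⟨k, p, hp⟩ := InB_algebraMap hd w (IsLocalization.Away.sec (aw K w) z).1
  refine ⟨(IsLocalization.Away.sec (aw K w) z).2 + k, p, ?_⟩
  rw [← hp, ← hspec, map_pow, pow_add]
  ring

/-- the localized cone is integrally closed -/
theorem isIntegrallyClosed_away [Infinite K] (hd : 0 < d) (w : Idx d n) :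
    IsIntegrallyClosed (Localization.Away (aw K w)) := by
  letI : Algebra (CRing K w) (Localization.Away (aw K w)) := (π₀ K w).toRingHom.toAlgebra
  have hmap : ∀ p : CRing K w, algebraMap (CRing K w) (Localization.Away (aw K w)) p = π₀ K w p :=
    fun _ => rfl
  haveI : IsLocalization (Submonoid.powers (X none : CRing K w)) (Localization.Away (aw K w)) := by
    rw [isLocalization_iff]
    refine ⟨?_, ?_, ?_⟩
    · rintro ⟨_, k, rfl⟩
      rw [hmap, map_pow, π₀_none]
      exact IsLocalization.Away.algebraMap_pow_isUnit _ _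
    · intro z
      obtain ⟨k, p, hp⟩ := InB_all hd w z
      refine ⟨(p, ⟨X none ^ k, k, rfl⟩), ?_⟩
      rw [hmap, hmap, map_pow, π₀_none]
      exact hp
    · intro x y hxy
      rw [hmap, hmap] at hxy
      exact ⟨1, by rw [π₀_injective hd w hxy]⟩
  exact isIntegrallyClosed_of_isLocalization _ (Submonoid.powers (X none : CRing K w))
    (Submonoid.powers_le.mpr (mem_nonZeroDivisors_of_ne_zero (MvPolynomial.X_ne_zero none)))

/-- the localized cone is the localization of a polynomial ring at a variable -/
theorem isLocalization_away [Infinite K] (hd : 0 < d) (w : Idx d n) :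
    @IsLocalization (CRing K w) _ (Submonoid.powers (X none : CRing K w))
      (Localization.Away (aw K w)) _ (π₀ K w).toRingHom.toAlgebra := by
  letI : Algebra (CRing K w) (Localization.Away (aw K w)) := (π₀ K w).toRingHom.toAlgebra
  have hmap : ∀ p : CRing K w, algebraMap (CRing K w) (Localization.Away (aw K w)) p = π₀ K w p :=
    fun _ => rfl
  rw [isLocalization_iff]
  refine ⟨?_, ?_, ?_⟩
  · rintro ⟨_, k, rfl⟩
    rw [hmap, map_pow, π₀_none]
    exact IsLocalization.Away.algebraMap_pow_isUnit _ _
  · intro z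
    obtain ⟨k, p, hp⟩ := InB_all hd w z
    refine ⟨(p, ⟨X none ^ k, k, rfl⟩), ?_⟩
    rw [hmap, hmap, map_pow, π₀_none]
    exact hp
  · intro x y hxy
    rw [hmap, hmap] at hxy
    exact ⟨1, by rw [π₀_injective hd w hxy]⟩

theorem isDomain_A [Infinite K] (hd : 0 < d) (w : Idx d n) :
    IsDomain (PlRing K d n ⧸ schubertVanishing K d n w) :=
  Function.Injective.isDomain (ψbar K w).toRingHom (ψbar_injective hd w)

theorem ρ₀_injective [Infinite K] (hd : 0 < d) (w : Idx d n) : Function.Injective (ρ₀ K w) := by
  haveI := isDomain_A (K := K) hd w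
  rw [injective_iff_map_eq_zero]
  intro f hf
  obtain ⟨k, p, hp⟩ := InB_all hd w (algebraMap _ (Localization.Away (aw K w)) f)
  have h1 := congrArg (ρ K hd w) hp
  rw [map_mul, ρ_algebraMap, hf, map_zero, zero_mul, ρ_π₀] at h1
  have hp0 : p = 0 := by
    apply IsFractionRing.injective (CRing K w) (FractionRing (CRing K w))
    rw [← h1, map_zero]
  rw [hp0, map_zero] at hp
  have hu : IsUnit ((algebraMap _ (Localization.Away (aw K w)) (aw K w)) ^ k) :=
    IsLocalization.Away.algebraMap_pow_isUnit _ _
  have h2 : algebraMap _ (Localization.Away (aw K w)) f = 0 := by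
    rwa [hu.mul_left_eq_zero] at hp
  have hinj : Function.Injective (algebraMap (PlRing K d n ⧸ schubertVanishing K d n w)
      (Localization.Away (aw K w))) :=
    IsLocalization.injective _ (Submonoid.powers_le.mpr (mem_nonZeroDivisors_of_ne_zero (aw_ne_zero w)))
  apply hinj
  rw [h2, map_zero]

theorem irreducible_aw [Infinite K] (hd : 0 < d) (w : Idx d n) : Irreducible (aw K w) := by
  have hirr : Irreducible (X none : CRing K w) := MvPolynomial.X_prime.irreducible
  constructor
  · intro hu
    have := hu.map (ρ₀ K w)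
    rw [ρ₀_aw hd] at this
    exact hirr.not_isUnit this
  · intro f g hfg
    have h1 := congrArg (ρ₀ K w) hfg
    rw [ρ₀_aw hd, map_mul] at h1
    have key : ∀ x : PlRing K d n ⧸ schubertVanishing K d n w, IsUnit (ρ₀ K w x) → IsUnit x := by
      intro x hx
      rw [MvPolynomial.isUnit_iff_eq_C_of_isReduced] at hx
      obtain ⟨c, hc, hxc⟩ := hx
      have : x = algebraMap K _ c := by
        apply ρ₀_injective hd w
        rw [hxc, AlgHom.commutes, MvPolynomial.algebraMap_eq]
      rw [this]
      exact hc.map _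
    rcases hirr.isUnit_or_isUnit h1 with h | h
    · exact Or.inl (key f h)
    · exact Or.inr (key g h)

end Groth.Agent.Lib.Helper2.SchubertCell
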