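import Mathlib
import Groth.Agent.Lib.Helper2.SMT
import Groth.Agent.S11253
import Groth.Agent.S11254
import Groth.Agent.S11260

set_option autoImplicit false
universe u

namespace Groth.Agent.Lib.Helper2.SchubertSum

section
open W4bk4grassmannian MvPolynomial Groth.Agent.Lib.Helper2.SMT Groth.Agent.S11251

variable {K : Type u} [Field K] {d n : ℕ}

theorem le_inf_iff (x a b : Idx d n) : x ≤ W4bk4grassmannian.inf a b ↔ x ≤ a ∧ x ≤ b := by
  constructor
  · intro h
    exact ⟨fun t => le_trans (h t) (min_le_left _ _), fun t => le_trans (h t) (min_le_right _ _)⟩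
  · rintro ⟨h1, h2⟩ t
    exact le_min (h1 t) (h2 t)

theorem inf_le_left' (a b : Idx d n) : W4bk4grassmannian.inf a b ≤ a := fun _ => min_le_left _ _
theorem inf_le_right' (a b : Idx d n) : W4bk4grassmannian.inf a b ≤ b := fun _ => min_le_right _ _
theorem le_sup_left' (a b : Idx d n) : a ≤ W4bk4grassmannian.sup a b := fun _ => le_max_left _ _
theorem le_sup_right' (a b : Idx d n) : b ≤ W4bk4grassmannian.sup a b := fun _ => le_max_right _ _
theorem sup_le' {a b c : Idx d n} (h1 : a ≤ c) (h2 : b ≤ c) : W4bk4grassmannian.sup a b ≤ c :=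
  fun t => max_le (h1 t) (h2 t)

theorem wt_mono {a b : Idx d n} (h : a ≤ b) : wt a.1 ≤ wt b.1 := by
  unfold wt
  exact Finset.sum_le_sum fun t _ => h t

theorem wt_lt {a b : Idx d n} (h : a < b) : wt a.1 < wt b.1 := by
  unfold wt
  have hle : a ≤ b := h.le
  have hne : ∃ t, a.1 t < b.1 t := by
    by_contra hcon
    push Not at hcon
    apply not_le_of_gt h
    intro t
    exact hcon t
  obtain ⟨t, ht⟩ := hne
  apply Finset.sum_lt_sum
  · intro s _
    exact hle s
  · exact ⟨t, Finset.mem_univ _, ht⟩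

theorem wt_inf_add_sup (a b : Idx d n) :
    wt (W4bk4grassmannian.inf a b).1 + wt (W4bk4grassmannian.sup a b).1 = wt a.1 + wt b.1 := by
  unfold wt W4bk4grassmannian.inf W4bk4grassmannian.sup
  rw [← Finset.sum_add_distrib, ← Finset.sum_add_distrib]
  apply Finset.sum_congr rfl
  intro t _
  simp only
  rcases le_total (a.1 t) (b.1 t) with h | h
  · rw [min_eq_left h, max_eq_right h]
  · rw [min_eq_right h, max_eq_left h, add_comm]

theorem codeg_lt {a b : Idx d n} (h : a < b) : codeg a < codeg b := by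
  have h1 := Groth.Agent.S11260.wt_eq_codeg a
  have h2 := Groth.Agent.S11260.wt_eq_codeg b
  have h3 := wt_lt h
  omega

theorem codeg_mono {a b : Idx d n} (h : a ≤ b) : codeg a ≤ codeg b := by
  have h1 := Groth.Agent.S11260.wt_eq_codeg a
  have h2 := Groth.Agent.S11260.wt_eq_codeg b
  have h3 := wt_mono h
  omega

/-- the meet of two distinct divisors of `τ` is a divisor of each -/
theorem inf_mem_divisors {τ φ₁ φ₂ : Idx d n} (h₁ : φ₁ ∈ divisors τ) (h₂ : φ₂ ∈ divisors τ)
    (hne : φ₁ ≠ φ₂) : W4bk4grassmannian.inf φ₁ φ₂ ∈ divisors φ₂ := by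
  have hs : W4bk4grassmannian.sup φ₁ φ₂ ≤ τ := sup_le' h₁.1.le h₂.1.le
  have hs1 : φ₁ < W4bk4grassmannian.sup φ₁ φ₂ := by
    apply lt_of_le_of_ne (le_sup_left' _ _)
    intro heq
    have h21 : φ₂ ≤ φ₁ := by rw [heq]; exact le_sup_right' _ _
    rcases eq_or_lt_of_le h21 with h | h
    · exact hne h.symm
    · have := codeg_lt h
      have e1 := h₁.2
      have e2 := h₂.2
      omega
  have c1 := codeg_lt hs1
  have c2 := codeg_mono hs
  have e1 := h₁.2
  have e2 := h₂.2
  have hsum := wt_inf_add_sup φ₁ φ₂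
  have w1 := Groth.Agent.S11260.wt_eq_codeg φ₁
  have w2 := Groth.Agent.S11260.wt_eq_codeg φ₂
  have w3 := Groth.Agent.S11260.wt_eq_codeg (W4bk4grassmannian.inf φ₁ φ₂)
  have w4 := Groth.Agent.S11260.wt_eq_codeg (W4bk4grassmannian.sup φ₁ φ₂)
  have hcod : codeg (W4bk4grassmannian.inf φ₁ φ₂) + 1 = codeg φ₂ := by omega
  refine ⟨?_, hcod⟩
  apply lt_of_le_of_ne (inf_le_right' _ _)
  intro heq
  rw [heq] at hcod
  omega

/-- distributivity: `(⋂ J(χ)) + J(φ) = ⋂ J(χ ∧ φ)` -/
theorem dist [Infinite K] (hd : 0 < d) (T : Finset (Idx d n)) (φ : Idx d n) :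
    (⨅ χ ∈ T, schubertVanishing K d n χ) ⊔ schubertVanishing K d n φ =
      ⨅ χ ∈ T, schubertVanishing K d n (W4bk4grassmannian.inf χ φ) := by
  classical
  apply le_antisymm
  · apply sup_le
    · apply le_iInf₂
      intro χ hχ
      exact le_trans (iInf₂_le χ hχ) (Groth.Agent.S11253.schubertVanishing_anti (inf_le_left' χ φ))
    · apply le_iInf₂
      intro χ hχ
      exact Groth.Agent.S11253.schubertVanishing_anti (inf_le_right' χ φ)
  · intro p hp
    simp only [Ideal.mem_iInf] at hp
    obtain ⟨q, hq, i, hi, rfl⟩ := Submodule.mem_sup.mp (span_std φ p)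
    have hi' : i ∈ plIdeal K φ := hi
    have hiJ : i ∈ schubertVanishing K d n φ := plIdeal_le φ hi'
    unfold Sstd at hq
    obtain ⟨l, hl, rfl⟩ := (Finsupp.mem_span_image_iff_linearCombination K).mp hq
    rw [Finsupp.linearCombination_apply, Finsupp.sum] at hp ⊢
    have hstd : ∀ L ∈ l.support, IsStd φ L := fun L hL => (Finsupp.mem_supported K l).mp hl hL
    set q := ∑ L ∈ l.support, l L • listMon K L with hq
    have hqJ : ∀ χ ∈ T, q ∈ schubertVanishing K d n (W4bk4grassmannian.inf χ φ) := by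
      intro χ hχ
      have h1 := hp χ hχ
      have h2 := Groth.Agent.S11253.schubertVanishing_anti (K := K) (inf_le_right' χ φ) hiJ
      have h3 := (schubertVanishing K d n (W4bk4grassmannian.inf χ φ)).sub_mem h1 h2
      have e : q + i - i = q := by ring
      rwa [e] at h3
    have hmem : ∀ χ ∈ T, ∀ L ∈ l.support, ¬ IsStd (W4bk4grassmannian.inf χ φ) L := by
      intro χ hχ L hL hLstd
      have h1 := schubertVanishing_le_ker (W4bk4grassmannian.inf χ φ) q (hqJ χ hχ)
      rw [hq, map_sum] at h1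
      simp_rw [map_smul] at h1
      have h2 : ∑ L ∈ l.support.filter (fun L => IsStd (W4bk4grassmannian.inf χ φ) L),
          l L • ψ K (W4bk4grassmannian.inf χ φ) (listMon K L) = 0 := by
        rw [← h1]
        apply Finset.sum_subset (Finset.filter_subset _ _)
        intro M hM hnot
        have hMstd := hstd M hM
        have hnstd : ¬ IsStd (W4bk4grassmannian.inf χ φ) M :=
          fun hc => hnot (Finset.mem_filter.mpr ⟨hM, hc⟩)
        have : ∃ y ∈ M, ¬ y ≤ W4bk4grassmannian.inf χ φ := by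
          by_contra hcon
          push Not at hcon
          exact hnstd ⟨hMstd.1, hcon⟩
        obtain ⟨y, hy, hyφ⟩ := this
        rw [Groth.Agent.S11254.ψ_listMon_zero _ M y hy hyφ, smul_zero]
      have h3 := indep hd (W4bk4grassmannian.inf χ φ) _ (fun L => l L)
        (fun M hM => (Finset.mem_filter.mp hM).2) h2
      have h4 := h3 L (Finset.mem_filter.mpr ⟨hL, hLstd⟩)
      exact (Finsupp.mem_support_iff.mp hL) h4
    have hqT : q ∈ ⨅ χ ∈ T, schubertVanishing K d n χ := by
      simp only [Ideal.mem_iInf]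
      intro χ hχ
      rw [hq]
      apply Ideal.sum_mem
      intro L hL
      rw [MvPolynomial.smul_eq_C_mul]
      apply Ideal.mul_mem_left
      have hLstd := hstd L hL
      have hn := hmem χ hχ L hL
      have : ∃ y ∈ L, ¬ y ≤ χ := by
        by_contra hcon
        push Not at hcon
        apply hn
        refine ⟨hLstd.1, fun y hy => ?_⟩
        rw [le_inf_iff]
        exact ⟨hcon y hy, hLstd.2 y hy⟩
      obtain ⟨y, hy, hyχ⟩ := this
      have hdvd : (X y : PlRing K d n) ∣ listMon K L := by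
        unfold listMon
        exact List.dvd_prod (List.mem_map_of_mem hy)
      obtain ⟨z, hz⟩ := hdvd
      rw [hz]
      exact Ideal.mul_mem_right _ _ (X_mem_schubertVanishing χ y hyχ)
    exact Ideal.add_mem _ (Ideal.mem_sup_left hqT) (Ideal.mem_sup_right hiJ)

end

end Groth.Agent.Lib.Helper2.SchubertSum
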