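import Mathlib

/-!
# Short exactness of abelian sheaves from local conditions (general universes)
-/

namespace Groth.Agent.Helper2.ShLoc

universe w v₁ u₁

open CategoryTheory CategoryTheory.Limits Opposite

variable {C : Type u₁} [Category.{v₁} C] {J : GrothendieckTopology C}
  [HasSheafify J AddCommGrpCat.{w}] [J.HasSheafCompose (forget AddCommGrpCat.{w})]

theorem injective_of_mono {F G : Sheaf J AddCommGrpCat.{w}} (φ : F ⟶ G) [Mono φ] (W : Cᵒᵖ) :
    Function.Injective (φ.hom.app W) := by
  haveI : Mono ((sheafToPresheaf J AddCommGrpCat.{w}).map φ) := inferInstance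
  have h1 : Mono (((sheafToPresheaf J AddCommGrpCat.{w}).map φ).app W) :=
    (NatTrans.mono_iff_mono_app _).1 inferInstance W
  exact (AddCommGrpCat.mono_iff_injective _).1 h1

theorem shortExact_of_local (S : ShortComplex (Sheaf J AddCommGrpCat.{w})) [Mono S.f]
    (hsurj : Sheaf.IsLocallySurjective S.g)
    (hex : ∀ (W : C) (y : S.X₂.obj.obj (op W)), S.g.hom.app (op W) y = 0 →
      ∃ R ∈ J W, ∀ ⦃W' : C⦄ (k : W' ⟶ W), R k →
        ∃ x : S.X₁.obj.obj (op W'), S.f.hom.app (op W') x = S.X₂.obj.map k.op y) :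
    S.ShortExact := by
  haveI : Epi S.g := Sheaf.epi_of_isLocallySurjective S.g
  refine ShortComplex.ShortExact.mk ?_
  rw [S.exact_iff_epi_kernel_lift]
  let l := kernel.lift S.g S.f S.zero
  have hl : l ≫ kernel.ι S.g = S.f := kernel.lift_ι _ _ _
  suffices h : Sheaf.IsLocallySurjective l from Sheaf.epi_of_isLocallySurjective l
  constructor
  intro W z
  have hy : S.g.hom.app (op W) ((kernel.ι S.g).hom.app (op W) z) = 0 := by
    have h0 : kernel.ι S.g ≫ S.g = 0 := kernel.condition _
    have h1 := congrArg (fun φ => φ.hom.app (op W) z) h0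
    exact h1
  obtain ⟨R, hR, hR'⟩ := hex W _ hy
  refine J.superset_covering ?_ hR
  intro W' k hk
  obtain ⟨x, hx⟩ := hR' k hk
  refine ⟨x, ?_⟩
  apply injective_of_mono (kernel.ι S.g) (op W')
  have h2 : (kernel.ι S.g).hom.app (op W') (l.hom.app (op W') x) = S.f.hom.app (op W') x := by
    have h1 := congrArg (fun φ => φ.hom.app (op W') x) hl
    exact h1
  rw [h2, hx]
  exact (NatTrans.naturality_apply (kernel.ι S.g).hom k.op z).symm

end Groth.Agent.Helper2.ShLoc
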