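import Mathlib.Topology.Spectral.Basic
import Mathlib.Topology.Spectral.Prespectral
import Mathlib.Topology.Connected.Clopen
import Mathlib.Topology.Separation.Regular
import Mathlib.Topology.Separation.Profinite
import Mathlib.Topology.Connected.TotallyDisconnected
import Mathlib.Topology.Sober
import Groth.Agent.Lib.Helper2.SpectralQC

set_option autoImplicit false

namespace Groth.Agent.Helper2.SpectralProd

open Topology Set TopologicalSpace

section
variable {X : Type*} [TopologicalSpace X]

/-- The space of connected components of a quasi-compact quasi-separated prespectral space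
(e.g. a spectral space) is Hausdorff. -/
theorem t2_connectedComponents [CompactSpace X] [PrespectralSpace X] [QuasiSeparatedSpace X] :
    T2Space (ConnectedComponents X) := by
  refine ⟨ConnectedComponents.surjective_coe.forall₂.2 fun a b ne => ?_⟩
  rw [ConnectedComponents.coe_ne_coe] at ne
  have h := connectedComponent_disjoint ne
  rw [SpectralQC.connectedComponent_eq_iInter_isClopen b, disjoint_iff_inter_eq_empty] at h
  obtain ⟨U, V, hU, ha, hb, rfl⟩ : ∃ (U : Set X) (V : Set (ConnectedComponents X)),
      IsClopen U ∧ connectedComponent a ∩ U = ∅ ∧ connectedComponent b ⊆ U ∧ (↑) ⁻¹' V = U := by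
    have h :=
      (isClosed_connectedComponent (α := X)).isCompact.elim_finite_subfamily_closed
        _ (fun s : { s : Set X // IsClopen s ∧ b ∈ s } => s.2.1.1) h
    obtain ⟨fin_a, ha⟩ := h
    set U : Set X := ⋂ (i : { s // IsClopen s ∧ b ∈ s }) (_ : i ∈ fin_a), i
    have hU : IsClopen U := isClopen_biInter_finset fun i _ => i.2.1
    exact ⟨U, (↑) '' U, hU, ha, subset_iInter₂ fun s _ => s.2.1.connectedComponent_subset s.2.2,
      (connectedComponents_preimage_image U).symm ▸ hU.biUnion_connectedComponent_eq⟩
  rw [ConnectedComponents.isQuotientMap_coe.isClopen_preimage] at hU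
  refine ⟨Vᶜ, V, hU.compl.isOpen, hU.isOpen, ?_, hb mem_connectedComponent, disjoint_compl_left⟩
  exact fun h => flip Set.Nonempty.ne_empty ha ⟨a, mem_connectedComponent, h⟩

variable {T : Type*} [TopologicalSpace T]

/-- Product of a quasi-sober space with a totally disconnected Hausdorff space is quasi-sober. -/
theorem quasiSober_prod [QuasiSober X] [T2Space T] [TotallyDisconnectedSpace T] :
    QuasiSober (X × T) := by
  constructor
  intro S hirr hcl
  obtain ⟨⟨x0, t⟩, h0⟩ := hirr.nonempty
  -- second projection is constant on S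
  have hsnd : ∀ p ∈ S, p.2 = t := by
    intro p hp
    have hpre : IsPreconnected (Prod.snd '' S) :=
      (hirr.image Prod.snd continuous_snd.continuousOn).isConnected.isPreconnected
    have := isTotallyDisconnected_of_totallyDisconnectedSpace (Prod.snd '' S)
    exact (isTotallyDisconnected_of_totallyDisconnectedSpace (Prod.snd '' S)) _ (Subset.refl _)
      hpre ⟨p, hp, rfl⟩ ⟨(x0, t), h0, rfl⟩
  set S' : Set X := (fun x => (x, t)) ⁻¹' S with hS'
  have hS'cl : IsClosed S' := hcl.preimage (by fun_prop)
  have hS'eq : S' = Prod.fst '' S := by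
    ext x
    constructor
    · intro hx
      exact ⟨(x, t), hx, rfl⟩
    · rintro ⟨p, hp, rfl⟩
      have := hsnd p hp
      change (p.1, t) ∈ S
      rw [← this]
      exact hp
  have hS'irr : IsIrreducible S' := by
    rw [hS'eq]
    exact hirr.image Prod.fst continuous_fst.continuousOn
  obtain ⟨x, hx⟩ := QuasiSober.sober hS'irr hS'cl
  refine ⟨(x, t), ?_⟩
  have hSeq : S = S' ×ˢ {t} := by
    ext p
    constructor
    · intro hp
      refine ⟨?_, hsnd p hp⟩
      change (p.1, t) ∈ S
      rw [← hsnd p hp]
      exact hp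
    · rintro ⟨h1, h2⟩
      have h2' : p.2 = t := h2
      have : p = (p.1, t) := by rw [← h2']
      rw [this]
      exact h1
  rw [isGenericPoint_def, ← Set.singleton_prod_singleton, closure_prod_eq,
    closure_singleton (x := t), hx.def, hSeq]

/-- Product of a spectral space and a profinite space is spectral. -/
theorem spectralSpace_prod [SpectralSpace X] [CompactSpace T] [T2Space T]
    [TotallyDisconnectedSpace T] : SpectralSpace (X × T) := by
  have hB : IsTopologicalBasis (Set.image2 (· ×ˢ ·) { U : Set X | IsOpen U ∧ IsCompact U }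
      { V : Set T | IsClopen V }) :=
    PrespectralSpace.isTopologicalBasis.prod isTopologicalBasis_isClopen
  let ι := { U : Set X // IsOpen U ∧ IsCompact U } × { V : Set T // IsClopen V }
  let b : ι → Set (X × T) := fun i => i.1.1 ×ˢ i.2.1
  have hrange : Set.range b = Set.image2 (· ×ˢ ·) { U : Set X | IsOpen U ∧ IsCompact U }
      { V : Set T | IsClopen V } := by
    ext W
    constructor
    · rintro ⟨⟨⟨U, hU⟩, ⟨V, hV⟩⟩, rfl⟩
      exact ⟨U, hU, V, hV, rfl⟩
    · rintro ⟨U, hU, V, hV, rfl⟩
      exact ⟨⟨⟨U, hU⟩, ⟨V, hV⟩⟩, rfl⟩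
  have hB' : IsTopologicalBasis (Set.range b) := hrange ▸ hB
  have hcomp : ∀ i j, IsCompact (b i ∩ b j) := by
    rintro ⟨⟨U, hU⟩, ⟨V, hV⟩⟩ ⟨⟨U', hU'⟩, ⟨V', hV'⟩⟩
    change IsCompact ((U ×ˢ V) ∩ (U' ×ˢ V'))
    rw [Set.prod_inter_prod]
    exact (QuasiSeparatedSpace.inter_isCompact U U' hU.1 hU.2 hU'.1 hU'.2).prod
      (hV.1.inter hV'.1).isCompact
  exact
    { toT0Space := inferInstance
      toCompactSpace := inferInstance
      toQuasiSober := quasiSober_prod
      toQuasiSeparatedSpace := QuasiSeparatedSpace.of_isTopologicalBasis hB' hcomp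
      toPrespectralSpace := PrespectralSpace.of_isTopologicalBasis' hB' (fun i => by
        simpa using hcomp i i) }

/-- A closed subspace of a spectral space is spectral. -/
theorem spectralSpace_of_isClosedEmbedding {Y Z : Type*} [TopologicalSpace Y] [TopologicalSpace Z]
    [SpectralSpace Z] (f : Y → Z) (hf : IsClosedEmbedding f) : SpectralSpace Y := by
  haveI : PrespectralSpace Y := PrespectralSpace.of_isClosedEmbedding f hf
  let ι := { U : Set Z // IsOpen U ∧ IsCompact U }
  let b : ι → Set Y := fun i => f ⁻¹' i.1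
  have hB : IsTopologicalBasis (Set.range b) := by
    have := (PrespectralSpace.isTopologicalBasis (X := Z)).isInducing hf.isInducing
    convert this using 1
    ext W
    constructor
    · rintro ⟨⟨U, hU⟩, rfl⟩
      exact ⟨U, hU, rfl⟩
    · rintro ⟨U, hU, rfl⟩
      exact ⟨⟨U, hU⟩, rfl⟩
  have hcomp : ∀ i j, IsCompact (b i ∩ b j) := by
    rintro ⟨U, hU⟩ ⟨U', hU'⟩
    change IsCompact (f ⁻¹' U ∩ f ⁻¹' U')
    rw [← Set.preimage_inter]
    exact hf.isCompact_preimage
      (QuasiSeparatedSpace.inter_isCompact U U' hU.1 hU.2 hU'.1 hU'.2)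
  exact
    { toT0Space := hf.isEmbedding.t0Space
      toCompactSpace := hf.compactSpace
      toQuasiSober := hf.quasiSober
      toQuasiSeparatedSpace := QuasiSeparatedSpace.of_isTopologicalBasis hB hcomp
      toPrespectralSpace := inferInstance }
end
end Groth.Agent.Helper2.SpectralProd
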