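import Mathlib

set_option autoImplicit false
universe u v w

namespace Groth.Agent.Helper2.SpreadOut

section Base
variable {A : Type u} [CommRing A]

/-- `A_f → L` when `f` is a unit in the `A`-algebra `L`. -/
noncomputable def awayLiftₐ (f : A) (L : Type v) [CommRing L] [Algebra A L]
    (hf : IsUnit (algebraMap A L f)) : Localization.Away f →ₐ[A] L :=
  IsLocalization.liftAlgHom (M := Submonoid.powers f) (f := Algebra.ofId A L) (fun y => by
    obtain ⟨n, hn⟩ := y.2
    rw [← hn, map_pow]
    exact hf.pow n)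

theorem away_algHom_ext (f : A) {L : Type v} [CommRing L] [Algebra A L]
    (φ ψ : Localization.Away f →ₐ[A] L) : φ = ψ :=
  (IsLocalization.algHom_subsingleton (Submonoid.powers f)).elim φ ψ

/-- an element of `A_f` dying in `A_p` is killed by some `u ∉ p`. -/
theorem exists_mul_eq_zero (p : Ideal A) [p.IsPrime] (f : A)
    (φ : Localization.Away f →ₐ[A] Localization.AtPrime p) (x : Localization.Away f)
    (hx : φ x = 0) : ∃ u : A, u ∉ p ∧ algebraMap A (Localization.Away f) u * x = 0 := by
  obtain ⟨c, s, rfl⟩ := IsLocalization.exists_mk'_eq (Submonoid.powers f) x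
  have h1 : algebraMap A (Localization.AtPrime p) c = 0 := by
    have := congrArg φ (IsLocalization.mk'_spec (Localization.Away f) c s)
    rw [map_mul, hx, zero_mul, AlgHom.commutes] at this
    exact this.symm
  obtain ⟨u, hu⟩ := (IsLocalization.map_eq_zero_iff p.primeCompl _ _).1 h1
  refine ⟨u, u.2, ?_⟩
  rw [IsLocalization.mul_mk'_eq_mk'_of_mul, hu, IsLocalization.mk'_zero]

/-- **Lifting** a map from a finitely presented algebra to `A_p` to some `A_f`. -/
theorem exists_lift (p : Ideal A) [p.IsPrime] {B : Type v} [CommRing B] [Algebra A B]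
    [Algebra.FinitePresentation A B] (ψ : B →ₐ[A] Localization.AtPrime p) :
    ∃ (f : A) (_ : f ∉ p) (θ : B →ₐ[A] Localization.Away f)
      (ι : Localization.Away f →ₐ[A] Localization.AtPrime p), ι.comp θ = ψ := by
  classical
  obtain ⟨n, π, hπ, T, hT⟩ := Algebra.FinitePresentation.out (R := A) (A := B)
  obtain ⟨b, hb⟩ := IsLocalization.exist_integer_multiples_of_finite p.primeCompl
    (fun i : Fin n => ψ (π (MvPolynomial.X i)))
  choose a ha using hb
  have hbu : IsUnit (algebraMap A (Localization.AtPrime p) (b : A)) :=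
    IsLocalization.map_units (Localization.AtPrime p) b
  let ι0 : Localization.Away (b : A) →ₐ[A] Localization.AtPrime p := awayLiftₐ (b : A) _ hbu
  let z : Fin n → Localization.Away (b : A) := fun i =>
    IsLocalization.mk' _ (a i) (⟨b, Submonoid.mem_powers _⟩ : Submonoid.powers (b : A))
  let φ0 : MvPolynomial (Fin n) A →ₐ[A] Localization.Away (b : A) := MvPolynomial.aeval z
  have h0 : ι0.comp φ0 = ψ.comp π := by
    apply MvPolynomial.algHom_ext
    intro i
    simp only [AlgHom.comp_apply, φ0, MvPolynomial.aeval_X, z]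
    have h1 := congrArg ι0 (IsLocalization.mk'_spec (Localization.Away (b : A)) (a i)
      (⟨b, Submonoid.mem_powers _⟩ : Submonoid.powers (b : A)))
    rw [map_mul, AlgHom.commutes, AlgHom.commutes, ha i, Algebra.smul_def, mul_comm] at h1
    exact hbu.mul_left_cancel h1
  have hkill : ∀ t ∈ T, ∃ u : A, u ∉ p ∧ algebraMap A (Localization.Away (b : A)) u * φ0 t = 0 := by
    intro t ht
    apply exists_mul_eq_zero p b ι0
    have h1 : π t = 0 := by
      have : t ∈ RingHom.ker π.toRingHom := hT ▸ Ideal.subset_span ht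
      exact this
    have h2 : ι0 (φ0 t) = ψ (π t) := AlgHom.congr_fun h0 t
    rw [h2, h1, map_zero]
  choose! u hu hu0 using hkill
  have hU : (∏ t ∈ T, u t) ∉ p := by
    rw [Ideal.IsPrime.prod_mem_iff]
    push Not
    exact hu
  have hUk : ∀ t ∈ T, algebraMap A (Localization.Away (b : A)) (∏ t ∈ T, u t) * φ0 t = 0 := by
    intro t ht
    rw [← Finset.mul_prod_erase T u ht, map_mul, mul_right_comm, hu0 t ht, zero_mul]
  set f : A := b * ∏ t ∈ T, u t with hfdef
  have hf : f ∉ p := fun h => (Ideal.IsPrime.mem_or_mem ‹_› h).elim b.2 hU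
  let ρ : Localization.Away (b : A) →ₐ[A] Localization.Away f :=
    awayLiftₐ (b : A) _ (IsLocalization.Away.isUnit_of_dvd f (Dvd.intro _ rfl))
  have hρ : ∀ t ∈ T, ρ (φ0 t) = 0 := by
    intro t ht
    have h1 := congrArg ρ (hUk t ht)
    rw [map_mul, map_zero, AlgHom.commutes] at h1
    have hUu : IsUnit (algebraMap A (Localization.Away f) (∏ t ∈ T, u t)) :=
      IsLocalization.Away.isUnit_of_dvd f (Dvd.intro_left _ rfl)
    exact (hUu.mul_right_eq_zero).1 h1
  let θ : B →ₐ[A] Localization.Away f := AlgHom.liftOfSurjective π hπ (ρ.comp φ0) (by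
    rw [← hT, Ideal.span_le]
    intro t ht
    exact hρ t ht)
  have hfu : IsUnit (algebraMap A (Localization.AtPrime p) f) :=
    IsLocalization.map_units (Localization.AtPrime p) (⟨f, hf⟩ : p.primeCompl)
  refine ⟨f, hf, θ, awayLiftₐ f _ hfu, ?_⟩
  ext x
  obtain ⟨P, rfl⟩ := hπ x
  have h1 : θ (π P) = ρ (φ0 P) := AlgHom.liftOfSurjective_apply π hπ _ _ P
  have h2 : (awayLiftₐ f _ hfu).comp ρ = ι0 := away_algHom_ext _ _ _
  rw [AlgHom.comp_apply, h1, ← AlgHom.comp_apply, h2]
  exact AlgHom.congr_fun h0 P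

end Base

section General
open TensorProduct

/-- **Lifting**, relative version. -/
theorem exists_lift' {R : Type u} [CommRing R] {S : Type v} [CommRing S] [Algebra R S]
    (q : Ideal S) [q.IsPrime]
    {B : Type w} [CommRing B] [Algebra R B] [Algebra.FinitePresentation R B]
    (ψ : B →ₐ[R] Localization.AtPrime q) :
    ∃ (g : S) (_ : g ∉ q) (θ : B →ₐ[R] Localization.Away g)
      (ι : Localization.Away g →ₐ[S] Localization.AtPrime q), ∀ b, ι (θ b) = ψ b := by
  let ψ' : S ⊗[R] B →ₐ[S] Localization.AtPrime q :=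
    Algebra.TensorProduct.lift (Algebra.ofId S _) ψ (fun _ _ => Commute.all _ _)
  obtain ⟨g, hg, θ', ι, h⟩ := exists_lift q ψ'
  refine ⟨g, hg, (θ'.restrictScalars R).comp Algebra.TensorProduct.includeRight, ι, fun b => ?_⟩
  have := AlgHom.congr_fun h ((1 : S) ⊗ₜ[R] b)
  simpa [ψ'] using this

end General

section LocalIso
variable {A : Type u} [CommRing A]

/-- **Local isomorphism spreads out.** -/
theorem local_iso (p : Ideal A) [p.IsPrime] {B : Type v} [CommRing B] [Algebra A B]
    [Algebra.FinitePresentation A B] (lam : B →ₐ[A] Localization.AtPrime p)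
    (H1 : ∀ b : B, lam b = 0 → ∃ g : B, IsUnit (lam g) ∧ g * b = 0) :
    ∃ h : B, IsUnit (lam h) ∧ ∃ f : A, f ∉ p ∧
      Nonempty (Localization.Away h ≃ₐ[A] Localization.Away f) := by
  classical
  obtain ⟨f0, hf0, θ, ι0, hθ⟩ := exists_lift p lam
  obtain ⟨s, hs⟩ := (Algebra.FiniteType.out : (⊤ : Subalgebra A B).FG)
  -- step 3
  have h3 : ∀ b : B, ∃ g : B, IsUnit (lam g) ∧ ∃ (n : ℕ) (a : A),
      θ b * algebraMap A _ f0 ^ n = algebraMap A _ a ∧
      g * (algebraMap A B a - algebraMap A B f0 ^ n * b) = 0 := by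
    intro b
    obtain ⟨n, a, hna⟩ := IsLocalization.Away.surj f0 (θ b)
    have : lam (algebraMap A B a - algebraMap A B f0 ^ n * b) = 0 := by
      rw [map_sub, map_mul, map_pow, AlgHom.commutes, AlgHom.commutes, ← hθ, AlgHom.comp_apply,
        ← ι0.commutes a, ← hna, map_mul, map_pow, AlgHom.commutes]
      ring
    obtain ⟨g, hg, hg0⟩ := H1 _ this
    exact ⟨g, hg, n, a, hna, hg0⟩
  choose g hg n a hna hg0 using h3
  have hf0u : IsUnit (algebraMap A (Localization.AtPrime p) f0) :=
    IsLocalization.map_units (Localization.AtPrime p) (⟨f0, hf0⟩ : p.primeCompl)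
  set h : B := algebraMap A B f0 * ∏ b ∈ s, g b with hh
  have hhu : IsUnit (lam h) := by
    rw [hh, map_mul, AlgHom.commutes, map_prod]
    exact hf0u.mul (Finset.prod_induction _ IsUnit (fun _ _ => IsUnit.mul) isUnit_one fun b _ => hg b)
  -- units in B_h
  have hu1 : IsUnit (algebraMap A (Localization.Away h) f0) := by
    rw [IsScalarTower.algebraMap_apply A B (Localization.Away h)]
    exact IsLocalization.Away.isUnit_of_dvd h (Dvd.intro _ rfl)
  have hu2 : ∀ b ∈ s, IsUnit (algebraMap B (Localization.Away h) (g b)) := fun b hb =>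
    IsLocalization.Away.isUnit_of_dvd h
      ⟨algebraMap A B f0 * ∏ x ∈ s.erase b, g x, by rw [hh, ← Finset.mul_prod_erase s g hb]; ring⟩
  let σ0 : Localization.Away f0 →ₐ[A] Localization.Away h := awayLiftₐ f0 _ hu1
  -- step 5
  have h5 : σ0.comp θ = IsScalarTower.toAlgHom A B (Localization.Away h) := by
    apply AlgHom.ext_of_adjoin_eq_top hs
    intro b hb
    rw [AlgHom.comp_apply, IsScalarTower.coe_toAlgHom']
    have e1 := congrArg σ0 (hna b)
    rw [map_mul, map_pow, AlgHom.commutes, AlgHom.commutes] at e1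
    have e2 : algebraMap B (Localization.Away h) (algebraMap A B (a b) - algebraMap A B f0 ^ n b * b)
        = 0 := by
      have := congrArg (algebraMap B (Localization.Away h)) (hg0 b)
      rw [map_mul, map_zero] at this
      exact ((hu2 b hb).mul_right_eq_zero).1 this
    rw [map_sub, map_mul, map_pow, ← IsScalarTower.algebraMap_apply,
      ← IsScalarTower.algebraMap_apply, sub_eq_zero] at e2
    have e3 : σ0 (θ b) * algebraMap A (Localization.Away h) f0 ^ n b =
        algebraMap B (Localization.Away h) b * algebraMap A (Localization.Away h) f0 ^ n b := by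
      rw [e1, e2, mul_comm]
    exact (hu1.pow _).mul_left_injective e3
  -- step 6
  obtain ⟨m, c, hmc⟩ := IsLocalization.Away.surj f0 (θ h)
  have hcu : IsUnit (algebraMap A (Localization.AtPrime p) c) := by
    have := congrArg ι0 hmc
    rw [map_mul, map_pow, AlgHom.commutes, AlgHom.commutes, ← AlgHom.comp_apply, hθ] at this
    rw [← this]
    exact hhu.mul (hf0u.pow m)
  have hc : c ∉ p := by
    have := (IsLocalization.AtPrime.isUnit_to_map_iff (Localization.AtPrime p) p c).1 hcu
    exact this
  -- step 7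
  set f : A := f0 * c with hf
  have hfp : f ∉ p := fun hmem => (Ideal.IsPrime.mem_or_mem ‹_› hmem).elim hf0 hc
  let ρ : Localization.Away f0 →ₐ[A] Localization.Away f :=
    awayLiftₐ f0 _ (IsLocalization.Away.isUnit_of_dvd f (Dvd.intro _ rfl))
  have h7 : IsUnit (ρ (θ h)) := by
    have := congrArg ρ hmc
    rw [map_mul, map_pow, AlgHom.commutes, AlgHom.commutes] at this
    have hcu' : IsUnit (algebraMap A (Localization.Away f) c) :=
      IsLocalization.Away.isUnit_of_dvd f (Dvd.intro_left _ rfl)
    rw [← this] at hcu'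
    exact isUnit_of_mul_isUnit_left hcu'
  let Θ : Localization.Away h →ₐ[A] Localization.Away f :=
    IsLocalization.liftAlgHom (M := Submonoid.powers h) (f := ρ.comp θ) (fun y => by
      obtain ⟨k, hk⟩ := y.2
      rw [← hk, map_pow]
      exact h7.pow k)
  -- step 8
  have h8 : IsUnit (algebraMap A (Localization.Away h) c) := by
    have e1 := congrArg σ0 hmc
    rw [map_mul, map_pow, AlgHom.commutes, AlgHom.commutes, ← AlgHom.comp_apply, h5,
      IsScalarTower.coe_toAlgHom'] at e1
    rw [← e1]
    exact (IsLocalization.Away.algebraMap_isUnit h).mul (hu1.pow m)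
  let Sg : Localization.Away f →ₐ[A] Localization.Away h :=
    awayLiftₐ f _ (by rw [hf, map_mul]; exact hu1.mul h8)
  refine ⟨h, hhu, f, hfp, ⟨AlgEquiv.ofAlgHom Θ Sg (away_algHom_ext _ _ _) ?_⟩⟩
  -- Sg ∘ Θ = id
  apply AlgHom.coe_ringHom_injective
  apply IsLocalization.ringHom_ext (Submonoid.powers h)
  ext b
  have e1 : Θ (algebraMap B _ b) = ρ (θ b) := by
    simp only [Θ, IsLocalization.liftAlgHom_apply, IsLocalization.lift_eq]
    rfl
  have e2 : Sg.comp ρ = σ0 := away_algHom_ext _ _ _
  show Sg (Θ (algebraMap B _ b)) = algebraMap B _ b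
  rw [e1, ← AlgHom.comp_apply, e2, ← AlgHom.comp_apply, h5, IsScalarTower.coe_toAlgHom']

end LocalIso

end Groth.Agent.Helper2.SpreadOut
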