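import Mathlib
import Groth.Prelude.Def_LCI2
import Groth.Agent.Lib.Helper2.KosDescent2

/-!
# A Koszul-regular ideal `K = J' + K²` is generated near a prime by a Koszul-regular sequence
of elements of `J'`
-/

set_option autoImplicit false
universe u

namespace Groth.Agent.Helper2.SyLift

open Groth.Agent.Helper2.KosReg Groth.Agent.Helper2.KosIdeal Groth.Agent.Helper2.KosDescent

/-- Nakayama. -/
theorem exists_nak_elt {A : Type u} [CommRing A] (K J' : Ideal A) (hKfg : K.FG)
    (hKJ' : K ≤ J' ⊔ K * K) : ∃ t : A, t - 1 ∈ K ∧ ∀ k ∈ K, t * k ∈ J' := by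
  have h𝔟fg : (Ideal.map (Ideal.Quotient.mk J') K).FG := hKfg.map _
  have h𝔟sq : (Ideal.map (Ideal.Quotient.mk J') K : Submodule (A ⧸ J') (A ⧸ J')) ≤
      (Ideal.map (Ideal.Quotient.mk J') K) •
        (Ideal.map (Ideal.Quotient.mk J') K : Submodule (A ⧸ J') (A ⧸ J')) := by
    have h1 := Ideal.map_mono (f := Ideal.Quotient.mk J') hKJ'
    rw [Ideal.map_sup, Ideal.map_quotient_self, bot_sup_eq, Ideal.map_mul] at h1
    exact h1
  obtain ⟨rbar, hrbar1, hrbar2⟩ := Submodule.exists_sub_one_mem_and_smul_eq_zero_of_fg_of_le_smul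
    (Ideal.map (Ideal.Quotient.mk J') K) (Ideal.map (Ideal.Quotient.mk J') K) h𝔟fg h𝔟sq
  obtain ⟨a₁, ha₁, ha₁'⟩ :=
    (Ideal.mem_map_iff_of_surjective (Ideal.Quotient.mk J') Ideal.Quotient.mk_surjective).mp hrbar1
  refine ⟨1 + a₁, by rw [add_sub_cancel_left]; exact ha₁, fun k hk => ?_⟩
  rw [← Ideal.Quotient.eq_zero_iff_mem, map_mul, map_add, map_one, ha₁', add_sub_cancel]
  exact hrbar2 _ (Ideal.mem_map_of_mem _ hk)

/-- transport of a Koszul-regular sequence of images from a double localization to a single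
one -/
theorem kr_ofFn_of_away {C : Type u} [CommRing C] (G : C) (t : Localization.Away G) {c : ℕ}
    (f : Fin c → C) (𝔭 : Ideal C) [h𝔭 : 𝔭.IsPrime] (hG : G ∉ 𝔭)
    (ht : t ∉ 𝔭.map (algebraMap C (Localization.Away G)))
    (h : LCI.IsKoszulRegularSeq (Localization.Away t)
      (List.ofFn fun j => algebraMap (Localization.Away G) (Localization.Away t)
        (algebraMap C (Localization.Away G) (f j)))) :
    ∃ t' : C, G * t' ∉ 𝔭 ∧ LCI.IsKoszulRegularSeq (Localization.Away (G * t'))
      (List.ofFn fun j => algebraMap C (Localization.Away (G * t')) (f j)) := by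
  obtain ⟨k, t', ht'⟩ := IsLocalization.Away.surj G t
  have hu : IsUnit (algebraMap C (Localization.Away G) G ^ k) :=
    IsLocalization.Away.algebraMap_pow_isUnit G k
  have ht'p : t' ∉ 𝔭 := by
    intro hmem
    apply ht
    have h1 : t = algebraMap C (Localization.Away G) t' * ↑hu.unit⁻¹ := by
      rw [← ht', mul_assoc, IsUnit.mul_val_inv, mul_one]
    rw [h1]
    exact Ideal.mul_mem_right _ _ (Ideal.mem_map_of_mem _ hmem)
  have hassoc : Associated t (algebraMap C (Localization.Away G) t') :=
    ⟨hu.unit, by rw [← ht']; rfl⟩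
  haveI : IsLocalization.Away (algebraMap C (Localization.Away G) t') (Localization.Away t) :=
    IsLocalization.Away.of_associated hassoc
  haveI : IsLocalization.Away (G * t') (Localization.Away t) :=
    IsLocalization.Away.mul' (Localization.Away G) (Localization.Away t) G t'
  refine ⟨t', ?_, ?_⟩
  · intro hmem
    rcases h𝔭.mem_or_mem hmem with h | h
    · exact hG h
    · exact ht'p h
  · let e : Localization.Away t ≃ₐ[C] Localization.Away (G * t') :=
      IsLocalization.algEquiv (Submonoid.powers (G * t')) (Localization.Away t)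
        (Localization.Away (G * t'))
    have h1 := isKoszulRegularSeq_ringEquiv e.toRingEquiv _ h
    rw [List.map_ofFn] at h1
    convert h1 using 2
    funext j
    simp only [Function.comp_apply]
    rw [← IsScalarTower.algebraMap_apply C (Localization.Away G) (Localization.Away t)]
    exact (e.commutes (f j)).symm

/-- Lemma A'. -/
theorem exists_kr_gen {A : Type u} [CommRing A] (K J' : Ideal A)
    (hK : LCI.IsKoszulRegularIdeal K) (hKfg : K.FG)
    (hJ'K : J' ≤ K) (hKJ' : K ≤ J' ⊔ K * K)
    (𝔮 : Ideal A) [h𝔮 : 𝔮.IsPrime] (hK𝔮 : K ≤ 𝔮) :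
    ∃ (c : ℕ) (f : Fin c → A) (s : A), (∀ j, f j ∈ J') ∧ s ∉ 𝔮 ∧
      LCI.IsKoszulRegularSeq (Localization.Away s)
        (List.ofFn fun j => algebraMap A (Localization.Away s) (f j)) ∧
      K.map (algebraMap A (Localization.Away s)) =
        Ideal.span (Set.range fun j => algebraMap A (Localization.Away s) (f j)) := by
  classical
  obtain ⟨t, ht1, htK⟩ := exists_nak_elt K J' hKfg hKJ'
  have ht𝔮 : t ∉ 𝔮 := by
    intro h
    have h1 : (1 : A) ∈ 𝔮 := by
      have := 𝔮.sub_mem h (hK𝔮 ht1)
      rwa [sub_sub_cancel] at this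
    exact h𝔮.ne_top ((Ideal.eq_top_iff_one _).mpr h1)
  obtain ⟨g, hg, l, hl, hKl⟩ := hK ⟨𝔮, h𝔮⟩ hK𝔮
  have hG𝔮 : g * t ∉ 𝔮 := fun h => (h𝔮.mem_or_mem h).elim hg ht𝔮
  let φ₁ : Localization.Away g →+* Localization.Away (g * t) :=
    IsLocalization.Away.awayToAwayRight g t
  have hφ₁ : φ₁.comp (algebraMap A (Localization.Away g)) =
      algebraMap A (Localization.Away (g * t)) := by
    ext a
    exact IsLocalization.Away.awayToAwayRight_eq g t a
  have hKA₁ : K.map (algebraMap A (Localization.Away (g * t))) =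
      Ideal.span (Set.range fun j : Fin l.length => φ₁ (l.get j)) := by
    rw [← hφ₁, ← Ideal.map_map, hKl, Ideal.map_span]
    congr 1
    ext x
    constructor
    · rintro ⟨y, hy, rfl⟩
      obtain ⟨j, rfl⟩ := List.get_of_mem hy
      exact ⟨j, rfl⟩
    · rintro ⟨j, rfl⟩
      exact ⟨l.get j, List.get_mem _ _, rfl⟩
  have hut : IsUnit (algebraMap A (Localization.Away (g * t)) t) :=
    IsLocalization.Away.isUnit_of_dvd (g * t) ⟨g, mul_comm g t⟩
  have hKJ₁ : K.map (algebraMap A (Localization.Away (g * t))) ≤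
      J'.map (algebraMap A (Localization.Away (g * t))) := by
    rw [Ideal.map_le_iff_le_comap]
    intro k hk
    rw [Ideal.mem_comap]
    have h1 : algebraMap A (Localization.Away (g * t)) (t * k) ∈
        J'.map (algebraMap A (Localization.Away (g * t))) := Ideal.mem_map_of_mem _ (htK k hk)
    rw [map_mul] at h1
    exact (Ideal.unit_mul_mem_iff_mem _ hut).mp h1
  have hex : ∀ j : Fin l.length, ∃ a ∈ J', ∃ n : ℕ,
      φ₁ (l.get j) * algebraMap A (Localization.Away (g * t)) ((g * t) ^ n) =
        algebraMap A (Localization.Away (g * t)) a := by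
    intro j
    have h1 : φ₁ (l.get j) ∈ J'.map (algebraMap A (Localization.Away (g * t))) := by
      apply hKJ₁
      rw [hKA₁]
      exact Ideal.subset_span ⟨j, rfl⟩
    obtain ⟨⟨⟨a, ha⟩, ⟨_, n, rfl⟩⟩, h2⟩ :=
      (IsLocalization.mem_map_algebraMap_iff (Submonoid.powers (g * t))
        (Localization.Away (g * t))).mp h1
    exact ⟨a, ha, n, h2⟩
  choose f hfJ n hfn using hex
  have hunit : ∀ j, IsUnit (algebraMap A (Localization.Away (g * t)) ((g * t) ^ (n j))) := by
    intro j
    rw [map_pow]
    exact IsLocalization.Away.algebraMap_pow_isUnit _ _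
  have hspan₁ : Ideal.span (Set.range fun j => algebraMap A (Localization.Away (g * t)) (f j)) =
      K.map (algebraMap A (Localization.Away (g * t))) := by
    rw [hKA₁]
    apply le_antisymm
    · rw [Ideal.span_le]
      rintro _ ⟨j, rfl⟩
      show algebraMap A (Localization.Away (g * t)) (f j) ∈ _
      rw [← hfn j]
      exact Ideal.mul_mem_right _ _ (Ideal.subset_span ⟨j, rfl⟩)
    · rw [Ideal.span_le]
      rintro _ ⟨j, rfl⟩
      have h1 : φ₁ (l.get j) = algebraMap A (Localization.Away (g * t)) (f j) *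
          ↑(hunit j).unit⁻¹ := by
        rw [← hfn j, mul_assoc, IsUnit.mul_val_inv, mul_one]
      show φ₁ (l.get j) ∈ _
      rw [h1]
      exact Ideal.mul_mem_right _ _ (Ideal.subset_span ⟨j, rfl⟩)
  haveI : Module.Flat A (Localization.Away (g * t)) :=
    IsLocalization.flat (Localization.Away (g * t)) (Submonoid.powers (g * t))
  have hKR₁ : LCI.IsKoszulRegularIdeal (K.map (algebraMap A (Localization.Away (g * t)))) :=
    kr_map_of_flat K hK
  obtain ⟨l'', hlen, hl'', hKl''⟩ :=
    chart_map_of_flat (B := A) (B'' := Localization.Away (g * t)) K g l hl hKl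
  have hdisj : Disjoint (Submonoid.powers (g * t) : Set A) (𝔮 : Set A) := by
    rw [Set.disjoint_left]
    rintro x ⟨m, rfl⟩ hx
    exact hG𝔮 (h𝔮.mem_of_pow_mem m hx)
  haveI hprime : (𝔮.map (algebraMap A (Localization.Away (g * t)))).IsPrime :=
    IsLocalization.isPrime_of_isPrime_disjoint (Submonoid.powers (g * t)) _ _ h𝔮 hdisj
  have hcomap : (𝔮.map (algebraMap A (Localization.Away (g * t)))).comap
      (algebraMap A (Localization.Away (g * t))) = 𝔮 :=
    IsLocalization.under_map_of_isPrime_disjoint (Submonoid.powers (g * t)) _ h𝔮 hdisj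
  have hg₁ : algebraMap A (Localization.Away (g * t)) g ∉
      𝔮.map (algebraMap A (Localization.Away (g * t))) := by
    intro hmem
    have h1 : g ∈ (𝔮.map (algebraMap A (Localization.Away (g * t)))).comap
        (algebraMap A (Localization.Away (g * t))) := hmem
    rw [hcomap] at h1
    exact hg h1
  have hid : (Ideal.span (Set.range fun j => algebraMap A (Localization.Away (g * t)) (f j))).map
      (algebraMap (Localization.Away (g * t)) (Localization.Away (g * t))) =
      K.map (algebraMap A (Localization.Away (g * t))) := by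
    rw [Algebra.algebraMap_self, Ideal.map_id]
    exact hspan₁
  obtain ⟨s₁, hs₁, hkr₁⟩ := stage2 (A := Localization.Away (g * t))
    (B := Localization.Away (g * t))
    (fun j => algebraMap A (Localization.Away (g * t)) (f j)) (by rw [hid]; exact hKR₁)
    (𝔮.map (algebraMap A (Localization.Away (g * t))))
    (by rw [hid]; exact Ideal.map_mono hK𝔮)
    (algebraMap A (Localization.Away (g * t)) g) hg₁ l'' hl'' (by rw [hid]; exact hKl'') hlen
  have hs₁' : s₁ ∉ 𝔮.map (algebraMap A (Localization.Away (g * t))) := by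
    intro hmem
    apply hs₁
    rw [Algebra.algebraMap_self]
    exact hmem
  obtain ⟨t', hGt', hkr⟩ := kr_ofFn_of_away (g * t) s₁ f 𝔮 hG𝔮 hs₁' hkr₁
  refine ⟨l.length, f, (g * t) * t', hfJ, hGt', hkr, ?_⟩
  apply le_antisymm
  · rw [Ideal.map_le_iff_le_comap]
    intro k hk
    rw [Ideal.mem_comap]
    have h1 : algebraMap A (Localization.Away (g * t)) k ∈
        (Ideal.span (Set.range f)).map (algebraMap A (Localization.Away (g * t))) := by
      rw [Ideal.map_span, ← Set.range_comp]
      have : (algebraMap A (Localization.Away (g * t))) ∘ f =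
          fun j => algebraMap A (Localization.Away (g * t)) (f j) := rfl
      rw [this, hspan₁]
      exact Ideal.mem_map_of_mem _ hk
    obtain ⟨⟨⟨a, ha⟩, ⟨_, m, rfl⟩⟩, h2⟩ :=
      (IsLocalization.mem_map_algebraMap_iff (Submonoid.powers (g * t))
        (Localization.Away (g * t))).mp h1
    rw [← map_mul] at h2
    obtain ⟨⟨_, m', rfl⟩, h3⟩ := (IsLocalization.eq_iff_exists (Submonoid.powers (g * t))
      (Localization.Away (g * t))).mp h2
    have h4 : ((g * t) ^ m' * (g * t) ^ m) * k ∈ Ideal.span (Set.range f) := by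
      have : ((g * t) ^ m' * (g * t) ^ m) * k = (g * t) ^ m' * (k * (g * t) ^ m) := by ring
      rw [this, h3]
      exact Ideal.mul_mem_left _ _ ha
    have h5 := Ideal.mem_map_of_mem (algebraMap A (Localization.Away (g * t * t'))) h4
    rw [Ideal.map_span, ← Set.range_comp, map_mul] at h5
    have hu : IsUnit (algebraMap A (Localization.Away (g * t * t'))
        ((g * t) ^ m' * (g * t) ^ m)) := by
      rw [← pow_add, map_pow]
      exact (IsLocalization.Away.isUnit_of_dvd (g * t * t') ⟨t', rfl⟩).pow _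
    exact (Ideal.unit_mul_mem_iff_mem _ hu).mp h5
  · rw [Ideal.span_le]
    rintro _ ⟨j, rfl⟩
    exact Ideal.mem_map_of_mem _ (hJ'K (hfJ j))

end Groth.Agent.Helper2.SyLift
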