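import Mathlib
import Groth.Prelude.Def_LCI2
import Groth.Prelude.Def_RegImm
import Groth.Agent.Lib.Helper27.SyntAway
import Groth.Agent.Lib.Helper2.KosIdeal
import Groth.Agent.Lib.Helper2.LCIComp2
import Groth.Agent.S9287
import Groth.Agent.S15821

/-!
# The quotient of a smooth algebra by a transversally regular sequence is syntomic
-/

set_option autoImplicit false
universe u

namespace Groth.Agent.Helper2.SyLift

open Groth.Agent.Helper2.KosReg Groth.Agent.Helper2.KosIdeal

/-- the ideal generated by a weakly regular sequence is Koszul-regular -/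
theorem kr_ofList {C : Type u} [CommRing C] (as : List C)
    (h : RingTheory.Sequence.IsWeaklyRegular C as) :
    LCI.IsKoszulRegularIdeal (Ideal.ofList as) := by
  intro 𝔭 _
  refine ⟨1, fun h1 => 𝔭.2.ne_top ((Ideal.eq_top_iff_one _).mpr h1), ?_⟩
  haveI : Module.Flat C (Localization.Away (1 : C)) :=
    IsLocalization.flat _ (Submonoid.powers (1 : C))
  refine ⟨as.map (algebraMap C (Localization.Away (1 : C))),
    isKoszulRegularSeq_baseChange _ as (Groth.Agent.S15821.result C as h).1, ?_⟩
  show Ideal.map _ (Ideal.span {x | x ∈ as}) = _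
  rw [Ideal.map_span]
  congr 1
  exact image_list _ as

theorem isSyntomic_quot_of_transRegular {R C : Type u} [CommRing R] [CommRing C] [Algebra R C]
    [Algebra.Smooth R C] (as : List C) (h : RegImm.IsTransRegularSeq R C as) :
    Synt.IsSyntomic R (C ⧸ Ideal.ofList as) := by
  rw [Groth.Agent.S9287.result]
  refine ⟨?_, ?_⟩
  · have h1 := h.2 as.length le_rfl
    rwa [List.take_length] at h1
  · have h1 : LCI.IsLCI R C := Groth.Agent.Helper27.SyntAway.isLCI_of_smooth
    have h2 : LCI.IsLCI C (C ⧸ Ideal.ofList as) := by
      let e : MvPolynomial (Fin 0) C ≃ₐ[C] C := MvPolynomial.isEmptyAlgEquiv C (Fin 0)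
      let f : MvPolynomial (Fin 0) C →ₐ[C] C ⧸ Ideal.ofList as :=
        (Ideal.Quotient.mkₐ C (Ideal.ofList as)).comp e.toAlgHom
      have hf : Function.Surjective f :=
        (Ideal.Quotient.mkₐ_surjective C (Ideal.ofList as)).comp e.surjective
      refine ⟨Algebra.FiniteType.of_surjective f hf, 0, f, hf, ?_⟩
      have hker : RingHom.ker f.toRingHom =
          (Ideal.ofList as).map (e.symm.toRingEquiv : C →+* MvPolynomial (Fin 0) C) := by
        ext x
        rw [RingHom.mem_ker]
        change Ideal.Quotient.mk _ (e x) = 0 ↔ _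
        rw [Ideal.Quotient.eq_zero_iff_mem]
        constructor
        · intro hx
          have h3 := Ideal.mem_map_of_mem (e.symm.toRingEquiv : C →+* MvPolynomial (Fin 0) C) hx
          have h4 : (e.symm.toRingEquiv : C →+* MvPolynomial (Fin 0) C) (e x) = x :=
            e.symm_apply_apply x
          rwa [h4] at h3
        · intro hx
          have h3 := Ideal.mem_map_of_mem (e.toRingEquiv : MvPolynomial (Fin 0) C →+* C) hx
          rw [Ideal.map_map] at h3
          have h4 : ((e.toRingEquiv : MvPolynomial (Fin 0) C →+* C).comp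
              (e.symm.toRingEquiv : C →+* MvPolynomial (Fin 0) C)) = RingHom.id C := by
            ext c
            exact e.apply_symm_apply c
          rw [h4, Ideal.map_id] at h3
          exact h3
      rw [hker]
      exact kr_ringEquiv e.symm.toRingEquiv _ (kr_ofList as h.1)
    exact Groth.Agent.Helper2.LCIComp.isLCI_trans R C _ h1 h2

end Groth.Agent.Helper2.SyLift
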