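import Mathlib
import Groth.Prelude.Def_LCI2
import Groth.Prelude.Def_RegImm
import Groth.Agent.Lib.Helper2.SyntLoc2
import Groth.Agent.Lib.Helper2.SyntLoc3

/-!
# Weak regularity on the fibre local ring from a Koszul-regular chart modulo `I`
-/

set_option autoImplicit false
universe u

namespace Groth.Agent.Helper2.SyLift

open RingTheory.Sequence Groth.Agent.Helper2.SyntLoc

section

variable {R T : Type u} [CommRing R] [CommRing T] [Algebra R T] (I : Ideal R)

local notation "IT" => Ideal.map (algebraMap R T) I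
local notation "σ" => Ideal.Quotient.mk (Ideal.map (algebraMap R T) I)

theorem weaklyRegular_fibre [Module.Flat R T] [Algebra.FinitePresentation R T] (𝔮 : Ideal T)
    [h𝔮 : 𝔮.IsPrime] (hI𝔮 : IT ≤ 𝔮)
    (sb : T ⧸ IT) (hsb : sb ∉ 𝔮.map σ)
    {c : ℕ} (a : Fin c → T) (ha𝔮 : ∀ j, a j ∈ 𝔮)
    (hkr : LCI.IsKoszulRegularSeq (Localization.Away sb)
      (List.ofFn fun j => algebraMap (T ⧸ IT) (Localization.Away sb) (σ (a j))))
    (hfl : Module.Flat (R ⧸ I) (Localization.Away sb ⧸ Ideal.ofList
      (List.ofFn fun j => algebraMap (T ⧸ IT) (Localization.Away sb) (σ (a j))))) :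
    IsWeaklyRegular
      (Localization.AtPrime 𝔮 ⧸
        (𝔮.comap (algebraMap R T)).map (algebraMap R (Localization.AtPrime 𝔮)))
      ((List.ofFn a).map (algebraMap T (Localization.AtPrime 𝔮))) := by
  classical
  have hσ : Function.Surjective σ := Ideal.Quotient.mk_surjective
  have hkerσ𝔮 : RingHom.ker σ ≤ 𝔮 := by
    rw [Ideal.mk_ker]
    exact hI𝔮
  haveI h𝔮b : (𝔮.map σ).IsPrime := Ideal.map_isPrime_of_surjective hσ hkerσ𝔮
  have hcomap : (𝔮.map σ).comap σ = 𝔮 := by
    rw [Ideal.comap_map_of_surjective σ hσ]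
    apply le_antisymm
    · refine sup_le le_rfl ?_
      intro x hx
      apply hkerσ𝔮
      rw [RingHom.mem_ker]
      exact (Ideal.mem_bot.mp hx)
    · exact le_sup_left
  -- the prime of `S`
  have hdisj : Disjoint (Submonoid.powers sb : Set (T ⧸ IT)) (𝔮.map σ : Set (T ⧸ IT)) := by
    rw [Set.disjoint_left]
    rintro x ⟨m, rfl⟩ hx
    exact hsb (h𝔮b.mem_of_pow_mem m hx)
  haveI hprimeS : ((𝔮.map σ).map (algebraMap (T ⧸ IT) (Localization.Away sb))).IsPrime :=
    IsLocalization.isPrime_of_isPrime_disjoint (Submonoid.powers sb) _ _ h𝔮b hdisj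
  have hcomapS : ((𝔮.map σ).map (algebraMap (T ⧸ IT) (Localization.Away sb))).comap
      (algebraMap (T ⧸ IT) (Localization.Away sb)) = 𝔮.map σ :=
    IsLocalization.under_map_of_isPrime_disjoint (Submonoid.powers sb) _ h𝔮b hdisj
  -- instances
  haveI : Module.Flat (R ⧸ I) (T ⧸ IT) :=
    Module.Flat.of_linearEquiv
      (Algebra.TensorProduct.quotIdealMapEquivQuotTensor T I).toLinearEquiv
  haveI : Module.Flat (T ⧸ IT) (Localization.Away sb) :=
    IsLocalization.flat _ (Submonoid.powers sb)
  haveI : Module.Flat (R ⧸ I) (Localization.Away sb) :=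
    Module.Flat.trans (R ⧸ I) (T ⧸ IT) (Localization.Away sb)
  haveI : Algebra.FiniteType R (T ⧸ IT) := inferInstance
  haveI : Algebra.FiniteType (R ⧸ I) (T ⧸ IT) :=
    Algebra.FiniteType.of_restrictScalars_finiteType R (R ⧸ I) (T ⧸ IT)
  haveI : Algebra.FiniteType (T ⧸ IT) (Localization.Away sb) :=
    IsLocalization.finiteType_of_monoid_fg (Submonoid.powers sb) _
  haveI : Algebra.FiniteType (R ⧸ I) (Localization.Away sb) :=
    Algebra.FiniteType.trans (inferInstance : Algebra.FiniteType (R ⧸ I) (T ⧸ IT)) inferInstance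
  haveI := hfl
  -- step 2: the fibre local ring of `S`
  have hlq : ∀ x ∈ (List.ofFn fun j => algebraMap (T ⧸ IT) (Localization.Away sb) (σ (a j))),
      x ∈ (𝔮.map σ).map (algebraMap (T ⧸ IT) (Localization.Away sb)) := by
    intro x hx
    obtain ⟨j, rfl⟩ := (List.mem_ofFn' _ _).mp hx
    exact Ideal.mem_map_of_mem _ (Ideal.mem_map_of_mem σ (ha𝔮 j))
  have h1 := fibre_weaklyRegular (B := R ⧸ I) (S := Localization.Away sb)
    (List.ofFn fun j => algebraMap (T ⧸ IT) (Localization.Away sb) (σ (a j))) hkr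
    ((𝔮.map σ).map (algebraMap (T ⧸ IT) (Localization.Away sb))) hlq
    (Localization.AtPrime ((𝔮.map σ).map (algebraMap (T ⧸ IT) (Localization.Away sb)))) _ rfl
  -- step 3: `Lb` as a localization of `T ⧸ IT`
  haveI hLb : IsLocalization.AtPrime
      (Localization.AtPrime ((𝔮.map σ).map (algebraMap (T ⧸ IT) (Localization.Away sb))))
      (𝔮.map σ) := by
    have := IsLocalization.isLocalization_isLocalization_atPrime_isLocalization
      (Submonoid.powers sb)
      (Localization.AtPrime ((𝔮.map σ).map (algebraMap (T ⧸ IT) (Localization.Away sb))))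
      ((𝔮.map σ).map (algebraMap (T ⧸ IT) (Localization.Away sb)))
    have this' : IsLocalization (Ideal.primeCompl
        (((𝔮.map σ).map (algebraMap (T ⧸ IT) (Localization.Away sb))).comap
          (algebraMap (T ⧸ IT) (Localization.Away sb))))
        (Localization.AtPrime ((𝔮.map σ).map (algebraMap (T ⧸ IT) (Localization.Away sb)))) :=
      this
    have heq : Ideal.primeCompl
        (((𝔮.map σ).map (algebraMap (T ⧸ IT) (Localization.Away sb))).comap
          (algebraMap (T ⧸ IT) (Localization.Away sb))) = (𝔮.map σ).primeCompl := by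
      ext x
      show x ∉ _ ↔ x ∉ _
      rw [hcomapS]
    show IsLocalization (𝔮.map σ).primeCompl _
    rw [← heq]
    exact this'
  -- step 4: transfer to `T`
  have hφ : Function.Surjective (Ideal.Quotient.mk I) := Ideal.Quotient.mk_surjective
  have hcomm : (σ : T →+* T ⧸ IT).comp (algebraMap R T) =
      (algebraMap (R ⧸ I) (T ⧸ IT)).comp (Ideal.Quotient.mk I) := by
    ext r
    rfl
  have hker : RingHom.ker (σ : T →+* T ⧸ IT) =
      (RingHom.ker (Ideal.Quotient.mk I)).map (algebraMap R T) := by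
    rw [Ideal.mk_ker, Ideal.mk_ker]
  have hIX : ((𝔮.map σ).comap (algebraMap (R ⧸ I) (T ⧸ IT))).map (algebraMap (R ⧸ I)
      (Localization.AtPrime ((𝔮.map σ).map (algebraMap (T ⧸ IT) (Localization.Away sb))))) =
      (((𝔮.map σ).map (algebraMap (T ⧸ IT) (Localization.Away sb))).comap
        (algebraMap (R ⧸ I) (Localization.Away sb))).map (algebraMap (R ⧸ I)
      (Localization.AtPrime ((𝔮.map σ).map (algebraMap (T ⧸ IT) (Localization.Away sb))))) := by
    congr 1
    rw [IsScalarTower.algebraMap_eq (R ⧸ I) (T ⧸ IT) (Localization.Away sb), ← Ideal.comap_comap,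
      hcomapS]
  refine transfer_weaklyRegular (P := R) (S := T) (B := R ⧸ I) (Sb := T ⧸ IT)
    (Ideal.Quotient.mk I) hφ σ hσ hcomm hker 𝔮 (𝔮.map σ) hcomap (Localization.AtPrime 𝔮)
    (Localization.AtPrime ((𝔮.map σ).map (algebraMap (T ⧸ IT) (Localization.Away sb))))
    _ rfl _ rfl (List.ofFn a) ?_
  rw [hIX]
  have hlist : ((List.ofFn a).map σ).map (algebraMap (T ⧸ IT)
      (Localization.AtPrime ((𝔮.map σ).map (algebraMap (T ⧸ IT) (Localization.Away sb))))) =
      (List.ofFn fun j => algebraMap (T ⧸ IT) (Localization.Away sb) (σ (a j))).map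
        (algebraMap (Localization.Away sb)
          (Localization.AtPrime ((𝔮.map σ).map (algebraMap (T ⧸ IT) (Localization.Away sb))))) := by
    rw [List.map_ofFn, List.map_ofFn, List.map_ofFn]
    congr 1
  rw [hlist]
  exact h1

end

end Groth.Agent.Helper2.SyLift
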