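import Mathlib
import Groth.Prelude.Def_LCI2

/-!
# Flatness of a localized quotient
-/

set_option autoImplicit false
universe u

namespace Groth.Agent.Helper2.SyLift

theorem flat_quot_ofList {B Tb : Type u} [CommRing B] [CommRing Tb] [Algebra B Tb]
    (Kb : Ideal Tb) [Module.Flat B (Tb ⧸ Kb)] (sb : Tb) {c : ℕ}
    (b : Fin c → Localization.Away sb)
    (hgen : Kb.map (algebraMap Tb (Localization.Away sb)) = Ideal.span (Set.range b)) :
    Module.Flat B (Localization.Away sb ⧸ Ideal.ofList (List.ofFn b)) := by
  have e : Ideal.ofList (List.ofFn b) = Kb.map (algebraMap Tb (Localization.Away sb)) := by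
    rw [hgen]
    show Ideal.span {x | x ∈ List.ofFn b} = _
    congr 1
    ext x
    simp [List.mem_ofFn]
  rw [e]
  haveI : Module.Flat (Tb ⧸ Kb)
      (Localization.Away sb ⧸ Kb.map (algebraMap Tb (Localization.Away sb))) :=
    IsLocalization.flat _ (Algebra.algebraMapSubmonoid (Tb ⧸ Kb) (Submonoid.powers sb))
  haveI : IsScalarTower B (Tb ⧸ Kb)
      (Localization.Away sb ⧸ Kb.map (algebraMap Tb (Localization.Away sb))) :=
    IsScalarTower.of_algebraMap_eq (fun x => by
      rw [IsScalarTower.algebraMap_apply B Tb (Tb ⧸ Kb), Ideal.Quotient.algebraMap_eq,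
        Ideal.Quotient.algebraMap_quotient_map_quotient,
        ← IsScalarTower.algebraMap_apply B Tb (Localization.Away sb),
        IsScalarTower.algebraMap_apply B (Localization.Away sb)
          (Localization.Away sb ⧸ Kb.map (algebraMap Tb (Localization.Away sb))),
        Ideal.Quotient.algebraMap_eq])
  exact Module.Flat.trans B (Tb ⧸ Kb) _

end Groth.Agent.Helper2.SyLift
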