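import Mathlib
import Groth.Prelude.Def_LCI2
import Groth.Prelude.Def_RegImm
import Groth.Agent.Lib.Helper2.SyLiftA
import Groth.Agent.Lib.Helper2.SyLiftG
import Groth.Agent.Lib.Helper2.SyLiftG2
import Groth.Agent.Lib.Helper2.SyLiftE
import Groth.Agent.Lib.Helper9.SmulSpan
import Groth.Agent.Lib.Helper27.SyntAway
import Groth.Agent.Lib.Helper2.SyntLoc1
import Groth.Agent.Lib.Helper2.RegNbhd3

/-!
# The local step of the syntomic lifting
-/

set_option autoImplicit false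
universe u

namespace Groth.Agent.Helper2.SyLift

open RingTheory.Sequence Groth.Agent.Helper2.SyntLoc Groth.Agent.Helper2.RegNbhd
  Groth.Agent.Helper9.SmulSpan Groth.Agent.Helper27.SyntAway

section

variable {R T P' : Type u} [CommRing R] [CommRing T] [Algebra R T] (I : Ideal R)
  [AddCommGroup P'] [Module T P']

local notation "IT" => Ideal.map (algebraMap R T) I
local notation "σ" => Ideal.Quotient.mk (Ideal.map (algebraMap R T) I)

set_option maxHeartbeats 1600000 in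
theorem local_syntomic [Algebra.Smooth R T] [Module.Finite T P'] (𝔄 : Ideal T) (u : P' →ₗ[T] T)
    (hI𝔄 : IT ≤ 𝔄)
    (hF1 : ∀ x, u x ∈ 𝔄)
    (hF2 : 𝔄 ≤ LinearMap.range u ⊔ (𝔄 * 𝔄 ⊔ IT))
    (hF3 : ∀ x, u x ∈ 𝔄 * 𝔄 ⊔ IT → x ∈ 𝔄 • (⊤ : Submodule T P'))
    (h𝔄fg : (𝔄.map σ).FG)
    (hKR : LCI.IsKoszulRegularIdeal (𝔄.map σ))
    [Module.Flat (R ⧸ I) ((T ⧸ IT) ⧸ 𝔄.map σ)]
    (𝔮 : Ideal T) [h𝔮 : 𝔮.IsPrime] (h𝔄𝔮 : 𝔄 ≤ 𝔮) :
    ∃ s : T, s ∉ 𝔮 ∧
      Synt.IsSyntomic R (Localization.Away (Ideal.Quotient.mk (LinearMap.range u) s)) := by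
  classical
  have hσ : Function.Surjective σ := Ideal.Quotient.mk_surjective
  have hI𝔮 : IT ≤ 𝔮 := hI𝔄.trans h𝔄𝔮
  have hkerσ𝔮 : RingHom.ker σ ≤ 𝔮 := by
    rw [Ideal.mk_ker]
    exact hI𝔮
  haveI h𝔮b : (𝔮.map σ).IsPrime := Ideal.map_isPrime_of_surjective hσ hkerσ𝔮
  have hcomap : (𝔮.map σ).comap σ = 𝔮 := by
    rw [Ideal.comap_map_of_surjective σ hσ]
    apply le_antisymm
    · refine sup_le le_rfl ?_
      intro x hx
      apply hkerσ𝔮
      rw [RingHom.mem_ker]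
      exact (Ideal.mem_bot.mp hx)
    · exact le_sup_left
  -- step 1
  have hJK : Ideal.map σ (LinearMap.range u) ≤ 𝔄.map σ := by
    apply Ideal.map_mono
    rintro _ ⟨x, rfl⟩
    exact hF1 x
  have hKJ : 𝔄.map σ ≤ Ideal.map σ (LinearMap.range u) ⊔ 𝔄.map σ * 𝔄.map σ := by
    have h1 := Ideal.map_mono (f := σ) hF2
    rw [Ideal.map_sup, Ideal.map_sup, Ideal.map_mul, Ideal.map_quotient_self, sup_bot_eq] at h1
    exact h1
  obtain ⟨c, fb, sb, hfbJ, hsb, hkr, hspan⟩ :=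
    exists_kr_gen (𝔄.map σ) (Ideal.map σ (LinearMap.range u)) hKR h𝔄fg hJK hKJ (𝔮.map σ)
      (Ideal.map_mono h𝔄𝔮)
  -- step 4
  have hex : ∀ j, ∃ y : P', σ (u y) = fb j := by
    intro j
    obtain ⟨a, ⟨y, rfl⟩, ha⟩ := (Ideal.mem_map_iff_of_surjective σ hσ).mp (hfbJ j)
    exact ⟨y, ha⟩
  choose y hy using hex
  have hfb : fb = fun j => σ (u (y j)) := funext fun j => (hy j).symm
  subst hfb
  have ha𝔮 : ∀ j, u (y j) ∈ 𝔮 := fun j => h𝔄𝔮 (hF1 (y j))
  -- step 5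
  have hfl := flat_quot_ofList (B := R ⧸ I) (Tb := T ⧸ IT) (𝔄.map σ) sb
    (fun j => algebraMap (T ⧸ IT) (Localization.Away sb) (σ (u (y j)))) hspan
  -- step 6
  have hreg := weaklyRegular_fibre I 𝔮 hI𝔮 sb hsb (fun j => u (y j)) ha𝔮 hkr hfl
  -- step 7
  haveI : Module.Flat T (Localization.AtPrime 𝔮) := IsLocalization.flat _ 𝔮.primeCompl
  haveI : Module.Flat R (Localization.AtPrime 𝔮) := Module.Flat.trans R T _
  haveI : IsNoetherianRing (Localization.AtPrime 𝔮 ⧸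
      (𝔮.comap (algebraMap R T)).map (algebraMap R (Localization.AtPrime 𝔮))) :=
    isNoetherianRing_fibre_local (P := R) 𝔮 (Localization.AtPrime 𝔮) _ rfl
  have hasQ : ∀ a ∈ List.ofFn (fun j => u (y j)), a ∈ 𝔮 := by
    intro a ha
    obtain ⟨j, rfl⟩ := (List.mem_ofFn' _ _).mp ha
    exact ha𝔮 j
  obtain ⟨g₀, hg₀, htrans⟩ := trans_slice (R := R) (C := T) 𝔮 (Localization.AtPrime 𝔮) _ rfl
    (List.ofFn fun j => u (y j)) hasQ hreg
  -- step 8
  obtain ⟨s₀, rfl⟩ := hσ sb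
  have hs₀ : s₀ ∉ 𝔮 := fun h => hsb (Ideal.mem_map_of_mem σ h)
  have hy' : ∀ x : P', ∃ s : T, s ∉ 𝔮 ∧
      s * u x ∈ Ideal.span (Set.range fun j => u (y j)) ⊔ (𝔄 * 𝔄 ⊔ IT) := by
    intro x
    have h1 : algebraMap (T ⧸ IT) (Localization.Away (σ s₀)) (σ (u x)) ∈
        (Ideal.span (Set.range fun j => σ (u (y j)))).map
          (algebraMap (T ⧸ IT) (Localization.Away (σ s₀))) := by
      rw [Ideal.map_span, ← Set.range_comp]
      have h0 : (algebraMap (T ⧸ IT) (Localization.Away (σ s₀))) ∘ (fun j => σ (u (y j))) =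
          fun j => algebraMap (T ⧸ IT) (Localization.Away (σ s₀)) (σ (u (y j))) := rfl
      rw [h0, ← hspan]
      exact Ideal.mem_map_of_mem _ (Ideal.mem_map_of_mem σ (hF1 x))
    obtain ⟨⟨⟨a, ha⟩, ⟨_, m, rfl⟩⟩, h2⟩ :=
      (IsLocalization.mem_map_algebraMap_iff (Submonoid.powers (σ s₀))
        (Localization.Away (σ s₀))).mp h1
    rw [← map_mul] at h2
    obtain ⟨⟨_, m', rfl⟩, h3⟩ := (IsLocalization.eq_iff_exists (Submonoid.powers (σ s₀))
      (Localization.Away (σ s₀))).mp h2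
    have h4 : σ (s₀ ^ (m' + m) * u x) ∈
        (Ideal.span (Set.range fun j => u (y j))).map σ := by
      rw [Ideal.map_span, ← Set.range_comp]
      have h0 : σ (s₀ ^ (m' + m) * u x) = (σ s₀) ^ m' * a := by
        rw [← h3, map_mul, map_pow, pow_add]
        ring
      rw [h0]
      exact Ideal.mul_mem_left _ _ ha
    refine ⟨s₀ ^ (m' + m), fun h => hs₀ (h𝔮.mem_of_pow_mem _ h), ?_⟩
    obtain ⟨z, hz, hzx⟩ := (Ideal.mem_map_iff_of_surjective σ hσ).mp h4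
    have h5 : s₀ ^ (m' + m) * u x - z ∈ IT := by
      rw [← Ideal.Quotient.eq, hzx]
    have h6 : s₀ ^ (m' + m) * u x = z + (s₀ ^ (m' + m) * u x - z) := by ring
    rw [h6]
    exact Ideal.add_mem _ (Ideal.mem_sup_left hz) (Ideal.mem_sup_right (Ideal.mem_sup_right h5))
  obtain ⟨s₂, hs₂, hs₂x⟩ := exists_smul_mem_span 𝔄 (𝔄 * 𝔄 ⊔ IT) u hF3 𝔮 h𝔄𝔮 y hy'
  -- step 9
  refine ⟨g₀ * s₂, fun h => (h𝔮.mem_or_mem h).elim hg₀ hs₂, ?_⟩
  apply isSyntomic_away_mk (LinearMap.range u) (g₀ * s₂)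
  have htr := htrans s₂ (Localization.Away (g₀ * s₂))
  haveI : Algebra.Smooth T (Localization.Away (g₀ * s₂)) :=
    Algebra.Smooth.of_isLocalization_Away (g₀ * s₂)
  haveI : Algebra.Smooth R (Localization.Away (g₀ * s₂)) :=
    Algebra.Smooth.comp R T (Localization.Away (g₀ * s₂))
  have hsy := isSyntomic_quot_of_transRegular (R := R) (C := Localization.Away (g₀ * s₂)) _ htr
  have hus₂ : IsUnit (algebraMap T (Localization.Away (g₀ * s₂)) s₂) :=
    IsLocalization.Away.isUnit_of_dvd (g₀ * s₂) ⟨g₀, mul_comm g₀ s₂⟩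
  have hideal : Ideal.ofList ((List.ofFn fun j => u (y j)).map
      (algebraMap T (Localization.Away (g₀ * s₂)))) =
      Ideal.map (algebraMap T (Localization.Away (g₀ * s₂))) (LinearMap.range u) := by
    apply le_antisymm
    · show Ideal.span _ ≤ _
      rw [Ideal.span_le]
      intro x hx
      obtain ⟨a, ha, rfl⟩ := List.mem_map.mp hx
      obtain ⟨j, rfl⟩ := (List.mem_ofFn' _ _).mp ha
      exact Ideal.mem_map_of_mem _ ⟨y j, rfl⟩
    · rw [Ideal.map_le_iff_le_comap]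
      rintro _ ⟨x, rfl⟩
      rw [Ideal.mem_comap]
      have h1 : u (s₂ • x) ∈ Submodule.map u (Submodule.span T (Set.range y)) :=
        ⟨_, hs₂x x, rfl⟩
      rw [Submodule.map_span, ← Set.range_comp] at h1
      have h2 : s₂ * u x ∈ Ideal.span (Set.range (u ∘ y)) := by
        rw [← smul_eq_mul, ← map_smul]
        exact h1
      have h3 := Ideal.mem_map_of_mem (algebraMap T (Localization.Away (g₀ * s₂))) h2
      rw [map_mul] at h3
      have h4 := (Ideal.unit_mul_mem_iff_mem _ hus₂).mp h3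
      rw [Ideal.map_span, ← Set.range_comp] at h4
      refine (Ideal.span_mono ?_) h4
      rintro _ ⟨j, rfl⟩
      exact List.mem_map_of_mem ((List.mem_ofFn' _ _).mpr ⟨j, rfl⟩)
  rw [hideal] at hsy
  exact hsy

end

end Groth.Agent.Helper2.SyLift
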