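import Mathlib
import Groth.Prelude.Def_LCI2
import Groth.Prelude.Def_RegImm
import Groth.Agent.Lib.Helper2.SyLiftL
import Groth.Agent.Lib.Helper15.LiftU
import Groth.Agent.Lib.Helper27.SyntAway
import Groth.Agent.S9146

/-!
# The core construction of the syntomic lifting
-/

set_option autoImplicit false
universe u

namespace Groth.Agent.Helper2.SyLift

open TensorProduct Groth.Agent.Helper15.LiftU Groth.Agent.Helper27.SyntAway

section Core

variable {R Q T A₀ P₀ P' : Type u} [CommRing R] [CommRing Q] [CommRing T] [CommRing A₀]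
  [Algebra R Q] [Algebra R T] [Algebra Q T] [IsScalarTower R Q T] [Algebra R A₀]
  [AddCommGroup P₀] [Module Q P₀] [AddCommGroup P'] [Module T P']

variable (𝔞 : Ideal Q)

local notation "𝔞T" => Ideal.map (algebraMap Q T) 𝔞

set_option maxHeartbeats 3200000 in
/-- The core construction. -/
theorem coreS [Algebra.Smooth R T] [Module.Flat Q T] [Module.Finite T P'] [Module.Projective T P']
    (I : Ideal R) [Algebra (R ⧸ I) A₀] [IsScalarTower R (R ⧸ I) A₀] [Module.Flat (R ⧸ I) A₀]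
    (π : Q →ₐ[R] A₀) (hπ : Function.Surjective π)
    (h𝔞 : ∀ q, q ∈ 𝔞 ↔ π q = 0)
    (hβ : Function.Bijective
      (algebraMap (Q ⧸ 𝔞) (T ⧸ 𝔞.map (algebraMap Q T))))
    (Δ : 𝔞 →ₗ[Q] P₀) (hΔ : Function.Surjective Δ)
    (hΔker : ∀ f : 𝔞, Δ f = 0 ↔ (f : Q) ∈ 𝔞 ^ 2 ⊔ I.map (algebraMap R Q))
    (h𝔞P₀ : ∀ f ∈ 𝔞, ∀ p : P₀, f • p = 0)
    (F : Finset Q) (hF : 𝔞 = Ideal.span (F : Set Q) ⊔ I.map (algebraMap R Q))
    (j : P₀ →+ ((T ⧸ 𝔞.map (algebraMap Q T)) ⊗[T] P'))
    (hj : Function.Bijective j)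
    (hjsmul : ∀ (q : Q) (p : P₀), j (q • p) = algebraMap Q T q • j p)
    (hKR : LCI.IsKoszulRegularIdeal ((𝔞.map (algebraMap Q T)).map
      (Ideal.Quotient.mk (I.map (algebraMap R T))))) :
    ∃ (A : Type u) (_ : CommRing A) (_ : Algebra R A), Synt.IsSyntomic R A ∧
      ∃ Φ : A →ₐ[R] A₀, Function.Surjective Φ ∧ RingHom.ker Φ = I.map (algebraMap R A) := by
  classical
  have hIA : ∀ i ∈ I, algebraMap R A₀ i = 0 := by
    intro i hi
    rw [IsScalarTower.algebraMap_apply R (R ⧸ I) A₀, Ideal.Quotient.algebraMap_eq,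
      Ideal.Quotient.eq_zero_iff_mem.mpr hi, map_zero]
  -- facts from `β`
  have hβ1 : ∀ τ : T, ∃ q : Q, τ - algebraMap Q T q ∈ 𝔞T := by
    intro τ
    obtain ⟨y, hy⟩ := hβ.2 (Ideal.Quotient.mk 𝔞T τ)
    obtain ⟨q, rfl⟩ := Ideal.Quotient.mk_surjective y
    rw [Ideal.Quotient.algebraMap_quotient_map_quotient] at hy
    exact ⟨q, Ideal.Quotient.eq.mp hy.symm⟩
  have hIQ𝔞 : I.map (algebraMap R Q) ≤ 𝔞 := by
    rw [Ideal.map_le_iff_le_comap]
    intro i hi
    rw [Ideal.mem_comap, h𝔞, AlgHom.commutes]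
    exact hIA i hi
  have h𝔟𝔞 : 𝔞 ^ 2 ⊔ I.map (algebraMap R Q) ≤ 𝔞 := sup_le (Ideal.pow_le_self two_ne_zero) hIQ𝔞
  obtain ⟨u, hu_mem, hgen0, hF30⟩ := exists_lift_u 𝔞 (𝔞 ^ 2 ⊔ I.map (algebraMap R Q)) h𝔟𝔞 Δ hΔ
    hΔker h𝔞P₀ hβ1 j hj hjsmul
  have h𝔟T : (𝔞 ^ 2 ⊔ I.map (algebraMap R Q)).map (algebraMap Q T) =
      𝔞T * 𝔞T ⊔ I.map (algebraMap R T) := by
    rw [Ideal.map_sup, Ideal.map_pow, Ideal.map_map, ← IsScalarTower.algebraMap_eq, pow_two]
  rw [h𝔟T] at hgen0 hF30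
  have hIT𝔞T : I.map (algebraMap R T) ≤ 𝔞T := by
    rw [IsScalarTower.algebraMap_eq R Q T, ← Ideal.map_map]
    exact Ideal.map_mono hIQ𝔞
  set J : Ideal T := LinearMap.range u with hJ
  have hJle : J ≤ 𝔞T := by
    rintro _ ⟨x, rfl⟩
    exact hu_mem x
  set L : Ideal T := J ⊔ I.map (algebraMap R T) with hL
  have hgen : 𝔞T ≤ L ⊔ 𝔞T * 𝔞T := by
    refine hgen0.trans ?_
    refine sup_le (le_sup_of_le_left le_sup_left) (sup_le le_sup_right
      (le_sup_of_le_left le_sup_right))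
  -- Nakayama modulo `L`
  have h𝔟fg : (Ideal.map (Ideal.Quotient.mk L) 𝔞T).FG := by
    have h1 : 𝔞T = Ideal.span ((algebraMap Q T) '' (F : Set Q)) ⊔ I.map (algebraMap R T) := by
      conv_lhs => rw [hF]
      rw [Ideal.map_sup, Ideal.map_span, Ideal.map_map, ← IsScalarTower.algebraMap_eq]
    have h2 : (I.map (algebraMap R T)).map (Ideal.Quotient.mk L) = ⊥ := by
      rw [eq_bot_iff, Ideal.map_le_iff_le_comap]
      intro x hx
      rw [Ideal.mem_comap, Ideal.mem_bot, Ideal.Quotient.eq_zero_iff_mem]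
      exact Ideal.mem_sup_right hx
    rw [h1, Ideal.map_sup, h2, sup_bot_eq, Ideal.map_span]
    refine ⟨(F.image (algebraMap Q T)).image (Ideal.Quotient.mk L), ?_⟩
    simp only [Finset.coe_image]
  have h𝔟sq : (Ideal.map (Ideal.Quotient.mk L) 𝔞T : Submodule (T ⧸ L) (T ⧸ L)) ≤
      (Ideal.map (Ideal.Quotient.mk L) 𝔞T) • (Ideal.map (Ideal.Quotient.mk L) 𝔞T : Submodule (T ⧸ L) (T ⧸ L)) := by
    have h1 := Ideal.map_mono (f := Ideal.Quotient.mk L) hgen
    rw [Ideal.map_sup, Ideal.map_quotient_self, bot_sup_eq, Ideal.map_mul] at h1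
    exact h1
  obtain ⟨rbar, hrbar1, hrbar2⟩ := Submodule.exists_sub_one_mem_and_smul_eq_zero_of_fg_of_le_smul
    (Ideal.map (Ideal.Quotient.mk L) 𝔞T) (Ideal.map (Ideal.Quotient.mk L) 𝔞T) h𝔟fg h𝔟sq
  obtain ⟨a₁, ha₁, ha₁'⟩ :=
    (Ideal.mem_map_iff_of_surjective (Ideal.Quotient.mk L) Ideal.Quotient.mk_surjective).mp hrbar1
  set t₁ : T := 1 + a₁ with ht₁def
  have ht₁ : t₁ - 1 ∈ 𝔞T := by
    rw [ht₁def, add_sub_cancel_left]; exact ha₁
  have ht₁L : ∀ a ∈ 𝔞T, t₁ * a ∈ L := by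
    intro a ha
    rw [← Ideal.Quotient.eq_zero_iff_mem, map_mul, ht₁def, map_add, map_one, ha₁', add_sub_cancel]
    exact hrbar2 _ (Ideal.mem_map_of_mem _ ha)
  -- the map to `A₀`
  let e : (Q ⧸ 𝔞) ≃+* (T ⧸ 𝔞T) := RingEquiv.ofBijective _ hβ
  have he : ∀ q : Q, e (Ideal.Quotient.mk 𝔞 q) = Ideal.Quotient.mk 𝔞T (algebraMap Q T q) :=
    fun q => Ideal.Quotient.algebraMap_quotient_map_quotient q
  let ψ : (Q ⧸ 𝔞) →+* A₀ := Ideal.Quotient.lift 𝔞 (π : Q →+* A₀) (fun a ha => (h𝔞 a).mp ha)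
  have hψinj : Function.Injective ψ := by
    rw [injective_iff_map_eq_zero]
    intro y hy
    obtain ⟨q, rfl⟩ := Ideal.Quotient.mk_surjective y
    rw [Ideal.Quotient.eq_zero_iff_mem, h𝔞]
    exact hy
  let ΦT : T →+* A₀ := ψ.comp (e.symm.toRingHom.comp (Ideal.Quotient.mk 𝔞T))
  have hΦalg : ∀ q : Q, ΦT (algebraMap Q T q) = π q := by
    intro q
    change ψ (e.symm (Ideal.Quotient.mk 𝔞T (algebraMap Q T q))) = π q
    rw [← he, RingEquiv.symm_apply_apply]
    rfl
  have hΦker : ∀ τ : T, ΦT τ = 0 ↔ τ ∈ 𝔞T := by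
    intro τ
    change ψ (e.symm (Ideal.Quotient.mk 𝔞T τ)) = 0 ↔ _
    rw [← map_zero ψ, hψinj.eq_iff, ← map_zero e.symm, e.symm.injective.eq_iff,
      Ideal.Quotient.eq_zero_iff_mem]
  have hΦsurj : Function.Surjective ΦT := by
    intro a₀
    obtain ⟨q, rfl⟩ := hπ a₀
    exact ⟨algebraMap Q T q, hΦalg q⟩
  have hΦR : ∀ x : R, ΦT (algebraMap R T x) = algebraMap R A₀ x := by
    intro x
    rw [IsScalarTower.algebraMap_apply R Q T, hΦalg, AlgHom.commutes]
  -- flatness of the double quotient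
  haveI hflat : Module.Flat (R ⧸ I) ((T ⧸ I.map (algebraMap R T)) ⧸
      (𝔞T).map (Ideal.Quotient.mk (I.map (algebraMap R T)))) := by
    let Ψ₁ : (T ⧸ I.map (algebraMap R T)) →+* A₀ :=
      Ideal.Quotient.lift _ ΦT (fun a ha => (hΦker a).mpr (hIT𝔞T ha))
    let Ψ : ((T ⧸ I.map (algebraMap R T)) ⧸
        (𝔞T).map (Ideal.Quotient.mk (I.map (algebraMap R T)))) →+* A₀ :=
      Ideal.Quotient.lift _ Ψ₁ (fun a ha => by
        obtain ⟨τ, hτ, rfl⟩ := (Ideal.mem_map_iff_of_surjective _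
          Ideal.Quotient.mk_surjective).mp ha
        exact (hΦker τ).mpr hτ)
    have hΨbij : Function.Bijective Ψ := by
      constructor
      · rw [injective_iff_map_eq_zero]
        intro x hx
        obtain ⟨x₁, rfl⟩ := Ideal.Quotient.mk_surjective x
        obtain ⟨τ, rfl⟩ := Ideal.Quotient.mk_surjective x₁
        rw [Ideal.Quotient.eq_zero_iff_mem]
        exact Ideal.mem_map_of_mem _ ((hΦker τ).mp hx)
      · intro a₀
        obtain ⟨τ, rfl⟩ := hΦsurj a₀
        exact ⟨Ideal.Quotient.mk _ (Ideal.Quotient.mk _ τ), rfl⟩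
    have hΨcomm : ∀ r : R ⧸ I, Ψ (algebraMap (R ⧸ I) _ r) = algebraMap (R ⧸ I) A₀ r := by
      intro r
      obtain ⟨r', rfl⟩ := Ideal.Quotient.mk_surjective r
      have h1 : algebraMap (R ⧸ I) ((T ⧸ I.map (algebraMap R T)) ⧸
          (𝔞T).map (Ideal.Quotient.mk (I.map (algebraMap R T)))) (Ideal.Quotient.mk I r') =
          Ideal.Quotient.mk _ (Ideal.Quotient.mk _ (algebraMap R T r')) := rfl
      rw [h1]
      change ΦT (algebraMap R T r') = _
      rw [hΦR, IsScalarTower.algebraMap_apply R (R ⧸ I) A₀, Ideal.Quotient.algebraMap_eq]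
    let eΨ : ((T ⧸ I.map (algebraMap R T)) ⧸
        (𝔞T).map (Ideal.Quotient.mk (I.map (algebraMap R T)))) ≃ₐ[R ⧸ I] A₀ :=
      AlgEquiv.ofBijective { toRingHom := Ψ, commutes' := hΨcomm } hΨbij
    exact Module.Flat.of_linearEquiv eΨ.toLinearEquiv
  -- finite generation of the reduction of `𝔞T`
  have hKfg : ((𝔞T).map (Ideal.Quotient.mk (I.map (algebraMap R T)))).FG := by
    have h1 : 𝔞T = Ideal.span ((algebraMap Q T) '' (F : Set Q)) ⊔ I.map (algebraMap R T) := by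
      conv_lhs => rw [hF]
      rw [Ideal.map_sup, Ideal.map_span, Ideal.map_map, ← IsScalarTower.algebraMap_eq]
    rw [h1, Ideal.map_sup, Ideal.map_quotient_self, sup_bot_eq, Ideal.map_span]
    refine ⟨(F.image (algebraMap Q T)).image (Ideal.Quotient.mk _), ?_⟩
    simp only [Finset.coe_image]
  -- the local step
  have hloc : ∀ (𝔮 : Ideal T) [𝔮.IsPrime], 𝔞T ≤ 𝔮 → ∃ s : T, s ∉ 𝔮 ∧
      Synt.IsSyntomic R (Localization.Away (Ideal.Quotient.mk J s)) := by
    intro 𝔮 _ h𝔮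
    exact local_syntomic I 𝔞T u hIT𝔞T hu_mem hgen0 hF30 hKfg hKR 𝔮 h𝔮
  -- the global step
  have htop : Ideal.span {s : T | Synt.IsSyntomic R
      (Localization.Away (Ideal.Quotient.mk J s))} ⊔ 𝔞T = ⊤ := by
    by_contra hne
    obtain ⟨𝔪, h𝔪, hle⟩ := Ideal.exists_le_maximal _ hne
    haveI := h𝔪.isPrime
    obtain ⟨s, hs, hsy⟩ := hloc 𝔪 (le_sup_right.trans hle)
    exact hs (hle (Ideal.mem_sup_left (Ideal.subset_span hsy)))
  obtain ⟨t₃, hc₃, a₃, ha₃, hca⟩ := Submodule.mem_sup.mp ((Ideal.eq_top_iff_one _).mp htop)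
  obtain ⟨Sg, hSg, hc₃'⟩ := Submodule.mem_span_finite_of_mem_span hc₃
  have ht₃ : t₃ - 1 ∈ 𝔞T := by
    have h1 : t₃ - 1 = -a₃ := by rw [← hca]; ring
    rw [h1]
    exact (Ideal.neg_mem_iff _).mpr ha₃
  set t : T := t₁ * t₃ with htdef
  have ht : t - 1 ∈ 𝔞T := by
    have : t - 1 = t₁ * (t₃ - 1) + (t₁ - 1) := by rw [htdef]; ring
    rw [this]
    exact Ideal.add_mem _ (Ideal.mul_mem_left _ _ ht₃) ht₁
  refine ⟨Localization.Away (Ideal.Quotient.mk J t), inferInstance, inferInstance, ?_, ?_⟩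
  · -- syntomic
    apply Groth.Agent.S9146.result R _ (Sg.image (fun x => algebraMap (T ⧸ J)
      (Localization.Away (Ideal.Quotient.mk J t)) (Ideal.Quotient.mk J x)))
    · have h1 : algebraMap (T ⧸ J) (Localization.Away (Ideal.Quotient.mk J t))
          (Ideal.Quotient.mk J t₃) ∈ Ideal.span ((Sg.image (fun x => algebraMap (T ⧸ J)
            (Localization.Away (Ideal.Quotient.mk J t)) (Ideal.Quotient.mk J x)) : Finset _) :
            Set (Localization.Away (Ideal.Quotient.mk J t))) := by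
        have h2 := Ideal.mem_map_of_mem ((algebraMap (T ⧸ J)
          (Localization.Away (Ideal.Quotient.mk J t))).comp (Ideal.Quotient.mk J)) hc₃'
        rw [Ideal.map_span] at h2
        rw [Finset.coe_image]
        exact h2
      have hu : IsUnit (algebraMap (T ⧸ J) (Localization.Away (Ideal.Quotient.mk J t))
          (Ideal.Quotient.mk J t₃)) :=
        IsLocalization.Away.isUnit_of_dvd (Ideal.Quotient.mk J t)
          ⟨Ideal.Quotient.mk J t₁, by rw [← map_mul, htdef, mul_comm]⟩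
      exact Ideal.eq_top_of_isUnit_mem _ h1 hu
    · intro g hg
      obtain ⟨x, hx, rfl⟩ := Finset.mem_image.mp hg
      exact isSyntomic_away_of_away (R := R) (B := T ⧸ J) (Ideal.Quotient.mk J x)
        (Ideal.Quotient.mk J t) (hSg hx)
  · -- the map to `A₀`
    let ΦTa : T →ₐ[R] A₀ :=
      { ΦT with
        commutes' := fun x => by
          change ΦT (algebraMap R T x) = _
          rw [IsScalarTower.algebraMap_apply R Q T, hΦalg, AlgHom.commutes] }
    have hΦTa : ∀ τ, ΦTa τ = ΦT τ := fun _ => rfl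
    have hΦJ : ∀ a ∈ J, ΦTa a = 0 := fun a ha => (hΦker a).mpr (hJle ha)
    let ΦJ : T ⧸ J →ₐ[R] A₀ := Ideal.Quotient.liftₐ J ΦTa hΦJ
    have hΦt : ΦT t = 1 := by
      have h1 := (hΦker (t - 1)).mpr ht
      rw [map_sub, map_one, sub_eq_zero] at h1
      exact h1
    have hunits : ∀ y : Submonoid.powers (Ideal.Quotient.mk J t), IsUnit (ΦJ y) := by
      rintro ⟨_, k, rfl⟩
      rw [map_pow]
      refine IsUnit.pow k ?_
      change IsUnit (ΦT t)
      rw [hΦt]
      exact isUnit_one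
    let Φ : Localization.Away (Ideal.Quotient.mk J t) →ₐ[R] A₀ :=
      IsLocalization.liftAlgHom (M := Submonoid.powers (Ideal.Quotient.mk J t)) hunits
    have hΦg : ∀ τ : T, Φ (algebraMap (T ⧸ J) _ (Ideal.Quotient.mk J τ)) = ΦT τ := by
      intro τ
      change IsLocalization.lift hunits (algebraMap (T ⧸ J) _ (Ideal.Quotient.mk J τ)) = _
      rw [IsLocalization.lift_eq]
      rfl
    refine ⟨Φ, ?_, ?_⟩
    · intro a₀
      obtain ⟨q, rfl⟩ := hπ a₀
      exact ⟨algebraMap (T ⧸ J) _ (Ideal.Quotient.mk J (algebraMap Q T q)), by rw [hΦg, hΦalg]⟩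
    · let g : T →+* Localization.Away (Ideal.Quotient.mk J t) :=
        (algebraMap (T ⧸ J) _).comp (Ideal.Quotient.mk J)
      have hgR : ∀ x : R, g (algebraMap R T x) =
          algebraMap R (Localization.Away (Ideal.Quotient.mk J t)) x := by
        intro x
        change algebraMap (T ⧸ J) _ (Ideal.Quotient.mk J (algebraMap R T x)) = _
        rw [← Ideal.Quotient.algebraMap_eq, ← IsScalarTower.algebraMap_apply R T (T ⧸ J),
          ← IsScalarTower.algebraMap_apply R (T ⧸ J)]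
      have hgL : L ≤ Ideal.comap g (I.map (algebraMap R _)) := by
        rw [hL]
        refine sup_le ?_ ?_
        · intro a ha
          rw [Ideal.mem_comap]
          have : g a = 0 := by
            change algebraMap (T ⧸ J) _ (Ideal.Quotient.mk J a) = 0
            rw [Ideal.Quotient.eq_zero_iff_mem.mpr ha, map_zero]
          rw [this]
          exact Ideal.zero_mem _
        · rw [Ideal.map_le_iff_le_comap]
          intro x hx
          rw [Ideal.mem_comap, Ideal.mem_comap, hgR]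
          exact Ideal.mem_map_of_mem _ hx
      have hgt : IsUnit (g t) :=
        IsLocalization.Away.algebraMap_isUnit (Ideal.Quotient.mk J t)
      have hgt₁ : IsUnit (g t₁) := by
        have hmul : g t = g t₁ * g t₃ := map_mul g t₁ t₃
        rw [hmul] at hgt
        exact isUnit_of_mul_isUnit_left hgt
      apply le_antisymm
      · intro x hx
        obtain ⟨⟨abar, s⟩, hxs⟩ := IsLocalization.surj (Submonoid.powers (Ideal.Quotient.mk J t)) x
        obtain ⟨τ, rfl⟩ := Ideal.Quotient.mk_surjective abar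
        have hs : IsUnit (algebraMap (T ⧸ J) (Localization.Away (Ideal.Quotient.mk J t)) s) :=
          IsLocalization.map_units _ s
        have h1 : ΦT τ = 0 := by
          rw [← hΦg, ← hxs, map_mul, (RingHom.mem_ker).mp hx, zero_mul]
        have h2 : τ ∈ 𝔞T := (hΦker τ).mp h1
        have h3 : g (t₁ * τ) ∈ I.map (algebraMap R _) := hgL (ht₁L τ h2)
        rw [show g (t₁ * τ) = g t₁ * g τ from map_mul g t₁ τ] at h3
        have h4 : g τ ∈ I.map (algebraMap R (Localization.Away (Ideal.Quotient.mk J t))) :=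
          (Ideal.unit_mul_mem_iff_mem _ hgt₁).mp h3
        have h5 : x * algebraMap (T ⧸ J) _ (s : T ⧸ J) ∈
            I.map (algebraMap R (Localization.Away (Ideal.Quotient.mk J t))) := by
          rw [hxs]; exact h4
        exact (Ideal.mul_unit_mem_iff_mem _ hs).mp h5
      · rw [Ideal.map_le_iff_le_comap]
        intro i hi
        rw [Ideal.mem_comap, RingHom.mem_ker, AlgHom.commutes]
        exact hIA i hi

end Core

end Groth.Agent.Helper2.SyLift
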