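import Mathlib

/-!
# Symmetric algebra of a projective module: formal smoothness and Kähler differentials
-/

universe u

namespace Groth.Agent.Helper2.SymSm

section

open TensorProduct KaehlerDifferential

variable (A : Type u) (M : Type u) [CommRing A] [AddCommGroup M] [Module A M]

/-- `Sym_A(M)` is formally smooth over `A` when `M` is projective. -/
theorem formallySmooth_sym [Module.Projective A M] :
    Algebra.FormallySmooth A (SymmetricAlgebra A M) := by
  apply Algebra.FormallySmooth.of_comp_surjective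
  intro E _ _ I _ f
  have hsurj : Function.Surjective (Ideal.Quotient.mkₐ A I).toLinearMap :=
    Ideal.Quotient.mk_surjective
  obtain ⟨h', hh'⟩ := Module.projective_lifting_property (Ideal.Quotient.mkₐ A I).toLinearMap
    (f.toLinearMap ∘ₗ SymmetricAlgebra.ι A M) hsurj
  refine ⟨SymmetricAlgebra.lift h', ?_⟩
  apply SymmetricAlgebra.algHom_ext
  ext m
  have := congrArg (fun g => g m) hh'
  simpa using this

/-- The algebra map `Sym_A(M) → Sym_A(M) ⊕ ε (Sym_A(M) ⊗ M)` defining the universal derivation. -/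
noncomputable def toTSZ : SymmetricAlgebra A M →ₐ[A]
    TrivSqZeroExt (SymmetricAlgebra A M) (SymmetricAlgebra A M ⊗[A] M) :=
  SymmetricAlgebra.lift
    ((TrivSqZeroExt.inlAlgHom A (SymmetricAlgebra A M) (SymmetricAlgebra A M ⊗[A] M)).toLinearMap ∘ₗ
        SymmetricAlgebra.ι A M +
      (TrivSqZeroExt.inrHom (SymmetricAlgebra A M) (SymmetricAlgebra A M ⊗[A] M)).restrictScalars A ∘ₗ
        (TensorProduct.mk A (SymmetricAlgebra A M) M 1))

lemma toTSZ_ι (m : M) : toTSZ A M (SymmetricAlgebra.ι A M m) =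
    TrivSqZeroExt.inl (SymmetricAlgebra.ι A M m) + TrivSqZeroExt.inr ((1 : SymmetricAlgebra A M) ⊗ₜ[A] m) := by
  simp [toTSZ]

lemma fst_toTSZ (z : SymmetricAlgebra A M) : (toTSZ A M z).fst = z := by
  have : (TrivSqZeroExt.fstHom A (SymmetricAlgebra A M) (SymmetricAlgebra A M ⊗[A] M)).comp (toTSZ A M) =
      AlgHom.id A _ := by
    apply SymmetricAlgebra.algHom_ext
    ext m
    simp [toTSZ_ι]
  exact congrArg (fun g => g z) this

/-- The universal `A`-derivation of `Sym_A(M)`, with values in `Sym_A(M) ⊗ M`. -/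
noncomputable def symDer : Derivation A (SymmetricAlgebra A M) (SymmetricAlgebra A M ⊗[A] M) where
  toFun z := (toTSZ A M z).snd
  map_add' x y := by rw [map_add, TrivSqZeroExt.snd_add]
  map_smul' a x := by rw [map_smul, TrivSqZeroExt.snd_smul]; rfl
  map_one_eq_zero' := by
    change (toTSZ A M 1).snd = 0
    rw [map_one, TrivSqZeroExt.snd_one]
  leibniz' x y := by
    change (toTSZ A M (x * y)).snd = x • (toTSZ A M y).snd + y • (toTSZ A M x).snd
    rw [map_mul, TrivSqZeroExt.snd_mul, fst_toTSZ, fst_toTSZ, op_smul_eq_smul]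

lemma symDer_ι (m : M) : symDer A M (SymmetricAlgebra.ι A M m) = (1 : SymmetricAlgebra A M) ⊗ₜ[A] m := by
  change (toTSZ A M (SymmetricAlgebra.ι A M m)).snd = _
  rw [toTSZ_ι]
  simp

/-- `Ω[Sym_A(M)/A] ≃ Sym_A(M) ⊗ M`. -/
noncomputable def kaehlerSymEquiv :
    Ω[SymmetricAlgebra A M⁄A] ≃ₗ[SymmetricAlgebra A M] SymmetricAlgebra A M ⊗[A] M := by
  refine LinearEquiv.ofLinearMap ((symDer A M).liftKaehlerDifferential)
    (LinearMap.liftBaseChange (SymmetricAlgebra A M)
      (((D A (SymmetricAlgebra A M)).toLinearMap) ∘ₗ (SymmetricAlgebra.ι A M))) ?_ ?_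
  · -- on `C ⊗ M`
    apply TensorProduct.AlgebraTensorModule.curry_injective
    ext m
    simp [symDer_ι]
  · -- on Ω
    apply (KaehlerDifferential.linearMapEquivDerivation A (SymmetricAlgebra A M)).injective
    apply Derivation.ext
    intro z
    simp only [linearMapEquivDerivation_apply_apply, LinearMap.coe_comp, Function.comp_apply,
      LinearMap.id_coe, id_eq, Derivation.liftKaehlerDifferential_comp_D]
    induction z using SymmetricAlgebra.induction with
    | algebraMap r => simp
    | ι m => simp [symDer_ι]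
    | mul a b ha hb =>
      rw [Derivation.leibniz, map_add, map_smul, map_smul, ha, hb, Derivation.leibniz]
    | add a b ha hb => rw [map_add, map_add, ha, hb, map_add]

lemma kaehlerSymEquiv_D_ι (m : M) :
    kaehlerSymEquiv A M (D A (SymmetricAlgebra A M) (SymmetricAlgebra.ι A M m)) =
      (1 : SymmetricAlgebra A M) ⊗ₜ[A] m := by
  simp [kaehlerSymEquiv, symDer_ι]

end

end Groth.Agent.Helper2.SymSm
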