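import Mathlib
import Groth.Agent.Lib.Helper2.SymSm1

/-!
# Differentials of `Sym_A(M)` over a base `R`: generation near the zero section
-/

universe u

namespace Groth.Agent.Helper2.SymSm

section

open TensorProduct KaehlerDifferential

variable {R A : Type u} [CommRing R] [CommRing A] [Algebra R A]
variable {M F : Type u} [AddCommGroup M] [Module A M] [AddCommGroup F] [Module A F]
variable {n : ℕ} (bF : Module.Basis (Fin n) A F)
variable (cc : M →ₗ[A] F) (l : F →ₗ[A] M)
variable (π : F →ₗ[A] Ω[A⁄R])
variable (x : Fin n → A)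
variable [Algebra R (SymmetricAlgebra A M)] [IsScalarTower R A (SymmetricAlgebra A M)]

/-- The augmentation ideal of `Sym_A(M)`. -/
noncomputable def augIdeal (A M : Type u) [CommRing A] [AddCommGroup M] [Module A M] :
    Ideal (SymmetricAlgebra A M) :=
  RingHom.ker (SymmetricAlgebra.algebraMapInv (R := A) (M := M))

lemma ι_mem_augIdeal (m : M) : SymmetricAlgebra.ι A M m ∈ augIdeal A M := by
  simp [augIdeal, RingHom.mem_ker, SymmetricAlgebra.algebraMapInv_ι]

/-- The elements `b_j = x_j + ι (l e_j)`. -/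
noncomputable def bel (j : Fin n) : SymmetricAlgebra A M :=
  algebraMap A (SymmetricAlgebra A M) (x j) + SymmetricAlgebra.ι A M (l (bF j))

/-- The submodule `span (D b_j) ⊔ J • ⊤` of `Ω[Sym/R]`. -/
noncomputable def Nsub : Submodule (SymmetricAlgebra A M) Ω[SymmetricAlgebra A M⁄R] :=
  Submodule.span (SymmetricAlgebra A M) (Set.range fun j => D R (SymmetricAlgebra A M) (bel bF l x j)) ⊔
    augIdeal A M • ⊤

include bF in
lemma D_ι_mem (hl : l ∘ₗ cc = LinearMap.id) (hex : Function.Exact cc π)
    (hx : ∀ j, π (bF j) = D R A (x j)) (m : M) :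
    D R (SymmetricAlgebra A M) (SymmetricAlgebra.ι A M m) ∈ Nsub (R := R) bF l x := by
  classical
  set C := SymmetricAlgebra A M
  set c : Fin n → A := fun j => bF.repr (cc m) j with hc
  have hm : m = ∑ j, c j • l (bF j) := by
    have h1 : cc m = ∑ j, c j • bF j := (bF.sum_repr (cc m)).symm
    have h2 : l (cc m) = m := congrArg (fun g => g m) hl
    rw [← h2, h1, map_sum]
    simp
  have h1 : SymmetricAlgebra.ι A M m =
      ∑ j, algebraMap A C (c j) * SymmetricAlgebra.ι A M (l (bF j)) := by
    conv_lhs => rw [hm]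
    rw [map_sum]
    refine Finset.sum_congr rfl fun j _ => ?_
    rw [map_smul, Algebra.smul_def]
  have h2 : ∑ j, algebraMap A C (c j) • D R C (algebraMap A C (x j)) = 0 := by
    have h3 : ∑ j, c j • D R A (x j) = 0 := by
      have : π (cc m) = 0 := hex.apply_apply_eq_zero m
      rw [(bF.sum_repr (cc m)).symm, map_sum] at this
      simpa [hx] using this
    have h4 := congrArg (KaehlerDifferential.map R R A C) h3
    rw [map_sum, map_zero] at h4
    rw [← h4]
    refine Finset.sum_congr rfl fun j _ => ?_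
    rw [map_smul, KaehlerDifferential.map_D, algebraMap_smul]
  have h5 : D R C (SymmetricAlgebra.ι A M m) =
      ∑ j, algebraMap A C (c j) • D R C (bel bF l x j) +
        ∑ j, SymmetricAlgebra.ι A M (l (bF j)) • D R C (algebraMap A C (c j)) := by
    rw [h1, map_sum]
    simp only [Derivation.leibniz, bel, map_add, smul_add, Finset.sum_add_distrib]
    rw [h2, zero_add]
  rw [h5]
  refine Submodule.add_mem _ (Submodule.mem_sup_left ?_) (Submodule.mem_sup_right ?_)
  · exact Submodule.sum_mem _ fun j _ => Submodule.smul_mem _ _ (Submodule.subset_span ⟨j, rfl⟩)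
  · exact Submodule.sum_mem _ fun j _ =>
      Submodule.smul_mem_smul (ι_mem_augIdeal _) Submodule.mem_top

include bF in
lemma D_algebraMap_x_mem (hl : l ∘ₗ cc = LinearMap.id) (hex : Function.Exact cc π)
    (hx : ∀ j, π (bF j) = D R A (x j)) (j : Fin n) :
    D R (SymmetricAlgebra A M) (algebraMap A (SymmetricAlgebra A M) (x j)) ∈
      Nsub (R := R) bF l x := by
  have h : D R (SymmetricAlgebra A M) (algebraMap A (SymmetricAlgebra A M) (x j)) =
      D R (SymmetricAlgebra A M) (bel bF l x j) -
        D R (SymmetricAlgebra A M) (SymmetricAlgebra.ι A M (l (bF j))) := by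
    simp [bel]
  rw [h]
  exact Submodule.sub_mem _ (Submodule.mem_sup_left (Submodule.subset_span ⟨j, rfl⟩))
    (D_ι_mem bF cc l π x hl hex hx _)

include bF in
lemma D_algebraMap_mem (hl : l ∘ₗ cc = LinearMap.id) (hex : Function.Exact cc π)
    (hπ : Function.Surjective π)
    (hx : ∀ j, π (bF j) = D R A (x j)) (a : A) :
    D R (SymmetricAlgebra A M) (algebraMap A (SymmetricAlgebra A M) a) ∈
      Nsub (R := R) bF l x := by
  classical
  set C := SymmetricAlgebra A M
  obtain ⟨f, hf⟩ := hπ (D R A a)
  have h1 : D R A a = ∑ j, bF.repr f j • D R A (x j) := by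
    rw [← hf]
    conv_lhs => rw [(bF.sum_repr f).symm]
    rw [map_sum]
    simp [hx]
  have h2 : D R C (algebraMap A C a) =
      ∑ j, algebraMap A C (bF.repr f j) • D R C (algebraMap A C (x j)) := by
    rw [← KaehlerDifferential.map_D R R A C, h1, map_sum]
    refine Finset.sum_congr rfl fun j _ => ?_
    rw [map_smul, KaehlerDifferential.map_D, algebraMap_smul]
  rw [h2]
  exact Submodule.sum_mem _ fun j _ => Submodule.smul_mem _ _
    (D_algebraMap_x_mem bF cc l π x hl hex hx j)

include bF in
lemma D_mem (hl : l ∘ₗ cc = LinearMap.id) (hex : Function.Exact cc π)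
    (hπ : Function.Surjective π)
    (hx : ∀ j, π (bF j) = D R A (x j)) (z : SymmetricAlgebra A M) :
    D R (SymmetricAlgebra A M) z ∈ Nsub (R := R) bF l x := by
  induction z using SymmetricAlgebra.induction with
  | algebraMap a => exact D_algebraMap_mem bF cc l π x hl hex hπ hx a
  | ι m => exact D_ι_mem bF cc l π x hl hex hx m
  | mul a b ha hb =>
    rw [Derivation.leibniz]
    exact Submodule.add_mem _ (Submodule.smul_mem _ _ hb) (Submodule.smul_mem _ _ ha)
  | add a b ha hb =>
    rw [map_add]
    exact Submodule.add_mem _ ha hb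

include bF in
lemma Nsub_eq_top (hl : l ∘ₗ cc = LinearMap.id) (hex : Function.Exact cc π)
    (hπ : Function.Surjective π)
    (hx : ∀ j, π (bF j) = D R A (x j)) :
    Nsub (R := R) bF l x = ⊤ := by
  rw [eq_top_iff, ← KaehlerDifferential.span_range_derivation R (SymmetricAlgebra A M),
    Submodule.span_le]
  rintro _ ⟨z, rfl⟩
  exact D_mem bF cc l π x hl hex hπ hx z

include bF in
/-- Nakayama: some `g ∈ 1 + J` multiplies all of `Ω[Sym/R]` into the span of the `D b_j`. -/
lemma exists_g (hl : l ∘ₗ cc = LinearMap.id) (hex : Function.Exact cc π)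
    (hπ : Function.Surjective π)
    (hx : ∀ j, π (bF j) = D R A (x j))
    [Module.Finite (SymmetricAlgebra A M) Ω[SymmetricAlgebra A M⁄R]] :
    ∃ g : SymmetricAlgebra A M, g - 1 ∈ augIdeal A M ∧
      ∀ ω : Ω[SymmetricAlgebra A M⁄R], g • ω ∈
        Submodule.span (SymmetricAlgebra A M)
          (Set.range fun j => D R (SymmetricAlgebra A M) (bel bF l x j)) := by
  set C := SymmetricAlgebra A M
  set N₀ : Submodule C Ω[C⁄R] :=
    Submodule.span C (Set.range fun j => D R C (bel bF l x j)) with hN₀
  have htop : (⊤ : Submodule C (Ω[C⁄R] ⧸ N₀)) ≤ augIdeal A M • ⊤ := by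
    have h1 := Nsub_eq_top (R := R) bF cc l π x hl hex hπ hx
    have h2 := congrArg (Submodule.map N₀.mkQ) h1
    rw [Nsub, Submodule.map_sup, Submodule.map_smul'', Submodule.map_top, Submodule.range_mkQ,
      Submodule.mkQ_map_self, bot_sup_eq] at h2
    exact h2.ge
  obtain ⟨g, hg1, hg2⟩ := Submodule.exists_sub_one_mem_and_smul_eq_zero_of_fg_of_le_smul
    (augIdeal A M) (⊤ : Submodule C (Ω[C⁄R] ⧸ N₀)) (Module.Finite.fg_top) htop
  refine ⟨g, hg1, fun ω => ?_⟩
  have := hg2 (N₀.mkQ ω) Submodule.mem_top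
  rw [← map_smul, Submodule.mkQ_apply, Submodule.Quotient.mk_eq_zero] at this
  exact this

end

end Groth.Agent.Helper2.SymSm
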