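import Mathlib
import Groth.Agent.Lib.Helper2.SymSm2

/-!
# `Ω[Sym_A(M)/R]` is abstractly free when `0 → M → F → Ω[A/R] → 0` is split exact with `F` free
-/

universe u

namespace Groth.Agent.Helper2.SymSm

section

open TensorProduct KaehlerDifferential

variable {R A : Type u} [CommRing R] [CommRing A] [Algebra R A]
variable {M F : Type u} [AddCommGroup M] [Module A M] [AddCommGroup F] [Module A F]
variable {n : ℕ} (bF : Module.Basis (Fin n) A F)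
variable (cc : M →ₗ[A] F) (l : F →ₗ[A] M)
variable (π : F →ₗ[A] Ω[A⁄R])
variable [Algebra R (SymmetricAlgebra A M)] [IsScalarTower R A (SymmetricAlgebra A M)]

local notation "C" => SymmetricAlgebra A M

include bF in
theorem nonempty_kaehler_equiv_pi (hl : l ∘ₗ cc = LinearMap.id) (hex : Function.Exact cc π)
    (hπ : Function.Surjective π) [Algebra.FormallySmooth A (SymmetricAlgebra A M)] :
    Nonempty (Ω[SymmetricAlgebra A M⁄R] ≃ₗ[SymmetricAlgebra A M] (Fin n → SymmetricAlgebra A M)) := by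
  classical
  -- the split exact sequence `0 → C ⊗ Ω[A/R] → Ω[C/R] → Ω[C/A] → 0`
  have hinj : Function.Injective (mapBaseChange R A C) := by
    rw [injective_iff_map_eq_zero]
    intro y hy
    obtain ⟨y', rfl⟩ := (Algebra.H1Cotangent.exact_δ_mapBaseChange R A C y).mp hy
    rw [Subsingleton.elim y' 0, map_zero]
  have hex2 : Function.Exact (mapBaseChange R A C) (KaehlerDifferential.map R A C C) :=
    KaehlerDifferential.exact_mapBaseChange_map R A C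
  have hsurj2 : Function.Surjective (KaehlerDifferential.map R A C C) :=
    KaehlerDifferential.map_surjective R A C
  obtain ⟨s, hs⟩ := Module.projective_lifting_property (KaehlerDifferential.map R A C C)
    (LinearMap.id : Ω[C⁄A] →ₗ[C] Ω[C⁄A]) hsurj2
  obtain ⟨e1, -⟩ := hex2.splitSurjectiveEquiv hinj ⟨s, hs⟩
  -- `F ≃ M × Ω[A/R]`
  obtain ⟨e2, -⟩ := hex.splitInjectiveEquiv hπ ⟨l, hl⟩
  -- assemble
  let e3 : ((C ⊗[A] Ω[A⁄R]) × Ω[C⁄A]) ≃ₗ[C] ((C ⊗[A] Ω[A⁄R]) × (C ⊗[A] M)) :=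
    LinearEquiv.prodCongr (LinearEquiv.refl C (C ⊗[A] Ω[A⁄R])) (kaehlerSymEquiv A M)
  let e4 : ((C ⊗[A] Ω[A⁄R]) × (C ⊗[A] M)) ≃ₗ[C] ((C ⊗[A] M) × (C ⊗[A] Ω[A⁄R])) :=
    LinearEquiv.prodComm C _ _
  let e5 : (C ⊗[A] (M × Ω[A⁄R])) ≃ₗ[C] ((C ⊗[A] M) × (C ⊗[A] Ω[A⁄R])) :=
    TensorProduct.prodRight A C C M Ω[A⁄R]
  let e6 : (C ⊗[A] F) ≃ₗ[C] (C ⊗[A] (M × Ω[A⁄R])) :=
    TensorProduct.AlgebraTensorModule.congr (LinearEquiv.refl C C) e2
  let e7 : (C ⊗[A] F) ≃ₗ[C] (C ⊗[A] (Fin n → A)) :=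
    TensorProduct.AlgebraTensorModule.congr (LinearEquiv.refl C C) bF.equivFun
  let e8 : (C ⊗[A] (Fin n → A)) ≃ₗ[C] (Fin n → C) := TensorProduct.piScalarRight A C C (Fin n)
  exact ⟨e1 ≪≫ₗ e3 ≪≫ₗ e4 ≪≫ₗ e5.symm ≪≫ₗ e6.symm ≪≫ₗ e7 ≪≫ₗ e8⟩

end

end Groth.Agent.Helper2.SymSm
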