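import Mathlib
import Groth.Agent.Lib.Helper2.SymSm3

/-!
# Retracts of finitely presented algebras; finite presentation of `Sym_A(M)` for `M` a retract of a
finite free module
-/

universe u

namespace Groth.Agent.Helper2.SymSm

section

variable {A B C : Type u} [CommRing A] [CommRing B] [CommRing C] [Algebra A B] [Algebra A C]

/-- A retract of a finitely presented algebra is finitely presented. -/
theorem finitePresentation_of_retract [Algebra.FinitePresentation A B]
    (i : C →ₐ[A] B) (r : B →ₐ[A] C) (h : r.comp i = AlgHom.id A C) :
    Algebra.FinitePresentation A C := by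
  classical
  have hri : ∀ c, r (i c) = c := fun c => congrArg (fun g => g c) h
  have hsurj : Function.Surjective r := fun c => ⟨i c, hri c⟩
  obtain ⟨s, hs⟩ := (Algebra.FiniteType.out : (⊤ : Subalgebra A B).FG)
  refine Algebra.FinitePresentation.of_surjective hsurj ?_
  refine ⟨s.image fun b => b - i (r b), ?_⟩
  set K : Ideal B := Ideal.span ((s.image fun b => b - i (r b) : Finset B) : Set B) with hK
  apply le_antisymm
  · rw [hK, Ideal.span_le]
    intro z hz
    simp only [Finset.coe_image, Set.mem_image, Finset.mem_coe] at hz
    obtain ⟨b, -, rfl⟩ := hz
    simp [RingHom.mem_ker, hri]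
  · intro z hz
    have hz0 : r z = 0 := hz
    have key : ∀ z : B, z - i (r z) ∈ K := by
      intro z
      have hzt : z ∈ Algebra.adjoin A (s : Set B) := by rw [hs]; trivial
      induction hzt using Algebra.adjoin_induction with
      | mem x hx =>
        exact Ideal.subset_span (by
          simp only [Finset.coe_image, Set.mem_image, Finset.mem_coe]
          exact ⟨x, hx, rfl⟩)
      | algebraMap a => simp
      | add x y _ _ hx hy =>
        have : x + y - i (r (x + y)) = (x - i (r x)) + (y - i (r y)) := by
          simp only [map_add]; ring
        rw [this]; exact K.add_mem hx hy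
      | mul x y _ _ hx hy =>
        have : x * y - i (r (x * y)) = (x - i (r x)) * y + i (r x) * (y - i (r y)) := by
          simp only [map_mul]; ring
        rw [this]
        exact K.add_mem (K.mul_mem_right _ hx) (K.mul_mem_left _ hy)
    have := key z
    rwa [hz0, map_zero, sub_zero] at this

end

section

variable {A : Type u} [CommRing A]
variable {M F : Type u} [AddCommGroup M] [Module A M] [AddCommGroup F] [Module A F]
variable {n : ℕ} (bF : Module.Basis (Fin n) A F)
variable (cc : M →ₗ[A] F) (l : F →ₗ[A] M)

include bF in
theorem finitePresentation_sym (hl : l ∘ₗ cc = LinearMap.id) :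
    Algebra.FinitePresentation A (SymmetricAlgebra A M) := by
  haveI : Algebra.FinitePresentation A (SymmetricAlgebra A F) :=
    Algebra.FinitePresentation.equiv (SymmetricAlgebra.equivMvPolynomial bF).symm
  refine finitePresentation_of_retract
    (SymmetricAlgebra.lift (SymmetricAlgebra.ι A F ∘ₗ cc))
    (SymmetricAlgebra.lift (SymmetricAlgebra.ι A M ∘ₗ l)) ?_
  apply SymmetricAlgebra.algHom_ext
  ext m
  have := congrArg (fun g => g m) hl
  simp only [LinearMap.coe_comp, Function.comp_apply, LinearMap.id_coe, id_eq] at this
  simp [this]

include bF in
theorem projective_of_retract (hl : l ∘ₗ cc = LinearMap.id) : Module.Projective A M := by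
  haveI : Module.Free A F := Module.Free.of_basis bF
  exact Module.Projective.of_split cc l hl

end

end Groth.Agent.Helper2.SymSm
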