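import Mathlib
import Groth.Agent.Lib.Helper2.SymSm4

/-!
# A smooth algebra is a retract of a standard smooth algebra (assembly)
-/

universe u

namespace Groth.Agent.Helper2.SymSm

section

open TensorProduct KaehlerDifferential

variable {R A : Type u} [CommRing R] [CommRing A] [Algebra R A]
variable {M F : Type u} [AddCommGroup M] [Module A M] [AddCommGroup F] [Module A F]
variable {n : ℕ} (bF : Module.Basis (Fin n) A F)
variable (cc : M →ₗ[A] F) (l : F →ₗ[A] M)
variable (π : F →ₗ[A] Ω[A⁄R])
variable (x : Fin n → A)

/-- Key step on a localization `B` of `C` at `g`: the `D b_j` form a basis of `Ω[B/R]`. -/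
theorem isStandardSmooth_of_localization
    {C B : Type u} [CommRing C] [CommRing B] [Algebra R C] [Algebra C B] [Algebra R B]
    [IsScalarTower R C B] [Algebra.Smooth R B]
    (g : C) [IsLocalization.Away g B]
    (eC : Ω[C⁄R] ≃ₗ[C] (Fin n → C)) (b : Fin n → C)
    (hg : ∀ ω : Ω[C⁄R], g • ω ∈ Submodule.span C (Set.range fun j => D R C (b j))) :
    Algebra.IsStandardSmooth R B := by
  classical
  haveI : Algebra.FormallyEtale C B := Algebra.FormallyEtale.of_isLocalization (Rₘ := B) (Submonoid.powers g)
  let eB : Ω[B⁄R] ≃ₗ[B] (Fin n → B) :=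
    (KaehlerDifferential.tensorKaehlerEquivOfFormallyEtale R C B).symm ≪≫ₗ
      (TensorProduct.AlgebraTensorModule.congr (LinearEquiv.refl B B) eC) ≪≫ₗ
      TensorProduct.piScalarRight C B B (Fin n)
  let v : Fin n → Ω[B⁄R] := fun j => D R B (algebraMap C B (b j))
  let φ : (Fin n → B) →ₗ[B] Ω[B⁄R] := Fintype.linearCombination B v
  have hgu : IsUnit (algebraMap C B g) := IsLocalization.Away.algebraMap_isUnit g
  have hsurj : Function.Surjective φ := by
    rw [← LinearMap.range_eq_top, Fintype.range_linearCombination, eq_top_iff,
      ← KaehlerDifferential.span_range_map_derivation_of_isLocalization R C B (Submonoid.powers g),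
      Submodule.span_le]
    rintro _ ⟨z, rfl⟩
    have h1 := hg (D R C z)
    have h2 : (KaehlerDifferential.map R R C B) (g • D R C z) ∈
        Submodule.span B (Set.range v) := by
      have hle : Submodule.span C (Set.range fun j => D R C (b j)) ≤
          Submodule.comap (KaehlerDifferential.map R R C B)
            ((Submodule.span B (Set.range v)).restrictScalars C) := by
        rw [Submodule.span_le]
        rintro _ ⟨j, rfl⟩
        simp only [Submodule.comap_coe, Submodule.coe_restrictScalars, Set.mem_preimage,
          SetLike.mem_coe]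
        rw [KaehlerDifferential.map_D]
        exact Submodule.subset_span ⟨j, rfl⟩
      exact hle h1
    rw [map_smul, ← algebraMap_smul B g] at h2
    have h3 := Submodule.smul_mem _ (↑hgu.unit⁻¹ : B) h2
    rw [smul_smul, IsUnit.val_inv_mul, one_smul] at h3
    exact h3
  have hinj : Function.Injective φ :=
    OrzechProperty.injective_of_surjective_of_injective eB.symm.toLinearMap φ eB.symm.injective hsurj
  let bas : Module.Basis (Fin n) B Ω[B⁄R] :=
    Module.Basis.ofEquivFun (LinearEquiv.ofBijective φ ⟨hinj, hsurj⟩).symm
  refine Algebra.IsStandardSmooth.of_basis_kaehlerDifferential bas ?_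
  rintro _ ⟨j, rfl⟩
  refine ⟨algebraMap C B (b j), ?_⟩
  simp only [bas, Module.Basis.coe_ofEquivFun, LinearEquiv.symm_symm, LinearEquiv.ofBijective_apply]
  simp [φ, v, Fintype.linearCombination_apply_single]

end

end Groth.Agent.Helper2.SymSm
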