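import Mathlib
import Groth.Prelude.Def_RegImm
import Groth.Agent.Lib.Helper2.SyntRel3

/-!
# Reduction of `R[x]/(F)` modulo an ideal of `R`
-/

set_option autoImplicit false
universe u

namespace Groth.Agent.Helper2.SyntRel

open MvPolynomial Groth.Agent.Helper2.RelGCI

section PieceA

variable (R : Type u) [CommRing R] (n c : ℕ) (F : Fin c → MvPolynomial (Fin n) R) (I : Ideal R)

/-- `R[x] → (R/I)[x]/(F̄)` -/
noncomputable def redA0 : MvPolynomial (Fin n) R →ₐ[R]
    Synt.RelGCIRing (R ⧸ I) n c (Fbar R n c F I) :=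
  (Ideal.Quotient.mkₐ R (Ideal.span (Set.range (Fbar R n c F I)))).comp
    (MvPolynomial.mapAlgHom (Ideal.Quotient.mkₐ R I))

theorem redA0_apply (a : MvPolynomial (Fin n) R) :
    redA0 R n c F I a = Ideal.Quotient.mk (Ideal.span (Set.range (Fbar R n c F I)))
      (MvPolynomial.map (Ideal.Quotient.mk I) a) := rfl

/-- `R[x]/(F) → (R/I)[x]/(F̄)` -/
noncomputable def redA1 : Synt.RelGCIRing R n c F →ₐ[R]
    Synt.RelGCIRing (R ⧸ I) n c (Fbar R n c F I) :=
  Ideal.Quotient.liftₐ (Ideal.span (Set.range F)) (redA0 R n c F I) (by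
    have hle : Ideal.span (Set.range F) ≤ RingHom.ker (redA0 R n c F I).toRingHom := by
      rw [Ideal.span_le]
      rintro _ ⟨i, rfl⟩
      rw [SetLike.mem_coe, RingHom.mem_ker]
      show redA0 R n c F I (F i) = 0
      rw [redA0_apply]
      exact Ideal.Quotient.eq_zero_iff_mem.mpr (Ideal.subset_span ⟨i, rfl⟩)
    exact fun a ha => hle ha)

theorem redA1_mk (a : MvPolynomial (Fin n) R) :
    redA1 R n c F I (Ideal.Quotient.mk _ a) = redA0 R n c F I a := rfl

/-- `(R[x]/(F))/I → (R/I)[x]/(F̄)` -/
noncomputable def redA : (Synt.RelGCIRing R n c F ⧸ I.map (algebraMap R (Synt.RelGCIRing R n c F)))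
    →ₐ[R] Synt.RelGCIRing (R ⧸ I) n c (Fbar R n c F I) :=
  Ideal.Quotient.liftₐ (I.map (algebraMap R (Synt.RelGCIRing R n c F))) (redA1 R n c F I) (by
    have hle : I.map (algebraMap R (Synt.RelGCIRing R n c F)) ≤
        RingHom.ker (redA1 R n c F I).toRingHom := by
      rw [Ideal.map_le_iff_le_comap]
      intro r hr
      rw [Ideal.mem_comap, RingHom.mem_ker]
      show redA1 R n c F I (algebraMap R _ r) = 0
      rw [AlgHom.commutes, IsScalarTower.algebraMap_apply R (R ⧸ I)
        (Synt.RelGCIRing (R ⧸ I) n c (Fbar R n c F I))]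
      have : algebraMap R (R ⧸ I) r = 0 := Ideal.Quotient.eq_zero_iff_mem.mpr hr
      rw [this, map_zero]
    exact fun a ha => hle ha)

theorem redA_mk (s : Synt.RelGCIRing R n c F) :
    redA R n c F I (Ideal.Quotient.mk _ s) = redA1 R n c F I s := rfl

/-- the coefficient map `R/I → (R[x]/(F))/I` -/
noncomputable def coeffB : (R ⧸ I) →+*
    (Synt.RelGCIRing R n c F ⧸ I.map (algebraMap R (Synt.RelGCIRing R n c F))) :=
  Ideal.Quotient.lift I ((Ideal.Quotient.mk _).comp (algebraMap R (Synt.RelGCIRing R n c F)))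
    (fun r hr => by
      rw [RingHom.comp_apply]
      exact Ideal.Quotient.eq_zero_iff_mem.mpr (Ideal.mem_map_of_mem _ hr))

/-- `(R/I)[x] → (R[x]/(F))/I` -/
noncomputable def redB0 : MvPolynomial (Fin n) (R ⧸ I) →+*
    (Synt.RelGCIRing R n c F ⧸ I.map (algebraMap R (Synt.RelGCIRing R n c F))) :=
  MvPolynomial.eval₂Hom (coeffB R n c F I)
    (fun i => Ideal.Quotient.mk _ (Ideal.Quotient.mk (Ideal.span (Set.range F)) (X i)))

theorem redB0_map (a : MvPolynomial (Fin n) R) :
    redB0 R n c F I (MvPolynomial.map (Ideal.Quotient.mk I) a) =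
      Ideal.Quotient.mk _ (Ideal.Quotient.mk (Ideal.span (Set.range F)) a) := by
  have h : (redB0 R n c F I).comp (MvPolynomial.map (Ideal.Quotient.mk I)) =
      (Ideal.Quotient.mk (I.map (algebraMap R (Synt.RelGCIRing R n c F)))).comp
        (Ideal.Quotient.mk (Ideal.span (Set.range F))) := by
    apply MvPolynomial.ringHom_ext
    · intro r
      simp only [RingHom.comp_apply, map_C, redB0, coe_eval₂Hom, eval₂_C]
      rfl
    · intro i
      simp only [RingHom.comp_apply, map_X, redB0, coe_eval₂Hom, eval₂_X]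
  exact RingHom.congr_fun h a

/-- `(R/I)[x]/(F̄) → (R[x]/(F))/I` -/
noncomputable def redB : Synt.RelGCIRing (R ⧸ I) n c (Fbar R n c F I) →+*
    (Synt.RelGCIRing R n c F ⧸ I.map (algebraMap R (Synt.RelGCIRing R n c F))) :=
  Ideal.Quotient.lift (Ideal.span (Set.range (Fbar R n c F I))) (redB0 R n c F I) (by
    have hle : Ideal.span (Set.range (Fbar R n c F I)) ≤ RingHom.ker (redB0 R n c F I) := by
      rw [Ideal.span_le]
      rintro _ ⟨i, rfl⟩
      rw [SetLike.mem_coe, RingHom.mem_ker]
      show redB0 R n c F I (MvPolynomial.map (Ideal.Quotient.mk I) (F i)) = 0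
      rw [redB0_map]
      have : Ideal.Quotient.mk (Ideal.span (Set.range F)) (F i) = 0 :=
        Ideal.Quotient.eq_zero_iff_mem.mpr (Ideal.subset_span ⟨i, rfl⟩)
      rw [this, map_zero]
    exact fun a ha => hle ha)

theorem redB_redA (z : Synt.RelGCIRing R n c F ⧸ I.map (algebraMap R (Synt.RelGCIRing R n c F))) :
    redB R n c F I (redA R n c F I z) = z := by
  obtain ⟨s, rfl⟩ := Ideal.Quotient.mk_surjective z
  obtain ⟨a, rfl⟩ := Ideal.Quotient.mk_surjective s
  rw [redA_mk, redA1_mk, redA0_apply]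
  show redB0 R n c F I _ = _
  rw [redB0_map]

theorem redA_redB (w : Synt.RelGCIRing (R ⧸ I) n c (Fbar R n c F I)) :
    redA R n c F I (redB R n c F I w) = w := by
  obtain ⟨b, rfl⟩ := Ideal.Quotient.mk_surjective w
  obtain ⟨a, rfl⟩ := MvPolynomial.map_surjective (Ideal.Quotient.mk I)
    Ideal.Quotient.mk_surjective b
  show redA R n c F I (redB0 R n c F I _) = _
  rw [redB0_map, redA_mk, redA1_mk, redA0_apply]

/-- **Piece A** -/
noncomputable def redEquiv :
    (Synt.RelGCIRing R n c F ⧸ I.map (algebraMap R (Synt.RelGCIRing R n c F))) ≃ₐ[R]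
      Synt.RelGCIRing (R ⧸ I) n c (Fbar R n c F I) :=
  AlgEquiv.ofBijective (redA R n c F I)
    ⟨Function.LeftInverse.injective (redB_redA R n c F I),
      Function.RightInverse.surjective (redA_redB R n c F I)⟩

end PieceA

section PieceB

variable {R S : Type u} [CommRing R] [CommRing S] [Algebra R S] (I : Ideal R) (g : S)
  (hg : Ideal.Quotient.mk (I.map (algebraMap R S)) g = 1)

/-- `S/IS → S_g/IS_g` -/
noncomputable def locA : (S ⧸ I.map (algebraMap R S)) →ₐ[R]
    (Localization.Away g ⧸ I.map (algebraMap R (Localization.Away g))) :=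
  Ideal.Quotient.liftₐ (I.map (algebraMap R S))
    ((Ideal.Quotient.mkₐ R (I.map (algebraMap R (Localization.Away g)))).comp
      (IsScalarTower.toAlgHom R S (Localization.Away g))) (by
    have hle : I.map (algebraMap R S) ≤ RingHom.ker
        ((Ideal.Quotient.mkₐ R (I.map (algebraMap R (Localization.Away g)))).comp
          (IsScalarTower.toAlgHom R S (Localization.Away g))).toRingHom := by
      rw [Ideal.map_le_iff_le_comap]
      intro r hr
      rw [Ideal.mem_comap, RingHom.mem_ker]
      show Ideal.Quotient.mk _ (algebraMap S (Localization.Away g) (algebraMap R S r)) = 0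
      rw [← IsScalarTower.algebraMap_apply]
      exact Ideal.Quotient.eq_zero_iff_mem.mpr (Ideal.mem_map_of_mem _ hr)
    exact fun a ha => hle ha)

theorem locA_mk (s : S) : locA I g (Ideal.Quotient.mk _ s) =
    Ideal.Quotient.mk _ (algebraMap S (Localization.Away g) s) := rfl

include hg in
theorem isUnit_mk_g : IsUnit (Ideal.Quotient.mk (I.map (algebraMap R S)) g) := by
  rw [hg]; exact isUnit_one

/-- `S_g → S/IS` -/
noncomputable def locB1 : Localization.Away g →+* (S ⧸ I.map (algebraMap R S)) :=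
  IsLocalization.Away.lift g (isUnit_mk_g I g hg)

theorem locB1_algebraMap (s : S) : locB1 I g hg (algebraMap S _ s) = Ideal.Quotient.mk _ s :=
  IsLocalization.Away.lift_eq g (isUnit_mk_g I g hg) s

/-- `S_g/IS_g → S/IS` -/
noncomputable def locB : (Localization.Away g ⧸ I.map (algebraMap R (Localization.Away g))) →+*
    (S ⧸ I.map (algebraMap R S)) :=
  Ideal.Quotient.lift _ (locB1 I g hg) (by
    have hle : I.map (algebraMap R (Localization.Away g)) ≤ RingHom.ker (locB1 I g hg) := by
      rw [Ideal.map_le_iff_le_comap]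
      intro r hr
      rw [Ideal.mem_comap, RingHom.mem_ker, IsScalarTower.algebraMap_apply R S (Localization.Away g),
        locB1_algebraMap]
      exact Ideal.Quotient.eq_zero_iff_mem.mpr (Ideal.mem_map_of_mem _ hr)
    exact fun a ha => hle ha)

theorem locB_locA (z : S ⧸ I.map (algebraMap R S)) : locB I g hg (locA I g z) = z := by
  obtain ⟨s, rfl⟩ := Ideal.Quotient.mk_surjective z
  rw [locA_mk]
  show locB1 I g hg _ = _
  rw [locB1_algebraMap]

theorem locA_locB (w : Localization.Away g ⧸ I.map (algebraMap R (Localization.Away g))) :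
    locA I g (locB I g hg w) = w := by
  have h : ((locA I g).toRingHom.comp (locB I g hg)).comp
      (Ideal.Quotient.mk (I.map (algebraMap R (Localization.Away g)))) =
      Ideal.Quotient.mk (I.map (algebraMap R (Localization.Away g))) := by
    apply IsLocalization.ringHom_ext (Submonoid.powers g)
    refine RingHom.ext fun s => ?_
    simp only [RingHom.comp_apply]
    show locA I g (locB1 I g hg (algebraMap S _ s)) = _
    rw [locB1_algebraMap, locA_mk]
  obtain ⟨t, rfl⟩ := Ideal.Quotient.mk_surjective w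
  exact RingHom.congr_fun h t

/-- **Piece B** -/
noncomputable def locEquiv : (S ⧸ I.map (algebraMap R S)) ≃ₐ[R]
    (Localization.Away g ⧸ I.map (algebraMap R (Localization.Away g))) :=
  AlgEquiv.ofBijective (locA I g)
    ⟨Function.LeftInverse.injective (locB_locA I g hg),
      Function.RightInverse.surjective (locA_locB I g hg)⟩

end PieceB

end Groth.Agent.Helper2.SyntRel
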