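import Mathlib
import Groth.Prelude.Def_RegImm
import Groth.Prelude.Def_Flat
import Groth.Agent.Lib.Helper2.SyntRel3

/-!
# Syntomic algebras are locally quotients of polynomial rings by regular sequences
-/

set_option autoImplicit false
universe u

namespace Groth.Agent.Helper2.SyntRel

open MvPolynomial Groth.Agent.Helper2.FCR Groth.Agent.Helper2.SyntLCI TensorProduct
  Groth.Agent.Helper2.GCILoc IsLocalRing Groth.Agent.Helper2.AwayIso Groth.Agent.Helper2.RelGCI

section Reg

variable (R : Type u) [CommRing R] (n : ℕ)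

/-- `h·y - 1` is a non-zero-divisor of `R[x, y]` -/
theorem nzd_last (h : MvPolynomial (Fin n) R) :
    IsSMulRegular (MvPolynomial (Fin (n + 1)) R)
      (rename Fin.castSucc h * X (Fin.last n) - 1 : MvPolynomial (Fin (n + 1)) R) := by
  set r : MvPolynomial (Fin (n + 1)) R := rename Fin.castSucc h * X (Fin.last n) - 1 with hr
  have hunit : IsUnit ((r : MvPolynomial (Fin (n + 1)) R) : MvPowerSeries (Fin (n + 1)) R) := by
    rw [MvPowerSeries.isUnit_iff_constantCoeff]
    have h1 : MvPowerSeries.constantCoeff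
        ((r : MvPolynomial (Fin (n + 1)) R) : MvPowerSeries (Fin (n + 1)) R) =
        MvPolynomial.constantCoeff r := by
      rw [← MvPowerSeries.coeff_zero_eq_constantCoeff_apply, MvPolynomial.coeff_coe,
        MvPolynomial.constantCoeff_eq]
    rw [h1, hr]
    simp only [map_sub, map_mul, MvPolynomial.constantCoeff_X, mul_zero, map_one, zero_sub]
    exact isUnit_one.neg
  intro a b hab
  have hab' : r * a = r * b := hab
  have h2 := congrArg (fun z : MvPolynomial (Fin (n + 1)) R =>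
    (z : MvPowerSeries (Fin (n + 1)) R)) hab'
  simp only [MvPolynomial.coe_mul] at h2
  exact MvPolynomial.coe_injective _ _ (hunit.mul_left_cancel h2)

variable (c : ℕ) (F : Fin c → MvPolynomial (Fin n) R) (h : MvPolynomial (Fin n) R)

/-- a non-zero-divisor on `D(h) ⊆ Spec R[x]/(F)` stays one modulo `(F, h·y - 1)` in `R[x, y]` -/
theorem nzd_step (a : MvPolynomial (Fin n) R)
    (ha : ∀ x, (∃ m : ℕ, h ^ m * (a * x) ∈ Ideal.span (Set.range F)) →
      ∃ m' : ℕ, h ^ m' * x ∈ Ideal.span (Set.range F))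
    (z : MvPolynomial (Fin (n + 1)) R)
    (hz : rename Fin.castSucc a * z ∈ Ideal.span (Set.range (F' R n c F h))) :
    z ∈ Ideal.span (Set.range (F' R n c F h)) := by
  rw [← Ideal.Quotient.eq_zero_iff_mem] at hz ⊢
  have hinj : Function.Injective (awayEquiv R n c F h).symm := (awayEquiv R n c F h).symm.injective
  apply hinj
  rw [map_zero]
  have hsymm : ∀ w, (awayEquiv R n c F h).symm (Ideal.Quotient.mk _ w) = beta0 R n c F h w :=
    fun w => rfl
  have h1 := congrArg (awayEquiv R n c F h).symm hz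
  rw [map_zero, hsymm, map_mul, beta0_rename] at h1
  rw [hsymm]
  obtain ⟨⟨x', s⟩, hx's⟩ := IsLocalization.surj (Submonoid.powers (gEl R n c F h))
    (beta0 R n c F h z)
  obtain ⟨x, rfl⟩ := Ideal.Quotient.mk_surjective x'
  obtain ⟨_, j, rfl⟩ := s
  simp only at hx's
  -- `a x = 0` in the localization
  have h2 : algebraMap (Synt.RelGCIRing R n c F) (Localization.Away (gEl R n c F h))
      (Ideal.Quotient.mk _ (a * x)) = 0 := by
    rw [map_mul, map_mul, ← hx's, ← mul_assoc, h1, zero_mul]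
  rw [IsLocalization.map_eq_zero_iff (Submonoid.powers (gEl R n c F h))] at h2
  obtain ⟨⟨_, m, rfl⟩, hm⟩ := h2
  simp only [gEl] at hm
  rw [← map_pow, ← map_mul, Ideal.Quotient.eq_zero_iff_mem] at hm
  obtain ⟨m', hm'⟩ := ha x ⟨m, hm⟩
  have h3 : algebraMap (Synt.RelGCIRing R n c F) (Localization.Away (gEl R n c F h))
      (Ideal.Quotient.mk _ x) = 0 := by
    rw [IsLocalization.map_eq_zero_iff (Submonoid.powers (gEl R n c F h))]
    refine ⟨⟨_, m', rfl⟩, ?_⟩
    simp only [gEl]
    rw [← map_pow, ← map_mul, Ideal.Quotient.eq_zero_iff_mem]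
    exact hm'
  rw [h3] at hx's
  have hu : IsUnit (algebraMap (Synt.RelGCIRing R n c F) (Localization.Away (gEl R n c F h))
      (gEl R n c F h ^ j)) :=
    IsLocalization.map_units _ (⟨_, j, rfl⟩ : Submonoid.powers (gEl R n c F h))
  exact (hu.mul_left_eq_zero).mp hx's

/-- `(h·y - 1, l)` generates the same ideal as the extended system of equations -/
theorem ofList_cons_eq (l : List (MvPolynomial (Fin n) R)) :
    Ideal.ofList ((rename Fin.castSucc h * X (Fin.last n) - 1) :: l.map (rename Fin.castSucc)) =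
      Ideal.span (Set.range (F' R n l.length l.get h)) := by
  apply le_antisymm
  · rw [Ideal.ofList, Ideal.span_le]
    intro a ha
    rcases List.mem_cons.mp (show a ∈ ((rename Fin.castSucc h * X (Fin.last n) - 1) ::
      l.map (rename Fin.castSucc) : List _) from ha) with rfl | ha
    · apply Ideal.subset_span
      exact ⟨Fin.last l.length, by simp [F']⟩
    · obtain ⟨b, hb, rfl⟩ := List.mem_map.mp ha
      obtain ⟨j, rfl⟩ := List.mem_iff_get.mp hb
      apply Ideal.subset_span
      exact ⟨j.castSucc, by simp [F']⟩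
  · rw [Ideal.span_le]
    rintro _ ⟨j, rfl⟩
    refine Fin.lastCases ?_ (fun i => ?_) j
    · apply Ideal.subset_span
      simp [F']
    · apply Ideal.subset_span
      have : F' R n l.length l.get h i.castSucc = rename Fin.castSucc (l.get i) := by simp [F']
      rw [this]
      exact List.mem_cons_of_mem _ (List.mem_map.mpr ⟨l.get i, List.get_mem l i, rfl⟩)

/-- WR is stable under enlarging the denominators -/
theorem wr_mul {E : Type u} [CommRing E] (g g' : E) (l : List E) (hw : WR g l) :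
    WR (g * g') l := by
  rintro i hi x ⟨m, hm⟩
  have h1 : g ^ m * (l[i] * (g' ^ m * x)) ∈ Ideal.ofList (l.take i) := by
    have : g ^ m * (l[i] * (g' ^ m * x)) = (g * g') ^ m * (l[i] * x) := by
      rw [mul_pow]
      ring
    rw [this]
    exact hm
  obtain ⟨m', hm'⟩ := hw i hi (g' ^ m * x) ⟨m, h1⟩
  refine ⟨m' + m, ?_⟩
  have : (g * g') ^ (m' + m) * x = (g ^ m * g' ^ m') * (g ^ m' * (g' ^ m * x)) := by
    rw [mul_pow, pow_add, pow_add]
    ring
  rw [this]
  exact Ideal.mul_mem_left _ _ hm'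

/-- the sequence `(h·y - 1, l)` is weakly regular in `R[x, y]` when `l` is weakly regular on `D(h)` -/
theorem weaklyRegular_cons (l₀ : List (MvPolynomial (Fin n) R)) (hwr : WR h l₀) :
    RingTheory.Sequence.IsWeaklyRegular (MvPolynomial (Fin (n + 1)) R)
      ((rename Fin.castSucc h * X (Fin.last n) - 1) :: l₀.map (rename Fin.castSucc)) := by
  rw [RingTheory.Sequence.isWeaklyRegular_iff]
  intro i hi
  rw [isSMulRegular_on_quot_iff_lsmul_comap_le]
  intro z hz
  rw [Submodule.mem_comap, LinearMap.lsmul_apply] at hz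
  rw [smul_eq_mul, Ideal.mul_top] at hz ⊢
  rcases i with _ | k
  · simp only [List.take_zero, Ideal.ofList_nil, List.getElem_cons_zero] at hz ⊢
    rw [Submodule.mem_bot] at hz ⊢
    have hz' : (rename Fin.castSucc h * X (Fin.last n) - 1 : MvPolynomial (Fin (n + 1)) R) • z =
        (rename Fin.castSucc h * X (Fin.last n) - 1 : MvPolynomial (Fin (n + 1)) R) • 0 := by
      rw [smul_zero]
      exact hz
    exact nzd_last R n h hz'
  · have hk : k < l₀.length := by
      simp only [List.length_cons, List.length_map] at hi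
      omega
    simp only [List.take_succ_cons, List.getElem_cons_succ, List.getElem_map] at hz ⊢
    rw [← List.map_take, ofList_cons_eq R n h (l₀.take k)] at hz ⊢
    refine nzd_step R n _ _ h l₀[k] (fun x hx => ?_) z hz
    rw [span_range_get] at hx ⊢
    exact hwr k hk x hx

end Reg

section CoreReg

variable {R T : Type u} [CommRing R] [CommRing T] [Algebra R T]

theorem core_aux_reg [Module.Flat R T] (n : ℕ) (φ : MvPolynomial (Fin n) R →ₐ[R] T)
    (hφ : Function.Surjective φ) (hfg : (RingHom.ker φ.toRingHom).FG)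
    (𝔮T : Ideal T) [h𝔮T : 𝔮T.IsPrime] (p : Ideal R) [hp : p.IsPrime]
    (q' : Ideal (MvPolynomial (Fin n) p.ResidueField)) [hq' : q'.IsPrime]
    (h𝔮eq : q'.comap (mu n p) = 𝔮T.comap φ.toRingHom)
    (rs : List (Localization.AtPrime q'))
    (hreg : RingTheory.Sequence.IsRegular (Localization.AtPrime q') rs)
    (hrs : Ideal.ofList rs = (RingHom.ker (phik n φ p)).map
      (algebraMap _ (Localization.AtPrime q'))) :
    ∃ t : T, t ∉ 𝔮T ∧ ∃ (n d : ℕ) (P : Fin d → MvPolynomial (Fin n) R),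
      RingTheory.Sequence.IsRegular (MvPolynomial (Fin n) R) (List.ofFn P) ∧
      Nonempty (Localization.Away t ≃ₐ[R]
        (MvPolynomial (Fin n) R ⧸ Ideal.ofList (List.ofFn P))) := by
  haveI h𝔮' : (q'.comap (mu n p)).IsPrime := Ideal.comap_isPrime _ _
  have hM' := fibModel_psi n p q'
  have hk : RingHom.ker (phik n φ p) = (RingHom.ker φ.toRingHom).map (mu n p) :=
    ker_phik n φ hφ p
  have hIrs : Ideal.ofList rs = (RingHom.ker φ.toRingHom).map (psi n p q') := by
    rw [hrs]
    have hgen : ∀ J : Ideal (MvPolynomial (Fin n) p.ResidueField),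
        J = (RingHom.ker φ.toRingHom).map (mu n p) →
        J.map (algebraMap (MvPolynomial (Fin n) p.ResidueField) (Localization.AtPrime q')) =
        (RingHom.ker φ.toRingHom).map (psi n p q') := by
      intro J hJ
      rw [hJ, Ideal.map_map]
    exact hgen _ hk
  have hrs' : ∀ r ∈ rs, r ∈ (RingHom.ker φ.toRingHom).map (psi n p q') := by
    intro r hr
    rw [← hIrs]
    exact Ideal.subset_span hr
  obtain ⟨l₀, hl₀, hfa⟩ := hM'.exists_lifts (RingHom.ker φ.toRingHom) rs hrs'
  have hcont : ∀ a ∈ RingHom.ker φ.toRingHom, ∃ s, s ∉ q'.comap (mu n p) ∧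
      s * a ∈ ((q'.comap (mu n p)).comap (algebraMap R (MvPolynomial (Fin n) R))).map
        (algebraMap R (MvPolynomial (Fin n) R)) ⊔ Ideal.ofList l₀ := by
    intro a ha
    apply hM'.pullback_mem
    rw [hM'.map_ofList_eq hfa, hIrs]
    exact Ideal.mem_map_of_mem _ ha
  have hK𝔮 : RingHom.ker φ.toRingHom ≤ q'.comap (mu n p) := by
    rw [h𝔮eq]
    intro a ha
    rw [Ideal.mem_comap, RingHom.mem_ker.mp ha]
    exact 𝔮T.zero_mem
  haveI : Module.Flat R (MvPolynomial (Fin n) R ⧸ RingHom.ker φ.toRingHom) :=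
    Module.Flat.of_linearEquiv (Ideal.quotientKerAlgEquivOfSurjective hφ).toLinearEquiv
  obtain ⟨g₂, hg₂, hnak⟩ := nak_step (R := R) (RingHom.ker φ.toRingHom) hfg (q'.comap (mu n p))
    l₀ hl₀ (fun a ha => by
      obtain ⟨s, hs, h⟩ := hcont a ha
      exact ⟨s, hs, h⟩)
  have hH : HFib R (q'.comap (mu n p)) l₀ := hM'.hFib_of_lifts hfa hreg.toIsWeaklyRegular
  haveI : Module.Flat R (LocalizedModule (q'.comap (mu n p)).primeCompl
      (MvPolynomial (Fin n) R)) :=
    Groth.Agent.Helper21.FL.flat_of_isLocalizedModule (q'.comap (mu n p)).primeCompl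
      (LocalizedModule.mkLinearMap (q'.comap (mu n p)).primeCompl (MvPolynomial (Fin n) R))
  obtain ⟨g₁, hg₁, hwr⟩ := exists_wr (R := R) l₀.length (MvPolynomial (Fin n) R)
    (q'.comap (mu n p)) l₀ rfl (fun a ha => hK𝔮 (hl₀ a ha)) hH
  have hwr' := wr_mul g₁ g₂ l₀ hwr
  have hh : g₁ * g₂ ∉ q'.comap (mu n p) := fun hmem => (h𝔮'.mem_or_mem hmem).elim hg₁ hg₂
  have hF : Ideal.span (Set.range l₀.get) = Ideal.ofList l₀ := span_range_get l₀
  have hFK : Ideal.span (Set.range l₀.get) ≤ RingHom.ker φ.toRingHom := by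
    rw [hF, Ideal.ofList, Ideal.span_le]
    exact fun a ha => hl₀ a ha
  obtain ⟨iso₂⟩ := nonempty_away_equiv_of_le φ hφ (Ideal.span (Set.range l₀.get)) hFK (g₁ * g₂)
    (fun a ha => by
      rw [hF]
      have h1 := hnak a ha
      have h2 : g₁ * g₂ * a = g₁ * (g₂ * a) := by ring
      rw [h2]
      exact Ideal.mul_mem_left _ _ h1)
  have hsw := weaklyRegular_cons R n (g₁ * g₂) l₀ hwr'
  have hideal := ofList_cons_eq R n (g₁ * g₂) l₀
  have hnotmem : φ (g₁ * g₂) ∉ 𝔮T := by
    intro hmem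
    apply hh
    rw [h𝔮eq]
    exact hmem
  let iso₃ : Localization.Away (φ (g₁ * g₂)) ≃ₐ[R]
      (MvPolynomial (Fin (n + 1)) R ⧸ Ideal.ofList
        ((rename Fin.castSucc (g₁ * g₂) * X (Fin.last n) - 1) :: l₀.map (rename Fin.castSucc))) :=
    (iso₂.trans (awayEquiv R n l₀.length l₀.get (g₁ * g₂))).trans
      (Ideal.quotientEquivAlgOfEq R hideal.symm)
  haveI hntL : Nontrivial (Localization.Away (φ (g₁ * g₂))) := by
    have hu : IsUnit (algebraMap T (Localization.AtPrime 𝔮T) (φ (g₁ * g₂))) :=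
      IsLocalization.map_units (Localization.AtPrime 𝔮T) (⟨_, hnotmem⟩ : 𝔮T.primeCompl)
    exact RingHom.domain_nontrivial (IsLocalization.Away.lift (φ (g₁ * g₂)) hu)
  refine ⟨φ (g₁ * g₂), hnotmem, n + 1, _,
    ((rename Fin.castSucc (g₁ * g₂) * X (Fin.last n) - 1) :: l₀.map (rename Fin.castSucc)).get,
    ?_, ?_⟩
  · rw [List.ofFn_get]
    refine ⟨hsw, ?_⟩
    rw [smul_eq_mul, Ideal.mul_top]
    intro htop
    haveI : Nontrivial (MvPolynomial (Fin (n + 1)) R ⧸ Ideal.ofList
        ((rename Fin.castSucc (g₁ * g₂) * X (Fin.last n) - 1) :: l₀.map (rename Fin.castSucc))) :=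
      iso₃.symm.toRingEquiv.toEquiv.nontrivial
    exact (Ideal.Quotient.nontrivial_iff.mp inferInstance) htop.symm
  · rw [List.ofFn_get]
    exact ⟨iso₃⟩

/-- **A syntomic algebra is locally the quotient of a polynomial ring by a regular sequence.** -/
theorem exists_away_reg (hsy : Synt.IsSyntomic R T) (𝔮T : Ideal T) [h𝔮T : 𝔮T.IsPrime] :
    ∃ t : T, t ∉ 𝔮T ∧ ∃ (n d : ℕ) (P : Fin d → MvPolynomial (Fin n) R),
      RingTheory.Sequence.IsRegular (MvPolynomial (Fin n) R) (List.ofFn P) ∧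
      Nonempty (Localization.Away t ≃ₐ[R]
        (MvPolynomial (Fin n) R ⧸ Ideal.ofList (List.ofFn P))) := by
  obtain ⟨hflat, hfp, hfib⟩ := hsy
  obtain ⟨n, φ, hφ, hfg⟩ := hfp.out
  have hφ' : Function.Surjective φ.toRingHom := hφ
  haveI h𝔮 : (𝔮T.comap φ.toRingHom).IsPrime := Ideal.comap_isPrime _ _
  have hI𝔮 : RingHom.ker φ.toRingHom ≤ 𝔮T.comap φ.toRingHom := by
    intro a ha
    rw [Ideal.mem_comap, RingHom.mem_ker.mp ha]
    exact 𝔮T.zero_mem
  haveI hp : ((𝔮T.comap φ.toRingHom).comap (algebraMap R (MvPolynomial (Fin n) R))).IsPrime :=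
    Ideal.comap_isPrime _ _
  -- the prime of `T`
  have hqSeq : (𝔮T.comap φ.toRingHom).map φ.toRingHom = 𝔮T :=
    Ideal.map_comap_of_surjective _ hφ' 𝔮T
  have halg : algebraMap R T = φ.toRingHom.comp (algebraMap R (MvPolynomial (Fin n) R)) := by
    ext r
    exact (φ.commutes r).symm
  haveI hlies : 𝔮T.LiesOver
      ((𝔮T.comap φ.toRingHom).comap (algebraMap R (MvPolynomial (Fin n) R))) := by
    constructor
    rw [Ideal.under_def, halg, ← Ideal.comap_comap]
  -- the prime of the fibre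
  let Q' : PrimeSpectrum
      (((𝔮T.comap φ.toRingHom).comap (algebraMap R (MvPolynomial (Fin n) R))).Fiber T) :=
    PrimeSpectrum.primesOverOrderIsoFiber R T
      ((𝔮T.comap φ.toRingHom).comap (algebraMap R (MvPolynomial (Fin n) R))) ⟨𝔮T, ⟨h𝔮T, hlies⟩⟩
  have hQ' : Q'.asIdeal.comap (Algebra.TensorProduct.includeRight (R := R)
      (A := ((𝔮T.comap φ.toRingHom).comap (algebraMap R (MvPolynomial (Fin n) R))).ResidueField)
      (B := T)).toRingHom = 𝔮T := by
    have h1 := (PrimeSpectrum.primesOverOrderIsoFiber R T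
      ((𝔮T.comap φ.toRingHom).comap (algebraMap R (MvPolynomial (Fin n) R)))).symm_apply_apply
      ⟨𝔮T, ⟨h𝔮T, hlies⟩⟩
    have h2 := congrArg Subtype.val h1
    rw [PrimeSpectrum.coe_primesOverOrderIsoFiber_symm_apply] at h2
    exact h2
  obtain ⟨g, hg, hGCI⟩ := (hfib ⟨_, hp⟩).2 Q'
  -- the presentation of the fibre
  let e := Ideal.quotientKerAlgEquivOfSurjective (phik_surjective n φ hφ
    ((𝔮T.comap φ.toRingHom).comap (algebraMap R (MvPolynomial (Fin n) R))))
  have he : ∀ y, e (Ideal.Quotient.mk _ y) = phik n φ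
    ((𝔮T.comap φ.toRingHom).comap (algebraMap R (MvPolynomial (Fin n) R))) y := fun y => rfl
  haveI hq : (Q'.asIdeal.comap e).IsPrime := Ideal.comap_isPrime _ _
  have hg' : e.symm g ∉ Q'.asIdeal.comap e := by
    intro hmem
    rw [Ideal.mem_comap] at hmem
    apply hg
    have h1 : e (e.symm g) = g := e.apply_symm_apply g
    rwa [h1] at hmem
  have hGCI' := globalCI_away_equiv e.symm g hGCI
  obtain ⟨c₀, hc₀⟩ := exists_c _ n (RingHom.ker (phik n φ
    ((𝔮T.comap φ.toRingHom).comap (algebraMap R (MvPolynomial (Fin n) R)))))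
    (Q'.asIdeal.comap e)
  obtain ⟨rs, hreg, hrs⟩ := ((Groth.Agent.S9171.main _ n (RingHom.ker (phik n φ
    ((𝔮T.comap φ.toRingHom).comap (algebraMap R (MvPolynomial (Fin n) R)))))
    (Q'.asIdeal.comap e) c₀ hc₀).2).mp ⟨e.symm g, hg', hGCI'⟩
  -- the prime of `κ(p)[x]`
  haveI hq'p : ((Q'.asIdeal.comap e).comap
      (Ideal.Quotient.mk (RingHom.ker (phik n φ
        ((𝔮T.comap φ.toRingHom).comap (algebraMap R (MvPolynomial (Fin n) R))))))).IsPrime :=
    Ideal.comap_isPrime _ _
  have h𝔮eq : ((Q'.asIdeal.comap e).comap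
      (Ideal.Quotient.mk (RingHom.ker (phik n φ
        ((𝔮T.comap φ.toRingHom).comap (algebraMap R (MvPolynomial (Fin n) R))))))).comap
      (mu n ((𝔮T.comap φ.toRingHom).comap (algebraMap R (MvPolynomial (Fin n) R)))) =
      𝔮T.comap φ.toRingHom := by
    ext x
    rw [Ideal.mem_comap, Ideal.mem_comap, Ideal.mem_comap]
    have h1 : e (Ideal.Quotient.mk _ (mu n
        ((𝔮T.comap φ.toRingHom).comap (algebraMap R (MvPolynomial (Fin n) R))) x)) =
        (1 : ((𝔮T.comap φ.toRingHom).comap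
          (algebraMap R (MvPolynomial (Fin n) R))).ResidueField) ⊗ₜ[R] φ x := by
      rw [← phik_mu]
      exact he _
    rw [h1]
    have h2 : (1 : ((𝔮T.comap φ.toRingHom).comap
          (algebraMap R (MvPolynomial (Fin n) R))).ResidueField) ⊗ₜ[R] φ x ∈ Q'.asIdeal ↔
        φ.toRingHom x ∈ Q'.asIdeal.comap (Algebra.TensorProduct.includeRight (R := R)
          (A := ((𝔮T.comap φ.toRingHom).comap
            (algebraMap R (MvPolynomial (Fin n) R))).ResidueField) (B := T)).toRingHom := by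
      rw [Ideal.mem_comap]
      rfl
    rw [h2, hQ', Ideal.mem_comap]
  haveI := hflat
  exact core_aux_reg n φ hφ hfg 𝔮T _ _ h𝔮eq rs hreg hrs

end CoreReg

end Groth.Agent.Helper2.SyntRel
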