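import Mathlib

/-!
# Finite type lifts along surjections with nilpotent finitely generated kernel
-/

set_option autoImplicit false
universe u

namespace Groth.Agent.Helper2.ThickFG

variable {A B B₀ : Type u} [CommRing A] [CommRing B] [CommRing B₀]

/-- a subalgebra containing generators of a nilpotent ideal `K` and surjecting onto `B/K`
is everything -/
lemma subalgebra_eq_top [Algebra A B] (S : Subalgebra A B) (K : Ideal B) (hK : IsNilpotent K)
    (C : Set B) (hC : Ideal.span C = K) (hCS : C ⊆ S)
    (h0 : ∀ b : B, ∃ s ∈ S, b - s ∈ K) : S = ⊤ := by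
  have key : ∀ k : ℕ, ∀ b ∈ K ^ k, ∃ s ∈ S, b - s ∈ K ^ (k + 1) := by
    intro k
    induction k with
    | zero =>
      intro b _
      simpa using h0 b
    | succ k ih =>
      intro b hb
      rw [pow_succ] at hb
      refine Submodule.mul_induction_on hb ?_ ?_
      · intro x hx y hy
        rw [← hC] at hy
        have hp : ∀ x ∈ K ^ k, ∃ s ∈ S, x * y - s ∈ K ^ (k + 1 + 1) := by
          refine Submodule.span_induction
            (p := fun y _ => ∀ x ∈ K ^ k, ∃ s ∈ S, x * y - s ∈ K ^ (k + 1 + 1))
            ?_ ?_ ?_ ?_ hy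
          · intro c hc x hx
            obtain ⟨s, hs, hxs⟩ := ih x hx
            refine ⟨s * c, S.mul_mem hs (hCS hc), ?_⟩
            have : x * c - s * c = (x - s) * c := by ring
            rw [this, pow_succ (n := k + 1)]
            exact Ideal.mul_mem_mul hxs (hC ▸ Ideal.subset_span hc)
          · intro x _
            exact ⟨0, S.zero_mem, by simp⟩
          · intro y z _ _ h1 h2 x hx
            obtain ⟨s, hs, h1⟩ := h1 x hx
            obtain ⟨t, ht, h2⟩ := h2 x hx
            refine ⟨s + t, S.add_mem hs ht, ?_⟩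
            have : x * (y + z) - (s + t) = (x * y - s) + (x * z - t) := by ring
            rw [this]
            exact Ideal.add_mem _ h1 h2
          · intro r y _ h1 x hx
            obtain ⟨s, hs, h1⟩ := h1 (x * r) (Ideal.mul_mem_right _ _ hx)
            refine ⟨s, hs, ?_⟩
            have : x * (r • y) - s = x * r * y - s := by rw [smul_eq_mul]; ring
            rw [this]
            exact h1
        exact hp x hx
      · rintro x y ⟨s, hs, h1⟩ ⟨t, ht, h2⟩
        refine ⟨s + t, S.add_mem hs ht, ?_⟩
        have : x + y - (s + t) = (x - s) + (y - t) := by ring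
        rw [this]
        exact Ideal.add_mem _ h1 h2
  have key2 : ∀ (k : ℕ) (b : B), ∃ s ∈ S, b - s ∈ K ^ k := by
    intro k
    induction k with
    | zero => intro b; exact ⟨0, S.zero_mem, by simp⟩
    | succ k ih =>
      intro b
      obtain ⟨s, hs, h1⟩ := ih b
      obtain ⟨t, ht, h2⟩ := key k _ h1
      refine ⟨s + t, S.add_mem hs ht, ?_⟩
      have : b - (s + t) = b - s - t := by ring
      rw [this]
      exact h2
  obtain ⟨n, hn⟩ := hK
  rw [eq_top_iff]
  intro b _
  obtain ⟨s, hs, h1⟩ := key2 n b
  rw [hn] at h1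
  have : b = s := by
    have := (Submodule.mem_bot B).1 h1
    exact sub_eq_zero.1 this
  rw [this]
  exact hs

/-- finite type lifts along a surjection with nilpotent finitely generated kernel -/
theorem finiteType_of_surjective (φ : A →+* B) (π : B →+* B₀) (hπ : Function.Surjective π)
    (hnil : IsNilpotent (RingHom.ker π)) (hfg : (RingHom.ker π).FG)
    (h : (π.comp φ).FiniteType) : φ.FiniteType := by
  classical
  algebraize [φ, π.comp φ]
  show Algebra.FiniteType A B
  obtain ⟨t, ht⟩ := (Algebra.FiniteType.out : (⊤ : Subalgebra A B₀).FG)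
  obtain ⟨c, hc⟩ := hfg
  choose! lift hlift using hπ
  let s : Finset B := t.image lift ∪ c
  refine ⟨⟨s, ?_⟩⟩
  let πA : B →ₐ[A] B₀ := { π with commutes' := fun r => rfl }
  apply subalgebra_eq_top (Algebra.adjoin A (s : Set B)) (RingHom.ker π) hnil (c : Set B) hc
  · intro x hx
    exact Algebra.subset_adjoin (by simp [s, hx])
  · intro b
    have h1 : (Algebra.adjoin A (s : Set B)).map πA = ⊤ := by
      rw [eq_top_iff, ← ht, Algebra.adjoin_le_iff]
      intro y hy
      refine ⟨lift y, Algebra.subset_adjoin ?_, hlift y⟩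
      simp only [s, Finset.coe_union, Finset.coe_image, Set.mem_union, Set.mem_image,
        Finset.mem_coe]
      exact Or.inl ⟨y, hy, rfl⟩
    have h2 : πA b ∈ (Algebra.adjoin A (s : Set B)).map πA := by rw [h1]; trivial
    obtain ⟨s', hs', hs'b⟩ := h2
    refine ⟨s', hs', ?_⟩
    rw [RingHom.mem_ker, map_sub, sub_eq_zero]
    exact hs'b.symm

end Groth.Agent.Helper2.ThickFG
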