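import Mathlib
import Groth.Prelude.Def_LCI2
import Groth.Prelude.Def_ega3
import Groth.Agent.Lib.Helper12.KoszTor
import Groth.Agent.Lib.Helper2.KosReg

/-!
# `Tor_i(A/(xs), N)` for a Koszul-regular sequence `xs`, and closure properties of
  Tor-vanishing in the first variable
-/

set_option autoImplicit false
universe u
open CategoryTheory CategoryTheory.Limits CochainComplex HomologicalComplex MonoidalCategory

namespace Groth.Agent.Helper2.TorKR

open Groth.Agent.Helper21.KF Groth.Agent.Helper6.TorBalance Groth.Agent.Helper12.KoszTor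
  Groth.Agent.Helper18.TorLib Groth.Agent.Helper21.KL Groth.Agent.Helper2.KosReg

variable {A : Type u} [CommRing A]

section Res

variable (xs : List A) (hKR : ∀ i : ℤ, i ≠ 0 → IsZero ((KA xs).homology i))

/-- the Koszul complex of a Koszul-regular sequence as a flat resolution of `H⁰`. -/
noncomputable def flatRes' : FlatRes ((KA xs).homology 0) where
  F k := (KA xs).X (-(k : ℤ))
  d k := (KA xs).d (-((k + 1 : ℕ) : ℤ)) (-(k : ℤ))
  ε := ((KA xs).XIsoOfEq (by simp : -((0 : ℕ) : ℤ) = 0)).hom ≫ aug xs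
  flat k := flat_X xs _
  epi := inferInstance
  d_ε := by
    rw [← Category.assoc, (KA xs).d_comp_XIsoOfEq_hom]
    exact d_aug xs
  d_d k := (KA xs).d_comp_d _ _ _
  ex0 := by
    refine ShortComplex.exact_of_iso ?_ (aug_exact xs)
    refine ShortComplex.isoMk (Iso.refl _)
      ((KA xs).XIsoOfEq (by simp : -((0 : ℕ) : ℤ) = 0)).symm (Iso.refl _) ?_ ?_
    · dsimp
      simp
    · dsimp
      simp
  ex k := by
    have hz := hKR (-((k + 1 : ℕ) : ℤ)) (by push_cast; omega)
    have hex := ((KA xs).exactAt_iff_isZero_homology _).mpr hz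
    rw [(KA xs).exactAt_iff' (-((k + 1 + 1 : ℕ) : ℤ)) (-((k + 1 : ℕ) : ℤ)) (-(k : ℤ))
      (by simp; ring) (by simp)] at hex
    exact hex

include hKR in
/-- `Tor_{n+1}(H⁰(K(xs)), N) ≅ H^{-(n+1)}(K(xs; N))` for `xs` Koszul-regular on `A`. -/
theorem nonempty_tor_succ_iso' (N : ModuleCat.{u} A) (n : ℕ) :
    Nonempty (((Tor (ModuleCat.{u} A) (n + 1)).obj ((KA xs).homology 0)).obj N ≅
      (CohIII.koszulCx N xs).homology (-((n + 1 : ℕ) : ℤ))) := by
  obtain ⟨e1⟩ := nonempty_tor_iso_homology N n _ (flatRes' xs hKR)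
  obtain ⟨e2⟩ := nonempty_tensor_iso N xs
  let T := ((tensorRight N).mapHomologicalComplex (ComplexShape.up ℤ)).obj (KA xs)
  have e3 : T.homology (-((n + 1 : ℕ) : ℤ)) ≅
      (T.sc' (-((n + 1 + 1 : ℕ) : ℤ)) (-((n + 1 : ℕ) : ℤ)) (-(n : ℤ))).homology :=
    T.homologyIsoSc' _ _ _ (by simp; ring) (by simp)
  exact ⟨e1 ≪≫ e3.symm ≪≫ (HomologicalComplex.homologyFunctor _ _ _).mapIso e2⟩

end Res

section Quot

/-- `Tor_{n+1}(A/(xs), A') = 0` when `xs` is Koszul-regular in `A` and its image is
Koszul-regular in the `A`-algebra `A'`. -/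
theorem isZero_tor_quot (A' : Type u) [CommRing A'] [Algebra A A'] (xs : List A)
    (hxs : LCI.IsKoszulRegularSeq A xs)
    (hxs' : LCI.IsKoszulRegularSeq A' (xs.map (algebraMap A A'))) (n : ℕ) :
    IsZero (((Tor (ModuleCat.{u} A) (n + 1)).obj (ModuleCat.of A (A ⧸ Ideal.ofList xs))).obj
      (ModuleCat.of A A')) := by
  have hKR : ∀ i : ℤ, i ≠ 0 → IsZero ((KA xs).homology i) := (isKoszulRegularSeq_iff xs).mp hxs
  obtain ⟨e⟩ := nonempty_tor_succ_iso' xs hKR (ModuleCat.of A A') n
  obtain ⟨t⟩ := Groth.Agent.Helper21.KT.top_equiv A xs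
  have hJ : Ideal.ofList xs • (⊤ : Submodule A A) = Ideal.ofList xs := by
    rw [smul_eq_mul, Ideal.mul_top]
  let e0 : (KA xs).homology 0 ≅ ModuleCat.of A (A ⧸ Ideal.ofList xs) :=
    (t ≪≫ₗ Submodule.quotEquivOfEq _ _ hJ).toModuleIso
  have e1 := ((Tor (ModuleCat.{u} A) (n + 1)).mapIso e0).app (ModuleCat.of A A')
  refine IsZero.of_iso ?_ (e1.symm ≪≫ e)
  have h1 := (isKoszulRegularSeq_iff _).mp hxs' (-((n + 1 : ℕ) : ℤ)) (by push_cast; omega)
  exact (acycAt_restrict_iff (algebraMap A A') A' (fun b m => Algebra.smul_def b m) xs _).mp h1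

end Quot

section SES

variable {K F N : Type u} [AddCommGroup K] [Module A K] [AddCommGroup F] [Module A F]
  [AddCommGroup N] [Module A N]
  (i : K →ₗ[A] F) (p : F →ₗ[A] N)

/-- the short complex of a pair of composable linear maps -/
noncomputable def sesSC (hip : Function.Exact i p) : ShortComplex (ModuleCat.{u} A) :=
  ShortComplex.mk (ModuleCat.ofHom i) (ModuleCat.ofHom p) (by
    ext x
    exact hip.apply_apply_eq_zero x)

theorem sesSC_shortExact (hi : Function.Injective i) (hip : Function.Exact i p)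
    (hp : Function.Surjective p) : (sesSC i p hip).ShortExact := by
  haveI : Mono (sesSC i p hip).f := (ModuleCat.mono_iff_injective _).mpr hi
  haveI : Epi (sesSC i p hip).g := (ModuleCat.epi_iff_surjective _).mpr hp
  refine ShortComplex.ShortExact.mk ?_
  exact (ShortComplex.ShortExact.moduleCat_exact_iff_function_exact _).mpr hip

include i p in
theorem isZero_tor_mid (hi : Function.Injective i) (hip : Function.Exact i p)
    (hp : Function.Surjective p) (M : ModuleCat.{u} A) (n : ℕ)
    (h1 : IsZero (((Tor (ModuleCat.{u} A) n).obj (ModuleCat.of A K)).obj M))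
    (h3 : IsZero (((Tor (ModuleCat.{u} A) n).obj (ModuleCat.of A N)).obj M)) :
    IsZero (((Tor (ModuleCat.{u} A) n).obj (ModuleCat.of A F)).obj M) :=
  (tor_exact₂ (sesSC_shortExact i p hi hip hp) M n).isZero_of_both_isZero h1 h3

include i p in
theorem isZero_tor_left (hi : Function.Injective i) (hip : Function.Exact i p)
    (hp : Function.Surjective p) (M : ModuleCat.{u} A) (n : ℕ)
    (h2 : IsZero (((Tor (ModuleCat.{u} A) n).obj (ModuleCat.of A F)).obj M))
    (h3 : IsZero (((Tor (ModuleCat.{u} A) (n + 1)).obj (ModuleCat.of A N)).obj M)) :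
    IsZero (((Tor (ModuleCat.{u} A) n).obj (ModuleCat.of A K)).obj M) :=
  (tor_exact₁ (sesSC_shortExact i p hi hip hp) M n).isZero_of_both_isZero h3 h2

include i p in
/-- dimension shifting along `0 → K → F → N → 0` with `F` flat -/
theorem isZero_tor_succ_left_of_flat [Module.Flat A F] (hi : Function.Injective i)
    (hip : Function.Exact i p) (hp : Function.Surjective p) (M : ModuleCat.{u} A) (n : ℕ)
    (h3 : IsZero (((Tor (ModuleCat.{u} A) (n + 1 + 1)).obj (ModuleCat.of A N)).obj M)) :
    IsZero (((Tor (ModuleCat.{u} A) (n + 1)).obj (ModuleCat.of A K)).obj M) :=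
  isZero_tor_left i p hi hip hp M (n + 1)
    (isZero_tor_succ_of_flat_left (ModuleCat.of A F) M n) h3

theorem isZero_tor_of_linearEquiv (e : K ≃ₗ[A] F) (M : ModuleCat.{u} A) (n : ℕ)
    (h : IsZero (((Tor (ModuleCat.{u} A) n).obj (ModuleCat.of A K)).obj M)) :
    IsZero (((Tor (ModuleCat.{u} A) n).obj (ModuleCat.of A F)).obj M) :=
  h.of_iso (((Tor (ModuleCat.{u} A) n).mapIso e.toModuleIso).app M).symm

end SES

section Free

variable (X : Type u) [AddCommGroup X] [Module A X] (M : ModuleCat.{u} A)

/-- Tor-vanishing passes to finite direct sums of copies. -/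
theorem isZero_tor_fun (h : ∀ n : ℕ, IsZero (((Tor (ModuleCat.{u} A) (n + 1)).obj
    (ModuleCat.of A X)).obj M)) (ι : Type) [Finite ι] :
    ∀ n : ℕ, IsZero (((Tor (ModuleCat.{u} A) (n + 1)).obj (ModuleCat.of A (ι → X))).obj M) := by
  classical
  induction ι using Finite.induction_empty_option with
  | of_equiv e ih =>
    intro n
    exact isZero_tor_of_linearEquiv (LinearEquiv.funCongrLeft A X e.symm) M (n + 1) (ih n)
  | h_empty =>
    intro n
    exact isZero_tor_succ_of_flat_left (ModuleCat.of A (PEmpty → X)) M n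
  | h_option ih =>
    rename_i α _
    intro n
    refine isZero_tor_mid (LinearMap.single A (fun _ : Option α => X) none)
      (LinearMap.funLeft A X (some : α → Option α)) ?_ ?_ ?_ M (n + 1) (h n) (ih n)
    · intro a b hab
      have := congrFun hab none
      simpa using this
    · intro f
      constructor
      · intro hf
        refine ⟨f none, ?_⟩
        funext o
        cases o with
        | none => simp
        | some a =>
          have := congrFun hf a
          simpa using this.symm
      · rintro ⟨x, rfl⟩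
        funext a
        simp
    · intro g
      refine ⟨fun o => o.elim 0 g, ?_⟩
      funext a
      simp [LinearMap.funLeft]

end Free

end Groth.Agent.Helper2.TorKR
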