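import Mathlib
universe u

namespace Groth.Agent.Helper2.UnivHomeo

section
open Polynomial

variable {R S : Type u} [CommRing R] [CommRing S] [Algebra R S]

/-- Rigidity: two ring homs `S → L` to a field agreeing on `R` agree. -/
def Rigid (R S : Type u) [CommRing R] [CommRing S] [Algebra R S] : Prop :=
  ∀ (L : Type u) [Field L] (φ ψ : S →+* L),
    φ.comp (algebraMap R S) = ψ.comp (algebraMap R S) → φ = ψ

theorem comap_surjective [Algebra.IsIntegral R S]
    (hker : ∀ r : R, algebraMap R S r = 0 → IsNilpotent r) :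
    Function.Surjective (PrimeSpectrum.comap (algebraMap R S)) := by
  intro p
  have hle : (⊥ : Ideal S).comap (algebraMap R S) ≤ p.asIdeal := by
    intro r hr
    have h0 : algebraMap R S r = 0 := by simpa using hr
    obtain ⟨n, hn⟩ := hker r h0
    exact p.2.mem_of_pow_mem n (hn ▸ p.asIdeal.zero_mem)
  obtain ⟨Q, _, hQ, hQp⟩ :=
    Ideal.exists_ideal_over_prime_of_isIntegral p.asIdeal (⊥ : Ideal S) hle
  exact ⟨⟨Q, hQ⟩, PrimeSpectrum.ext hQp⟩

theorem comap_injective [Algebra.IsIntegral R S] (hrig : Rigid R S) :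
    Function.Injective (PrimeSpectrum.comap (algebraMap R S)) := by
  intro q1 q2 h12
  let p : Ideal R := q1.asIdeal.comap (algebraMap R S)
  have hp2 : p = q2.asIdeal.comap (algebraMap R S) := congrArg PrimeSpectrum.asIdeal h12
  haveI : p.IsPrime := Ideal.comap_isPrime _ _
  haveI L1 : q1.asIdeal.LiesOver p := ⟨rfl⟩
  haveI L2 : q2.asIdeal.LiesOver p := ⟨hp2⟩
  letI := Localization.AtPrime.algebraOfLiesOver p q1.asIdeal
  letI := Localization.AtPrime.algebraOfLiesOver p q2.asIdeal
  let Ω := AlgebraicClosure p.ResidueField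
  let g1 : q1.asIdeal.ResidueField →ₐ[p.ResidueField] Ω := IsAlgClosed.lift
  let g2 : q2.asIdeal.ResidueField →ₐ[p.ResidueField] Ω := IsAlgClosed.lift
  let φ1 : S →+* Ω := g1.toRingHom.comp (algebraMap S q1.asIdeal.ResidueField)
  let φ2 : S →+* Ω := g2.toRingHom.comp (algebraMap S q2.asIdeal.ResidueField)
  have h1 : ∀ r, φ1 (algebraMap R S r) = algebraMap p.ResidueField Ω (algebraMap R _ r) := by
    intro r
    change g1 (algebraMap S q1.asIdeal.ResidueField (algebraMap R S r)) = _
    rw [← IsScalarTower.algebraMap_apply R S, 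
      IsScalarTower.algebraMap_apply R p.ResidueField q1.asIdeal.ResidueField, g1.commutes]
  have h2 : ∀ r, φ2 (algebraMap R S r) = algebraMap p.ResidueField Ω (algebraMap R _ r) := by
    intro r
    change g2 (algebraMap S q2.asIdeal.ResidueField (algebraMap R S r)) = _
    rw [← IsScalarTower.algebraMap_apply R S, 
      IsScalarTower.algebraMap_apply R p.ResidueField q2.asIdeal.ResidueField, g2.commutes]
  have heq : φ1 = φ2 := hrig Ω φ1 φ2 (RingHom.ext fun r => by
    simp only [RingHom.comp_apply]; rw [h1, h2])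
  have k1 : RingHom.ker φ1 = q1.asIdeal := by
    ext s
    rw [RingHom.mem_ker]
    change g1 (algebraMap S q1.asIdeal.ResidueField s) = 0 ↔ _
    rw [map_eq_zero_iff g1 g1.toRingHom.injective, Ideal.algebraMap_residueField_eq_zero]
  have k2 : RingHom.ker φ2 = q2.asIdeal := by
    ext s
    rw [RingHom.mem_ker]
    change g2 (algebraMap S q2.asIdeal.ResidueField s) = 0 ↔ _
    rw [map_eq_zero_iff g2 g2.toRingHom.injective, Ideal.algebraMap_residueField_eq_zero]
  exact PrimeSpectrum.ext (by rw [← k1, ← k2, heq])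

theorem isHomeomorph_comap [Algebra.IsIntegral R S]
    (hker : ∀ r : R, algebraMap R S r = 0 → IsNilpotent r) (hrig : Rigid R S) :
    IsHomeomorph (PrimeSpectrum.comap (algebraMap R S)) := by
  rw [isHomeomorph_iff_continuous_isClosedMap_bijective]
  refine ⟨PrimeSpectrum.continuous_comap _, ?_, comap_injective hrig, comap_surjective hker⟩
  exact PrimeSpectrum.isClosedMap_comap_of_isIntegral _ (algebraMap_isIntegral_iff.mpr inferInstance)

/-- Under rigidity, the residue field extensions are purely inseparable. -/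
theorem isPurelyInseparable_residue (hrig : Rigid R S) (p : Ideal R) [p.IsPrime] (q : Ideal S)
    [q.IsPrime] (f : p.ResidueField →+* q.ResidueField)
    (hf : ∀ r : R, f (algebraMap R _ r) = algebraMap S _ (algebraMap R S r)) :
    @IsPurelyInseparable p.ResidueField q.ResidueField _ _ f.toAlgebra := by
  letI := f.toAlgebra
  haveI : Nonempty (q.ResidueField →+* AlgebraicClosure q.ResidueField) :=
    ⟨algebraMap _ _⟩
  refine IsPurelyInseparable.of_injective_comp_algebraMap (F := p.ResidueField)
    (E := q.ResidueField) (AlgebraicClosure q.ResidueField) ?_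
  intro a b hab
  apply Ideal.ResidueField.ringHom_ext
  apply hrig
  ext r
  simp only [RingHom.comp_apply]
  rw [← hf r]
  exact congrArg (fun g => g (algebraMap R p.ResidueField r)) hab

/-- Rigidity from generators. -/
theorem rigid_of_gen (G : Set S) (hG : Algebra.adjoin R G = ⊤)
    (h : ∀ (L : Type u) [Field L] (φ ψ : S →+* L),
      φ.comp (algebraMap R S) = ψ.comp (algebraMap R S) → ∀ x ∈ G, φ x = ψ x) : Rigid R S := by
  intro L _ φ ψ hφψ
  ext s
  have hs : s ∈ Algebra.adjoin R G := hG ▸ Algebra.mem_top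
  induction hs using Algebra.adjoin_induction with
  | mem x hx => exact h L φ ψ hφψ x hx
  | algebraMap r => exact congrArg (fun g => g r) hφψ
  | add x y _ _ hx hy => rw [map_add, map_add, hx, hy]
  | mul x y _ _ hx hy => rw [map_mul, map_mul, hx, hy]

theorem isIntegral_of_gen (G : Set S) (hG : Algebra.adjoin R G = ⊤)
    (h : ∀ x ∈ G, IsIntegral R x) : Algebra.IsIntegral R S := by
  refine ⟨fun s => ?_⟩
  have hle : Algebra.adjoin R G ≤ integralClosure R S := Algebra.adjoin_le h
  exact hle (hG ▸ Algebra.mem_top)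

end

end Groth.Agent.Helper2.UnivHomeo
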