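import Groth.Prelude.Def_FlatCA
import Mathlib

/-!
# Weakly associated primes: elementwise characterization
-/

set_option autoImplicit false
universe u v

namespace Groth.Agent.Helper2.WeakAss

variable {R : Type u} [CommRing R]

/-- A prime `p ⊇ I` is minimal over `I` iff every element of `p` is nilpotent modulo `I` locally at `p`. -/
theorem mem_minimalPrimes_iff (I p : Ideal R) [hp : p.IsPrime] :
    p ∈ I.minimalPrimes ↔ I ≤ p ∧ ∀ x ∈ p, ∃ s ∉ p, ∃ n : ℕ, s * x ^ n ∈ I := by
  constructor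
  · intro h
    refine ⟨h.1.2, fun x hx => ?_⟩
    have h1 := IsLocalization.AtPrime.radical_map_of_mem_minimalPrimes
      (A := Localization.AtPrime p) p I h
    have h2 : algebraMap R (Localization.AtPrime p) x ∈
        (I.map (algebraMap R (Localization.AtPrime p))).radical := by
      rw [h1]
      exact Ideal.mem_map_of_mem _ hx
    obtain ⟨n, hn⟩ := h2
    rw [← map_pow, IsLocalization.algebraMap_mem_map_algebraMap_iff p.primeCompl] at hn
    obtain ⟨s, hs, hsx⟩ := hn
    exact ⟨s, hs, n, hsx⟩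
  · rintro ⟨hI, h⟩
    refine ⟨⟨hp, hI⟩, ?_⟩
    rintro q ⟨hq, hIq⟩ hqp x hx
    obtain ⟨s, hs, n, hsx⟩ := h x hx
    have h1 : s * x ^ n ∈ q := hIq hsx
    rcases hq.mem_or_mem h1 with h2 | h2
    · exact absurd (hqp h2) hs
    · exact hq.mem_of_pow_mem n h2

variable {M : Type v} [AddCommGroup M] [Module R M]

/-- Elementwise characterization of weakly associated primes. -/
theorem mem_weakAss_iff (p : Ideal R) [hp : p.IsPrime] :
    p ∈ FlatCA.weakAss R M ↔ ∃ m : M, (∀ a : R, a • m = 0 → a ∈ p) ∧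
      ∀ x ∈ p, ∃ s ∉ p, ∃ n : ℕ, (s * x ^ n) • m = 0 := by
  constructor
  · rintro ⟨m, hm⟩
    rw [mem_minimalPrimes_iff] at hm
    obtain ⟨h1, h2⟩ := hm
    refine ⟨m, fun a ha => h1 ?_, fun x hx => ?_⟩
    · rw [Submodule.mem_annihilator_span_singleton]
      exact ha
    · obtain ⟨s, hs, n, hsx⟩ := h2 x hx
      rw [Submodule.mem_annihilator_span_singleton] at hsx
      exact ⟨s, hs, n, hsx⟩
  · rintro ⟨m, h1, h2⟩
    refine ⟨m, ?_⟩
    rw [mem_minimalPrimes_iff]
    refine ⟨fun a ha => h1 a ?_, fun x hx => ?_⟩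
    · rw [Submodule.mem_annihilator_span_singleton] at ha
      exact ha
    · obtain ⟨s, hs, n, hsx⟩ := h2 x hx
      refine ⟨s, hs, n, ?_⟩
      rw [Submodule.mem_annihilator_span_singleton]
      exact hsx

end Groth.Agent.Helper2.WeakAss
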