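import Groth.Agent.Lib.Helper2.WeakAss

/-!
# Weakly associated primes and finite flat ring maps
-/

set_option autoImplicit false
universe u

namespace Groth.Agent.Helper2.WeakAss
open TensorProduct

section
variable {A B : Type u} [CommRing A] [CommRing B] [Algebra A B]
variable {M : Type u} [AddCommGroup M] [Module A M]

/-- For flat `B`, the annihilator in `B` of `1 ⊗ m` is the extension of the annihilator of `m`. -/
theorem smul_one_tmul_eq_zero_iff [Module.Flat A B] (m : M) (b : B) :
    b • ((1 : B) ⊗ₜ[A] m) = 0 ↔ b ∈ ((Submodule.span A {m}).annihilator).map (algebraMap A B) := by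
  set I := (Submodule.span A {m}).annihilator with hI
  constructor
  · intro h
    let g0 : A →ₗ[A] M := LinearMap.toSpanSingleton A M m
    have hg0 : I ≤ LinearMap.ker g0 := by
      intro a ha
      rw [hI, Submodule.mem_annihilator_span_singleton] at ha
      simpa [g0] using ha
    let g : (A ⧸ I) →ₗ[A] M := Submodule.liftQ I g0 hg0
    have hg : Function.Injective g := by
      rw [← LinearMap.ker_eq_bot, Submodule.ker_liftQ_eq_bot']
      apply le_antisymm hg0
      intro a ha
      rw [hI, Submodule.mem_annihilator_span_singleton]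
      simpa [g0] using ha
    have hinj := Module.Flat.lTensor_preserves_injective_linearMap (M := B) g hg
    have h1 : (g.lTensor B) (b ⊗ₜ[A] (1 : A ⧸ I)) = 0 := by
      rw [LinearMap.lTensor_tmul]
      have : g (1 : A ⧸ I) = m := by
        show g (Submodule.Quotient.mk (1 : A)) = m
        rw [Submodule.liftQ_apply]
        simp [g0]
      rw [this]
      rw [TensorProduct.smul_tmul', smul_eq_mul, mul_one] at h
      exact h
    have h2 : b ⊗ₜ[A] (1 : A ⧸ I) = 0 := hinj (by rw [h1, map_zero])
    have h3 : Algebra.TensorProduct.quotIdealMapEquivTensorQuot B I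
        (Ideal.Quotient.mk (I.map (algebraMap A B)) b) = 0 := by
      rw [Algebra.TensorProduct.quotIdealMapEquivTensorQuot_mk]
      exact h2
    have h4 : Ideal.Quotient.mk (I.map (algebraMap A B)) b = 0 :=
      (Algebra.TensorProduct.quotIdealMapEquivTensorQuot B I).injective (by rw [h3, map_zero])
    exact Ideal.Quotient.eq_zero_iff_mem.1 h4
  · intro h
    unfold Ideal.map at h
    induction h using Submodule.span_induction with
    | mem x hx =>
      obtain ⟨a, ha, rfl⟩ := hx
      rw [algebraMap_smul, ← TensorProduct.tmul_smul]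
      rw [SetLike.mem_coe, hI, Submodule.mem_annihilator_span_singleton] at ha
      rw [ha, tmul_zero]
    | zero => rw [zero_smul]
    | add x y _ _ hx hy => rw [add_smul, hx, hy, add_zero]
    | smul c x _ hx => rw [smul_eq_mul, mul_smul, hx, smul_zero]

/-- `⇐` direction. -/
theorem mem_weakAss_baseChange_of_mem [Algebra.IsIntegral A B] [Module.Flat A B]
    (p : Ideal A) [p.IsPrime] (t : Ideal B) [t.IsPrime] [t.LiesOver p]
    (h : p ∈ FlatCA.weakAss A M) : t ∈ FlatCA.weakAss B (B ⊗[A] M) := by
  obtain ⟨m, hm⟩ := h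
  refine ⟨(1 : B) ⊗ₜ[A] m, ?_⟩
  have hann : (Submodule.span B {(1 : B) ⊗ₜ[A] m}).annihilator =
      ((Submodule.span A {m}).annihilator).map (algebraMap A B) := by
    ext b
    rw [Submodule.mem_annihilator_span_singleton, smul_one_tmul_eq_zero_iff]
  rw [hann]
  have htp : t.comap (algebraMap A B) = p := (Ideal.over_def t p).symm
  refine ⟨⟨inferInstance, ?_⟩, ?_⟩
  · rw [Ideal.map_le_iff_le_comap, htp]
    exact hm.1.2
  · rintro q ⟨hq, hIq⟩ hqt
    have h1 : q.comap (algebraMap A B) = p := by
      apply le_antisymm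
      · rw [← htp]
        exact Ideal.comap_mono hqt
      · refine hm.2 ⟨Ideal.comap_isPrime _ _, Ideal.map_le_iff_le_comap.1 hIq⟩ ?_
        rw [← htp]
        exact Ideal.comap_mono hqt
    by_contra hne
    have hlt : q < t := lt_of_le_of_ne hqt (fun e => hne (e ▸ le_rfl))
    have := Ideal.IsIntegral.comap_lt_comap (R := A) hlt
    rw [h1, htp] at this
    exact lt_irrefl _ this

/-- Weakly associated primes push forward along integral maps with finite fibres (Stacks 05C?). -/
theorem mem_weakAss_of_integral {N : Type u} [AddCommGroup N] [Module B N] [Module A N]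
    [IsScalarTower A B N] [Algebra.IsIntegral A B]
    (p : Ideal A) [p.IsPrime] (t : Ideal B) [t.IsPrime] [t.LiesOver p]
    (hfin : (p.primesOver B).Finite) (h : t ∈ FlatCA.weakAss B N) : p ∈ FlatCA.weakAss A N := by
  classical
  obtain ⟨z, hz1, hz2⟩ := (mem_weakAss_iff t).1 h
  have htp : t.comap (algebraMap A B) = p := (Ideal.over_def t p).symm
  let T : Finset (Ideal B) := hfin.toFinset.erase t
  have hTprime : ∀ q ∈ T, q.IsPrime ∧ q.comap (algebraMap A B) = p ∧ q ≠ t := by
    intro q hq
    have h1 := Finset.mem_erase.1 hq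
    have h2 := hfin.mem_toFinset.1 h1.2
    exact ⟨h2.1, (h2.2.over).symm, h1.1⟩
  -- prime avoidance
  have hx : ∃ x ∈ t, ∀ q ∈ T, x ∉ q := by
    by_contra hcon
    push Not at hcon
    have hsub : (t : Set B) ⊆ ⋃ q ∈ (T : Set (Ideal B)), (id q : Ideal B) := by
      intro x hx
      obtain ⟨q, hq, hxq⟩ := hcon x hx
      exact Set.mem_biUnion (Finset.mem_coe.2 hq) hxq
    obtain ⟨q, hq, htq⟩ := (Ideal.subset_union_prime (s := T) (f := id) t t
      (fun i hi _ _ => (hTprime i hi).1)).1 hsub
    obtain ⟨hqp, hqc, hqt⟩ := hTprime q hq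
    have hlt : t < q := lt_of_le_of_ne htq (Ne.symm hqt)
    have := Ideal.IsIntegral.comap_lt_comap (R := A) hlt
    rw [htp, hqc] at this
    exact lt_irrefl _ this
  obtain ⟨x, hxt, hxT⟩ := hx
  obtain ⟨y, hy, k, hyx⟩ := hz2 x hxt
  rw [mem_weakAss_iff]
  refine ⟨y • z, ?_, ?_⟩
  · intro a ha
    have h1 : (algebraMap A B a * y) • z = 0 := by
      rw [mul_smul, algebraMap_smul]
      exact ha
    have h2 := hz1 _ h1
    rcases (inferInstance : t.IsPrime).mem_or_mem h2 with h3 | h3
    · rw [← htp]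
      exact h3
    · exact absurd h3 hy
  · intro a ha
    have hat : algebraMap A B a ∈ t := by
      rw [← htp] at ha
      exact ha
    obtain ⟨s, hs, n, hsa⟩ := hz2 _ hat
    set w : N := (a ^ n) • (y • z) with hw
    let J : Ideal B := (Submodule.span B {w}).annihilator
    have hsJ : s ∈ J := by
      rw [Submodule.mem_annihilator_span_singleton, hw, ← algebraMap_smul B (a ^ n) (y • z),
        smul_smul, smul_smul, map_pow]
      have : s * algebraMap A B a ^ n * y = y * (s * algebraMap A B a ^ n) := by ring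
      rw [this, mul_smul, hsa, smul_zero]
    have hxJ : x ^ k ∈ J := by
      rw [Submodule.mem_annihilator_span_singleton, hw, ← algebraMap_smul B (a ^ n) (y • z),
        smul_smul, smul_smul]
      have : x ^ k * algebraMap A B (a ^ n) * y = algebraMap A B (a ^ n) * (y * x ^ k) := by ring
      rw [this, mul_smul, hyx, smul_zero]
    have hnot : ¬ (J.comap (algebraMap A B) ≤ p) := by
      intro hle
      obtain ⟨Q, hQJ, hQp, hQc⟩ := Ideal.exists_ideal_over_prime_of_isIntegral p J hle
      by_cases hQt : Q = t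
      · exact hs (hQt ▸ hQJ hsJ)
      · have hQT : Q ∈ T := by
          refine Finset.mem_erase.2 ⟨hQt, hfin.mem_toFinset.2 ⟨hQp, ⟨hQc.symm⟩⟩⟩
        exact hxT Q hQT (hQp.mem_of_pow_mem k (hQJ hxJ))
    obtain ⟨u, huJ, hup⟩ := SetLike.not_le_iff_exists.1 hnot
    refine ⟨u, hup, n, ?_⟩
    rw [Ideal.mem_comap, Submodule.mem_annihilator_span_singleton, algebraMap_smul] at huJ
    rw [mul_smul]
    exact huJ

/-- local killing relation: `a` kills `x` after localizing at `p` -/
def LK (p : Ideal A) {X : Type u} [AddCommGroup X] [Module A X] (a : A) (x : X) : Prop :=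
  ∃ u : A, u ∉ p ∧ (u * a) • x = 0

theorem lk_iff (p : Ideal A) [p.IsPrime] {X : Type u} [AddCommGroup X] [Module A X] (a : A) (x : X) :
    LK p a x ↔ a • ((1 : Localization.AtPrime p) ⊗ₜ[A] x) = 0 := by
  have h1 : a • ((1 : Localization.AtPrime p) ⊗ₜ[A] x) =
      TensorProduct.mk A (Localization.AtPrime p) X 1 (a • x) := by
    rw [map_smul]
    rfl
  rw [h1, IsLocalizedModule.eq_zero_iff p.primeCompl]
  constructor
  · rintro ⟨u, hu, h⟩
    exact ⟨⟨u, hu⟩, by rw [← h, mul_smul]; rfl⟩
  · rintro ⟨⟨u, hu⟩, h⟩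
    exact ⟨u, hu, by rw [mul_smul]; exact h⟩

/-- Weakly associated primes of `B ⊗ M` as an `A`-module, for `B` finite flat, are weakly associated to `M`. -/
theorem mem_weakAss_of_mem_weakAss_tensor [Module.Finite A B] [Module.Flat A B]
    (p : Ideal A) [p.IsPrime] (h : p ∈ FlatCA.weakAss A (B ⊗[A] M)) : p ∈ FlatCA.weakAss A M := by
  classical
  obtain ⟨z, hz1, hz2⟩ := (mem_weakAss_iff p).1 h
  let A' := Localization.AtPrime p
  haveI : Module.Free A' (A' ⊗[A] B) := Module.free_of_flat_of_isLocalRing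
  let ι := Module.Free.ChooseBasisIndex A' (A' ⊗[A] B)
  let β : (A' ⊗[A] B) ≃ₗ[A'] (ι →₀ A') := (Module.Free.chooseBasis A' (A' ⊗[A] B)).repr
  let Φ : A' ⊗[A] (B ⊗[A] M) ≃ₗ[A'] (ι →₀ A' ⊗[A] M) :=
    (TensorProduct.AlgebraTensorModule.assoc A A A' A' B M).symm ≪≫ₗ
      (TensorProduct.AlgebraTensorModule.congr β (LinearEquiv.refl A M)) ≪≫ₗ
      (TensorProduct.finsuppLeft A A' A' M ι)
  let w := Φ ((1 : A') ⊗ₜ[A] z)
  -- choose representatives
  have hrep : ∀ i : ι, ∃ (m : M) (s : A), s ∉ p ∧ s • (w i) = (1 : A') ⊗ₜ[A] m := by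
    intro i
    obtain ⟨⟨m, s⟩, hs⟩ := IsLocalizedModule.surj p.primeCompl
      (TensorProduct.mk A A' M 1) (w i)
    exact ⟨m, s.1, s.2, hs⟩
  choose mm ss hss hmm using hrep
  have hunit : ∀ i, IsUnit (algebraMap A A' (ss i)) := fun i =>
    IsLocalization.map_units A' (⟨ss i, hss i⟩ : p.primeCompl)
  have key : ∀ a : A, LK p a z ↔ ∀ i ∈ w.support, LK p a (mm i) := by
    intro a
    rw [lk_iff]
    have e1 : a • ((1 : A') ⊗ₜ[A] z) = 0 ↔ a • w = 0 := by
      rw [← algebraMap_smul A', ← algebraMap_smul A' a w, ← map_smul]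
      exact (LinearEquiv.map_eq_zero_iff Φ).symm
    rw [e1]
    constructor
    · intro h i _
      rw [lk_iff]
      have h2 : a • (w i) = 0 := by
        have := congrArg (fun v => v i) h
        simpa using this
      rw [← hmm i, smul_comm, h2, smul_zero]
    · intro h
      ext i
      by_cases hi : i ∈ w.support
      · have h2 := (lk_iff p a (mm i)).1 (h i hi)
        rw [← hmm i, smul_comm, ← algebraMap_smul A' (ss i)] at h2
        have h3 := (hunit i).smul_eq_zero.1 h2
        simpa using h3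
      · have : w i = 0 := by simpa using hi
        simp [this]
  -- find the right index
  have hex : ∃ i ∈ w.support, ∀ a : A, LK p a (mm i) → a ∈ p := by
    by_contra hcon
    push Not at hcon
    choose! aa haa hap using hcon
    have h1 : LK p (∏ i ∈ w.support, aa i) z := by
      rw [key]
      intro i hi
      obtain ⟨u, hu, hua⟩ := haa i hi
      refine ⟨u, hu, ?_⟩
      rw [← Finset.mul_prod_erase _ _ hi]
      have : u * (aa i * ∏ j ∈ w.support.erase i, aa j) =
          (∏ j ∈ w.support.erase i, aa j) * (u * aa i) := by ring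
      rw [this, mul_smul, hua, smul_zero]
    obtain ⟨u, hu, hua⟩ := h1
    have h2 := hz1 _ hua
    rcases (inferInstance : p.IsPrime).mem_or_mem h2 with h3 | h3
    · exact hu h3
    · rw [Ideal.IsPrime.prod_mem_iff] at h3
      obtain ⟨i, hi, hai⟩ := h3
      exact hap i hi hai
  obtain ⟨i, hi, hmi⟩ := hex
  rw [mem_weakAss_iff]
  refine ⟨mm i, fun a ha => hmi a ⟨1, ?_, by rw [one_mul]; exact ha⟩, fun x hx => ?_⟩
  · exact fun h1 => (inferInstance : p.IsPrime).ne_top ((Ideal.eq_top_iff_one _).2 h1)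
  · obtain ⟨s, hs, n, hsx⟩ := hz2 x hx
    have h1 : LK p (x ^ n) z := ⟨s, hs, hsx⟩
    obtain ⟨u, hu, hux⟩ := (key _).1 h1 i hi
    exact ⟨u, hu, n, hux⟩

end


end Groth.Agent.Helper2.WeakAss
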