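import Groth.Agent.Lib.Helper2.WeakAss

/-!
# Weakly associated primes and localization
-/

set_option autoImplicit false
universe u v w

namespace Groth.Agent.Helper2.WeakAss
open TensorProduct

section
variable {R : Type u} [CommRing R] (S : Submonoid R) {R' : Type u} [CommRing R'] [Algebra R R']
  [IsLocalization S R']
variable {N : Type v} [AddCommGroup N] [Module R N]
variable {N' : Type w} [AddCommGroup N'] [Module R N'] [Module R' N'] [IsScalarTower R R' N']
variable (φ : N →ₗ[R] N') [IsLocalizedModule S φ]

include S φ in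
/-- Weakly associated primes are compatible with localization. -/
theorem mem_weakAss_localization_iff (q' : Ideal R') [hq' : q'.IsPrime] :
    q' ∈ FlatCA.weakAss R' N' ↔ q'.comap (algebraMap R R') ∈ FlatCA.weakAss R N := by
  have hq : (q'.comap (algebraMap R R')).IsPrime := Ideal.comap_isPrime _ _
  have hdisj : ∀ t ∈ S, t ∉ q'.comap (algebraMap R R') := by
    intro t ht htq
    rw [Ideal.mem_comap] at htq
    exact hq'.ne_top (Ideal.eq_top_of_isUnit_mem _ htq (IsLocalization.map_units R' ⟨t, ht⟩))
  have hmem : ∀ (a : R) (s : S), IsLocalization.mk' R' a s ∈ q' ↔ a ∈ q'.comap (algebraMap R R') := by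
    intro a s
    rw [Ideal.mem_comap]
    constructor
    · intro h
      have := q'.mul_mem_left (algebraMap R R' s) h
      rwa [IsLocalization.mk'_spec'] at this
    · intro h
      have : IsLocalization.mk' R' a s = IsLocalization.mk' R' 1 s * algebraMap R R' a := by
        rw [mul_comm, IsLocalization.mul_mk'_eq_mk'_of_mul, mul_one]
      rw [this]
      exact q'.mul_mem_left _ h
  rw [mem_weakAss_iff, mem_weakAss_iff]
  constructor
  · rintro ⟨z', h1, h2⟩
    obtain ⟨⟨z, s⟩, hz⟩ := IsLocalizedModule.surj S φ z'
    replace hz : (s : R) • z' = φ z := hz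
    refine ⟨z, ?_, ?_⟩
    · intro a ha
      have h3 : (algebraMap R R' (a * s)) • z' = 0 := by
        rw [algebraMap_smul, mul_smul, hz, ← map_smul, ha, map_zero]
      have h4 := h1 _ h3
      rw [← Ideal.mem_comap] at h4
      rcases hq.mem_or_mem h4 with h5 | h5
      · exact h5
      · exact absurd h5 (hdisj _ s.2)
    · intro x hx
      obtain ⟨s0', hs0', n, hn⟩ := h2 (algebraMap R R' x) hx
      obtain ⟨s0, t, rfl⟩ := IsLocalization.exists_mk'_eq S s0'
      rw [hmem] at hs0'
      have h3 : (algebraMap R R' (s0 * x ^ n)) • z' = 0 := by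
        have : algebraMap R R' (s0 * x ^ n) =
            algebraMap R R' t * (IsLocalization.mk' R' s0 t * algebraMap R R' x ^ n) := by
          rw [← mul_assoc, IsLocalization.mk'_spec', map_mul, map_pow]
        rw [this, mul_smul, hn, smul_zero]
      have h4 : φ ((s0 * x ^ n) • z) = 0 := by
        rw [map_smul, ← hz, smul_comm, ← algebraMap_smul R' (s0 * x ^ n) z', h3,
          smul_zero]
      obtain ⟨t', ht'⟩ := (IsLocalizedModule.eq_zero_iff S φ).1 h4
      refine ⟨t' * s0, ?_, n, ?_⟩
      · intro hmem'
        rcases hq.mem_or_mem hmem' with h5 | h5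
        · exact hdisj _ t'.2 h5
        · exact hs0' h5
      · rw [mul_assoc, mul_smul]
        exact ht'
  · rintro ⟨z, h1, h2⟩
    refine ⟨φ z, ?_, ?_⟩
    · intro a' ha'
      obtain ⟨a, s, rfl⟩ := IsLocalization.exists_mk'_eq S a'
      rw [hmem]
      have h3 : φ (a • z) = 0 := by
        rw [map_smul, ← algebraMap_smul R' a, ← IsLocalization.mk'_spec' R' a s, mul_smul, ha',
          smul_zero]
      obtain ⟨t, ht⟩ := (IsLocalizedModule.eq_zero_iff S φ).1 h3
      have h4 := h1 (t * a) (by rw [mul_smul]; exact ht)
      rcases hq.mem_or_mem h4 with h5 | h5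
      · exact absurd h5 (hdisj _ t.2)
      · exact h5
    · intro x' hx'
      obtain ⟨x, s, rfl⟩ := IsLocalization.exists_mk'_eq S x'
      rw [hmem] at hx'
      obtain ⟨s0, hs0, n, hn⟩ := h2 x hx'
      refine ⟨algebraMap R R' s0, fun h => hs0 h, n, ?_⟩
      have : algebraMap R R' s0 * IsLocalization.mk' R' x s ^ n =
          IsLocalization.mk' R' 1 (s ^ n) * algebraMap R R' (s0 * x ^ n) := by
        rw [← IsLocalization.mk'_pow, IsLocalization.mul_mk'_eq_mk'_of_mul,
          IsLocalization.mk'_eq_mul_mk'_one (s0 * x ^ n), mul_comm]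
      rw [this, mul_smul, algebraMap_smul, ← map_smul, hn, map_zero, smul_zero]

end

section
variable {A C D : Type u} [CommRing A] [CommRing C] [CommRing D] [Algebra A C] [Algebra A D]
  [Algebra C D] [IsScalarTower A C D] (S : Submonoid C) [IsLocalization S D]
  (M : Type u) [AddCommGroup M] [Module A M]

include S in
/-- Weakly associated primes of a base change are insensitive to localizing the algebra. -/
theorem mem_weakAss_tensor_localization_iff (q' : Ideal D) [q'.IsPrime] :
    q' ∈ FlatCA.weakAss D (D ⊗[A] M) ↔
      q'.comap (algebraMap C D) ∈ FlatCA.weakAss C (C ⊗[A] M) :=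
  mem_weakAss_localization_iff S
    (AlgebraTensorModule.rTensor A M (Algebra.linearMap C D)) q'

end

end Groth.Agent.Helper2.WeakAss
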